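import Cfsg.Agent.Lib.Helper74.Osima3
import Cfsg.Agent.Lib.Helper77.Osima

set_option autoImplicit false

namespace Cfsg.Agent.Lib.Helper74

open Cfsg Cfsg.Agent.Lib.Helper77 Cfsg.Agent.Lib.Helper81

/-- The local ideal at `M` as an ideal of the local subring. -/
def localIdeal (M : Ideal AlgInt) (hM : M.IsPrime) : Ideal (localSubring M hM) where
  carrier := {s | MemLocalIdeal M (s : ℂ)}
  add_mem' := fun ha hb => memLocalIdeal_add hM ha hb
  zero_mem' := memLocalIdeal_zero hM
  smul_mem' := fun c _ hx => memLocalIdeal_mul_left hM c.2 hx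

theorem mem_localIdeal {M : Ideal AlgInt} (hM : M.IsPrime) (s : localSubring M hM) :
    s ∈ localIdeal M hM ↔ MemLocalIdeal M (s : ℂ) := Iff.rfl

theorem localIdeal_ne_top {M : Ideal AlgInt} (hM : M.IsPrime) : localIdeal M hM ≠ ⊤ := by
  intro h
  have h1 : (1 : localSubring M hM) ∈ localIdeal M hM := by rw [h]; trivial
  exact not_memLocalIdeal_one hM ((mem_localIdeal hM 1).mp h1)

theorem memLocalRing_of_pow_eq_one {M : Ideal AlgInt} (hM : M.IsPrime) (z : ℂ) (k : ℕ) (hk : 0 < k)
    (hz : z ^ k = 1) : MemLocalRing M z := by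
  have hint : IsIntegral ℤ z := IsIntegral.of_pow hk (by rw [hz]; exact isIntegral_one)
  exact memLocalRing_algInt hM ⟨z, hint⟩

theorem charP_quotient {p : ℕ} {M : Ideal AlgInt} (hpM : IsPModular p M) : CharP (AlgInt ⧸ M) p :=
  ⟨fun x => by
    rw [← map_natCast (Ideal.Quotient.mk M), Ideal.Quotient.eq_zero_iff_mem, natCast_mem_iff hpM]⟩

theorem memLocalIdeal_sub_one_of_pow_eq_one {p : ℕ} {M : Ideal AlgInt} (hpM : IsPModular p M)
    (z : ℂ) (hz : z ^ p = 1) : MemLocalIdeal M (z - 1) := by
  have hM : M.IsPrime := isPrime_of_isPModular hpM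
  have hp : p.Prime := hpM.1
  have hint : IsIntegral ℤ z := IsIntegral.of_pow hp.pos (by rw [hz]; exact isIntegral_one)
  let a : AlgInt := ⟨z, hint⟩
  have ha : a ^ p = 1 := Subtype.ext (by simpa using hz)
  have : Fact p.Prime := ⟨hp⟩
  have : CharP (AlgInt ⧸ M) p := charP_quotient hpM
  have h1 : (Ideal.Quotient.mk M) ((a - 1) ^ p) = 0 := by
    rw [map_pow, map_sub, map_one, sub_pow_char, one_pow, ← map_pow, ha, map_one, sub_self]
  have h2 : (a - 1) ^ p ∈ M := Ideal.Quotient.eq_zero_iff_mem.mp h1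
  have h3 : a - 1 ∈ M := hM.mem_of_pow_mem p h2
  have := memLocalIdeal_of_mem hM h3
  simpa [a] using this

variable {G : Type*} [Group G] [Fintype G]

/-- **Osima-type vanishing.** A conv-idempotent class function with values in the local ring
vanishes at every `p`-singular element. -/
theorem idem_vanish_p_singular {p : ℕ} {M : Ideal AlgInt} (hpM : IsPModular p M) (e : G → ℂ)
    (heS : ∀ g, MemLocalRing M (e g)) (hcl : IsClassFunction G e) (hidem : conv e e = e)
    (y : G) (hy : p ∣ orderOf y) : e y = 0 := by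
  have hM : M.IsPrime := isPrime_of_isPModular hpM
  refine idem_vanish_of_dvd_orderOf (localSubring M hM) (localIdeal M hM) (localIdeal_ne_top hM) p
    hpM.1 ?_ ?_ e heS hcl ?_ y hy
  · intro z k hk hz
    exact memLocalRing_of_pow_eq_one hM z k hk hz
  · intro z hz
    have h := memLocalIdeal_sub_one_of_pow_eq_one hpM z hz
    exact ⟨⟨z - 1, memLocalRing_of_memLocalIdeal h⟩, h, rfl⟩
  · intro g
    have := congrFun hidem g
    rw [← this]
    unfold conv
    refine Fintype.sum_equiv ((Equiv.inv G).trans (Equiv.mulLeft g)) _ _ ?_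
    intro h
    simp only [Equiv.trans_apply, Equiv.inv_apply, Equiv.coe_mulLeft]
    congr 2
    group

end Cfsg.Agent.Lib.Helper74
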