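import Cfsg.Agent.Lib.Helper74.PReg5
import Cfsg.Agent.Lib.Helper74.Osima4
import Cfsg.Agent.Lib.Helper76.CentralChar
import Cfsg.Agent.Lib.Helper77.IndPart
import Cfsg.Agent.Lib.Helper15.IrrCrit
import Cfsg.Agent.Lib.Helper3.CharOps

/-!
# Twisting by a central `p`-element and block parts (helper74)
-/

set_option autoImplicit false

namespace Cfsg.Agent.Lib.Helper74

open Cfsg Cfsg.Agent.Lib.Helper81 Cfsg.Agent.Lib.Helper77 Cfsg.Agent.Lib.Helper76
open scoped ComplexConjugate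

universe u

theorem memLocalIdeal_sub_one_of_pow_prime_pow_eq_one {p : ℕ} {M : Ideal AlgInt}
    (hpM : IsPModular p M) (k : ℕ) (z : ℂ) (hz : z ^ (p ^ k) = 1) : MemLocalIdeal M (z - 1) := by
  have hM : M.IsPrime := isPrime_of_isPModular hpM
  have hp : p.Prime := hpM.1
  have hint : IsIntegral ℤ z :=
    IsIntegral.of_pow (pow_pos hp.pos k) (by rw [hz]; exact isIntegral_one)
  let a : AlgInt := ⟨z, hint⟩
  have ha : a ^ (p ^ k) = 1 := Subtype.ext (by simpa using hz)
  have : Fact p.Prime := ⟨hp⟩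
  have : CharP (AlgInt ⧸ M) p := charP_quotient hpM
  have h1 : (Ideal.Quotient.mk M) ((a - 1) ^ (p ^ k)) = 0 := by
    rw [map_pow, map_sub, map_one, sub_pow_char_pow, one_pow, ← map_pow, ha, map_one, sub_self]
  have h2 : (a - 1) ^ (p ^ k) ∈ M := Ideal.Quotient.eq_zero_iff_mem.mp h1
  have h3 : a - 1 ∈ M := hM.mem_of_pow_mem _ h2
  have := memLocalIdeal_of_mem hM h3
  simpa [a] using this

section
variable {H : Type u} [Group H]

theorem om_pow (ψ : IrrCharacter H) (z : H) (hz : z ∈ Subgroup.center H) (n : ℕ) :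
    om ψ (z ^ n) = om ψ z ^ n := by
  induction n with
  | zero => simp [om_one]
  | succ n ih => rw [pow_succ, om_mul ψ _ _ hz, ih, pow_succ]

theorem memLocalIdeal_om_sub_one {p : ℕ} {M : Ideal AlgInt} (hpM : IsPModular p M)
    (ψ : IrrCharacter H) (z : H) (hz : z ∈ Subgroup.center H) (k : ℕ) (hzk : z ^ (p ^ k) = 1) :
    MemLocalIdeal M (om ψ z - 1) := by
  apply memLocalIdeal_sub_one_of_pow_prime_pow_eq_one hpM k
  rw [← om_pow ψ z hz, hzk, om_one]

/-- a rational number `t / n` with `p`-free denominator is a local integer -/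
theorem memLocalRing_div {p : ℕ} [Fact p.Prime] {M : Ideal AlgInt} (hM : IsPModular p M)
    (n : ℕ) (hn : n ≠ 0) (t : ℤ) (ht : ((p ^ n.factorization p : ℕ) : ℤ) ∣ t) :
    MemLocalRing M ((t : ℂ) / (n : ℂ)) := by
  have hp : p.Prime := Fact.out
  have hMp : M.IsPrime := isPrime_of_isPModular hM
  set b := n.factorization p with hb
  set u := n / p ^ b with hu
  have hnu : n = p ^ b * u := (Nat.ordProj_mul_ordCompl_eq_self n p).symm
  have hndvd : ¬ p ∣ u := Nat.not_dvd_ordCompl hp hn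
  obtain ⟨z, hz⟩ := ht
  have huC : (u : ℂ) ≠ 0 := by
    intro h0
    have h0' : u = 0 := by exact_mod_cast h0
    rw [h0'] at hndvd
    exact hndvd (dvd_zero p)
  have hquot : (t : ℂ) / (n : ℂ) = (z : ℂ) * (u : ℂ)⁻¹ := by
    have hnC : (n : ℂ) = ((p ^ b : ℕ) : ℂ) * (u : ℂ) := by
      rw [← Nat.cast_mul, ← hnu]
    rw [hz, hnC]
    push_cast
    have hpC : (p : ℂ) ^ b ≠ 0 := pow_ne_zero _ (by exact_mod_cast hp.ne_zero)
    field_simp
  rw [hquot]
  exact memLocalRing_mul hMp (memLocalRing_intCast hMp z) (memLocalRing_inv_natCast hM hndvd)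

variable [Fintype H]

theorem pTilde_ratio_memLocalRing {p : ℕ} [Fact p.Prime] {M : Ideal AlgInt} (hM : IsPModular p M)
    (θ ξ : IrrCharacter H) :
    MemLocalRing M (classInner (pTilde p (θ : H → ℂ)) (ξ : H → ℂ) / (ξ : H → ℂ) 1) := by
  obtain ⟨t, ht⟩ := pTilde_int p θ ξ
  rw [ht, irr_apply_one_eq_charDegree ξ]
  exact memLocalRing_div hM _ (irr_charDegree_ne_zero ξ) t (pTilde_dvd_right p θ ξ t ht)

/-- Twisting the argument by a central element multiplies the inner product with an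
irreducible character by the central character value. -/
theorem classInner_twist (χ' : H → ℂ) (ψ : IrrCharacter H) (z : H)
    (hz : z ∈ Subgroup.center H) :
    classInner (fun c => χ' (z * c)) (ψ : H → ℂ) = om ψ z * classInner χ' (ψ : H → ℂ) := by
  have h2 : conj (om ψ z) * om ψ z = 1 := by
    rw [om_conj, mul_comm]
    exact om_mul_inv ψ z hz
  have h1 : ∀ c : H, (ψ : H → ℂ) (z * c) = om ψ z * (ψ : H → ℂ) c := by
    intro c
    rw [show z * c = c * z from (Subgroup.mem_center_iff.mp hz c).symm]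
    exact irr_mul_central' ψ z hz c
  have hsum : ∑ c : H, χ' (z * c) * conj ((ψ : H → ℂ) c) =
      om ψ z * ∑ c : H, χ' c * conj ((ψ : H → ℂ) c) := by
    rw [Finset.mul_sum]
    refine Fintype.sum_equiv (Equiv.mulLeft z) _ _ ?_
    intro c
    simp only [Equiv.coe_mulLeft]
    rw [h1 c, map_mul]
    calc χ' (z * c) * conj ((ψ : H → ℂ) c)
        = (conj (om ψ z) * om ψ z) * (χ' (z * c) * conj ((ψ : H → ℂ) c)) := by
          rw [h2, one_mul]
      _ = om ψ z * (χ' (z * c) * (conj (om ψ z) * conj ((ψ : H → ℂ) c))) := by ring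
  unfold classInner
  rw [hsum]
  ring

omit [Fintype H] in
theorem pTilde_sum {ι : Type*} (p : ℕ) (s : Finset ι) (c : ι → ℂ) (f : ι → H → ℂ) :
    pTilde p (fun x => ∑ i ∈ s, c i * f i x) = ∑ i ∈ s, c i • pTilde p (f i) := by
  funext x
  simp only [pTilde_apply, Finset.sum_apply, Pi.smul_apply, smul_eq_mul]
  split_ifs
  · simp
  · rw [Finset.mul_sum]
    apply Finset.sum_congr rfl
    intro i _
    ring

open Classical in
/-- Key lemma: if `[χ'~, ψ₀] / ψ₀(1)` is a local unit for some `ψ₀` in the block `b`, and `z` is a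
central `p`-element, then the `b`-part of `c ↦ χ'(z c)` does not vanish on all `p`-regular
elements. -/
theorem blockPart_twist_ne_zero [Fintype (IrrCharacter H)]
    {p : ℕ} [Fact p.Prime] {M : Ideal AlgInt} (hM : IsPModular p M)
    (ψ₁ : IrrCharacter H) (χ' : H → ℂ) (hχ' : IsCharacter H χ')
    (z : H) (hz : z ∈ Subgroup.center H) (k : ℕ) (hzk : z ^ (p ^ k) = 1)
    (ψ₀ : IrrCharacter H) (hψ₀ : ψ₀ ∈ blockOf M (ψ₁ : H → ℂ))
    (hunit : ¬ MemLocalIdeal M (classInner (pTilde p χ') (ψ₀ : H → ℂ) / (ψ₀ : H → ℂ) 1)) :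
    ∃ y : H, ¬ p ∣ orderOf y ∧
      blockPart (blockOf M (ψ₁ : H → ℂ)) (fun c => χ' (z * c)) y ≠ 0 := by
  have hMp : M.IsPrime := isPrime_of_isPModular hM
  by_contra hcon
  push Not at hcon
  apply hunit
  set b := blockOf M (ψ₁ : H → ℂ) with hb
  set bf := Finset.univ.filter (fun ψ : IrrCharacter H => ψ ∈ b) with hbf
  obtain ⟨m, hm, hdecomp⟩ := Cfsg.Agent.Lib.Helper15.exists_nat_decomp hχ'
  -- the block part as a function
  have hF : ∀ y : H, blockPart b (fun c => χ' (z * c)) y =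
      ∑ ψ ∈ bf, (om ψ z * (m ψ : ℂ)) * (ψ : H → ℂ) y := by
    intro y
    rw [blockPart_eq_sum]
    apply Finset.sum_congr rfl
    intro ψ _
    rw [classInner_twist χ' ψ z hz, hm ψ]
  -- `pTilde` of the block part vanishes
  have h0 : pTilde p (fun y => ∑ ψ ∈ bf, (om ψ z * (m ψ : ℂ)) * (ψ : H → ℂ) y) = 0 := by
    funext y
    rw [pTilde_apply]
    split_ifs with hy
    · rfl
    · rw [← hF y, hcon y hy, mul_zero]
      rfl
  rw [pTilde_sum] at h0
  have h1 : ∑ ψ ∈ bf, (om ψ z * (m ψ : ℂ)) *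
      classInner (pTilde p (ψ : H → ℂ)) (ψ₀ : H → ℂ) = 0 := by
    have := congrArg (fun f => classInner f (ψ₀ : H → ℂ)) h0
    simp only [Cfsg.Agent.Lib.Helper25.classInner_sum_left,
      Cfsg.Agent.Lib.Helper25.classInner_smul_left,
      Cfsg.Agent.Lib.Helper25.classInner_zero_left] at this
    exact this
  -- the full expansion of `χ'`
  have h2 : classInner (pTilde p χ') (ψ₀ : H → ℂ) =
      ∑ ψ ∈ bf, (m ψ : ℂ) * classInner (pTilde p (ψ : H → ℂ)) (ψ₀ : H → ℂ) := by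
    have hχ'fun : χ' = fun x => ∑ ψ ∈ (Finset.univ : Finset (IrrCharacter H)),
        (m ψ : ℂ) * (ψ : H → ℂ) x := by
      funext x
      conv_lhs => rw [hdecomp]
      simp [Finset.sum_apply]
    conv_lhs => rw [hχ'fun]
    rw [pTilde_sum, Cfsg.Agent.Lib.Helper25.classInner_sum_left, hbf, Finset.sum_filter]
    apply Finset.sum_congr rfl
    intro ψ _
    rw [Cfsg.Agent.Lib.Helper25.classInner_smul_left]
    split_ifs with hψ
    · rfl
    · have hns : ¬ SameBlock M (ψ : H → ℂ) (ψ₀ : H → ℂ) := by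
        intro hs
        apply hψ
        exact sameBlock_trans hMp hψ₀ (sameBlock_symm hs)
      rw [pTilde_eq_zero_of_not_sameBlock p M hM ψ ψ₀ hns, mul_zero]
  -- the difference lies in the local ideal
  have h3 : classInner (pTilde p χ') (ψ₀ : H → ℂ) / (ψ₀ : H → ℂ) 1 =
      ∑ ψ ∈ bf, (1 - om ψ z) * ((m ψ : ℂ) *
        (classInner (pTilde p (ψ : H → ℂ)) (ψ₀ : H → ℂ) / (ψ₀ : H → ℂ) 1)) := by
    have h4 : ∑ ψ ∈ bf, (1 - om ψ z) * ((m ψ : ℂ) *
        (classInner (pTilde p (ψ : H → ℂ)) (ψ₀ : H → ℂ) / (ψ₀ : H → ℂ) 1)) =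
        (∑ ψ ∈ bf, (m ψ : ℂ) * classInner (pTilde p (ψ : H → ℂ)) (ψ₀ : H → ℂ) -
          ∑ ψ ∈ bf, (om ψ z * (m ψ : ℂ)) *
            classInner (pTilde p (ψ : H → ℂ)) (ψ₀ : H → ℂ)) / (ψ₀ : H → ℂ) 1 := by
      rw [← Finset.sum_sub_distrib, Finset.sum_div]
      apply Finset.sum_congr rfl
      intro ψ _
      ring
    rw [h4, h1, sub_zero, h2]
  rw [h3]
  apply memLocalIdeal_sum hMp
  intro ψ _
  apply memLocalIdeal_mul_right hMp
  · have := memLocalIdeal_neg (memLocalIdeal_om_sub_one hM ψ z hz k hzk)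
    rwa [neg_sub] at this
  · exact memLocalRing_mul hMp (memLocalRing_natCast hMp _) (pTilde_ratio_memLocalRing hM ψ ψ₀)

end

end Cfsg.Agent.Lib.Helper74
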