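import Cfsg.Agent.Lib.Helper74.BR1
import Cfsg.Agent.S0952
import Cfsg.Agent.Lib.Helper80.Orthogonality
import Cfsg.Prelude.Def_BlockRank

set_option autoImplicit false

namespace Cfsg.Agent.Lib.Helper74

open Cfsg Cfsg.Agent.Lib.Helper81
open scoped ComplexConjugate

universe u

section
variable {G : Type u} [Group G]

open Classical in
/-- The `p`-regular part as a linear map. -/
noncomputable def pRegLin (p : ℕ) : (G → ℂ) →ₗ[ℂ] (G → ℂ) where
  toFun f := pRegularPart p f
  map_add' f g := by
    funext x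
    simp only [pRegularPart, Pi.add_apply]
    split_ifs <;> simp
  map_smul' c f := by
    funext x
    simp only [pRegularPart, Pi.smul_apply, smul_eq_mul, RingHom.id_apply]
    split_ifs <;> simp

theorem pRegLin_apply (p : ℕ) (f : G → ℂ) : pRegLin p f = pRegularPart p f := rfl

open Classical in
theorem pRegularPart_apply (p : ℕ) (f : G → ℂ) (x : G) :
    pRegularPart p f x = if ¬ p ∣ orderOf x then f x else 0 := by
  unfold pRegularPart IsPRegular
  congr

theorem pRegularPart_idem (p : ℕ) (f : G → ℂ) :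
    pRegularPart p (pRegularPart p f) = pRegularPart p f := by
  classical
  funext x
  rw [pRegularPart_apply, pRegularPart_apply]
  split_ifs <;> rfl

theorem pRegularPart_isClassFunction (p : ℕ) {f : G → ℂ} (hf : IsClassFunction G f) :
    IsClassFunction G (pRegularPart p f) := by
  classical
  intro g h
  rw [pRegularPart_apply, pRegularPart_apply, hf g h]
  have : orderOf (h * g * h⁻¹) = orderOf g := by
    have hs : SemiconjBy h g (h * g * h⁻¹) := by
      unfold SemiconjBy; group
    exact (hs.orderOf_eq).symm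
  rw [this]


variable [Fintype G]

open Classical in
/-- Expansion of the `p`-regular part of a member of a block in the members of the block. -/
theorem pRegularPart_expansion [Fintype (IrrCharacter G)] (p : ℕ) [Fact p.Prime]
    (M : Ideal AlgInt) (hM : IsPModular p M) (χ₀ : IrrCharacter G)
    (ψ : IrrCharacter G) (hψ : ψ ∈ blockOf M (χ₀ : G → ℂ)) (x : G) :
    pRegularPart p (ψ : G → ℂ) x =
      ∑ φ ∈ Finset.univ.filter (fun φ : IrrCharacter G => φ ∈ blockOf M (χ₀ : G → ℂ)),
        classInner (pRegularPart p (ψ : G → ℂ)) (φ : G → ℂ) * (φ : G → ℂ) x := by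
  have hcl : IsClassFunction G (pRegularPart p (ψ : G → ℂ)) :=
    pRegularPart_isClassFunction p (fun g h => Cfsg.Agent.Lib.Helper80.irr_class ψ g h)
  rw [Cfsg.Agent.Lib.Helper80.classFun_expansion _ hcl x, Finset.sum_filter]
  apply Finset.sum_congr rfl
  intro φ _
  by_cases hφ : φ ∈ blockOf M (χ₀ : G → ℂ)
  · rw [if_pos hφ]
    rfl
  · rw [if_neg hφ]
    have hns : ¬ SameBlock M (ψ : G → ℂ) (φ : G → ℂ) := by
      intro h
      exact hφ (sameBlock_trans (isPrime_of_isPModular hM) hψ h)
    have h0 := Cfsg.Agent.S0952.orth_regular p M hM ψ φ hns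
    have h1 : ∑ g : G, pRegularPart p (ψ : G → ℂ) g * conj ((φ : G → ℂ) g) = 0 := by
      rw [← h0, Finset.sum_filter]
      apply Finset.sum_congr rfl
      intro g _
      rw [pRegularPart_apply]
      split_ifs <;> simp
    rw [h1, mul_zero, zero_mul]


open Classical in
/-- `|G| · l(B)` as a sum over the group. -/
theorem card_mul_blockRank [Fintype (IrrCharacter G)] (p : ℕ) [Fact p.Prime]
    (M : Ideal AlgInt) (hM : IsPModular p M) (χ₀ : IrrCharacter G) :
    (Nat.card G : ℂ) * (blockRank p (blockOf M (χ₀ : G → ℂ)) : ℂ) =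
      ∑ x : G, ∑ χ ∈ Finset.univ.filter (fun χ : IrrCharacter G => χ ∈ blockOf M (χ₀ : G → ℂ)),
        pRegularPart p (χ : G → ℂ) x * (χ : G → ℂ) x⁻¹ := by
  set B := blockOf M (χ₀ : G → ℂ) with hB
  let v : {ψ : IrrCharacter G // ψ ∈ B} → (G → ℂ) := fun i => (i.1 : G → ℂ)
  have hv : LinearIndependent ℂ v :=
    (Cfsg.Agent.Lib.Helper80.irr_linearIndependent (G := G)).comp
      (fun i : {ψ : IrrCharacter G // ψ ∈ B} => i.1) Subtype.val_injective
  let A : Matrix {ψ : IrrCharacter G // ψ ∈ B} {ψ : IrrCharacter G // ψ ∈ B} ℂ :=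
    Matrix.of (fun i j => classInner (pRegularPart p (i.1 : G → ℂ)) (j.1 : G → ℂ))
  have htrace : A.trace = ∑ i : {ψ : IrrCharacter G // ψ ∈ B},
      classInner (pRegularPart p (i.1 : G → ℂ)) (i.1 : G → ℂ) := rfl
  have hA : ∀ i, pRegLin p (v i) = ∑ j, A i j • v j := by
    intro i
    funext x
    rw [pRegLin_apply, Finset.sum_apply]
    rw [pRegularPart_expansion p M hM χ₀ i.1 i.2 x]
    rw [Finset.sum_subtype (p := fun ψ : IrrCharacter G => ψ ∈ B)
      (Finset.univ.filter (fun φ : IrrCharacter G => φ ∈ B)) (by intro x; simp)]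
    rfl
  have hmain := finrank_span_proj_eq_trace v hv (pRegLin p)
    (fun f => by rw [pRegLin_apply, pRegLin_apply, pRegularPart_idem]) A hA
  have hrange : Set.range (fun i => pRegLin p (v i)) =
      (fun χ : IrrCharacter G => pRegularPart p (χ : G → ℂ)) '' B := by
    ext f
    constructor
    · rintro ⟨i, rfl⟩
      exact ⟨i.1, i.2, rfl⟩
    · rintro ⟨χ, hχ, rfl⟩
      exact ⟨⟨χ, hχ⟩, rfl⟩
  rw [hrange] at hmain
  have hbr : blockRank p B = Module.finrank ℂ ↥(Submodule.span ℂ
      ((fun χ : IrrCharacter G => pRegularPart p (χ : G → ℂ)) '' B)) := rfl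
  rw [hbr, hmain, htrace]
  have hG : (Nat.card G : ℂ) ≠ 0 := Nat.cast_ne_zero.mpr Nat.card_pos.ne'
  rw [Finset.sum_comm, Finset.mul_sum]
  rw [Finset.sum_subtype (p := fun ψ : IrrCharacter G => ψ ∈ B)
    (Finset.univ.filter (fun φ : IrrCharacter G => φ ∈ B)) (by intro x; simp)]
  apply Finset.sum_congr rfl
  intro i _
  unfold classInner
  rw [← mul_assoc, mul_inv_cancel₀ hG, one_mul]
  apply Finset.sum_congr rfl
  intro x _
  rw [Cfsg.Agent.Lib.Helper80.irr_conj_inv]

end

end Cfsg.Agent.Lib.Helper74
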