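import Cfsg.Agent.Lib.Helper74.Osima4
import Cfsg.Agent.Lib.Helper80.Complete
import Cfsg.Agent.Lib.Helper3.Degree

set_option autoImplicit false

namespace Cfsg.Agent.Lib.Helper74

open Cfsg Cfsg.Agent.Lib.Helper77 Cfsg.Agent.Lib.Helper81
open scoped ComplexConjugate

universe u

section
variable {G : Type u} [Group G] [Fintype G]

/-- The "idempotent" of any set of irreducible characters is idempotent under convolution. -/
theorem blockCoeff_conv_self (B : Set (IrrCharacter G)) :
    conv (blockCoeff B) (blockCoeff B) = blockCoeff B := by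
  classical
  apply eq_of_omega_eq (conv_isClassFunction (blockCoeff_isClassFunction B)
    (blockCoeff_isClassFunction B)) (blockCoeff_isClassFunction B)
  intro χ
  rw [omega_conv χ.2 (blockCoeff_isClassFunction B) (blockCoeff_isClassFunction B),
    omega_blockCoeff]
  split_ifs <;> simp

/-- If the idempotent of a set `B` of irreducible characters has local-integer coefficients,
it vanishes at `p`-singular elements. -/
theorem blockCoeff_eq_zero_of_memLocalRing {p : ℕ} {M : Ideal AlgInt} (hpM : IsPModular p M)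
    (B : Set (IrrCharacter G)) (hS : ∀ g, MemLocalRing M (blockCoeff B g)) (y : G)
    (hy : p ∣ orderOf y) : blockCoeff B y = 0 :=
  idem_vanish_p_singular hpM _ hS (blockCoeff_isClassFunction B) (blockCoeff_conv_self B) y hy

/-- **Osima's theorem** (exact form): the block idempotent vanishes at `p`-singular elements. -/
theorem blockCoeff_blockOf_eq_zero {p : ℕ} {M : Ideal AlgInt} (hpM : IsPModular p M)
    (χ₀ : IrrCharacter G) (y : G) (hy : p ∣ orderOf y) :
    blockCoeff (blockOf M (χ₀ : G → ℂ)) y = 0 :=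
  blockCoeff_eq_zero_of_memLocalRing hpM _ (fun g => memLocalRing_blockCoeff hpM χ₀ g) y hy

end

/-- There is a `p`-modular maximal ideal of the ring of algebraic integers. -/
theorem exists_isPModular {p : ℕ} (hp : p.Prime) : ∃ M : Ideal AlgInt, IsPModular p M := by
  have hne : Ideal.span {(p : AlgInt)} ≠ ⊤ := by
    intro h
    have h1 : (1 : AlgInt) ∈ Ideal.span {(p : AlgInt)} := by rw [h]; trivial
    obtain ⟨a, ha⟩ := Ideal.mem_span_singleton'.mp h1
    have h2 : (a : ℂ) * (p : ℂ) = 1 := by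
      have := congrArg (fun x : AlgInt => (x : ℂ)) ha
      simpa using this
    have hp0 : (p : ℂ) ≠ 0 := Nat.cast_ne_zero.mpr hp.ne_zero
    have h3 : (a : ℂ) = ((1 : ℕ) : ℂ) / (p : ℂ) := by
      rw [eq_div_iff hp0, h2, Nat.cast_one]
    have h4 : IsIntegral ℤ (((1 : ℕ) : ℂ) / (p : ℂ)) := by rw [← h3]; exact a.2
    have := Cfsg.Agent.Lib.Helper3.nat_dvd_of_isIntegral_div hp.ne_zero h4
    exact hp.one_lt.ne' (Nat.dvd_one.mp this)
  obtain ⟨M, hM, hle⟩ := Ideal.exists_le_maximal _ hne
  exact ⟨M, hp, hM, hle (Ideal.subset_span (Set.mem_singleton _))⟩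

section
variable {G : Type u} [Group G] [Fintype G]

/-- **Characters of defect zero vanish on `p`-singular elements.** -/
theorem irr_vanish_of_defect_zero {p : ℕ} (hp : p.Prime) (χ : IrrCharacter G) (d k : ℕ)
    (hd : (χ : G → ℂ) 1 = d) (hk : Nat.card G = d * k) (hpk : ¬ p ∣ k) (y : G)
    (hy : p ∣ orderOf y) : (χ : G → ℂ) y = 0 := by
  obtain ⟨M, hpM⟩ := exists_isPModular hp
  have hM : M.IsPrime := isPrime_of_isPModular hpM
  have hG0 : Nat.card G ≠ 0 := Nat.card_pos.ne'
  have hd0 : d ≠ 0 := by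
    intro h; rw [h, zero_mul] at hk; exact hG0 hk
  have hk0 : k ≠ 0 := by
    intro h; rw [h, mul_zero] at hk; exact hG0 hk
  have hcoef : ∀ g : G, blockCoeff ({χ} : Set (IrrCharacter G)) g =
      (k : ℂ)⁻¹ * conj ((χ : G → ℂ) g) := by
    intro g
    unfold blockCoeff
    rw [finsum_mem_singleton, hd, hk, Nat.cast_mul, mul_inv, mul_assoc, ← mul_assoc _ (d : ℂ),
      mul_comm ((k : ℂ)⁻¹)]
    rw [mul_assoc, ← mul_assoc, inv_mul_cancel₀ (Nat.cast_ne_zero.mpr hd0), one_mul]
  have hS : ∀ g, MemLocalRing M (blockCoeff ({χ} : Set (IrrCharacter G)) g) := by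
    intro g
    rw [hcoef]
    apply memLocalRing_mul hM (memLocalRing_inv_natCast hpM hpk)
    rw [← Cfsg.Agent.Lib.Helper80.irr_conj_inv]
    exact memLocalRing_algInt hM ⟨_, Cfsg.Agent.Lib.Helper80.irr_isIntegral χ g⁻¹⟩
  have := blockCoeff_eq_zero_of_memLocalRing hpM _ hS y hy
  rw [hcoef] at this
  rcases mul_eq_zero.mp this with h | h
  · exact absurd (inv_eq_zero.mp h) (Nat.cast_ne_zero.mpr hk0)
  · exact (map_eq_zero (starRingEnd ℂ)).mp h

end

end Cfsg.Agent.Lib.Helper74
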