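import Cfsg.Agent.Lib.Helper74.DZ3
import Cfsg.Agent.Lib.Helper74.Osima5
import Cfsg.Agent.Lib.Helper80.Kernel

set_option autoImplicit false

namespace Cfsg.Agent.Lib.Helper74

open Cfsg
open scoped ComplexConjugate

theorem not_dvd_cofactor {N d k q : ℕ} (hq : q.Prime) (hN : N ≠ 0) (hdk : N = d * k)
    (h : q ^ N.factorization q ∣ d) : ¬ q ∣ k := by
  intro hk
  have h1 : q ^ (N.factorization q + 1) ∣ d * k := by
    rw [pow_succ]; exact Nat.mul_dvd_mul h hk
  rw [← hdk] at h1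
  exact Nat.pow_succ_factorization_not_dvd hN hq h1

universe u

section
variable {G : Type u} [Group G] [Fintype G]

theorem irr_charDegree_dvd_card (χ : IrrCharacter G) : charDegree (χ : G → ℂ) ∣ Nat.card G :=
  Dvd.dvd.trans (Dvd.intro_left _ rfl) (Cfsg.Agent.Lib.Helper80.irr_card_ker_mul_degree_dvd χ)

/-- defect zero vanishing in terms of `charDegree`. -/
theorem dz_vanish (χ : IrrCharacter G) (q : ℕ) (hq : q.Prime)
    (h : q ^ (Nat.card G).factorization q ∣ charDegree (χ : G → ℂ)) (x : G)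
    (hx : q ∣ orderOf x) : (χ : G → ℂ) x = 0 := by
  obtain ⟨k, hk⟩ := irr_charDegree_dvd_card χ
  have hpk : ¬ q ∣ k := not_dvd_cofactor hq Nat.card_pos.ne' hk h
  exact irr_vanish_of_defect_zero hq χ _ k
    (Cfsg.Agent.Lib.Helper81.irr_apply_one_eq_charDegree χ) hk hpk x hx

omit [Fintype G] in
theorem orderOf_mul_eq_two_mul {s h : G} {q : ℕ} (hs : orderOf s = 2) (hq : q.Prime) (hq2 : q ≠ 2)
    (hh : orderOf h = q) (hc : Commute s h) : orderOf (s * h) = 2 * q := by
  rw [hc.orderOf_mul_eq_mul_orderOf_of_coprime, hs, hh]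
  rw [hs, hh]
  exact (Nat.coprime_primes Nat.prime_two hq).mpr (Ne.symm hq2)

end

end Cfsg.Agent.Lib.Helper74
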