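import Cfsg.Agent.Lib.Helper74.FR5
import Cfsg.Agent.Lib.Helper77.BlockIdemSupp
import Cfsg.Agent.Lib.Helper77.BrauerPair

/-!
# Brauer pairs at a normal `p`-subgroup, via the stabilizer correspondence
-/

set_option autoImplicit false
set_option linter.unusedSectionVars false

universe u

namespace Cfsg.Agent.Lib.Helper74

open Cfsg Cfsg.Agent.Lib.Helper77 Cfsg.Agent.Lib.Helper25 Cfsg.Agent.Lib.Helper81
open Cfsg.Agent.Lib.Helper16 Cfsg.Agent.Lib.Helper75
open scoped ComplexConjugate

section General

variable {G : Type u} [Group G] [Fintype G]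

/-- Every irreducible character of a subgroup lies under an irreducible character of `G`. -/
theorem fr_exists_over (N : Subgroup G) [Fintype N] (θ : IrrCharacter N) :
    ∃ χ : IrrCharacter G, classInner (fun n : N => (χ : G → ℂ) n) (θ : N → ℂ) ≠ 0 := by
  classical
  have := Fintype.ofFinite (IrrCharacter G)
  by_contra hcon
  push Not at hcon
  have hcl := indFun_isClassFunction N (θ : N → ℂ)
  have hexp := Cfsg.Agent.Lib.Helper3.classFunction_eq_sum hcl
  have h0 : ∀ χ : IrrCharacter G, classInner (indFun N (θ : N → ℂ)) (χ : G → ℂ) = 0 := by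
    intro χ
    rw [frobenius_reciprocity N (θ : N → ℂ) (χ : G → ℂ) (isClassFunction_of_isCharacter χ.2),
      ← classInner_conj_symm, hcon χ, map_zero]
  have h1 : indFun N (θ : N → ℂ) 1 = 0 := by
    rw [hexp]
    simp [h0]
  rw [indFun_one] at h1
  rcases mul_eq_zero.mp h1 with h | h
  · have : N.index ≠ 0 := Subgroup.index_ne_zero_of_finite
    exact this (by exact_mod_cast h)
  · exact irr_one_ne_zero θ.2 h

theorem conv_deltaOne (a : G → ℂ) : conv a deltaOne = a := by
  classical
  funext g
  unfold conv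
  rw [Finset.sum_eq_single g]
  · unfold deltaOne
    rw [inv_mul_cancel, if_pos rfl, mul_one]
  · intro h _ hne
    unfold deltaOne
    rw [if_neg, mul_zero]
    intro hh
    apply hne
    have := congrArg (fun z => h * z) hh
    simp only [mul_inv_cancel_left, mul_one] at this
    exact this.symm
  · intro h
    exact absurd (Finset.mem_univ _) h

end General

section FR

variable {G : Type u} [Group G] [Fintype G] (N : Subgroup G) [hN : N.Normal] [Fintype N]
  (T : Subgroup G) [Fintype T] (hNT : N ≤ T) (b : Set (IrrCharacter N))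

include hNT in
/-- If the characters of `G` over `b` are exactly the members of the block `B`, and the idempotent
of `B` vanishes off `N`, then the idempotent of `B` is the orbit sum of the idempotent of `b`. -/
theorem blockCoeff_eq_indFun_frIdem {M : Ideal AlgInt} (hM : M.IsPrime) (hb : IsPBlock M b)
    (hst : IsStab N T b) (B : Set (IrrCharacter G))
    (hB : ∀ χ : IrrCharacter G, χ ∈ B ↔ FrOverG N b (χ : G → ℂ)) :
    blockCoeff B = indFun T (frIdem N T b) := by
  classical
  apply eq_of_omega_eq (blockCoeff_isClassFunction B) (indFun_isClassFunction T _)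
  intro χ
  rw [omega_blockCoeff]
  by_cases hχ : χ ∈ B
  · rw [if_pos hχ]
    obtain ⟨ψ, hovψ, hind⟩ := exists_indFun_eq_of_overG N T hNT b hM hb hst χ ((hB χ).mp hχ)
    have h1 := omega_frIdem_of_over N T hNT b hst ψ.2 hovψ
    have := omega_indFun_conv N T hNT b hM hb hst ψ.2 h1 deltaOne
    rw [conv_deltaOne, omega_deltaOne _ (irr_one_ne_zero ψ.2), hind] at this
    exact this.symm
  · rw [if_neg hχ]
    have hno : ∀ θ ∈ b, classInner (fun n : N => (χ : G → ℂ) n) (θ : N → ℂ) = 0 := by
      intro θ hθ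
      by_contra hne
      exact hχ ((hB χ).mpr ⟨θ, hθ, hne⟩)
    have h0 := sum_blockCoeff_mul_eq_zero b (fun n : N => (χ : G → ℂ) n) hno
    unfold omega
    have h2 : ∑ g : G, indFun T (frIdem N T b) g * (χ : G → ℂ) g =
        (Nat.card T : ℂ)⁻¹ * (Nat.card G : ℂ) *
          ∑ t : T, (χ : G → ℂ) t * frIdem N T b t := by
      rw [← sum_mul_indFun T (frIdem N T b) (isClassFunction_of_isCharacter χ.2)]
      refine Finset.sum_congr rfl fun g _ => ?_
      ring
    have h3 : ∑ t : T, (χ : G → ℂ) t * frIdem N T b t = 0 := by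
      rw [sum_T_eq_sum_N N T hNT (fun t => (χ : G → ℂ) t * frIdem N T b t)]
      · rw [← h0]
        refine Finset.sum_congr rfl fun n _ => ?_
        rw [frIdem_coe, mul_comm]
      · intro t ht
        show (χ : G → ℂ) t * frIdem N T b t = 0
        rw [frIdem_of_not_mem N T b ht, mul_zero]
    rw [h2, h3, mul_zero, zero_div]

include hNT in
/-- If the characters of `G` over `b` form a single block, then so do the characters of `T` over
`b`, and the idempotent of that block of `T` is the idempotent of `b`. -/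
theorem exists_block_T_of_overG {p : ℕ} {M : Ideal AlgInt} (hpM : IsPModular p M)
    (hb : IsPBlock M b) (hst : IsStab N T b) (B : Set (IrrCharacter G)) (hBM : IsPBlock M B)
    (hBne : B.Nonempty)
    (hB : ∀ χ : IrrCharacter G, χ ∈ B ↔ FrOverG N b (χ : G → ℂ)) :
    ∃ E : Set (IrrCharacter T), IsPBlock M E ∧ blockCoeff E = frIdem N T b := by
  classical
  have hM := isPrime_of_isPModular hpM
  refine ⟨{ψ | FrOver N T hNT b (ψ : T → ℂ)}, ?_, ?_⟩
  · obtain ⟨χ₀, hχ₀⟩ := hBne
    obtain ⟨ψ₀, hov₀, hind₀⟩ := exists_indFun_eq_of_overG N T hNT b hM hb hst χ₀ ((hB χ₀).mp hχ₀)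
    have o₀ := omega_frIdem_of_over N T hNT b hst ψ₀.2 hov₀
    refine ⟨ψ₀, ?_⟩
    ext ψ
    constructor
    · intro hψ
      have hov : FrOver N T hNT b (ψ : T → ℂ) := hψ
      have o := omega_frIdem_of_over N T hNT b hst ψ.2 hov
      have hirr := isIrrCharacter_indFun_of_omega N T hNT b hM hb hst ψ.2 o
      have hmem : (⟨indFun T (ψ : T → ℂ), hirr⟩ : IrrCharacter G) ∈ B :=
        (hB _).mpr (overG_indFun N T hNT b hM hb hst ψ.2 o)
      have hBeq := eq_blockOf_of_mem hM hBM hχ₀
      have hs : SameBlock M (χ₀ : G → ℂ) (indFun T (ψ : T → ℂ)) :=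
        (Set.ext_iff.mp hBeq ⟨indFun T (ψ : T → ℂ), hirr⟩).mp hmem
      show SameBlock M (ψ₀ : T → ℂ) (ψ : T → ℂ)
      apply sameBlock_of_sameBlock_indFun N T hNT b hpM hb hst ψ₀.2 ψ.2 o₀ o
      rw [hind₀]
      exact hs
    · intro hψ
      have hs : SameBlock M (ψ₀ : T → ℂ) (ψ : T → ℂ) := hψ
      exact over_of_sameBlock N T hNT b hpM hb hst ψ₀.2 ψ.2 hs hov₀
  · apply eq_of_omega_eq (blockCoeff_isClassFunction _) (frIdem_isClassFunction N T b hst)
    intro ψ
    rw [omega_blockCoeff]
    by_cases hψ : ψ ∈ {ψ : IrrCharacter T | FrOver N T hNT b (ψ : T → ℂ)}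
    · rw [if_pos hψ]
      exact (omega_frIdem_of_over N T hNT b hst ψ.2 hψ).symm
    · rw [if_neg hψ]
      by_contra h0
      exact hψ (over_of_omega_ne_zero N T hNT b hst ψ.2 (fun h => h0 h.symm))

end FR

end Cfsg.Agent.Lib.Helper74
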