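import Cfsg.Agent.Lib.Helper74.PReg3

/-!
# Height zero criterion via `[χ̃, ξ]` (helper74)
-/

set_option autoImplicit false

namespace Cfsg.Agent.Lib.Helper74

open Cfsg Cfsg.Agent.Lib.Helper81
open scoped ComplexConjugate

universe u

variable {G : Type u} [Group G] [Fintype G]

/-- `[θ̃, ξ] / ξ(1)` is a local unit iff `[θ̃, ξ]` is not divisible by `p ^ (b + 1)`, `p ^ b` the
`p`-part of `ξ(1)`. -/
theorem pTilde_unit_iff {p : ℕ} [Fact p.Prime] {M : Ideal AlgInt} (hM : IsPModular p M)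
    (θ ξ : IrrCharacter G) (t : ℤ)
    (ht : classInner (pTilde p (θ : G → ℂ)) (ξ : G → ℂ) = (t : ℂ)) :
    ¬ MemLocalIdeal M (classInner (pTilde p (θ : G → ℂ)) (ξ : G → ℂ) / (ξ : G → ℂ) 1) ↔
      ¬ ((p ^ ((charDegree (ξ : G → ℂ)).factorization p + 1) : ℕ) : ℤ) ∣ t := by
  rw [ht, irr_apply_one_eq_charDegree ξ]
  exact not_congr (memLocalIdeal_div_iff hM _ (irr_charDegree_ne_zero ξ) t
    (pTilde_dvd_right p θ ξ t ht))

theorem pTilde_unit_transfer {p : ℕ} [Fact p.Prime] {M : Ideal AlgInt} (hM : IsPModular p M)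
    (θ ξ ψ : IrrCharacter G) (hs : SameBlock M (ξ : G → ℂ) (ψ : G → ℂ))
    (h : ¬ MemLocalIdeal M (classInner (pTilde p (θ : G → ℂ)) (ξ : G → ℂ) / (ξ : G → ℂ) 1)) :
    ¬ MemLocalIdeal M (classInner (pTilde p (θ : G → ℂ)) (ψ : G → ℂ) / (ψ : G → ℂ) 1) := by
  have hMp : M.IsPrime := isPrime_of_isPModular hM
  intro h2
  apply h
  have h3 := memLocalIdeal_add hMp (pTilde_cong p M hM θ ξ ψ hs) h2
  rwa [sub_add_cancel] at h3

theorem padic_iff_not_dvd {p : ℕ} [Fact p.Prime] (t : ℤ) (b : ℕ)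
    (hb : ((p ^ b : ℕ) : ℤ) ∣ t) :
    (t ≠ 0 ∧ padicValInt p t = b) ↔ ¬ ((p ^ (b + 1) : ℕ) : ℤ) ∣ t := by
  have e1 : ((p ^ (b + 1) : ℕ) : ℤ) = (p : ℤ) ^ (b + 1) := by push_cast; rfl
  have e0 : ((p ^ b : ℕ) : ℤ) = (p : ℤ) ^ b := by push_cast; rfl
  rw [e1]
  rw [e0] at hb
  constructor
  · rintro ⟨h0, hv⟩ hd
    rcases (padicValInt_dvd_iff (b + 1) t).1 hd with h | h
    · exact h0 h
    · omega
  · intro hd
    have h0 : t ≠ 0 := by
      rintro rfl
      exact hd (dvd_zero _)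
    refine ⟨h0, ?_⟩
    have h1 : ¬ (b + 1 ≤ padicValInt p t) := fun h =>
      hd ((padicValInt_dvd_iff (b + 1) t).2 (Or.inr h))
    rcases (padicValInt_dvd_iff b t).1 hb with h | h
    · exact absurd h h0
    · omega

omit [Fintype G] in
/-- The minimum of the `p`-parts of the degrees in `B` is at most that of any member. -/
theorem sInf_le_of_mem (p : ℕ) (B : Set (IrrCharacter G)) (ψ : IrrCharacter G) (hψ : ψ ∈ B) :
    sInf ((fun χ : IrrCharacter G => (charDegree (χ : G → ℂ)).factorization p) '' B) ≤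
      (charDegree (ψ : G → ℂ)).factorization p :=
  Nat.sInf_le ⟨ψ, hψ, rfl⟩

/-- Height zero implies that `[χ̃, ξ] / ξ(1)` is a local unit for every `ξ` in the block. -/
theorem pTilde_unit_of_height_zero [Fintype (IrrCharacter G)] {p : ℕ} [Fact p.Prime]
    {M : Ideal AlgInt} (hM : IsPModular p M)
    (χ₀ χ : IrrCharacter G) (hχ : χ ∈ blockOf M (χ₀ : G → ℂ))
    (hht : blockHeight p (blockOf M (χ₀ : G → ℂ)) (χ : G → ℂ) = 0)
    (ξ : IrrCharacter G) (hξ : ξ ∈ blockOf M (χ₀ : G → ℂ)) :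
    ¬ MemLocalIdeal M (classInner (pTilde p (χ : G → ℂ)) (ξ : G → ℂ) / (ξ : G → ℂ) 1) := by
  have hp : p.Prime := Fact.out
  have hMp : M.IsPrime := isPrime_of_isPModular hM
  set B := blockOf M (χ₀ : G → ℂ) with hB
  set s := sInf ((fun χ : IrrCharacter G => (charDegree (χ : G → ℂ)).factorization p) '' B)
    with hs
  have hχs : (charDegree (χ : G → ℂ)).factorization p ≤ s := by
    have : blockHeight p B (χ : G → ℂ) = (charDegree (χ : G → ℂ)).factorization p - s := rfl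
    omega
  -- a partner `ψ` of `ξ`
  obtain ⟨ψ, t, ht, hnd⟩ := exists_pTilde_not_dvd p ξ
  have ht0 : t ≠ 0 := by
    rintro rfl
    exact hnd (dvd_zero _)
  have hξψ : SameBlock M (ξ : G → ℂ) (ψ : G → ℂ) := by
    by_contra hns
    rw [pTilde_eq_zero_of_not_sameBlock p M hM ξ ψ hns] at ht
    exact ht0 (by exact_mod_cast ht.symm)
  have hψB : ψ ∈ B := sameBlock_trans hMp hξ hξψ
  have hχξ : SameBlock M (χ : G → ℂ) (ξ : G → ℂ) := sameBlock_trans hMp (sameBlock_symm hχ) hξ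
  have hχψ : SameBlock M (χ : G → ℂ) (ψ : G → ℂ) := sameBlock_trans hMp hχξ hξψ
  -- `[ψ̃, ξ] / ξ(1)` is a unit
  have ht' : classInner (pTilde p (ψ : G → ℂ)) (ξ : G → ℂ) = (t : ℂ) := by
    rw [pTilde_symm, ht]
  have hu1 := (pTilde_unit_iff hM ψ ξ t ht').2 hnd
  -- hence `[ψ̃, χ] / χ(1)` is a unit
  have hu2 := pTilde_unit_transfer hM ψ ξ χ (sameBlock_symm hχξ) hu1
  obtain ⟨t2, ht2⟩ := pTilde_int p ψ χ
  have hnd2 := (pTilde_unit_iff hM ψ χ t2 ht2).1 hu2
  -- `ψ` has the same `p`-part of the degree as `χ`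
  have ht2' : classInner (pTilde p (χ : G → ℂ)) (ψ : G → ℂ) = (t2 : ℂ) := by
    rw [pTilde_symm, ht2]
  have hdvd := pTilde_dvd_right p χ ψ t2 ht2'
  have hψs : s ≤ (charDegree (ψ : G → ℂ)).factorization p := sInf_le_of_mem p B ψ hψB
  have hψχ : (charDegree (ψ : G → ℂ)).factorization p ≤
      (charDegree (χ : G → ℂ)).factorization p := by
    by_contra hlt
    push Not at hlt
    apply hnd2
    refine dvd_trans ?_ hdvd
    have : p ^ ((charDegree (χ : G → ℂ)).factorization p + 1) ∣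
        p ^ (charDegree (ψ : G → ℂ)).factorization p := pow_dvd_pow p hlt
    exact_mod_cast this
  have heq : (charDegree (ψ : G → ℂ)).factorization p =
      (charDegree (χ : G → ℂ)).factorization p := by omega
  -- `[χ̃, ψ] / ψ(1)` is a unit
  have hu3 : ¬ MemLocalIdeal M (classInner (pTilde p (χ : G → ℂ)) (ψ : G → ℂ) /
      (ψ : G → ℂ) 1) := by
    rw [pTilde_unit_iff hM χ ψ t2 ht2', heq]
    exact hnd2
  exact pTilde_unit_transfer hM χ ψ ξ (sameBlock_symm hξψ) hu3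

/-- If `[χ̃, ξ] / ξ(1)` is a local unit for some `ξ` in the block then `χ` has height zero. -/
theorem height_zero_of_pTilde_unit [Fintype (IrrCharacter G)] {p : ℕ} [Fact p.Prime]
    {M : Ideal AlgInt} (hM : IsPModular p M)
    (χ₀ χ : IrrCharacter G) (hχ : χ ∈ blockOf M (χ₀ : G → ℂ))
    (ξ : IrrCharacter G) (hξ : ξ ∈ blockOf M (χ₀ : G → ℂ))
    (hu : ¬ MemLocalIdeal M (classInner (pTilde p (χ : G → ℂ)) (ξ : G → ℂ) / (ξ : G → ℂ) 1)) :
    blockHeight p (blockOf M (χ₀ : G → ℂ)) (χ : G → ℂ) = 0 := by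
  have hp : p.Prime := Fact.out
  have hMp : M.IsPrime := isPrime_of_isPModular hM
  set B := blockOf M (χ₀ : G → ℂ) with hB
  set S := (fun χ : IrrCharacter G => (charDegree (χ : G → ℂ)).factorization p) '' B with hS
  set s := sInf S with hs
  have hne : S.Nonempty := ⟨_, χ, hχ, rfl⟩
  obtain ⟨ψ₀, hψ₀B, hψ₀⟩ := Nat.sInf_mem hne
  have hξψ₀ : SameBlock M (ξ : G → ℂ) (ψ₀ : G → ℂ) :=
    sameBlock_trans hMp (sameBlock_symm hξ) hψ₀B
  have hu2 := pTilde_unit_transfer hM χ ξ ψ₀ hξψ₀ hu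
  obtain ⟨t, ht⟩ := pTilde_int p χ ψ₀
  have hnd := (pTilde_unit_iff hM χ ψ₀ t ht).1 hu2
  have hdvd := pTilde_dvd_left p χ ψ₀ t ht
  have hle : (charDegree (χ : G → ℂ)).factorization p ≤ s := by
    by_contra hlt
    push Not at hlt
    apply hnd
    refine dvd_trans ?_ hdvd
    have h1 : (charDegree (ψ₀ : G → ℂ)).factorization p + 1 ≤
        (charDegree (χ : G → ℂ)).factorization p := by
      have : (charDegree (ψ₀ : G → ℂ)).factorization p = s := hψ₀
      omega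
    have : p ^ ((charDegree (ψ₀ : G → ℂ)).factorization p + 1) ∣
        p ^ (charDegree (χ : G → ℂ)).factorization p := pow_dvd_pow p h1
    exact_mod_cast this
  have : blockHeight p B (χ : G → ℂ) = (charDegree (χ : G → ℂ)).factorization p - s := rfl
  omega

end Cfsg.Agent.Lib.Helper74
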