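import Cfsg.Agent.Lib.Helper74.HB1
import Cfsg.Agent.Lib.Helper74.PReg4
import Cfsg.Agent.Lib.Helper16.DefectVal

/-!
# The Brauer–Feit bound `k(B) ≤ p ^ (2 d) / 4 + 1` (helper74)
-/

set_option autoImplicit false

namespace Cfsg.Agent.Lib.Helper74

open Cfsg Cfsg.Agent.Lib.Helper81 Cfsg.Agent.Lib.Helper16
open scoped ComplexConjugate

universe u

variable {G : Type u} [Group G] [Fintype G]

/-- The integers `T ξ = [χ̃, ξ]` satisfy `∑ T ξ ^ 2 = p ^ a * T χ`. -/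
theorem pTilde_sum_sq [Fintype (IrrCharacter G)] (p : ℕ) [Fact p.Prime] (χ : IrrCharacter G) :
    ∃ T : IrrCharacter G → ℤ,
      (∀ ξ : IrrCharacter G, classInner (pTilde p (χ : G → ℂ)) (ξ : G → ℂ) = (T ξ : ℂ)) ∧
      ∑ ξ : IrrCharacter G, T ξ ^ 2 = (p : ℤ) ^ (Nat.card G).factorization p * T χ := by
  set a := (Nat.card G).factorization p with ha
  have hint : ∀ ξ : IrrCharacter G, ∃ t : ℤ,
      classInner (pTilde p (χ : G → ℂ)) (ξ : G → ℂ) = (t : ℂ) := fun ξ => pTilde_int p χ ξ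
  choose T hT using hint
  refine ⟨T, hT, ?_⟩
  set t := T χ with ht
  have hχcl : IsClassFunction G (χ : G → ℂ) := fun g h => Cfsg.Agent.Lib.Helper80.irr_class χ g h
  have hexp : ∀ x : G, pTilde p (χ : G → ℂ) x = ∑ ξ : IrrCharacter G, (T ξ : ℂ) * (ξ : G → ℂ) x := by
    intro x
    rw [Cfsg.Agent.Lib.Helper80.classFun_expansion _ (pTilde_isClassFunction p hχcl) x]
    apply Finset.sum_congr rfl
    intro ξ _
    rw [← hT ξ]
    rfl
  have hexpf : pTilde p (χ : G → ℂ) = ∑ ξ : IrrCharacter G, (T ξ : ℂ) • (ξ : G → ℂ) := by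
    funext x
    rw [hexp x, Finset.sum_apply]
    rfl
  have e1 : classInner (pTilde p (χ : G → ℂ)) (pTilde p (χ : G → ℂ)) =
      ((p ^ a : ℕ) : ℂ) * (t : ℂ) := by
    rw [classInner_pTilde_right, pTilde_pTilde, Cfsg.Agent.Lib.Helper25.classInner_smul_left, hT χ]
  have e2 : classInner (pTilde p (χ : G → ℂ)) (pTilde p (χ : G → ℂ)) =
      ∑ ξ : IrrCharacter G, ((T ξ : ℂ)) ^ 2 := by
    conv_lhs => rw [hexpf]
    rw [Cfsg.Agent.Lib.Helper25.classInner_sum_left]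
    apply Finset.sum_congr rfl
    intro ξ _
    rw [Cfsg.Agent.Lib.Helper25.classInner_smul_left, ← hexpf,
      ← Cfsg.Agent.Lib.Helper25.classInner_conj_symm, hT ξ]
    simp [sq]
  have e3 : ((∑ ξ : IrrCharacter G, T ξ ^ 2 : ℤ) : ℂ) = (((p : ℤ) ^ a * t : ℤ) : ℂ) := by
    push_cast
    rw [← e2, e1]
    push_cast
    rfl
  exact_mod_cast e3

open Classical in
/-- **Brauer–Feit**: `4 k(B) ≤ p ^ (2 d) + 4`. -/
theorem four_mul_card_block_le [Fintype (IrrCharacter G)] (p : ℕ) [Fact p.Prime]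
    (M : Ideal AlgInt) (hM : IsPModular p M) (χ₀ : IrrCharacter G) :
    4 * (Finset.univ.filter (fun ψ : IrrCharacter G => ψ ∈ blockOf M (χ₀ : G → ℂ))).card ≤
      p ^ (2 * blockDefect p (blockOf M (χ₀ : G → ℂ))) + 4 := by
  have hp : p.Prime := Fact.out
  have hMp : M.IsPrime := isPrime_of_isPModular hM
  set B := blockOf M (χ₀ : G → ℂ) with hB
  set Bf := Finset.univ.filter (fun ψ : IrrCharacter G => ψ ∈ B) with hBf
  set a := (Nat.card G).factorization p with ha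
  set m := minDegVal p B with hm
  have hχ₀B : χ₀ ∈ B := sameBlock_refl hMp _
  have hma : m ≤ a := minDegVal_le_card p ⟨χ₀, hχ₀B⟩
  obtain ⟨χ, hχB, hχm⟩ := exists_minDegVal p (B := B) ⟨χ₀, hχ₀B⟩
  have hht : blockHeight p B (χ : G → ℂ) = 0 := by
    rw [blockHeight_eq, hχm]
    exact Nat.sub_self _
  obtain ⟨T, hT, hsq⟩ := pTilde_sum_sq p χ
  obtain ⟨ht0, htle, -⟩ := pTilde_self_bounds p χ (T χ) (hT χ)
  rw [← ha] at htle hsq
  have hdvd : ∀ ψ : IrrCharacter G, ((p ^ m : ℕ) : ℤ) ∣ T ψ := by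
    intro ψ
    have := pTilde_dvd_left p χ ψ (T ψ) (hT ψ)
    rwa [hχm] at this
  have hne : ∀ ψ ∈ Bf, T ψ ≠ 0 := by
    intro ψ hψ h0
    have hψB : ψ ∈ B := (Finset.mem_filter.mp hψ).2
    apply pTilde_unit_of_height_zero hM χ₀ χ hχB hht ψ hψB
    rw [hT ψ, h0, Int.cast_zero, zero_div]
    exact memLocalIdeal_zero hMp
  have hpm : (0 : ℤ) < ((p ^ m : ℕ) : ℤ) := by exact_mod_cast pow_pos hp.pos m
  have hsqge : ∀ ψ ∈ Bf, ((p ^ m : ℕ) : ℤ) ^ 2 ≤ T ψ ^ 2 := by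
    intro ψ hψ
    obtain ⟨c, hc⟩ := hdvd ψ
    have hc0 : c ≠ 0 := by
      intro h
      apply hne ψ hψ
      rw [hc, h, mul_zero]
    have hc1 : 1 ≤ c ^ 2 := by
      have : 0 < c ^ 2 := by positivity
      omega
    rw [hc, mul_pow]
    nlinarith [sq_nonneg ((p ^ m : ℕ) : ℤ)]
  have hχBf : χ ∈ Bf := Finset.mem_filter.mpr ⟨Finset.mem_univ _, hχB⟩
  -- the sum over the block
  have h1 : T χ ^ 2 + ((Bf.card : ℤ) - 1) * ((p ^ m : ℕ) : ℤ) ^ 2 ≤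
      (p : ℤ) ^ a * T χ := by
    rw [← hsq]
    calc T χ ^ 2 + ((Bf.card : ℤ) - 1) * ((p ^ m : ℕ) : ℤ) ^ 2
        = T χ ^ 2 + ∑ _ψ ∈ Bf.erase χ, ((p ^ m : ℕ) : ℤ) ^ 2 := by
          rw [Finset.sum_const, Finset.card_erase_of_mem hχBf, nsmul_eq_mul,
            Nat.cast_sub (Finset.card_pos.mpr ⟨χ, hχBf⟩)]
          push_cast
          ring
      _ ≤ T χ ^ 2 + ∑ ψ ∈ Bf.erase χ, T ψ ^ 2 := by
          apply add_le_add_right
          apply Finset.sum_le_sum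
          intro ψ hψ
          exact hsqge ψ (Finset.mem_of_mem_erase hψ)
      _ = ∑ ψ ∈ Bf, T ψ ^ 2 := Finset.add_sum_erase Bf (fun ψ => T ψ ^ 2) hχBf
      _ ≤ ∑ ξ : IrrCharacter G, T ξ ^ 2 :=
          Finset.sum_le_sum_of_subset_of_nonneg (Finset.subset_univ _) (fun ξ _ _ => sq_nonneg _)
  -- arithmetic
  obtain ⟨x, hx⟩ := hdvd χ
  have hd : blockDefect p B = a - m := blockDefect_eq p B
  set d := a - m with hdd
  have hpa : (p : ℤ) ^ a = ((p ^ m : ℕ) : ℤ) * (p : ℤ) ^ d := by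
    push_cast
    rw [← pow_add]
    congr 1
    omega
  rw [hx, hpa] at h1
  have h2 : ((p ^ m : ℕ) : ℤ) ^ 2 * (x ^ 2 + ((Bf.card : ℤ) - 1)) ≤
      ((p ^ m : ℕ) : ℤ) ^ 2 * ((p : ℤ) ^ d * x) := by
    nlinarith [h1]
  have h3 : x ^ 2 + ((Bf.card : ℤ) - 1) ≤ (p : ℤ) ^ d * x :=
    le_of_mul_le_mul_left h2 (by positivity)
  have h4 : 4 * (Bf.card : ℤ) ≤ ((p : ℤ) ^ d) ^ 2 + 4 := by
    nlinarith [sq_nonneg ((p : ℤ) ^ d - 2 * x)]
  rw [hd]
  have h5 : ((4 * Bf.card : ℕ) : ℤ) ≤ ((p ^ (2 * d) + 4 : ℕ) : ℤ) := by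
    push_cast
    rw [mul_comm 2 d, pow_mul]
    exact h4
  exact_mod_cast h5

end Cfsg.Agent.Lib.Helper74
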