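import Cfsg.Agent.Lib.Helper74.UniA4core
import Cfsg.Agent.Lib.Helper19.UniA2
import Cfsg.Agent.Lib.Helper19.UniA3

/-! # S2314 hive, leaf UNI-A4 (helper74): `stChar_pElt`, exact skeleton statement -/

set_option autoImplicit false

namespace Cfsg.Agent.Lib.Helper6.Uni

open Cfsg Cfsg.Agent.Lib.Helper6 Cfsg.Agent.Lib.Helper6.St

universe u

section A
variable {L : Type u} [Group L] [Fintype L]

/-- UNI-A4 (the core). `St` has degree `|U| / |V|`, and vanishes on the `p`-elements outside `V`. -/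
theorem stChar_pElt (Q : Cfsg.BNPair L) (T : Finset L) (hT : (↑T : Set L) = Q.S) (p : ℕ) [Fact p.Prime]
    (U V : Subgroup L) [V.Normal]
    (hUB : U ≤ Q.B) (hUp : IsPGroup p U) (hUn : Q.B ≤ Subgroup.normalizer (U : Set L)) (hUH : U ⊔ (Q.B ⊓ Q.N) = Q.B)
    (hUs : ¬ p ∣ U.index) (hVU : V ≤ U) (n1 : L) (hn1 : n1 ∈ Q.N)
    (hbig : Nat.card U * Nat.card Q.B ≤ Nat.card V * Nat.card (C Q n1)) :
    stChar Q T 1 * (Nat.card V : ℂ) = (Nat.card U : ℂ) ∧
      ∀ g : L, IsPElt p g → g ∉ V → stChar Q T g = 0 := by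
  exact a4_core Q T hT p U V hUp hUs hVU n1 hn1 hbig
    (fun n hn => card_C_ppow Q p U hUB hUp hUn hUH n hn)
    (fun g v hv => stChar_mul_mem Q T V (hVU.trans hUB) g v hv)

end A

end Cfsg.Agent.Lib.Helper6.Uni
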