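import Cfsg.Agent.Lib.Helper74.FS4

set_option autoImplicit false

namespace Cfsg.Agent.Lib.Helper74

open Matrix
open scoped ComplexConjugate

section
variable {G : Type*} [Group G] [Fintype G]

/-- Frobenius–Schur trichotomy for an irreducible representation on a coordinate space. -/
theorem fs_trichotomy_fin {n : ℕ} (ρ : Representation ℂ G (Fin n → ℂ)) (hirr : ρ.IsIrreducible) :
    (fsInd ρ = 0 ∨ fsInd ρ = 1 ∨ fsInd ρ = -1) ∧
      (fsInd ρ = 0 ↔ ∃ s : G, (ρ.character s).im ≠ 0) := by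
  by_cases h : ∃ s : G, (ρ.character s).im ≠ 0
  · have h0 := fsInd_eq_zero_of_not_real ρ hirr h
    exact ⟨Or.inl h0, ⟨fun _ => h, fun _ => h0⟩⟩
  · have hreal : ∀ g : G, (ρ.character g).im = 0 := by
      intro g
      by_contra hg
      exact h ⟨g, hg⟩
    have h1 := fsInd_eq_one_or_neg_one ρ hirr hreal
    refine ⟨Or.inr h1, ⟨fun h0 => ?_, fun h' => absurd h' h⟩⟩
    exfalso
    rcases h1 with h1 | h1 <;> rw [h0] at h1 <;> norm_num at h1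

/-- Frobenius–Schur trichotomy for an irreducible character. -/
theorem fs_trichotomy {χ : G → ℂ} (hχ : Cfsg.IsIrrCharacter G χ) :
    ((Nat.card G : ℂ)⁻¹ * ∑ s : G, χ (s * s) = 0 ∨ (Nat.card G : ℂ)⁻¹ * ∑ s : G, χ (s * s) = 1 ∨
      (Nat.card G : ℂ)⁻¹ * ∑ s : G, χ (s * s) = -1) ∧
      ((Nat.card G : ℂ)⁻¹ * ∑ s : G, χ (s * s) = 0 ↔ ∃ s : G, (χ s).im ≠ 0) := by
  obtain ⟨n, ρ, hirr, rfl⟩ := hχ
  exact fs_trichotomy_fin ρ hirr

theorem fs_of_real {χ : G → ℂ} (hχ : Cfsg.IsIrrCharacter G χ) (hreal : ∀ g : G, (χ g).im = 0) :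
    (Nat.card G : ℂ)⁻¹ * ∑ s : G, χ (s * s) = 1 ∨ (Nat.card G : ℂ)⁻¹ * ∑ s : G, χ (s * s) = -1 := by
  obtain ⟨n, ρ, hirr, rfl⟩ := hχ
  exact fsInd_eq_one_or_neg_one ρ hirr hreal

theorem fs_of_not_real {χ : G → ℂ} (hχ : Cfsg.IsIrrCharacter G χ) (hnr : ∃ g : G, (χ g).im ≠ 0) :
    (Nat.card G : ℂ)⁻¹ * ∑ s : G, χ (s * s) = 0 := by
  obtain ⟨n, ρ, hirr, rfl⟩ := hχ
  exact fsInd_eq_zero_of_not_real ρ hirr hnr

end

end Cfsg.Agent.Lib.Helper74
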