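import Cfsg.Agent.Lib.Helper37.D4O8Defs

/-! # Do hive (helper37, S1082), sub-hive Do-RED (helper13/helper39), leaf DO-RED-S2B `red_s2b`. -/

set_option autoImplicit false
set_option linter.unusedSectionVars false
set_option linter.unusedVariables false

namespace Cfsg.Agent.Lib.Helper37.D4O8

open Matrix Module QuadraticMap
open Cfsg.Agent.Lib.Helper8 Cfsg.Agent.Lib.Helper13 Cfsg.Agent.Lib.Helper37

variable {F : Type*} [Field F]

/-- a singular vector with `ca1 = cb1 = 0`, `cb2 ≠ 0` is moved to `cb2 • f₂`. -/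
theorem s2b_kill (w : I8 → F) (hQ : Q8 F w = 0) (ha1 : ca1 w = 0) (hb1 : cb1 w = 0) (hb : cb2 w ≠ 0) :
    act (Q8 F) (X 15 (-(ca4 w) / cb2 w) * X 17 (-(ca3 w) / cb2 w) * X 16 (-(cb4 w) / cb2 w) *
        X 14 (cb3 w / cb2 w)) w = mk8 0 0 0 0 0 (cb2 w) 0 0 := by
  rw [Q8_apply, ha1, hb1] at hQ
  simp only [act_mul, act_X14, act_X16, act_X17, act_X15, ca1_mk8, ca2_mk8, ca3_mk8, ca4_mk8,
    cb1_mk8, cb2_mk8, cb3_mk8, cb4_mk8]
  apply ext8
  · simp only [ca1_mk8]; exact ha1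
  · simp only [ca2_mk8]; field_simp; linear_combination hQ
  · simp only [ca3_mk8]; field_simp; ring
  · simp only [ca4_mk8]; field_simp; ring
  · simp only [cb1_mk8]; exact hb1
  · simp only [cb2_mk8]
  · simp only [cb3_mk8]; field_simp; ring
  · simp only [cb4_mk8]; field_simp; ring

/-- the product fixes `e₁`. -/
theorem s2b_fix_e1 (a b c d : F) :
    act (Q8 F) (X 15 a * X 17 b * X 16 c * X 14 d) ve1 = ve1 := by
  simp only [act_mul, act_X14, act_X16, act_X17, act_X15, ca1_mk8, ca2_mk8, ca3_mk8, ca4_mk8,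
    cb1_mk8, cb2_mk8, cb3_mk8, cb4_mk8, ve1]
  apply ext8 <;> simp

/-- the product fixes `f₁`. -/
theorem s2b_fix_f1 (a b c d : F) :
    act (Q8 F) (X 15 a * X 17 b * X 16 c * X 14 d) vf1 = vf1 := by
  simp only [act_mul, act_X14, act_X16, act_X17, act_X15, ca1_mk8, ca2_mk8, ca3_mk8, ca4_mk8,
    cb1_mk8, cb2_mk8, cb3_mk8, cb4_mk8, vf1]
  apply ext8 <;> simp

/-- the product fixes `e₂`. -/
theorem s2b_fix_e2 (a b c d : F) :
    act (Q8 F) (X 15 a * X 17 b * X 16 c * X 14 d) ve2 = ve2 := by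
  simp only [act_mul, act_X14, act_X16, act_X17, act_X15, ca1_mk8, ca2_mk8, ca3_mk8, ca4_mk8,
    cb1_mk8, cb2_mk8, cb3_mk8, cb4_mk8, ve2]
  apply ext8 <;> simp

/-- DO-RED-S2B. -/
theorem red_s2b (g : OG F) (c1 c2 : F) (hc1 : c1 ≠ 0) (hc2 : c2 ≠ 0)
    (h1 : act (Q8 F) g ve1 = c1 • ve1) (h1' : act (Q8 F) g vf1 = c1⁻¹ • vf1)
    (h2 : act (Q8 F) g ve2 = c2 • ve2) :
    ∃ h ∈ EE F, act (Q8 F) (h * g) ve1 = c1 • ve1 ∧ act (Q8 F) (h * g) vf1 = c1⁻¹ • vf1 ∧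
      act (Q8 F) (h * g) ve2 = c2 • ve2 ∧ act (Q8 F) (h * g) vf2 = c2⁻¹ • vf2 := by
  have hQ : Q8 F (act (Q8 F) g vf2) = 0 := by
    rw [Q_act, Q8_apply]; simp [vf2]
  have ha1 : ca1 (act (Q8 F) g vf2) = 0 := by
    have hp := polar_act (Q8 F) g vf1 vf2
    rw [h1', polar_Q8, polar_Q8] at hp
    have hp' : c1⁻¹ * ca1 (act (Q8 F) g vf2) = 0 := by simpa [vf1, vf2] using hp
    rcases mul_eq_zero.1 hp' with h | h
    · exact absurd h (inv_ne_zero hc1)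
    · exact h
  have hb1 : cb1 (act (Q8 F) g vf2) = 0 := by
    have hp := polar_act (Q8 F) g ve1 vf2
    rw [h1, polar_Q8, polar_Q8] at hp
    have hp' : c1 * cb1 (act (Q8 F) g vf2) = 0 := by simpa [ve1, vf2] using hp
    rcases mul_eq_zero.1 hp' with h | h
    · exact absurd h hc1
    · exact h
  have hb2 : c2 * cb2 (act (Q8 F) g vf2) = 1 := by
    have hp := polar_act (Q8 F) g ve2 vf2
    rw [h2, polar_Q8, polar_Q8] at hp
    simpa [ve2, vf2] using hp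
  have hb : cb2 (act (Q8 F) g vf2) ≠ 0 := by
    intro h
    rw [h, mul_zero] at hb2
    exact zero_ne_one hb2
  have hbv : cb2 (act (Q8 F) g vf2) = c2⁻¹ := eq_inv_of_mul_eq_one_right hb2
  refine ⟨X 15 (-(ca4 (act (Q8 F) g vf2)) / cb2 (act (Q8 F) g vf2)) *
      X 17 (-(ca3 (act (Q8 F) g vf2)) / cb2 (act (Q8 F) g vf2)) *
      X 16 (-(cb4 (act (Q8 F) g vf2)) / cb2 (act (Q8 F) g vf2)) *
      X 14 (cb3 (act (Q8 F) g vf2) / cb2 (act (Q8 F) g vf2)), ?_, ?_, ?_, ?_, ?_⟩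
  · exact mul_mem (mul_mem (mul_mem (X_mem_EE _ _) (X_mem_EE _ _)) (X_mem_EE _ _)) (X_mem_EE _ _)
  · rw [act_mul, h1, act_smul, s2b_fix_e1]
  · rw [act_mul, h1', act_smul, s2b_fix_f1]
  · rw [act_mul, h2, act_smul, s2b_fix_e2]
  · rw [act_mul, s2b_kill _ hQ ha1 hb1 hb, hbv]
    apply ext8 <;> simp [vf2]

end Cfsg.Agent.Lib.Helper37.D4O8
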