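import Cfsg.Agent.Lib.Helper14.WeDefs

/-! We hive (helper14, S2347): leaf WE-BASIS (`Rop_linearIndependent`, `Rop_span`). -/

set_option autoImplicit false

namespace Cfsg.Agent.Lib.Helper14.We

open Matrix Cfsg
open scoped ComplexConjugate

section Concrete

variable {F : Type*} [Field F] {n : ℕ}

/-- orthogonality: `∑_x ψ(β·x) = 0` for `β ≠ 0`. -/
theorem basis_sum_char [Fintype F] (ψ : AddChar F ℂ) (hψ : ψ ≠ 1) (β : Fin n → F) (hβ : β ≠ 0) :
    ∑ x : Fin n → F, ψ (β ⬝ᵥ x) = 0 := by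
  classical
  let f : (Fin n → F) →+ F :=
    { toFun := fun a => β ⬝ᵥ a
      map_zero' := by simp
      map_add' := fun a b => by simp [dotProduct_add] }
  have hne : ψ.compAddMonoidHom f ≠ 1 := by
    obtain ⟨c, hc⟩ := AddChar.ne_one_iff.1 hψ
    obtain ⟨i, hi⟩ : ∃ i, β i ≠ 0 := by
      by_contra hh
      push Not at hh
      exact hβ (funext hh)
    intro h1
    apply hc
    have h2 := DFunLike.congr_fun h1 (Pi.single i (c / β i))
    have h3 : f (Pi.single i (c / β i)) = c := by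
      show β ⬝ᵥ (Pi.single i (c / β i) : Fin n → F) = c
      rw [dotProduct_single]
      field_simp
    rw [AddChar.compAddMonoidHom_apply, h3] at h2
    simpa using h2
  exact AddChar.sum_eq_zero_of_ne_one hne

/-- WE-BASIS (a). -/
theorem Rop_linearIndependent [Fintype F] (ψ : AddChar F ℂ) (hψ : ψ ≠ 1) :
    LinearIndependent ℂ (fun v : VV F n => Rop ψ v) := by
  classical
  rw [Fintype.linearIndependent_iff]
  intro c hc v0
  -- evaluate at the indicator of `y`, at the point `x`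
  have H : ∀ x y : Fin n → F, ∑ v : VV F n,
      c v * (ψ ((v ∘ Sum.inr) ⬝ᵥ x + ((v ∘ Sum.inl) ⬝ᵥ (v ∘ Sum.inr)) / 2) *
        (if x + v ∘ Sum.inl = y then (1 : ℂ) else 0)) = 0 := by
    intro x y
    have h1 := congrFun (LinearMap.congr_fun hc (Pi.single y (1 : ℂ))) x
    rw [LinearMap.sum_apply, Finset.sum_apply] at h1
    simp only [LinearMap.smul_apply, Pi.smul_apply, smul_eq_mul, Rop_apply, LinearMap.zero_apply,
      Pi.zero_apply, Pi.single_apply] at h1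
    exact h1
  -- split `v = (a, b)`
  have H' : ∀ x y : Fin n → F, ∑ a : Fin n → F, ∑ b : Fin n → F,
      c (Sum.elim a b) * (ψ (b ⬝ᵥ x + (a ⬝ᵥ b) / 2) * (if x + a = y then (1 : ℂ) else 0)) = 0 := by
    intro x y
    refine Eq.trans ?_ (H x y)
    rw [← Fintype.sum_prod_type']
    refine (Fintype.sum_equiv (Equiv.sumArrowEquivProdArrow (Fin n) (Fin n) F) _ _ ?_).symm
    intro v
    have hv : Sum.elim (v ∘ Sum.inl) (v ∘ Sum.inr) = v := Sum.elim_comp_inl_inr v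
    show c v * (ψ ((v ∘ Sum.inr) ⬝ᵥ x + ((v ∘ Sum.inl) ⬝ᵥ (v ∘ Sum.inr)) / 2) *
        (if x + v ∘ Sum.inl = y then (1 : ℂ) else 0)) =
      c (Sum.elim (v ∘ Sum.inl) (v ∘ Sum.inr)) *
        (ψ ((v ∘ Sum.inr) ⬝ᵥ x + ((v ∘ Sum.inl) ⬝ᵥ (v ∘ Sum.inr)) / 2) *
        (if x + v ∘ Sum.inl = y then (1 : ℂ) else 0))
    rw [hv]
  set a0 : Fin n → F := v0 ∘ Sum.inl with ha0
  set b0 : Fin n → F := v0 ∘ Sum.inr with hb0
  have hv0 : Sum.elim a0 b0 = v0 := Sum.elim_comp_inl_inr v0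
  have H2 : ∀ x : Fin n → F, ∑ b : Fin n → F,
      c (Sum.elim a0 b) * ψ (b ⬝ᵥ x + (a0 ⬝ᵥ b) / 2) = 0 := by
    intro x
    have h1 := H' x (x + a0)
    rw [Finset.sum_eq_single a0] at h1
    · simpa using h1
    · intro a _ ha
      apply Finset.sum_eq_zero
      intro b _
      have : ¬ (x + a = x + a0) := fun hh => ha (add_left_cancel hh)
      simp [this]
    · intro hh; exact absurd (Finset.mem_univ _) hh
  have H3 : ∑ x : Fin n → F, ψ (-(b0 ⬝ᵥ x)) *
      ∑ b : Fin n → F, c (Sum.elim a0 b) * ψ (b ⬝ᵥ x + (a0 ⬝ᵥ b) / 2) = 0 := by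
    apply Finset.sum_eq_zero
    intro x _
    rw [H2 x, mul_zero]
  have H4 : ∑ x : Fin n → F, ψ (-(b0 ⬝ᵥ x)) *
      ∑ b : Fin n → F, c (Sum.elim a0 b) * ψ (b ⬝ᵥ x + (a0 ⬝ᵥ b) / 2) =
      ∑ b : Fin n → F, (c (Sum.elim a0 b) * ψ ((a0 ⬝ᵥ b) / 2)) *
        ∑ x : Fin n → F, ψ ((b - b0) ⬝ᵥ x) := by
    simp_rw [Finset.mul_sum]
    rw [Finset.sum_comm]
    apply Finset.sum_congr rfl
    intro b _
    apply Finset.sum_congr rfl
    intro x _
    have : ψ (-(b0 ⬝ᵥ x)) * ψ (b ⬝ᵥ x + (a0 ⬝ᵥ b) / 2) = ψ ((a0 ⬝ᵥ b) / 2) * ψ ((b - b0) ⬝ᵥ x) := by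
      rw [← AddChar.map_add_eq_mul, ← AddChar.map_add_eq_mul, sub_dotProduct]
      congr 1
      ring
    rw [mul_left_comm, this]
    ring
  rw [H4, Finset.sum_eq_single b0] at H3
  · have hcard : ∑ x : Fin n → F, ψ ((b0 - b0) ⬝ᵥ x) = (Fintype.card (Fin n → F) : ℂ) := by
      simp
    rw [hcard, hv0] at H3
    have h1 : ψ ((a0 ⬝ᵥ b0) / 2) ≠ 0 := by
      intro hh
      have h2 : ψ ((a0 ⬝ᵥ b0) / 2) * ψ (-((a0 ⬝ᵥ b0) / 2)) = 1 := by
        rw [← AddChar.map_add_eq_mul, add_neg_cancel, AddChar.map_zero_eq_one]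
      rw [hh, zero_mul] at h2
      exact zero_ne_one h2
    have h2 : (Fintype.card (Fin n → F) : ℂ) ≠ 0 := by
      have : 0 < Fintype.card (Fin n → F) := Fintype.card_pos
      exact_mod_cast this.ne'
    rcases mul_eq_zero.1 H3 with h3 | h3
    · rcases mul_eq_zero.1 h3 with h4 | h4
      · exact h4
      · exact absurd h4 h1
    · exact absurd h3 h2
  · intro b _ hb
    rw [basis_sum_char ψ hψ (b - b0) (sub_ne_zero.2 hb), mul_zero]
  · intro hh; exact absurd (Finset.mem_univ _) hh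

/-- WE-BASIS (b). -/
theorem Rop_span [Fintype F] (ψ : AddChar F ℂ)
    (hLI : LinearIndependent ℂ (fun v : VV F n => Rop ψ v)) :
    Submodule.span ℂ (Set.range (fun v : VV F n => Rop ψ v)) = ⊤ := by
  classical
  apply LinearIndependent.span_eq_top_of_card_eq_finrank' hLI
  rw [Module.finrank_linearMap, Module.finrank_fintype_fun_eq_card, Fintype.card_fun, Fintype.card_fun,
    Fintype.card_sum, Fintype.card_fin, pow_add]

end Concrete

end Cfsg.Agent.Lib.Helper14.We
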