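import Cfsg.Agent.Lib.Helper74.FS6

set_option autoImplicit false

namespace Cfsg.Agent.Lib.Helper74

open Matrix
open scoped ComplexConjugate

section
variable {G : Type*} [Group G] [Fintype G]

theorem even_of_fsInd_eq_neg_one {n : ℕ} (ρ : Representation ℂ G (Fin n → ℂ)) (hirr : ρ.IsIrreducible)
    (hreal : ∀ g : G, (ρ.character g).im = 0) (hneg : fsInd ρ = -1) : Even n := by
  obtain ⟨M₀, h0, hmem, _, hT, _⟩ := exists_form_of_real ρ hirr hreal
  have hdet := det_ne_zero_of_mem_invForms ρ hirr hmem h0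
  rw [hneg] at hT
  have h1 : M₀.det = (-1 : ℂ) ^ n * M₀.det := by
    have := congrArg Matrix.det hT
    rw [Matrix.det_transpose, Matrix.det_smul, Fintype.card_fin] at this
    exact this
  have h2 : (-1 : ℂ) ^ n = 1 := by
    have h3 : ((-1 : ℂ) ^ n - 1) * M₀.det = 0 := by
      rw [sub_mul, one_mul, ← h1, sub_self]
    rcases mul_eq_zero.mp h3 with h | h
    · exact sub_eq_zero.mp h
    · exact absurd h hdet
  by_contra hodd
  rw [Nat.not_even_iff_odd] at hodd
  rw [hodd.neg_one_pow] at h2
  norm_num at h2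

/-- real irreducible character of odd degree has indicator `1` -/
theorem fs_eq_one_of_real_of_odd {χ : G → ℂ} (hχ : Cfsg.IsIrrCharacter G χ)
    (hreal : ∀ g : G, (χ g).im = 0) {d : ℕ} (hd : χ 1 = d) (hodd : Odd d) :
    (Nat.card G : ℂ)⁻¹ * ∑ s : G, χ (s * s) = 1 := by
  obtain ⟨n, ρ, hirr, rfl⟩ := hχ
  rcases fsInd_eq_one_or_neg_one ρ hirr hreal with h | h
  · exact h
  · exfalso
    have heven := even_of_fsInd_eq_neg_one ρ hirr hreal h
    have hn : (n : ℂ) = d := by
      rw [← hd, Representation.char_one, Module.finrank_fin_fun]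
    have : n = d := by exact_mod_cast hn
    rw [this] at heven
    exact (Nat.not_even_iff_odd.mpr hodd) heven

end

end Cfsg.Agent.Lib.Helper74
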