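import Mathlib
import Cfsg.Prelude.Def_Solvable
import Cfsg.Agent.Lib.Helper22.Fitting
import Cfsg.Agent.Lib.Helper16.GagDefs

/-!
# S4840 hive, leaf GAG-GR2 (helper74): `O_q(G) ≠ 1 ↔ q = p` when the unique minimal normal subgroup
is a `p`-group.
-/

set_option autoImplicit false
set_option linter.unusedSectionVars false
set_option linter.unusedVariables false
set_option linter.style.haveILetI false

namespace Cfsg.Agent.Lib.Helper16.Gag

universe u v

section reduction

variable {G : Type u} [Group G] [Finite G]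

/-- GAG-GR2. `←`: `N ≤ pCore p G` (`le_sSup`). `→`: `N ≤ pCore q G` (hmin) is a `q`-group and a `p`-group, `N ≠ ⊥`. -/
theorem pCore_ne_bot_iff (p : ℕ) [Fact p.Prime] (N : Subgroup G) [N.Normal] (hN1 : N ≠ ⊥)
    (hmin : ∀ K : Subgroup G, K.Normal → K ≠ ⊥ → N ≤ K) (hNp : IsPGroup p N) (q : ℕ)
    (hq : q.Prime) : Cfsg.pCore q G ≠ ⊥ ↔ q = p := by
  have hp : p.Prime := Fact.out
  constructor
  · intro hne
    haveI : Fact q.Prime := ⟨hq⟩
    have hle : N ≤ Cfsg.pCore q G :=
      hmin _ (Cfsg.Agent.Lib.Helper22.pCore_normal' q G) hne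
    have hNq : IsPGroup q N :=
      (Cfsg.Agent.Lib.Helper22.pCore_isPGroup' q G).to_le hle
    -- a nontrivial element of N
    obtain ⟨x, hxN, hx1⟩ : ∃ x ∈ N, x ≠ 1 := by
      by_contra hcon
      push Not at hcon
      exact hN1 ((Subgroup.eq_bot_iff_forall N).mpr hcon)
    obtain ⟨a, ha⟩ := hNp ⟨x, hxN⟩
    obtain ⟨b, hb⟩ := hNq ⟨x, hxN⟩
    have ha' : x ^ p ^ a = 1 := by
      have := congrArg Subtype.val ha
      simpa using this
    have hb' : x ^ q ^ b = 1 := by
      have := congrArg Subtype.val hb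
      simpa using this
    by_contra hqp
    have hcop : Nat.Coprime (q ^ b) (p ^ a) :=
      Nat.Coprime.pow _ _ ((Nat.coprime_primes hq hp).mpr hqp)
    have h1 : orderOf x ∣ q ^ b := orderOf_dvd_of_pow_eq_one hb'
    have h2 : orderOf x ∣ p ^ a := orderOf_dvd_of_pow_eq_one ha'
    have h3 : orderOf x ∣ 1 := by
      have := Nat.dvd_gcd h1 h2
      rwa [hcop] at this
    exact hx1 (orderOf_eq_one_iff.mp (Nat.dvd_one.mp h3))
  · rintro rfl
    intro hbot
    have hle : N ≤ Cfsg.pCore q G :=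
      Cfsg.Agent.Lib.Helper22.le_pCore' (inferInstance : N.Normal) hNp
    rw [hbot] at hle
    exact hN1 (le_bot_iff.mp hle)

end reduction

end Cfsg.Agent.Lib.Helper16.Gag
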