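import Mathlib
import Cfsg.Agent.Lib.Helper12.ZFpf
import Cfsg.Agent.Lib.Helper16.GagDefs
import Cfsg.Agent.Lib.Helper55.GagL
import Cfsg.Agent.Lib.Helper55.GagH

/-!
# S4840 hive, leaf GAG-Q (helper74): a noncommutative nilpotent fpf group has a generalized
quaternion Sylow `2`-subgroup and commutative odd Sylows.
-/

set_option autoImplicit false
set_option linter.unusedSectionVars false
set_option linter.unusedVariables false
set_option linter.style.haveILetI false

open Cfsg.Agent.Lib.Helper12.ZF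

namespace Cfsg.Agent.Lib.Helper16.Gag

universe u v

/-- (copy of GAG-G, from H and L) all Sylows commutative in a nilpotent group => commutative. -/
theorem gagq_comm_of_sylow_comm {F : Type u} [Group F] [Finite F] [Group.IsNilpotent F]
    (h : ∀ (r : ℕ) [Fact r.Prime] (P : Sylow r F),
      ∀ a ∈ (P : Subgroup F), ∀ b ∈ (P : Subgroup F), a * b = b * a) :
    ∀ a b : F, a * b = b * a := by
  have htop : Subgroup.center F = ⊤ := by
    apply eq_top_of_sylow_le
    intro r _
    exact ⟨default, sylow_le_center_of_comm r default (h r default)⟩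
  intro a b
  have hb : b ∈ Subgroup.center F := by rw [htop]; exact Subgroup.mem_top b
  exact Subgroup.mem_center_iff.mp hb a

/-- a cyclic subgroup is commutative, elementwise. -/
theorem gagq_comm_of_cyclic {F : Type u} [Group F] (A : Subgroup F) (hA : IsCyclic A) :
    ∀ a ∈ A, ∀ b ∈ A, a * b = b * a := by
  intro a ha b hb
  obtain ⟨g, hg⟩ := hA.exists_generator
  obtain ⟨i, hi⟩ := Subgroup.mem_zpowers_iff.mp (hg ⟨a, ha⟩)
  obtain ⟨j, hj⟩ := Subgroup.mem_zpowers_iff.mp (hg ⟨b, hb⟩)
  have h1 : (⟨a, ha⟩ : A) * ⟨b, hb⟩ = ⟨b, hb⟩ * ⟨a, ha⟩ := by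
    rw [← hi, ← hj, ← zpow_add, ← zpow_add, add_comm]
  exact congrArg Subtype.val h1

/-- a Sylow `r`-subgroup isomorphic to a quaternion group `Q_{4·2^n}` forces `r = 2`. -/
theorem gagq_prime_eq_two {F : Type u} [Group F] [Finite F] (r : ℕ) [hr : Fact r.Prime]
    (R : Sylow r F) (n : ℕ) (e : (R : Subgroup F) ≃* QuaternionGroup (2 ^ n)) : r = 2 := by
  haveI : NeZero (2 ^ n) := ⟨by positivity⟩
  have hcard : Nat.card (R : Subgroup F) = 4 * 2 ^ n := by
    rw [Nat.card_congr e.toEquiv, Nat.card_eq_fintype_card, QuaternionGroup.card]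
  obtain ⟨k, hk⟩ := (IsPGroup.iff_card.mp R.isPGroup')
  rw [hcard] at hk
  have h2 : (4 : ℕ) * 2 ^ n = 2 ^ (n + 2) := by ring
  rw [h2] at hk
  have hk0 : k ≠ 0 := by
    rintro rfl
    rw [pow_zero] at hk
    have : 1 < 2 ^ (n + 2) := Nat.one_lt_two_pow (by omega)
    omega
  have hdvd : r ∣ 2 ^ (n + 2) := by
    rw [hk]
    exact dvd_pow_self r hk0
  have := (Nat.Prime.dvd_of_dvd_pow hr.out hdvd)
  exact (Nat.prime_dvd_prime_iff_eq hr.out Nat.prime_two).mp this

/-- GAG-Q. A noncommutative nilpotent fpf group has a generalized quaternion Sylow `2`-subgroup and commutative odd Sylows.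
Sketch: `IsFpf.sylow` for every Sylow: cyclic or `≃* QuaternionGroup (2^n)`; the latter has order `4·2^n`, forcing the prime to be `2`;
`QuaternionGroup 1` is cyclic (`QuaternionGroup.quaternionGroup_one_isCyclic`); if every Sylow `2` were commutative then `comm_of_sylow_comm` (GAG-G, below) gives a contradiction. -/
theorem exists_quat_sylow (F : Type u) [Group F] [Finite F] [Group.IsNilpotent F]
    (hfpf : IsFpf.{u, v} F) (hnc : ¬ ∀ a b : F, a * b = b * a) :
    ∃ (n : ℕ) (P : Sylow 2 F), 1 ≤ n ∧ Nonempty ((P : Subgroup F) ≃* QuaternionGroup (2 ^ n)) ∧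
      ∀ (r : ℕ) [Fact r.Prime], r ≠ 2 → ∀ R : Sylow r F,
        ∀ a ∈ (R : Subgroup F), ∀ b ∈ (R : Subgroup F), a * b = b * a := by
  -- odd Sylows are cyclic, hence commutative
  have hodd : ∀ (r : ℕ) [Fact r.Prime], r ≠ 2 → ∀ R : Sylow r F,
      ∀ a ∈ (R : Subgroup F), ∀ b ∈ (R : Subgroup F), a * b = b * a := by
    intro r _ hr2 R
    rcases hfpf.sylow r R with hc | ⟨n, ⟨e⟩⟩
    · exact gagq_comm_of_cyclic (R : Subgroup F) hc
    · exact absurd (gagq_prime_eq_two r R n e) hr2
  by_contra hno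
  push Not at hno
  apply hnc
  apply gagq_comm_of_sylow_comm
  intro r _ P
  by_cases hr2 : r = 2
  · subst hr2
    rcases hfpf.sylow 2 P with hc | ⟨n, ⟨e⟩⟩
    · exact gagq_comm_of_cyclic (P : Subgroup F) hc
    · rcases Nat.eq_zero_or_pos n with hn0 | hnpos
      · subst hn0
        have hcyc : IsCyclic (P : Subgroup F) := by
          haveI : IsCyclic (QuaternionGroup (2 ^ 0)) := by
            rw [pow_zero]
            exact QuaternionGroup.quaternionGroup_one_isCyclic
          exact isCyclic_of_surjective e.symm e.symm.surjective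
        exact gagq_comm_of_cyclic (P : Subgroup F) hcyc
      · exfalso
        obtain ⟨r', hr', hR⟩ := hno n P hnpos ⟨e⟩
        obtain ⟨hr'2, R, a, ha, b, hb, hab⟩ := hR
        exact hab (@hodd r' hr' hr'2 R a ha b hb)
  · exact hodd r hr2 P

end Cfsg.Agent.Lib.Helper16.Gag
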