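import Cfsg.Agent.Lib.Helper74.BR2
import Cfsg.Agent.S0914

set_option autoImplicit false

namespace Cfsg.Agent.Lib.Helper74

open Cfsg Cfsg.Agent.Lib.Helper81 Cfsg.Agent.Lib.Helper16
open scoped ComplexConjugate

universe u

section
variable {G : Type u} [Group G] [Fintype G]

omit [Fintype G] in
/-- the block rank as the `Set.finrank` of a range over the subtype -/
theorem blockRank_eq_finrank_range (p : ℕ) (B : Set (IrrCharacter G)) :
    blockRank p B = (Set.range (fun i : {ψ : IrrCharacter G // ψ ∈ B} =>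
      pRegularPart p (i.1 : G → ℂ))).finrank ℂ := by
  have hset : (fun χ : IrrCharacter G => pRegularPart p (χ : G → ℂ)) '' B =
      Set.range (fun i : {ψ : IrrCharacter G // ψ ∈ B} => pRegularPart p (i.1 : G → ℂ)) := by
    ext f
    constructor
    · rintro ⟨χ, hχ, rfl⟩
      exact ⟨⟨χ, hχ⟩, rfl⟩
    · rintro ⟨i, rfl⟩
      exact ⟨i.1, i.2, rfl⟩
  unfold blockRank Set.finrank
  rw [hset]

omit [Fintype G] in
theorem blockRank_le_card [Fintype (IrrCharacter G)] (p : ℕ) (B : Set (IrrCharacter G)) :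
    blockRank p B ≤ Nat.card B := by
  classical
  rw [blockRank_eq_finrank_range, Nat.card_eq_fintype_card]
  exact finrank_range_le_card _

omit [Fintype G] in
/-- if the degree of `χ` has full `p`-part then `p` does not divide `|G| / χ(1)` -/
theorem not_dvd_div_of_factorization_le [Finite G] (p : ℕ) [Fact p.Prime] (χ : IrrCharacter G)
    (h : (Nat.card G).factorization p ≤ (charDegree (χ : G → ℂ)).factorization p) :
    ¬ p ∣ Nat.card G / charDegree (χ : G → ℂ) := by
  have hp : p.Prime := Fact.out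
  obtain ⟨d, hd0, -, hdeg, ⟨k, hk⟩⟩ := irr_degree_spec χ
  rw [hdeg] at h ⊢
  have hk0 : k ≠ 0 := by
    intro h0; rw [h0, mul_zero] at hk; exact Nat.card_pos.ne' hk
  rw [hk, Nat.mul_div_cancel_left k hd0]
  rw [hk, Nat.factorization_mul hd0.ne' hk0, Finsupp.add_apply] at h
  have h0 : k.factorization p = 0 := by omega
  rcases (Nat.factorization_eq_zero_iff k p).mp h0 with h1 | h1 | h1
  · exact absurd hp h1
  · exact h1
  · exact absurd h1 hk0


theorem blockDefect_eq_zero_imp_singleton [Fintype (IrrCharacter G)] (p : ℕ) [Fact p.Prime]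
    (M : Ideal AlgInt) (hM : IsPModular p M) (χ₀ : IrrCharacter G)
    (h : blockDefect p (blockOf M (χ₀ : G → ℂ)) = 0) : blockOf M (χ₀ : G → ℂ) = {χ₀} := by
  unfold blockDefect at h
  have h1 := Nat.sub_eq_zero_iff_le.mp h
  have hmem : (charDegree (χ₀ : G → ℂ)).factorization p ∈
      (fun χ : IrrCharacter G => (charDegree (χ : G → ℂ)).factorization p) ''
        (blockOf M (χ₀ : G → ℂ)) :=
    ⟨χ₀, sameBlock_refl (isPrime_of_isPModular hM) _, rfl⟩
  have h2 := Nat.sInf_le hmem
  exact (Cfsg.Agent.S0914.result p M hM χ₀).mp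
    (not_dvd_div_of_factorization_le p χ₀ (le_trans h1 h2))

omit [Fintype G] in
theorem blockRank_singleton (p : ℕ) [Fact p.Prime] (χ₀ : IrrCharacter G) :
    blockRank p ({χ₀} : Set (IrrCharacter G)) = 1 := by
  classical
  unfold blockRank
  rw [Set.image_singleton]
  apply finrank_span_singleton
  intro h0
  have h1 := congrFun h0 1
  rw [pRegularPart_apply, orderOf_one, if_pos] at h1
  · exact Cfsg.Agent.Lib.Helper80.irr_one_ne_zero χ₀ h1
  · intro hd
    exact (Fact.out : p.Prime).one_lt.ne' (Nat.dvd_one.mp hd)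

open Classical in
theorem blockDefect_eq_zero_of_card_eq_rank [Fintype (IrrCharacter G)] (p : ℕ) [Fact p.Prime]
    (M : Ideal AlgInt) (hM : IsPModular p M) (χ₀ : IrrCharacter G)
    (h : Nat.card (blockOf M (χ₀ : G → ℂ)) = blockRank p (blockOf M (χ₀ : G → ℂ))) :
    blockDefect p (blockOf M (χ₀ : G → ℂ)) = 0 := by
  have hp : p.Prime := Fact.out
  set B := blockOf M (χ₀ : G → ℂ) with hB
  by_contra hne
  unfold blockDefect at hne
  set S := (fun χ : IrrCharacter G => (charDegree (χ : G → ℂ)).factorization p) '' B with hS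
  have hSne : S.Nonempty := ⟨_, χ₀, sameBlock_refl (isPrime_of_isPModular hM) _, rfl⟩
  have hlt : sInf S < (Nat.card G).factorization p := by
    by_contra hle
    exact hne (Nat.sub_eq_zero_iff_le.mpr (not_lt.mp hle))
  obtain ⟨χ, hχB, hχ⟩ := Nat.sInf_mem hSne
  simp only at hχ
  -- linear independence
  have hli : LinearIndependent ℂ (fun i : {ψ : IrrCharacter G // ψ ∈ B} =>
      pRegularPart p (i.1 : G → ℂ)) := by
    rw [linearIndependent_iff_card_eq_finrank_span, ← blockRank_eq_finrank_range, ← h,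
      Nat.card_eq_fintype_card]
  -- a `p`-singular element where `χ` does not vanish
  have hex : ∃ y : G, p ∣ orderOf y ∧ (χ : G → ℂ) y ≠ 0 := by
    by_contra hcon
    push Not at hcon
    obtain P : Sylow p G := default
    have hvanP : ∀ g ∈ (P : Subgroup G), g ≠ 1 → (χ : G → ℂ) g = 0 := by
      intro g hg hg1
      apply hcon
      obtain ⟨k, hk⟩ := (IsPGroup.iff_orderOf.mp P.isPGroup') ⟨g, hg⟩
      have hk' : orderOf g = p ^ k := by
        rw [← hk]
        exact (Subgroup.orderOf_mk g hg).symm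
      rw [hk']
      cases k with
      | zero =>
        rw [pow_zero, orderOf_eq_one_iff] at hk'
        exact absurd hk' hg1
      | succ k => exact dvd_pow_self p (Nat.succ_ne_zero k)
    obtain ⟨k, hk⟩ := card_dvd_of_vanishing
      (Cfsg.Agent.Lib.Helper3.IsIrrCharacter.isCharacter χ.2) (P : Subgroup G) hvanP
    obtain ⟨d, hd0, hd1, hdeg, -⟩ := irr_degree_spec χ
    rw [hd1] at hk
    have hk' : d = Nat.card P * k := by exact_mod_cast hk
    have hPc : Nat.card P = p ^ (Nat.card G).factorization p := P.card_eq_multiplicity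
    have hdvd : p ^ (Nat.card G).factorization p ∣ d := ⟨k, by rw [hk', hPc]⟩
    have := (hp.pow_dvd_iff_le_factorization hd0.ne').mp hdvd
    rw [hdeg] at hχ
    omega
  obtain ⟨y, hy, hχy⟩ := hex
  have hsum : ∑ i : {ψ : IrrCharacter G // ψ ∈ B},
      conj ((i.1 : G → ℂ) y) • pRegularPart p (i.1 : G → ℂ) = 0 := by
    funext x
    rw [Finset.sum_apply]
    simp only [Pi.smul_apply, smul_eq_mul, Pi.zero_apply, pRegularPart_apply]
    by_cases hx : p ∣ orderOf x
    · apply Finset.sum_eq_zero
      intro i _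
      rw [if_neg (not_not.mpr hx), mul_zero]
    · have h1 := weak_block_orthogonality_finset hM χ₀ hx hy
      rw [Finset.sum_subtype (p := fun ψ : IrrCharacter G => ψ ∈ B)
        (Finset.univ.filter (fun φ : IrrCharacter G => φ ∈ B)) (by intro x; simp)] at h1
      rw [← h1]
      apply Finset.sum_congr rfl
      intro i _
      rw [if_pos hx, mul_comm]
  have := Fintype.linearIndependent_iff.mp hli _ hsum ⟨χ, hχB⟩
  exact hχy ((map_eq_zero (starRingEnd ℂ)).mp this)

end

end Cfsg.Agent.Lib.Helper74
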