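import Cfsg.Agent.S0961
import Cfsg.Agent.Lib.Helper74.BR3
import Cfsg.Agent.Lib.Helper25.CharUtil
import Cfsg.Agent.Lib.Helper81.PDefect

/-!
# `p ^ d` times the `p`-regular part of a block character (helper74)

For `ψ, φ` in a block `B` of defect `d`, `p ^ d * [ψ°, φ]` is an integer, where `ψ°` is the
`p`-regular part of `ψ`.
-/

set_option autoImplicit false
open Cfsg

namespace Cfsg.Agent.Lib.Helper74

open Classical in
/-- A `finsum` over the members of a set as a filtered `Finset` sum. -/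
theorem finsum_mem_set_eq_sum_filter {ι : Type*} [Fintype ι] (B : Set ι) (f : ι → ℂ) :
    ∑ᶠ ψ ∈ B, f ψ = ∑ ψ ∈ Finset.univ.filter (fun ψ => ψ ∈ B), f ψ := by
  apply finsum_mem_eq_sum_of_inter_support_eq
  congr 1
  ext χ
  simp

open Classical in
/-- For `ψ, φ` in a block of defect `d`, `p ^ d` times the inner product of the `p`-regular part of `ψ` with `φ` is an integer. -/
theorem pow_defect_mul_classInner_pRegularPart_int {G : Type*} [Group G] [Fintype G] (p : ℕ) [Fact p.Prime]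
    (B : Set (Cfsg.IrrCharacter G)) (ψ φ : Cfsg.IrrCharacter G) (hψ : ψ ∈ B) :
    ∃ z : ℤ, (p ^ Cfsg.blockDefect p B : ℂ) *
      Cfsg.classInner (Cfsg.pRegularPart p (ψ : G → ℂ)) (φ : G → ℂ) = (z : ℂ) := by
  have hp : p.Prime := Fact.out
  set a := (Nat.card G).factorization p with ha
  set b := (Cfsg.charDegree (ψ : G → ℂ)).factorization p with hb
  set θ : G → ℂ := fun x : G => if p ∣ orderOf x then (0 : ℂ)
    else ((p ^ a : ℕ) : ℂ) * (ψ : G → ℂ) x with hθ
  have hθgen : Cfsg.IsGeneralizedCharacter G θ := Cfsg.Agent.S0961.result p ψ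
  have hφc : Cfsg.IsCharacter G φ.1 := Cfsg.Agent.Lib.Helper3.IsIrrCharacter.isCharacter φ.2
  have hφgen : Cfsg.IsGeneralizedCharacter G φ.1 :=
    ⟨φ.1, 0, hφc, Cfsg.Agent.Lib.Helper3.IsCharacter.zero, by simp⟩
  obtain ⟨m, hm⟩ := Cfsg.Agent.Lib.Helper25.classInner_genChar_int hθgen hφgen
  obtain ⟨z, hz⟩ := Cfsg.Agent.Lib.Helper81.pow_factorization_dvd_classInner p ψ.2 hφc m hm
  have hθreg : θ = ((p ^ a : ℕ) : ℂ) • Cfsg.pRegularPart p (ψ : G → ℂ) := by
    funext x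
    simp only [hθ, Pi.smul_apply, smul_eq_mul, Cfsg.Agent.Lib.Helper74.pRegularPart_apply]
    split_ifs <;> simp
  rw [hθreg, Cfsg.Agent.Lib.Helper25.classInner_smul_left] at hm
  -- `p ^ a * r = p ^ b * z`
  set r := Cfsg.classInner (Cfsg.pRegularPart p (ψ : G → ℂ)) (φ : G → ℂ) with hr
  -- `b ≤ a`
  obtain ⟨n, ρ, hρ, hρψ⟩ := ψ.2
  have hfr : Module.finrank ℂ (Fin n → ℂ) = n := Module.finrank_fin_fun ℂ
  have hdeg : Cfsg.charDegree ψ.1 = n := by
    rw [← hρψ]
    exact Cfsg.Agent.Lib.Helper79.charDegree_rep ρ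
  have hn_dvd : n ∣ Nat.card G := by
    have h1 := @Cfsg.Agent.Lib.Helper3.finrank_dvd_card G _ _ _ _ _ _ ρ hρ
    rwa [hfr] at h1
  have hba : b ≤ a := by
    have h1 : p ^ b ∣ Nat.card G := by
      rw [hb, hdeg]
      exact (Nat.ordProj_dvd n p).trans hn_dvd
    exact (hp.pow_dvd_iff_le_factorization Nat.card_pos.ne').1 h1
  -- `sInf ≤ b`
  set s := sInf ((fun χ : Cfsg.IrrCharacter G =>
    (Cfsg.charDegree (χ : G → ℂ)).factorization p) '' B) with hs
  have hsb : s ≤ b := Nat.sInf_le ⟨ψ, hψ, rfl⟩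
  have hd : Cfsg.blockDefect p B = a - s := rfl
  have hpC : (p : ℂ) ≠ 0 := by exact_mod_cast hp.ne_zero
  -- `p ^ (a - b) * r = z`
  have h2 : (p : ℂ) ^ (a - b) * r = (z : ℂ) := by
    have h3 : (p : ℂ) ^ b * ((p : ℂ) ^ (a - b) * r) = (p : ℂ) ^ b * (z : ℂ) := by
      rw [← mul_assoc, ← pow_add, Nat.add_sub_cancel' hba]
      have := hm
      rw [hz] at this
      push_cast at this
      exact this
    exact mul_left_cancel₀ (pow_ne_zero b hpC) h3
  refine ⟨(p : ℤ) ^ (b - s) * z, ?_⟩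
  rw [hd]
  have h4 : a - s = (b - s) + (a - b) := by omega
  rw [h4, pow_add, mul_assoc, h2]
  push_cast
  ring

end Cfsg.Agent.Lib.Helper74
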