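import Mathlib
import Cfsg.Agent.Lib.Helper20.SuBNDefs

/-!
# S2546 hive, leaf SuBN-TAU (helper74): the twist preserves `LL` and monomial matrices
-/

set_option autoImplicit false
set_option linter.unusedSectionVars false

namespace Cfsg.Agent.Lib.Helper20.SuBN

open Matrix Subgroup Cfsg.Agent.Lib.Helper20.PslF Cfsg.Agent.Lib.Helper20.SuF

variable {n : ℕ} {K : Type*} [Field K] [Fintype K] (F : SuF.Inv K)

/-- (aux) the distinguished entry of a monomial matrix is nonzero -/
theorem tau_entry_ne_zero {g : SLn n K} {π : Equiv.Perm (Fin n)} (h : IsMon g π) (j : Fin n) :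
    mt g (π j) j ≠ 0 := by
  intro h0
  have hcol : ∀ i, mt g i j = 0 := by
    intro i
    by_cases hi : i = π j
    · rw [hi, h0]
    · exact h i j hi
  have hdet : (mt g).det = 0 := Matrix.det_eq_zero_of_column_eq_zero j hcol
  have : (mt g).det = 1 := g.2
  rw [this] at hdet
  exact one_ne_zero hdet

/-- (aux) uniqueness of the permutation of a monomial matrix -/
theorem tau_isMon_unique {g : SLn n K} {π ρ : Equiv.Perm (Fin n)} (h : IsMon g π) (h' : IsMon g ρ) :
    π = ρ := by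
  ext j
  by_contra hne
  have : (π j : Fin n) ≠ ρ j := fun e => hne (congrArg Fin.val e)
  exact tau_entry_ne_zero h j (h' (π j) j this)

/-- (aux) the inverse of a monomial matrix -/
theorem tau_isMon_inv {g : SLn n K} {π : Equiv.Perm (Fin n)} (h : IsMon g π) : IsMon g⁻¹ π⁻¹ := by
  have hg : g ∈ (Mon : Subgroup (SLn n K)) := ⟨π, h⟩
  obtain ⟨ρ, hρ⟩ := (mem_Mon g⁻¹).mp (inv_mem hg)
  have h1 : IsMon (g * g⁻¹) (π * ρ) := h.mul hρ
  rw [mul_inv_cancel] at h1
  have h2 : π * ρ = 1 := tau_isMon_unique h1 isMon_one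
  have : ρ = π⁻¹ := eq_inv_of_mul_eq_one_right h2
  rw [← this]
  exact hρ

/-- SuBN-TAU (1/2) (`mt (adjG F g) = adj F (mt g)`, `adj_apply`) -/
theorem tau_mem_LL {g : SLn n K} (hg : g ∈ (LL : Subgroup (SLn n K))) :
    tau F g ∈ (LL : Subgroup (SLn n K)) := by
  unfold tau
  apply inv_mem
  rw [mem_LL] at hg ⊢
  refine ⟨fun x y hxy => ?_, fun x => ?_⟩
  · rw [mt_adjG, adj_apply, hg.1 (Fin.rev y) (Fin.rev x) (Fin.rev_lt_rev.mpr hxy), map_zero]
  · rw [mt_adjG, adj_apply, hg.2, map_one]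

/-- SuBN-TAU (2/2): (`adjG F g` is monomial for `rev π⁻¹ rev`, then `isMon_inv`) -/
theorem tau_isMon {g : SLn n K} {π : Equiv.Perm (Fin n)} (h : IsMon g π) :
    IsMon (tau F g) (Fin.revPerm * π * Fin.revPerm) := by
  have h1 : IsMon (adjG F g) (Fin.revPerm * π⁻¹ * Fin.revPerm) := by
    intro i j hij
    rw [mt_adjG, adj_apply]
    have : Fin.rev j ≠ π (Fin.rev i) := by
      intro e
      apply hij
      simp only [Equiv.Perm.coe_mul, Function.comp_apply, Fin.revPerm_apply]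
      rw [e]
      simp
    rw [h (Fin.rev j) (Fin.rev i) this, map_zero]
  have h2 := tau_isMon_inv h1
  have h3 : (Fin.revPerm * π⁻¹ * Fin.revPerm : Equiv.Perm (Fin n))⁻¹
      = Fin.revPerm * π * Fin.revPerm := by
    have hr : (Fin.revPerm : Equiv.Perm (Fin n))⁻¹ = Fin.revPerm := by
      ext x
      rw [Equiv.Perm.inv_def, Fin.revPerm_symm]
    rw [_root_.mul_inv_rev, _root_.mul_inv_rev, inv_inv, hr, mul_assoc]
  rw [h3] at h2
  exact h2

end Cfsg.Agent.Lib.Helper20.SuBN
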