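import Mathlib
import Cfsg.Agent.Lib.Helper20.SuBNDefs
import Cfsg.Agent.Lib.Helper38.FlagB

/-!
# S2546 hive, leaf SuBN-A2 (helper74): Bruhat decomposition of `SL_n` (existence), sharp form
`g = u₁ * m * u` with `u₁, u` upper unitriangular and `m` monomial.
-/

set_option autoImplicit false
set_option linter.unusedSectionVars false

namespace Cfsg.Agent.Lib.Helper20.SuBN

open Matrix Subgroup Cfsg.Agent.Lib.Helper20.PslF Cfsg.Agent.Lib.Helper20.SuF

variable {n : ℕ} {K : Type*} [Field K] [Fintype K]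

/-- (aux) diagonal entries of an invertible upper triangular matrix are nonzero -/
theorem a2_diag_ne_zero {L : GL (Fin n) K} (hL : L ∈ Cfsg.upperTriangularGL n K) (i : Fin n) :
    (L : Matrix (Fin n) (Fin n) K) i i ≠ 0 := by
  have hbt : (L : Matrix (Fin n) (Fin n) K).BlockTriangular id := hL
  have hdet : (L : Matrix (Fin n) (Fin n) K).det ≠ 0 := by
    rw [← Matrix.GeneralLinearGroup.val_det_apply]
    exact (Matrix.GeneralLinearGroup.det L).ne_zero
  rw [Matrix.det_of_upperTriangular hbt] at hdet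
  exact Finset.prod_ne_zero_iff.mp hdet i (Finset.mem_univ i)

/-- (aux) an upper triangular matrix with ones on the diagonal has determinant one -/
theorem a2_det_unitri {U : Matrix (Fin n) (Fin n) K} (h1 : ∀ x y : Fin n, y < x → U x y = 0)
    (h2 : ∀ x, U x x = 1) : U.det = 1 := by
  have hbt : U.BlockTriangular id := fun x y hxy => h1 x y hxy
  rw [Matrix.det_of_upperTriangular hbt]
  exact Finset.prod_eq_one (fun i _ => h2 i)

/-- SuBN-A2: Bruhat decomposition of `SL_n` (existence). E.g. from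
`Cfsg.Agent.Lib.Helper38.FlagB.bruhat (g : GL (Fin n) F) : ∃ L ∈ upperTriangularGL, ∃ R ∈ upperTriangularGL, ∃ σ,
g = L * W σ * R` (split `L = u₁ * diag`, `R = diag * u`), or directly by Gaussian elimination. -/
theorem sl_bruhat (g : SLn n K) :
    ∃ u₁ ∈ (UU : Subgroup (SLn n K)), ∃ m ∈ (Mon : Subgroup (SLn n K)),
      ∃ u ∈ (UU : Subgroup (SLn n K)), g = u₁ * m * u := by
  classical
  have hgdet : (mt g).det = 1 := g.2
  let gG : GL (Fin n) K := Matrix.GeneralLinearGroup.mkOfDetNeZero (mt g)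
    (by rw [hgdet]; exact one_ne_zero)
  have hgG : (gG : Matrix (Fin n) (Fin n) K) = mt g := rfl
  obtain ⟨L, hL, R, hR, σ, hg⟩ := Cfsg.Agent.Lib.Helper38.Flag.bruhat gG
  have hLbt : (L : Matrix (Fin n) (Fin n) K).BlockTriangular id := hL
  have hRbt : (R : Matrix (Fin n) (Fin n) K).BlockTriangular id := hR
  set Lm : Matrix (Fin n) (Fin n) K := (L : Matrix (Fin n) (Fin n) K) with hLm
  set Rm : Matrix (Fin n) (Fin n) K := (R : Matrix (Fin n) (Fin n) K) with hRm
  have hgm : mt g = Lm * Cfsg.Agent.Lib.Helper38.Flag.Wm σ * Rm := by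
    have := congrArg (fun x : GL (Fin n) K => (x : Matrix (Fin n) (Fin n) K)) hg
    simp only [Units.val_mul] at this
    rw [hgG, Cfsg.Agent.Lib.Helper38.Flag.W_val] at this
    exact this
  set a : Fin n → K := fun i => Lm i i with ha
  set b : Fin n → K := fun i => Rm i i with hb
  have ha0 : ∀ i, a i ≠ 0 := fun i => a2_diag_ne_zero hL i
  have hb0 : ∀ i, b i ≠ 0 := fun i => a2_diag_ne_zero hR i
  set U1 : Matrix (Fin n) (Fin n) K := Lm * Matrix.diagonal (fun i => (a i)⁻¹) with hU1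
  set U2 : Matrix (Fin n) (Fin n) K := Matrix.diagonal (fun i => (b i)⁻¹) * Rm with hU2
  set M : Matrix (Fin n) (Fin n) K :=
    Matrix.diagonal a * Cfsg.Agent.Lib.Helper38.Flag.Wm σ * Matrix.diagonal b with hM
  have e1 : Matrix.diagonal (fun i => (a i)⁻¹) * Matrix.diagonal a = 1 := by
    rw [Matrix.diagonal_mul_diagonal]
    have : (fun i => (a i)⁻¹ * a i) = fun _ => (1 : K) := funext fun i => inv_mul_cancel₀ (ha0 i)
    rw [this, Matrix.diagonal_one]
  have e2 : Matrix.diagonal b * Matrix.diagonal (fun i => (b i)⁻¹) = 1 := by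
    rw [Matrix.diagonal_mul_diagonal]
    have : (fun i => b i * (b i)⁻¹) = fun _ => (1 : K) := funext fun i => mul_inv_cancel₀ (hb0 i)
    rw [this, Matrix.diagonal_one]
  have hprod : mt g = U1 * M * U2 := by
    rw [hgm, hU1, hU2, hM]
    simp only [Matrix.mul_assoc]
    rw [← Matrix.mul_assoc (Matrix.diagonal b) (Matrix.diagonal fun i => (b i)⁻¹) Rm, e2,
      Matrix.one_mul,
      ← Matrix.mul_assoc (Matrix.diagonal fun i => (a i)⁻¹) (Matrix.diagonal a), e1,
      Matrix.one_mul]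
  -- entries
  have hU1e : ∀ x y, U1 x y = Lm x y * (a y)⁻¹ := fun x y => by
    rw [hU1, Matrix.mul_diagonal]
  have hU2e : ∀ x y, U2 x y = (b x)⁻¹ * Rm x y := fun x y => by
    rw [hU2, Matrix.diagonal_mul]
  have hU1a : ∀ x y : Fin n, y < x → U1 x y = 0 := fun x y hxy => by
    rw [hU1e, hLbt hxy, zero_mul]
  have hU1b : ∀ x, U1 x x = 1 := fun x => by
    rw [hU1e]; exact mul_inv_cancel₀ (ha0 x)
  have hU2a : ∀ x y : Fin n, y < x → U2 x y = 0 := fun x y hxy => by
    rw [hU2e, hRbt hxy, mul_zero]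
  have hU2b : ∀ x, U2 x x = 1 := fun x => by
    rw [hU2e]; exact inv_mul_cancel₀ (hb0 x)
  have hdU1 : U1.det = 1 := a2_det_unitri hU1a hU1b
  have hdU2 : U2.det = 1 := a2_det_unitri hU2a hU2b
  have hdM : M.det = 1 := by
    have := congrArg Matrix.det hprod
    rw [hgdet, Matrix.det_mul, Matrix.det_mul, hdU1, hdU2, one_mul, mul_one] at this
    exact this.symm
  have hMe : ∀ x y, x ≠ σ y → M x y = 0 := by
    intro x y hxy
    rw [hM, Matrix.mul_diagonal, Matrix.diagonal_mul, Cfsg.Agent.Lib.Helper38.Flag.Wm_apply,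
      if_neg hxy, mul_zero, zero_mul]
  refine ⟨mkSL U1 hdU1, ?_, mkSL M hdM, ?_, mkSL U2 hdU2, ?_, ?_⟩
  · rw [mem_UU]
    exact ⟨fun x y hxy => by rw [mt_mkSL]; exact hU1a x y hxy, fun x => by rw [mt_mkSL]; exact hU1b x⟩
  · rw [mem_Mon]
    exact ⟨σ, fun x y hxy => by rw [mt_mkSL]; exact hMe x y hxy⟩
  · rw [mem_UU]
    exact ⟨fun x y hxy => by rw [mt_mkSL]; exact hU2a x y hxy, fun x => by rw [mt_mkSL]; exact hU2b x⟩
  · apply mt_ext
    rw [mt_mul, mt_mul, mt_mkSL, mt_mkSL, mt_mkSL]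
    exact hprod

end Cfsg.Agent.Lib.Helper20.SuBN
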