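import Mathlib
import Cfsg.Agent.Lib.Helper20.SuBNDefs
import Cfsg.Agent.Lib.Helper13.SuBNR2
import Cfsg.Agent.Lib.Helper13.SuBNR3

/-!
# S2546 hive, leaf SuBN-X4 (helper74): the root subgroups are nontrivial
-/

set_option autoImplicit false
set_option linter.unusedSectionVars false
set_option linter.unusedSimpArgs false

namespace Cfsg.Agent.Lib.Helper20.SuBN

open Matrix Subgroup Cfsg.Agent.Lib.Helper20.PslF Cfsg.Agent.Lib.Helper20.SuF

variable {n : ℕ} {K : Type*} [Field K] [Fintype K] (F : SuF.Inv K)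

/-- entries of an Eichler transformation built from scaled basis vectors -/
theorem x4_entry (p q : Fin n) (c₁ c₂ c : K) (i j : Fin n) :
    Sm F (c₁ • (eb p : Fin n → K)) (c₂ • (eb q : Fin n → K)) c i j
      = (1 : Matrix (Fin n) (Fin n) K) i j
        + (if i = q ∧ j = Fin.rev p then c₂ * F.sg c₁ else 0)
        - (if i = p ∧ j = Fin.rev q then c₁ * F.sg c₂ else 0)
        + (if i = p ∧ j = Fin.rev p then c * (c₁ * F.sg c₁) else 0) := by
  have hrev : ∀ a : Fin n, (Fin.rev j = a) ↔ (j = Fin.rev a) := by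
    intro a
    constructor
    · intro h; rw [← h, Fin.rev_rev]
    · intro h; rw [h, Fin.rev_rev]
  rw [Sm_apply]
  simp only [Pi.smul_apply, eb_apply, smul_eq_mul, hrev, mul_ite, mul_one, mul_zero,
    apply_ite F.sg, map_zero]
  by_cases h2 : i = p
  · subst h2
    by_cases h1 : i = q
    · subst h1
      by_cases h3 : j = Fin.rev i
      · simp [h3]
      · simp [h3]
    · have h1' : ¬ q = i := fun e => h1 e.symm
      by_cases h3 : j = Fin.rev i
      · by_cases h4 : j = Fin.rev q
        · simp [h1, h1', h3, h4]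
        · simp [h1, h1', h3, h4]
      · by_cases h4 : j = Fin.rev q
        · simp [h1, h1', h3, h4]
        · simp [h1, h1', h3, h4]
  · have h2' : ¬ p = i := fun e => h2 e.symm
    by_cases h1 : i = q
    · subst h1
      by_cases h3 : j = Fin.rev p
      · by_cases h4 : j = Fin.rev i
        · simp [h2, h2', h3, h4]
        · simp [h2, h2', h3, h4]
      · by_cases h4 : j = Fin.rev i
        · simp [h2, h2', h3, h4]
        · simp [h2, h2', h3, h4]
    · simp [h1, h2, h2']

/-- the monomial matrix applied to a scaled basis vector -/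
theorem x4_monM_mulVec (π : Equiv.Perm (Fin n)) (d : Fin n → K) (c : K) (j : Fin n) :
    monM π d *ᵥ (c • (eb j : Fin n → K)) = (c * d j) • (eb (π j) : Fin n → K) := by
  ext k
  rw [Matrix.mulVec, dotProduct, Finset.sum_eq_single j]
  · rw [monM_apply, Pi.smul_apply, Pi.smul_apply, eb_apply, eb_apply, if_pos rfl, smul_eq_mul,
      smul_eq_mul]
    by_cases hk : k = π j
    · rw [if_pos hk, if_pos hk]; ring
    · rw [if_neg hk, if_neg hk]; ring
  · intro l _ hl
    rw [Pi.smul_apply, eb_apply, if_neg hl, smul_eq_mul, mul_zero, mul_zero]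
  · intro h; exact absurd (Finset.mem_univ j) h

theorem x4_hf_smul_eb (p q : Fin n) (c₁ c₂ : K) :
    hf F (c₁ • (eb p : Fin n → K)) (c₂ • (eb q : Fin n → K))
      = c₁ * (F.sg c₂ * (if p = Fin.rev q then 1 else 0)) := by
  rw [hf_smul_left, hf_smul_right, hf_eb_eb]

/-- general construction: membership in `Xr` of an Eichler element, given the conjugate's shape -/
theorem x4_general (i : Fin (n / 2)) (hdet : (monM (rr i) (sd F i)).det = 1)
    (hS : sr F i ∈ SUJ F) (p q : Fin n) (c₁ c₂ c : K)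
    (h1 : hf F (c₁ • (eb p : Fin n → K)) (c₁ • (eb p : Fin n → K)) = 0)
    (h2 : hf F (c₂ • (eb q : Fin n → K)) (c₁ • (eb p : Fin n → K)) = 0)
    (h4 : c + F.sg c + hf F (c₂ • (eb q : Fin n → K)) (c₂ • (eb q : Fin n → K)) = 0)
    (hup : ∀ x y : Fin n, y < x →
      Sm F (c₁ • (eb p : Fin n → K)) (c₂ • (eb q : Fin n → K)) c x y = 0)
    (hdiag : ∀ x : Fin n,
      Sm F (c₁ • (eb p : Fin n → K)) (c₂ • (eb q : Fin n → K)) c x x = 1)
    (hlow : ∀ x y : Fin n, x < y →
      Sm F ((c₁ * sd F i p) • (eb (rr i p) : Fin n → K))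
        ((c₂ * sd F i q) • (eb (rr i q) : Fin n → K)) c x y = 0)
    (hldiag : ∀ x : Fin n,
      Sm F ((c₁ * sd F i p) • (eb (rr i p) : Fin n → K))
        ((c₂ * sd F i q) • (eb (rr i q) : Fin n → K)) c x x = 1) :
    mkSL (Sm F (c₁ • (eb p : Fin n → K)) (c₂ • (eb q : Fin n → K)) c) (det_Sm F c h1 h2)
      ∈ Xr F i := by
  have hmt : mt (sr F i) = monM (rr i) (sd F i) := by
    unfold sr
    rw [dif_pos hdet]
    rfl
  rw [mem_Xr]
  refine ⟨?_, ?_, ?_⟩
  · rw [mem_UU]
    exact ⟨fun x y hxy => by rw [mt_mkSL]; exact hup x y hxy, fun x => by rw [mt_mkSL]; exact hdiag x⟩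
  · rw [mem_SUJ, mt_mkSL]
    exact Sm_unitary F h1 h2 h4
  · have hconj : mt (sr F i * mkSL (Sm F (c₁ • (eb p : Fin n → K)) (c₂ • (eb q : Fin n → K)) c)
          (det_Sm F c h1 h2) * (sr F i)⁻¹)
        = Sm F ((c₁ * sd F i p) • (eb (rr i p) : Fin n → K))
            ((c₂ * sd F i q) • (eb (rr i q) : Fin n → K)) c := by
      rw [mt_mul, mt_mul, mt_mkSL, mt_inv_of_mem F hS, Sm_conj F _ (mul_adj_of_mem F hS), hmt,
        x4_monM_mulVec, x4_monM_mulVec]
    rw [mem_LL]
    exact ⟨fun x y hxy => by rw [hconj]; exact hlow x y hxy, fun x => by rw [hconj]; exact hldiag x⟩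

/-- SuBN-X4 (core): the root subgroups are nontrivial -/
theorem x4_core (i : Fin (n / 2)) (hdet : (monM (rr i) (sd F i)).det = 1)
    (hS : sr F i ∈ SUJ F) : ∃ x ∈ Xr F i, x ≠ 1 := by
  have hi2 := i.2
  have han : (i : ℕ) < n := by omega
  have hva : ((fa i : Fin n) : ℕ) = i := rfl
  have hvra : ((Fin.rev (fa i) : Fin n) : ℕ) = n - (i + 1) := by rw [Fin.val_rev, hva]
  by_cases hi : (i : ℕ) + 1 < n / 2
  · -- short reflection
    have hfb : (fb i : Fin n) = ⟨(i : ℕ) + 1, by omega⟩ := by unfold fb; rw [dif_pos hi]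
    have hvb : ((fb i : Fin n) : ℕ) = i + 1 := by rw [hfb]
    have hvrb : ((Fin.rev (fb i) : Fin n) : ℕ) = n - (i + 1 + 1) := by rw [Fin.val_rev, hvb]
    have hrr : rr i = Equiv.swap (fa i) (fb i) * Equiv.swap (Fin.rev (fb i)) (Fin.rev (fa i)) := by
      unfold rr; rw [if_pos hi]
    have hsd : ∀ j, sd F i j = 1 := by intro j; unfold sd; rw [if_pos hi]
    set a : Fin n := fa i with ha
    set b : Fin n := fb i with hb
    have hab : a ≠ b := by intro e; have := congrArg Fin.val e; omega
    have harb : a ≠ Fin.rev b := by intro e; have := congrArg Fin.val e; omega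
    have hara : a ≠ Fin.rev a := by intro e; have := congrArg Fin.val e; omega
    have hbrb : b ≠ Fin.rev b := by intro e; have := congrArg Fin.val e; omega
    have hbra : b ≠ Fin.rev a := by intro e; have := congrArg Fin.val e; omega
    have hrarb : Fin.rev a ≠ Fin.rev b := by intro e; have := congrArg Fin.val e; omega
    have hπa : rr i a = b := by
      rw [hrr, Equiv.Perm.mul_apply, Equiv.swap_apply_of_ne_of_ne harb hara, Equiv.swap_apply_left]
    have hπrb : rr i (Fin.rev b) = Fin.rev a := by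
      rw [hrr, Equiv.Perm.mul_apply, Equiv.swap_apply_left,
        Equiv.swap_apply_of_ne_of_ne hara.symm hbra.symm]
    have h1 : hf F ((1 : K) • (eb (Fin.rev b) : Fin n → K)) ((1 : K) • (eb (Fin.rev b) : Fin n → K)) = 0 := by
      rw [x4_hf_smul_eb, Fin.rev_rev, if_neg hbrb.symm]; simp
    have h2 : hf F ((1 : K) • (eb a : Fin n → K)) ((1 : K) • (eb (Fin.rev b) : Fin n → K)) = 0 := by
      rw [x4_hf_smul_eb, Fin.rev_rev, if_neg hab]; simp
    have h4 : (0 : K) + F.sg 0 + hf F ((1 : K) • (eb a : Fin n → K)) ((1 : K) • (eb a : Fin n → K)) = 0 := by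
      rw [x4_hf_smul_eb, if_neg hara]; simp
    refine ⟨mkSL (Sm F ((1 : K) • (eb (Fin.rev b) : Fin n → K)) ((1 : K) • (eb a : Fin n → K)) 0)
      (det_Sm F 0 h1 h2), ?_, ?_⟩
    · apply x4_general F i hdet hS (Fin.rev b) a 1 1 0 h1 h2 h4
      · intro x y hxy
        rw [x4_entry, Matrix.one_apply_ne hxy.ne', Fin.rev_rev]
        have e1 : ¬ (x = a ∧ y = b) := by
          rintro ⟨rfl, rfl⟩
          have := Fin.lt_def.mp hxy; omega
        have e2 : ¬ (x = Fin.rev b ∧ y = Fin.rev a) := by
          rintro ⟨rfl, rfl⟩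
          have := Fin.lt_def.mp hxy; omega
        rw [if_neg e1, if_neg e2]; simp
      · intro x
        rw [x4_entry, Matrix.one_apply_eq, Fin.rev_rev]
        have e1 : ¬ (x = a ∧ x = b) := by
          rintro ⟨rfl, e⟩; exact hab e
        have e2 : ¬ (x = Fin.rev b ∧ x = Fin.rev a) := by
          rintro ⟨rfl, e⟩; exact hrarb e.symm
        rw [if_neg e1, if_neg e2]; simp
      · intro x y hxy
        rw [hπa, hπrb, x4_entry, Matrix.one_apply_ne hxy.ne, Fin.rev_rev]
        have e1 : ¬ (x = b ∧ y = a) := by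
          rintro ⟨rfl, rfl⟩
          have := Fin.lt_def.mp hxy; omega
        have e2 : ¬ (x = Fin.rev a ∧ y = Fin.rev b) := by
          rintro ⟨rfl, rfl⟩
          have := Fin.lt_def.mp hxy; omega
        rw [if_neg e1, if_neg e2]; simp
      · intro x
        rw [hπa, hπrb, x4_entry, Matrix.one_apply_eq, Fin.rev_rev]
        have e1 : ¬ (x = b ∧ x = a) := by
          rintro ⟨rfl, e⟩; exact hab e.symm
        have e2 : ¬ (x = Fin.rev a ∧ x = Fin.rev b) := by
          rintro ⟨rfl, e⟩; exact hrarb e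
        rw [if_neg e1, if_neg e2]; simp
    · intro e
      have := congrArg (fun g : SLn n K => mt g a b) e
      simp only [mt_mkSL, mt_one] at this
      rw [x4_entry, Matrix.one_apply_ne hab, Fin.rev_rev, if_pos ⟨rfl, rfl⟩] at this
      have e2 : ¬ (a = Fin.rev b ∧ b = Fin.rev a) := fun h => harb h.1
      have e3 : ¬ (a = Fin.rev b ∧ b = b) := fun h => harb h.1
      rw [if_neg e2, if_neg e3] at this
      simp at this
  · -- the last reflection
    have hrr : rr i = Equiv.swap (fa i) (Fin.rev (fa i)) := by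
      unfold rr; rw [if_neg hi]
    set a : Fin n := fa i with ha
    have hara : a ≠ Fin.rev a := by intro e; have := congrArg Fin.val e; omega
    have halt : a < Fin.rev a := by rw [Fin.lt_def]; omega
    have hsda : sd F i a = skw F := by unfold sd; rw [if_neg hi, if_pos rfl]
    have hπa : rr i a = Fin.rev a := by rw [hrr, Equiv.swap_apply_left]
    have h1 : hf F ((1 : K) • (eb a : Fin n → K)) ((1 : K) • (eb a : Fin n → K)) = 0 := by
      rw [x4_hf_smul_eb, if_neg hara]; simp
    have h2 : hf F ((0 : K) • (eb a : Fin n → K)) ((1 : K) • (eb a : Fin n → K)) = 0 := by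
      rw [x4_hf_smul_eb]; simp
    have h4 : skw F + F.sg (skw F) + hf F ((0 : K) • (eb a : Fin n → K)) ((0 : K) • (eb a : Fin n → K)) = 0 := by
      rw [x4_hf_smul_eb, skw_add]; simp
    refine ⟨mkSL (Sm F ((1 : K) • (eb a : Fin n → K)) ((0 : K) • (eb a : Fin n → K)) (skw F))
      (det_Sm F (skw F) h1 h2), ?_, ?_⟩
    · apply x4_general F i hdet hS a a 1 0 (skw F) h1 h2 h4
      · intro x y hxy
        rw [x4_entry, Matrix.one_apply_ne hxy.ne']
        have e1 : ¬ (x = a ∧ y = Fin.rev a) := by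
          rintro ⟨rfl, rfl⟩
          exact absurd hxy (not_lt.mpr halt.le)
        simp only [if_neg e1]; simp
      · intro x
        rw [x4_entry, Matrix.one_apply_eq]
        have e1 : ¬ (x = a ∧ x = Fin.rev a) := by
          rintro ⟨rfl, e⟩; exact hara e
        simp only [if_neg e1]; simp
      · intro x y hxy
        rw [hπa, x4_entry, Matrix.one_apply_ne hxy.ne, Fin.rev_rev]
        have e1 : ¬ (x = Fin.rev a ∧ y = a) := by
          rintro ⟨rfl, rfl⟩
          exact absurd hxy (not_lt.mpr halt.le)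
        simp only [if_neg e1]; simp
      · intro x
        rw [hπa, x4_entry, Matrix.one_apply_eq, Fin.rev_rev]
        have e1 : ¬ (x = Fin.rev a ∧ x = a) := by
          rintro ⟨rfl, e⟩; exact hara e.symm
        simp only [if_neg e1]; simp
    · intro e
      have := congrArg (fun g : SLn n K => mt g a (Fin.rev a)) e
      simp only [mt_mkSL, mt_one] at this
      rw [x4_entry, Matrix.one_apply_ne hara, if_pos ⟨rfl, rfl⟩] at this
      simp at this
      exact skw_ne F this

/-- SuBN-X4: the root subgroups are nontrivial: for a short reflection the element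
`1 + E_{a b} - E_{rev b, rev a}` (`a = fa i`, `b = fb i`), for the last one `1 + skw • E_{a, rev a}`. -/
theorem Xr_ne_bot (i : Fin (n / 2)) : ∃ x ∈ Xr F i, x ≠ 1 := by
  exact x4_core F i (det_srM F i) (sr_mem_SUJ F i)

end Cfsg.Agent.Lib.Helper20.SuBN
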