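import Cfsg.Agent.Lib.Helper21.Lq.Defs
import Cfsg.Agent.Lib.Helper13.SpParabolic

/-! # Lq hive (S2333), leaf F-GAUSS : `gauss_count` (helper74) -/

set_option autoImplicit false
set_option linter.unusedSectionVars false

namespace Cfsg.Agent.Lib.Helper21.Lq

open Module Cfsg.Agent.Lib.Helper6.Ls Cfsg.Agent.Lib.Helper13

section concrete

variable {F : Type*} [Field F] [Fintype F]

/-- the Artin–Schreier map `u ↦ u² + u` as an additive homomorphism (characteristic 2) -/
noncomputable def fgauss_wp [CharP F 2] : F →+ F where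
  toFun u := u ^ 2 + u
  map_zero' := by simp
  map_add' a b := by
    have h2 : (2 : F) = 0 := CharP.cast_eq_zero F 2
    have : (a + b) ^ 2 = a ^ 2 + b ^ 2 + 2 * (a * b) := by ring
    rw [this, h2, zero_mul, add_zero]
    ring

theorem fgauss_wp_apply [CharP F 2] (u : F) : fgauss_wp u = u ^ 2 + u := rfl

theorem fgauss_mem_range [CharP F 2] (a : F) :
    a ∈ (fgauss_wp (F := F)).range ↔ ∃ u : F, u ^ 2 + u = a := by
  rw [AddMonoidHom.mem_range]
  rfl

theorem fgauss_neg [CharP F 2] (a : F) : -a = a := by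
  have h2 : (2 : F) = 0 := CharP.cast_eq_zero F 2
  have : a + a = 0 := by rw [← two_mul, h2, zero_mul]
  exact neg_eq_of_add_eq_zero_left this

theorem fgauss_card_ker [CharP F 2] : Nat.card (fgauss_wp (F := F)).ker = 2 := by
  classical
  rw [Nat.card_eq_two_iff]
  have h0 : (0 : F) ∈ (fgauss_wp (F := F)).ker := zero_mem _
  have h1 : (1 : F) ∈ (fgauss_wp (F := F)).ker := by
    rw [AddMonoidHom.mem_ker, fgauss_wp_apply]
    have h2 : (2 : F) = 0 := CharP.cast_eq_zero F 2
    rw [one_pow, one_add_one_eq_two, h2]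
  refine ⟨⟨0, h0⟩, ⟨1, h1⟩, ?_, ?_⟩
  · intro h
    have := congrArg Subtype.val h
    exact zero_ne_one this
  · ext ⟨u, hu⟩
    simp only [Set.mem_insert_iff, Set.mem_singleton_iff, Set.mem_univ, iff_true, Subtype.mk.injEq]
    rw [AddMonoidHom.mem_ker, fgauss_wp_apply] at hu
    have h3 : u * (u + 1) = 0 := by rw [← hu]; ring
    rcases mul_eq_zero.1 h3 with h | h
    · left; exact h
    · right
      have := eq_neg_of_add_eq_zero_left h
      rw [this, fgauss_neg]

theorem fgauss_index [CharP F 2] : (fgauss_wp (F := F)).range.index = 2 := by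
  have h1 := AddSubgroup.index_ker (fgauss_wp (F := F))
  have h2 := AddSubgroup.card_mul_index (fgauss_wp (F := F)).ker
  have h3 := AddSubgroup.card_mul_index (fgauss_wp (F := F)).range
  rw [fgauss_card_ker, h1] at h2
  have hpos : 0 < Nat.card (fgauss_wp (F := F)).range := Nat.card_pos
  have h4 : Nat.card (fgauss_wp (F := F)).range * (fgauss_wp (F := F)).range.index
      = Nat.card (fgauss_wp (F := F)).range * 2 := by rw [h3, ← h2, mul_comm]
  exact Nat.eq_of_mul_eq_mul_left hpos h4

/-- the quadratic character of `F / {u² + u}` with values in `ℤ` -/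
noncomputable def fgauss_chi [CharP F 2] (a : F) : ℤ :=
  open Classical in if a ∈ (fgauss_wp (F := F)).range then 1 else -1

theorem fgauss_chi_add [CharP F 2] (a b : F) :
    fgauss_chi (a + b) = fgauss_chi a * fgauss_chi b := by
  classical
  have h := AddSubgroup.add_mem_iff_of_index_two (fgauss_index (F := F)) (a := a) (b := b)
  unfold fgauss_chi
  by_cases ha : a ∈ (fgauss_wp (F := F)).range <;> by_cases hb : b ∈ (fgauss_wp (F := F)).range
  · rw [if_pos ha, if_pos hb, if_pos (h.2 (iff_of_true ha hb))]; norm_num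
  · rw [if_pos ha, if_neg hb, if_neg (fun hab => hb ((h.1 hab).1 ha))]; norm_num
  · rw [if_neg ha, if_pos hb, if_neg (fun hab => ha ((h.1 hab).2 hb))]; norm_num
  · rw [if_neg ha, if_neg hb, if_pos (h.2 (iff_of_false ha hb))]; norm_num

theorem fgauss_chi_zero [CharP F 2] : fgauss_chi (0 : F) = 1 := by
  classical
  unfold fgauss_chi
  rw [if_pos (zero_mem _)]

/-- there is an element outside `{u² + u}` -/
theorem fgauss_exists_not_mem [CharP F 2] : ∃ c : F, c ∉ (fgauss_wp (F := F)).range := by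
  by_contra hcon
  push Not at hcon
  have htop : (fgauss_wp (F := F)).range = ⊤ := by
    ext c; simp [hcon c]
  have := fgauss_index (F := F)
  rw [htop, AddSubgroup.index_top] at this
  omega

/-- a non-trivial linear functional has character sum zero -/
theorem fgauss_sum_zero [CharP F 2] (k : ℕ) (u : Vec F k) (hu : u ≠ 0) :
    ∑ x : Vec F k, fgauss_chi (Cfsg.sympForm k F x u) = 0 := by
  classical
  obtain ⟨a, ha⟩ := exists_sympForm_ne_zero k u hu
  obtain ⟨c, hc⟩ := fgauss_exists_not_mem (F := F)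
  have hau : Cfsg.sympForm k F a u ≠ 0 := by
    rw [sympForm_swap]; exact neg_ne_zero.2 ha
  set x0 : Vec F k := (c / Cfsg.sympForm k F a u) • a with hx0
  have hx0u : Cfsg.sympForm k F x0 u = c := by
    rw [hx0, sympForm_smul_left, div_mul_cancel₀ _ hau]
  have hchi : fgauss_chi (Cfsg.sympForm k F x0 u) = -1 := by
    rw [hx0u]; unfold fgauss_chi; rw [if_neg hc]
  have h1 : ∑ x : Vec F k, fgauss_chi (Cfsg.sympForm k F x u)
      = ∑ x : Vec F k, fgauss_chi (Cfsg.sympForm k F (x + x0) u) :=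
    (Equiv.sum_comp (Equiv.addRight x0) (fun x => fgauss_chi (Cfsg.sympForm k F x u))).symm
  have h2 : ∑ x : Vec F k, fgauss_chi (Cfsg.sympForm k F (x + x0) u)
      = - ∑ x : Vec F k, fgauss_chi (Cfsg.sympForm k F x u) := by
    rw [← Finset.sum_neg_distrib]
    apply Finset.sum_congr rfl
    intro x _
    rw [sympForm_add_left, fgauss_chi_add, hchi]
    ring
  rw [h2] at h1
  linarith

/-- F-GAUSS -/
theorem gauss_count [CharP F 2] (k : ℕ) (Θ : Vec F k → F)
    (hadd : ∀ x y, Θ (x + y) = Θ x + Θ y + Cfsg.sympForm k F x y)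
    (hsm : ∀ (t : F) (x : Vec F k), Θ (t • x) = t ^ 2 * Θ x) :
    Fintype.card F ^ (2 * k) ≤
      2 * Nat.card {x : Vec F k // ∃ u : F, u ^ 2 + u = Θ x} + Fintype.card F ^ k := by
  classical
  set q : ℕ := Fintype.card F with hq
  have hΘ0 : Θ 0 = 0 := by
    have := hsm 0 0
    rw [zero_smul] at this
    rw [this]; ring
  have hcardV : Fintype.card (Vec F k) = q ^ (2 * k) := by
    rw [Fintype.card_fun, Fintype.card_sum, Fintype.card_fin, ← two_mul]
  -- the Gauss sum
  set S : ℤ := ∑ x : Vec F k, fgauss_chi (Θ x) with hS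
  have hSS : S * S = (q : ℤ) ^ (2 * k) := by
    rw [hS, Finset.sum_mul_sum]
    have h1 : ∀ x : Vec F k, ∑ y : Vec F k, fgauss_chi (Θ x) * fgauss_chi (Θ y)
        = ∑ u : Vec F k, fgauss_chi (Θ u) * fgauss_chi (Cfsg.sympForm k F x u) := by
      intro x
      rw [← Equiv.sum_comp (Equiv.addLeft x) (fun y => fgauss_chi (Θ x) * fgauss_chi (Θ y))]
      apply Finset.sum_congr rfl
      intro u _
      simp only [Equiv.coe_addLeft]
      rw [← fgauss_chi_add, ← fgauss_chi_add, hadd x u]
      congr 1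
      have : Θ x + Θ x = 0 := add_eq_zero_iff_eq_neg.2 (fgauss_neg (Θ x)).symm
      calc Θ x + (Θ x + Θ u + Cfsg.sympForm k F x u)
          = (Θ x + Θ x) + (Θ u + Cfsg.sympForm k F x u) := by ring
        _ = Θ u + Cfsg.sympForm k F x u := by rw [this, zero_add]
    rw [Finset.sum_congr rfl (fun x _ => h1 x), Finset.sum_comm]
    have h2 : ∀ u : Vec F k, ∑ x : Vec F k, fgauss_chi (Θ u) * fgauss_chi (Cfsg.sympForm k F x u)
        = if u = 0 then (q : ℤ) ^ (2 * k) else 0 := by
      intro u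
      rw [← Finset.mul_sum]
      by_cases hu : u = 0
      · subst hu
        rw [if_pos rfl, hΘ0, fgauss_chi_zero, one_mul]
        simp only [sympForm_zero_right, fgauss_chi_zero, Finset.sum_const, Finset.card_univ,
          nsmul_eq_mul, mul_one]
        rw [hcardV]; push_cast; rfl
      · rw [if_neg hu, fgauss_sum_zero k u hu, mul_zero]
    rw [Finset.sum_congr rfl (fun u _ => h2 u), Finset.sum_ite_eq' Finset.univ (0 : Vec F k)]
    try simp
  -- counting
  set Np : ℕ := Nat.card {x : Vec F k // ∃ u : F, u ^ 2 + u = Θ x} with hNp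
  have hNp' : (Np : ℤ) = ∑ x : Vec F k, (if Θ x ∈ (fgauss_wp (F := F)).range then (1 : ℤ) else 0) := by
    rw [hNp, Nat.card_eq_fintype_card, Fintype.card_subtype]
    rw [Finset.sum_boole]
    congr 2
  have hS2 : S = 2 * (Np : ℤ) - (q : ℤ) ^ (2 * k) := by
    have hone : ((q : ℤ) ^ (2 * k)) = ∑ _x : Vec F k, (1 : ℤ) := by
      simp only [Finset.sum_const, Finset.card_univ, nsmul_eq_mul, mul_one]
      rw [hcardV]; push_cast; rfl
    rw [hS, hNp', hone, Finset.mul_sum, ← Finset.sum_sub_distrib]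
    apply Finset.sum_congr rfl
    intro x _
    unfold fgauss_chi
    by_cases hx : Θ x ∈ (fgauss_wp (F := F)).range
    · rw [if_pos hx, if_pos hx]; norm_num
    · rw [if_neg hx, if_neg hx]; norm_num
  -- `S ≥ -q^k`
  have hqk : (q : ℤ) ^ (2 * k) = ((q : ℤ) ^ k) * ((q : ℤ) ^ k) := by
    rw [two_mul, pow_add]
  have hqpos : (0 : ℤ) ≤ (q : ℤ) ^ k := by positivity
  have hSge : -((q : ℤ) ^ k) ≤ S := by
    by_contra hlt
    push Not at hlt
    have h1 : (q : ℤ) ^ k < -S := by linarith
    have h2 : ((q : ℤ) ^ k) * ((q : ℤ) ^ k) < (-S) * (-S) := by nlinarith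
    rw [neg_mul_neg, hSS, hqk] at h2
    exact lt_irrefl _ h2
  have hfinal : ((q ^ (2 * k) : ℕ) : ℤ) ≤ ((2 * Np + q ^ k : ℕ) : ℤ) := by
    push_cast
    linarith
  exact_mod_cast hfinal

end concrete

end Cfsg.Agent.Lib.Helper21.Lq
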