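import Cfsg.Agent.Lib.Helper27.U3Line3Defs
import Cfsg.Agent.Lib.Helper99.UnitaryND1

/-!
# U3 hive (S2283, owner helper23), sub-hive U3-LINE3 (helper27): leaf L3-WITT (helper74)

Witt index 1 of the 3-dimensional Hermitian space: two linearly independent isotropic vectors of `F^3`
are not orthogonal.  Proof: otherwise `W = span{a, b}` is totally isotropic of dimension 2, so
`W ≤ W^⊥`, but `dim W^⊥ = 3 - 2 = 1` (`Helper99.finrank_hperp`).
-/

set_option autoImplicit false

namespace Cfsg.Agent.Lib.Helper23.U3

open Matrix Cfsg.Agent.Lib.Helper99 Cfsg.Agent.Lib.Helper13 Cfsg.Agent.Lib.Helper90.Psu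

variable {F : Type*} [Field F] [Fintype F] {q : ℕ}

local notation "hh" => Cfsg.hermForm 3 F q

/-- L3-WITT.  Witt index 1: two linearly independent isotropic vectors of `F^3` are not orthogonal. -/
theorem l3_witt (hF : Fintype.card F = q ^ 2) (a b : Fin 3 → F) (ha : hh a a = 0) (hb : hh b b = 0)
    (hind : LinearIndependent F ![a, b]) : hh a b ≠ 0 := by
  intro hab
  have hba : hh b a = 0 := hermForm_eq_zero_comm hF hab
  -- the span is totally isotropic
  have hle : Submodule.span F (Set.range ![a, b]) ≤ hperp q (Submodule.span F (Set.range ![a, b])) := by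
    have hrange : Set.range ![a, b] = {a, b} := by
      ext x
      simp only [Set.mem_range, Set.mem_insert_iff, Set.mem_singleton_iff]
      constructor
      · rintro ⟨i, rfl⟩
        fin_cases i
        · left; rfl
        · right; rfl
      · rintro (rfl | rfl)
        · exact ⟨0, rfl⟩
        · exact ⟨1, rfl⟩
    rw [hrange]
    intro x hx
    rw [Submodule.mem_span_pair] at hx
    obtain ⟨s, t, rfl⟩ := hx
    rw [mem_hperp]
    intro w hw
    rw [Submodule.mem_span_pair] at hw
    obtain ⟨s', t', rfl⟩ := hw
    simp only [Helper13.hermForm_add_left, Helper13.hermForm_add_right hF,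
      Helper13.hermForm_smul_left, Helper13.hermForm_smul_right, ha, hab, hba, hb]
    ring
  have hdim : Module.finrank F (Submodule.span F (Set.range ![a, b])) = 2 := by
    rw [finrank_span_eq_card hind]
    rfl
  have h1 := finrank_hperp (n := 3) hF (Submodule.span F (Set.range ![a, b]))
  have h2 := Submodule.finrank_mono hle
  omega

end Cfsg.Agent.Lib.Helper23.U3
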