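import Cfsg.Agent.Lib.Helper23.U3Defs

set_option autoImplicit false

/-! U3 hive (helper23, S2283): leaf U3-REG `regular_u1`. -/

namespace Cfsg.Agent.Lib.Helper23.U3

open Matrix Cfsg.Agent.Lib.Helper99 Cfsg.Agent.Lib.Helper13 Cfsg.Agent.Lib.Helper90.Psu

variable {F : Type*} [Field F] [Fintype F] {q : ℕ}

local notation "hh" => Cfsg.hermForm 3 F q

/-- the Heisenberg relation (own copy, independent of the leaf U3-REL). -/
theorem u3reg_rel (hF : Fintype.card F = q ^ 2) (C : Cfg q F) :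
    C.β + C.β ^ q + C.a ^ (q + 1) = 0 := by
  obtain ⟨φ, hφ⟩ := exists_powRingHom hF
  have hμ0 := C.μ_ne_zero
  have hμq : C.μ ^ q = C.μ⁻¹ := by
    have h1 : C.μ ^ q * C.μ = 1 := by rw [← pow_succ]; exact C.hμ
    exact eq_inv_of_mul_eq_one_left h1
  have hcq : C.c ^ q = -C.c := by
    have := C.hc
    linear_combination this
  have h1 := congrArg φ C.hβ
  rw [map_mul, map_sub, map_sub, map_mul, map_pow, map_inv₀, map_ofNat, map_ofNat, hφ, hφ, hφ, hcq, hμq,
    inv_inv] at h1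
  have hν : C.μ⁻¹ * C.μ = 1 := inv_mul_cancel₀ hμ0
  have h2 : C.c * (C.β + C.β ^ q + C.a ^ (q + 1)) = 0 := by
    linear_combination C.hβ - h1 + C.ha - 3 * (C.μ⁻¹ - C.μ) * hν
  rcases mul_eq_zero.1 h2 with h | h
  · exact absurd h C.hc0
  · exact h

omit [Fintype F] in
theorem u3reg_a_ne_zero (C : Cfg q F) : C.a ≠ 0 := by
  intro h
  have h1 := C.ha
  rw [h, zero_pow (Nat.succ_ne_zero q), zero_mul] at h1
  have h2 : C.μ⁻¹ - C.μ = 0 := by
    have := pow_eq_zero_iff (n := 3) (by norm_num) |>.1 h1.symm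
    exact this
  apply C.hμ2
  have hμ0 := C.μ_ne_zero
  have h3 : C.μ⁻¹ = C.μ := sub_eq_zero.1 h2
  have h4 : C.μ * C.μ⁻¹ = 1 := mul_inv_cancel₀ hμ0
  rw [h3] at h4
  rw [pow_two]; exact h4

/-- U3-REG -/
theorem regular_u1 (hF : Fintype.card F = q ^ 2) (C : Cfg q F) :
    IsNilpotent ((C.u1 : Matrix (Fin 3) (Fin 3) F) - 1) ∧
      ((C.u1 : Matrix (Fin 3) (Fin 3) F) - 1) ^ 2 ≠ 0 := by
  have hrel := u3reg_rel hF C
  have ha0 := u3reg_a_ne_zero C
  have hre : hh (C.a • C.ε) C.e = 0 := by rw [hermForm_smul_left, C.hεe, mul_zero]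
  have hβ' : C.β + C.β ^ q + hh (C.a • C.ε) (C.a • C.ε) = 0 := by
    rw [hermForm_smul_left, hermForm_smul_right, C.hεε]
    linear_combination hrel
  have heε : hh C.e C.ε = 0 := hermForm_eq_zero_comm hF C.hεe
  have hfe : hh C.f C.e = 1 := by
    rw [← hermForm_conj hF 3 C.e C.f, C.hef, one_pow]
  set N : Matrix (Fin 3) (Fin 3) F := (C.u1 : Matrix (Fin 3) (Fin 3) F) - 1 with hNdef
  have hN : ∀ x : Fin 3 → F, N *ᵥ x =
      hh x C.e • (C.a • C.ε + C.β • C.e) - hh x (C.a • C.ε) • C.e := by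
    intro x
    rw [hNdef, sub_mulVec, one_mulVec]
    unfold Cfg.u1
    rw [heis_mulVec hF C.hee hre hβ']
    abel
  have hNe : N *ᵥ C.e = 0 := by
    rw [hN, C.hee, hermForm_smul_right, heε]
    simp
  have hN2 : ∀ x : Fin 3 → F, N *ᵥ (N *ᵥ x) = (-(hh x C.e * C.a ^ (q + 1))) • C.e := by
    intro x
    have h1 : hh (N *ᵥ x) C.e = 0 := by
      rw [hN, hermForm_sub_left, hermForm_smul_left, hermForm_smul_left, hermForm_add_left,
        hermForm_smul_left, hermForm_smul_left, C.hεe, C.hee]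
      ring
    have h2 : hh (N *ᵥ x) (C.a • C.ε) = hh x C.e * C.a ^ (q + 1) := by
      rw [hN, hermForm_sub_left, hermForm_smul_left, hermForm_smul_left, hermForm_add_left,
        hermForm_smul_left, hermForm_smul_left, hermForm_smul_right, hermForm_smul_right, C.hεε, heε]
      ring
    rw [hN (N *ᵥ x), h1, h2]
    simp
  constructor
  · refine ⟨3, ?_⟩
    rw [Matrix.ext_iff_mulVec]
    intro x
    have : N ^ 3 = N * (N * N) := by rw [pow_succ, pow_two, mul_assoc]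
    rw [this, ← mulVec_mulVec, ← mulVec_mulVec, hN2 x, mulVec_smul, hNe, smul_zero, zero_mulVec]
  · intro h0
    have h1 : N ^ 2 *ᵥ C.f = 0 := by rw [h0, zero_mulVec]
    rw [pow_two, ← mulVec_mulVec, hN2, hfe, one_mul] at h1
    have h2 : C.e = 0 := by
      rcases smul_eq_zero.1 h1 with h | h
      · exact absurd (neg_eq_zero.1 h) (pow_ne_zero _ ha0)
      · exact h
    have h3 := C.hef
    rw [h2, hermForm_zero_left] at h3
    exact zero_ne_one h3

end Cfsg.Agent.Lib.Helper23.U3
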