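import Mathlib
import Cfsg.Agent.Lib.Helper38.RhDefs

/-! Rh hive (helper38): core of leaf RH-PROD `prod_card_reps` (RH-T4, RH-T7, RH-T8 as hypotheses). -/

set_option autoImplicit false

namespace Cfsg.Agent.Lib.Helper38.Rh

section abstract
variable {G : Type*} [Group G] [Finite G] {N : ℕ}

omit [Finite G] in
theorem prod_card_map_conj (T : Subgroup G) (g : G) :
    Nat.card ↥(T.map (MulAut.conj g).toMonoidHom) = Nat.card ↥T :=
  Subgroup.card_map_of_injective (MulAut.conj g).injective

theorem prod_card_reps_core (hN : N ≠ 0)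
    (hT4 : ∀ T : Subgroup G, IsTorus N T → Nat.card ↥T ∣ N)
    (hT7 : ∀ p : ℕ, p.Prime → p ∣ N → (Nat.card G).factorization p = N.factorization p →
      ∃ T : Subgroup G, IsTorus N T ∧ (Nat.card ↥T).factorization p = N.factorization p)
    (hT8 : ∀ T₁ T₂ : Subgroup G, IsTorus N T₁ → IsTorus N T₂ → ∀ p : ℕ, p.Prime →
      p ∣ Nat.card ↥T₁ → p ∣ Nat.card ↥T₂ → ∃ g : G, T₂ = T₁.map (MulAut.conj g).toMonoidHom)
    (hfac : ∀ p : ℕ, p.Prime → p ∣ N → (Nat.card G).factorization p = N.factorization p)
    {R : Finset (Subgroup G)} (hR : IsReps N R) : ∏ T ∈ R, Nat.card ↥T = N := by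
  classical
  have hne : ∀ T ∈ R, Nat.card ↥T ≠ 0 := fun T _ => Nat.card_pos.ne'
  have hprod_ne : ∏ T ∈ R, Nat.card ↥T ≠ 0 := Finset.prod_ne_zero_iff.2 hne
  apply Nat.eq_of_factorization_eq hprod_ne hN
  intro p
  rw [Nat.factorization_prod hne, Finsupp.finsetSum_apply]
  by_cases hp : p.Prime
  · by_cases hpN : p ∣ N
    · obtain ⟨T0, hT0, hT0f⟩ := hT7 p hp hpN (hfac p hp hpN)
      obtain ⟨T', hT'R, g, hg⟩ := hR.cover T0 hT0
      have hcard : Nat.card ↥T0 = Nat.card ↥T' := by rw [hg, prod_card_map_conj]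
      have hNf : 0 < N.factorization p := hp.factorization_pos_of_dvd hN hpN
      have hT'f : (Nat.card ↥T').factorization p = N.factorization p := by rw [← hcard, hT0f]
      have hpT' : p ∣ Nat.card ↥T' := by
        by_contra hh
        rw [Nat.factorization_eq_zero_of_not_dvd hh] at hT'f
        omega
      rw [Finset.sum_eq_single T']
      · exact hT'f
      · intro T'' hT''R hne'
        by_contra hh
        have hpT'' : p ∣ Nat.card ↥T'' := by
          by_contra hh2
          exact hh (Nat.factorization_eq_zero_of_not_dvd hh2)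
        obtain ⟨g', hg'⟩ := hT8 T' T'' (hR.torus T' hT'R) (hR.torus T'' hT''R) p hp hpT' hpT''
        exact hne' (hR.distinct T' hT'R T'' hT''R ⟨g', hg'⟩).symm
      · intro hh; exact absurd hT'R hh
    · rw [Nat.factorization_eq_zero_of_not_dvd hpN]
      apply Finset.sum_eq_zero
      intro T hT
      apply Nat.factorization_eq_zero_of_not_dvd
      intro hh
      exact hpN (hh.trans (hT4 T (hR.torus T hT)))
  · rw [Nat.factorization_eq_zero_of_not_prime _ hp]
    apply Finset.sum_eq_zero
    intro T _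
    exact Nat.factorization_eq_zero_of_not_prime _ hp

end abstract

end Cfsg.Agent.Lib.Helper38.Rh
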