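import Mathlib
import Cfsg.Agent.Lib.Helper38.RhDefs
import Cfsg.Agent.Lib.Helper40.RhT4
import Cfsg.Agent.Lib.Helper11.RhT7
import Cfsg.Agent.Lib.Helper88.RhT8
import Cfsg.Agent.Lib.Helper74.RhPRODcore

/-! Rh hive (helper38): leaf RH-PROD `prod_card_reps` (wrapper of `prod_card_reps_core` with RH-T4, RH-T7, RH-T8). -/

set_option autoImplicit false

namespace Cfsg.Agent.Lib.Helper38.Rh

section abstract
variable {G : Type*} [Group G] [Finite G] {N : ℕ}

/-- RH-PROD.  The orders of the representatives multiply to `N`. -/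
theorem prod_card_reps (h : TorusHyp G N) (hN : N ≠ 0)
    (hfac : ∀ p : ℕ, p.Prime → p ∣ N → (Nat.card G).factorization p = N.factorization p)
    {R : Finset (Subgroup G)} (hR : IsReps N R) : ∏ T ∈ R, Nat.card ↥T = N :=
  prod_card_reps_core hN (fun _ hT => (torus_basic h hT).2.1)
    (fun _ hp hpN hf => exists_torus_sylow h hN hp hpN hf)
    (fun _ _ hT₁ hT₂ _ hp h1 h2 => torus_conj_of_prime h hT₁ hT₂ hp h1 h2) hfac hR

end abstract

end Cfsg.Agent.Lib.Helper38.Rh
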