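import Mathlib
import Cfsg.Agent.Lib.Helper67.OgDefs
import Cfsg.Agent.Lib.Helper37.OrthMinus
import Cfsg.Agent.Lib.Helper43.OrthCardMinus
import Cfsg.Agent.Lib.Helper39.SLPerfect

/-!
# Og hive, leaf OG-RF : `rootFull_of_gens` (helper74)

Self-contained on the Helper8 / Helper37 API (aux lemmas prefixed `rf_`).
-/

set_option autoImplicit false
set_option linter.unusedSectionVars false
set_option linter.unusedVariables false

namespace Cfsg.Agent.Lib.Helper67.Og

open Matrix Module QuadraticMap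
open Cfsg.Agent.Lib.Helper37 Cfsg.Agent.Lib.Helper8 Cfsg.Agent.Lib.Helper43
open Cfsg.Agent.Lib.Helper37.OrthField
open scoped commutatorElement

section abstract

variable {ι : Type} [Fintype ι] [DecidableEq ι] {F : Type*} [Field F]
variable (Q : QuadraticForm F (ι → F)) (hQ : (QuadraticMap.polarBilin Q).Nondegenerate)
variable {k : ℕ} {e f : Fin k → ι → F}
variable {L : Matrix.SpecialLinearGroup (Fin k) F →* ↥(Cfsg.isometryGroup F ⇑Q)}

theorem rf_act_Ee {u v : ι → F} (hu : Q u = 0) (huv : polar ⇑Q u v = 0) (x : ι → F) :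
    act Q (Ee Q hQ u v) x
      = x + polar ⇑Q u x • v - polar ⇑Q v x • u - (Q v * polar ⇑Q u x) • u := by
  rw [Ee_eq Q hQ hu huv]
  exact act_eichlerElt Q hQ u v hu huv x

theorem rf_Ee_mul {u v v' : ι → F} (hu : Q u = 0) (huv : polar ⇑Q u v = 0)
    (huv' : polar ⇑Q u v' = 0) : Ee Q hQ u v * Ee Q hQ u v' = Ee Q hQ u (v + v') := by
  have h : polar ⇑Q u (v + v') = 0 := by rw [polar_add_right, huv, huv', add_zero]
  rw [Ee_eq Q hQ hu huv, Ee_eq Q hQ hu huv', Ee_eq Q hQ hu h]
  exact eichlerElt_mul Q hQ u v v' hu huv huv'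

theorem rf_Ee_zero {u : ι → F} (hu : Q u = 0) : Ee Q hQ u 0 = 1 := by
  rw [Ee_eq Q hQ hu (by simp)]
  exact eichlerElt_zero Q hQ u hu

theorem rf_polar_sum {κ : Type*} (s : Finset κ) (u : ι → F) (v : κ → ι → F) :
    polar ⇑Q u (∑ j ∈ s, v j) = ∑ j ∈ s, polar ⇑Q u (v j) := by
  have h := map_sum (QuadraticMap.polarBilin Q u) v s
  simp only [QuadraticMap.polarBilin_apply_apply] at h
  exact h

theorem rf_Ee_sum (H : Subgroup ↥(Cfsg.isometryGroup F ⇑Q)) {u : ι → F} (hu : Q u = 0)
    {κ : Type*} (s : Finset κ) (v : κ → ι → F) (hv : ∀ j ∈ s, polar ⇑Q u (v j) = 0)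
    (hmem : ∀ j ∈ s, Ee Q hQ u (v j) ∈ H) : Ee Q hQ u (∑ j ∈ s, v j) ∈ H := by
  classical
  induction s using Finset.induction_on with
  | empty =>
    rw [Finset.sum_empty, rf_Ee_zero Q hQ hu]
    exact H.one_mem
  | insert a s ha ih =>
    rw [Finset.sum_insert ha]
    have h1 : polar ⇑Q u (v a) = 0 := hv a (Finset.mem_insert_self _ _)
    have h2 : polar ⇑Q u (∑ j ∈ s, v j) = 0 := by
      rw [rf_polar_sum]
      exact Finset.sum_eq_zero fun j hj => hv j (Finset.mem_insert_of_mem hj)
    rw [← rf_Ee_mul Q hQ hu h1 h2]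
    exact H.mul_mem (hmem a (Finset.mem_insert_self _ _))
      (ih (fun j hj => hv j (Finset.mem_insert_of_mem hj))
        (fun j hj => hmem j (Finset.mem_insert_of_mem hj)))

theorem rf_decomp (x : ι → F) :
    x = Wpart Q e f x + ∑ l, (polar ⇑Q (f l) x • e l + polar ⇑Q (e l) x • f l) := by
  unfold Wpart
  abel

theorem rf_wpart_inW (h : HypFam Q k e f) (x : ι → F) : InW Q e f (Wpart Q e f x) := by
  intro i
  have hfe : ∀ a b, polar ⇑Q (f a) (e b) = if a = b then 1 else 0 := by
    intro a b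
    rw [polar_comm, h.ef]
    by_cases hab : a = b
    · subst hab; simp
    · rw [if_neg hab, if_neg (Ne.symm hab)]
  constructor
  · unfold Wpart
    rw [polar_sub_right, rf_polar_sum]
    simp only [polar_add_right, polar_smul_right, h.ee, h.ef, smul_eq_mul, mul_zero, zero_add,
      mul_ite, mul_one, Finset.sum_ite_eq, Finset.mem_univ, if_true, sub_self]
  · unfold Wpart
    rw [polar_sub_right, rf_polar_sum]
    simp only [polar_add_right, polar_smul_right, h.ff, hfe, smul_eq_mul, mul_zero, add_zero,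
      mul_ite, mul_one, Finset.sum_ite_eq, Finset.mem_univ, if_true, sub_self]

theorem rf_ext_fam (h : HypFam Q k e f) (g g' : ↥(Cfsg.isometryGroup F ⇑Q))
    (he : ∀ i, act Q g (e i) = act Q g' (e i)) (hf : ∀ i, act Q g (f i) = act Q g' (f i))
    (hw : ∀ w, InW Q e f w → act Q g w = act Q g' w) : g = g' := by
  apply reflElt_ext
  intro x
  have hlin : ∀ (z : ↥(Cfsg.isometryGroup F ⇑Q)) (y : ι → F),
      act Q z y = Matrix.mulVecLin ((z : Matrix.GeneralLinearGroup ι F) : Matrix ι ι F) y :=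
    fun _ _ => rfl
  have hx := rf_decomp Q (e := e) (f := f) x
  rw [hx, hlin g, hlin g', map_add, map_add, map_sum, map_sum]
  congr 1
  · rw [← hlin, ← hlin]
    exact hw _ (rf_wpart_inW Q h x)
  · apply Finset.sum_congr rfl
    intro l _
    rw [map_add, map_add, map_smul, map_smul, map_smul, map_smul, ← hlin, ← hlin, ← hlin, ← hlin,
      he, hf]

theorem rf_ltv (D : LeviData Q k e f L) {i j : Fin k} (hij : i ≠ j) (c : F) :
    L (Matrix.SpecialLinearGroup.transvection hij c) = Ee Q hQ (e i) ((-c) • f j) := by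
  have h := D.fam
  have hu : Q (e i) = 0 := h.qe i
  have huv : polar ⇑Q (e i) ((-c) • f j) = 0 := by
    rw [polar_smul_right, h.ef, if_neg hij, smul_zero]
  have hfe : ∀ a b, polar ⇑Q (f a) (e b) = if a = b then 1 else 0 := by
    intro a b
    rw [polar_comm, h.ef]
    by_cases hab : a = b
    · subst hab; simp
    · rw [if_neg hab, if_neg (Ne.symm hab)]
  have hQv : Q ((-c) • f j) = 0 := by rw [QuadraticMap.map_smul, h.qf, smul_zero]
  apply rf_ext_fam Q h
  · intro l
    rw [D.act_e, rf_act_Ee Q hQ hu huv, hQv, zero_mul, zero_smul, sub_zero, h.ee, zero_smul,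
      add_zero, polar_smul_left, hfe, Matrix.SpecialLinearGroup.transvection_coe]
    simp only [Matrix.add_apply, Matrix.one_apply, Matrix.single_apply, add_smul, ite_smul,
      one_smul, zero_smul, Finset.sum_add_distrib, Finset.sum_ite_eq', Finset.mem_univ, if_true]
    by_cases hjl : j = l
    · subst hjl
      simp
    · simp [hjl]
  · intro l
    rw [D.act_f, rf_act_Ee Q hQ hu huv, hQv, zero_mul, zero_smul, sub_zero, polar_smul_left, h.ff,
      smul_zero, zero_smul, sub_zero, h.ef, Matrix.SpecialLinearGroup.transvection_inv,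
      Matrix.SpecialLinearGroup.transvection_coe]
    simp only [Matrix.add_apply, Matrix.one_apply, Matrix.single_apply, add_smul, ite_smul,
      one_smul, zero_smul, Finset.sum_add_distrib, Finset.sum_ite_eq, Finset.mem_univ, if_true]
    by_cases hil : i = l
    · subst hil
      simp
    · simp [hil]
  · intro w hw
    rw [D.act_w _ w hw, rf_act_Ee Q hQ hu huv, hQv, zero_mul, zero_smul, sub_zero, (hw i).1,
      zero_smul, add_zero, polar_smul_left, (hw j).2, smul_zero, zero_smul, sub_zero]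

/-! ### OG-RF : `rootFull` from the generators of the Eichler group at `e i` -/

theorem rootFull_of_gens (D : LeviData Q k e f L) (H : Subgroup ↥(Cfsg.isometryGroup F ⇑Q))
    (hLH : ∀ A, L A ∈ H) (i : Fin k)
    (hlong : ∀ (l : Fin k) (c : F), Ee Q hQ (e i) (c • e l) ∈ H)
    (hW : ∀ w, InW Q e f w → Ee Q hQ (e i) w ∈ H) : rootFull Q hQ H (e i) := by
  intro v hu huv
  have h := D.fam
  rw [← Ee_eq Q hQ hu huv]
  have hdec := rf_decomp Q (e := e) (f := f) v
  have hWin := rf_wpart_inW Q h v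
  have hterm : ∀ l, polar ⇑Q (e i) (polar ⇑Q (e l) v • f l) = 0 := by
    intro l
    rw [polar_smul_right, h.ef]
    by_cases hil : i = l
    · subst hil
      rw [huv, zero_smul]
    · rw [if_neg hil, smul_zero]
  have hterm' : ∀ l, polar ⇑Q (e i) (polar ⇑Q (f l) v • e l) = 0 := by
    intro l
    rw [polar_smul_right, h.ee, smul_zero]
  have hsum0 : ∀ l ∈ (Finset.univ : Finset (Fin k)),
      polar ⇑Q (e i) (polar ⇑Q (f l) v • e l + polar ⇑Q (e l) v • f l) = 0 := by
    intro l _
    rw [polar_add_right, hterm, hterm', add_zero]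
  have hS : polar ⇑Q (e i) (∑ l, (polar ⇑Q (f l) v • e l + polar ⇑Q (e l) v • f l)) = 0 := by
    rw [rf_polar_sum]
    exact Finset.sum_eq_zero hsum0
  rw [hdec, ← rf_Ee_mul Q hQ hu (hWin i).1 hS]
  apply H.mul_mem (hW _ hWin)
  apply rf_Ee_sum Q hQ H hu _ _ hsum0
  intro l _
  rw [← rf_Ee_mul Q hQ hu (hterm' l) (hterm l)]
  apply H.mul_mem (hlong l _)
  by_cases hil : i = l
  · subst hil
    rw [huv, zero_smul, rf_Ee_zero Q hQ hu]
    exact H.one_mem
  · have h1 := rf_ltv Q hQ D hil (-(polar ⇑Q (e l) v))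
    rw [neg_neg] at h1
    rw [← h1]
    exact hLH _

end abstract

end Cfsg.Agent.Lib.Helper67.Og
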