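import Cfsg.Agent.Lib.Helper41.StnDefs
import Cfsg.Agent.Lib.Helper73.StnBINJDefs
import Cfsg.Agent.Lib.Helper80.Stn_BASIC

/-! # Stn hive (S2401), sub-hive BINJ, leaf BINJ-COLMUL (helper74) -/

set_option autoImplicit false

namespace Cfsg.Agent.Lib.Helper41.Stn

open Matrix

variable {K : Type*} [Field K] {n : ℕ}

/-- product of two mapped lists whose entries commute -/
theorem binjcolmul_list {ι G : Type*} [Monoid G] (l : List ι) (f g : ι → G)
    (hc : ∀ i ∈ l, ∀ j ∈ l, Commute (g i) (f j)) :
    (l.map f).prod * (l.map g).prod = (l.map (fun i => f i * g i)).prod := by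
  induction l with
  | nil => simp
  | cons a l ih =>
    simp only [List.map_cons, List.prod_cons]
    have h1 : Commute (g a) (l.map f).prod := by
      apply Commute.list_prod_right
      intro x hx
      obtain ⟨j, hj, rfl⟩ := List.mem_map.1 hx
      exact hc a (List.mem_cons_self) j (List.mem_cons_of_mem _ hj)
    have ih' := ih (fun i hi j hj => hc i (List.mem_cons_of_mem _ hi) j (List.mem_cons_of_mem _ hj))
    calc f a * (l.map f).prod * (g a * (l.map g).prod)
        = f a * ((l.map f).prod * g a) * (l.map g).prod := by simp only [mul_assoc]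
      _ = f a * (g a * (l.map f).prod) * (l.map g).prod := by rw [h1.eq]
      _ = f a * g a * ((l.map f).prod * (l.map g).prod) := by simp only [mul_assoc]
      _ = f a * g a * (l.map (fun i => f i * g i)).prod := by rw [ih']

/-- the factors of a column element -/
noncomputable def binjcolmul_fac (c : Fin n) (t : Fin n → K) (i : Fin n) : St K n :=
  if i < c then xx i c (t i) else 1

theorem binjcolmul_colElt (c : Fin n) (t : Fin n → K) :
    colElt c t = ((List.finRange n).map (binjcolmul_fac c t)).prod := rfl

theorem binjcolmul_comm (c : Fin n) (t t' : Fin n → K) (i j : Fin n) :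
    Commute (binjcolmul_fac c t' i) (binjcolmul_fac c t j) := by
  unfold binjcolmul_fac
  by_cases hi : i < c
  · by_cases hj : j < c
    · rw [if_pos hi, if_pos hj]
      exact xx_comm (ne_of_lt hi) (ne_of_gt hj) _ _
    · rw [if_neg hj]; exact Commute.one_right _
  · rw [if_neg hi]; exact Commute.one_left _

/-- BINJ-COLMUL (M) -/
theorem colElt_mul (c : Fin n) (t t' : Fin n → K) :
    colElt c t * colElt c t' = colElt c (t + t') := by
  rw [binjcolmul_colElt, binjcolmul_colElt, binjcolmul_colElt,
    binjcolmul_list _ _ _ (fun i _ j _ => binjcolmul_comm c t t' i j)]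
  congr 1
  apply List.map_congr_left
  intro i _
  unfold binjcolmul_fac
  by_cases hi : i < c
  · rw [if_pos hi, if_pos hi, if_pos hi, xx_add, Pi.add_apply]
  · rw [if_neg hi, if_neg hi, if_neg hi, one_mul]

/-- BINJ-COLMUL (2) -/
theorem colElt_zero (c : Fin n) : colElt c (0 : Fin n → K) = 1 := by
  rw [binjcolmul_colElt]
  apply List.prod_eq_one
  intro x hx
  obtain ⟨i, _, rfl⟩ := List.mem_map.1 hx
  unfold binjcolmul_fac
  by_cases hi : i < c
  · rw [if_pos hi, Pi.zero_apply, xx_zero]
  · rw [if_neg hi]

/-- BINJ-COLMUL (3) -/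
theorem colElt_congr (c : Fin n) {t t' : Fin n → K} (h : ∀ i, i < c → t i = t' i) :
    colElt c t = colElt c t' := by
  rw [binjcolmul_colElt, binjcolmul_colElt]
  congr 1
  apply List.map_congr_left
  intro i _
  unfold binjcolmul_fac
  by_cases hi : i < c
  · rw [if_pos hi, if_pos hi, h i hi]
  · rw [if_neg hi, if_neg hi]

end Cfsg.Agent.Lib.Helper41.Stn
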