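import Cfsg.Agent.Lib.Helper41.StnDefs
import Cfsg.Agent.Lib.Helper73.StnBINJDefs
import Cfsg.Agent.Lib.Helper80.Stn_BASIC
import Cfsg.Agent.Lib.Helper74.Stn_BINJ_COLMUL

/-! # Stn hive (S2401), sub-hive BINJ, leaf BINJ-COLMEM (helper74) -/

set_option autoImplicit false

namespace Cfsg.Agent.Lib.Helper41.Stn

open Matrix

variable {K : Type*} [Field K] {n : ℕ}

/-- a list product with at most one non-trivial factor -/
theorem binjcolmem_prod_single {ι G : Type*} [Monoid G] [DecidableEq ι] (l : List ι) (hl : l.Nodup)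
    (f : ι → G) (i : ι) (hf : ∀ j, j ≠ i → f j = 1) :
    (l.map f).prod = if i ∈ l then f i else 1 := by
  induction l with
  | nil => simp
  | cons a l ih =>
    rw [List.nodup_cons] at hl
    simp only [List.map_cons, List.prod_cons, List.mem_cons]
    rw [ih hl.2]
    by_cases hai : a = i
    · subst hai
      rw [if_neg hl.1, mul_one, if_pos (Or.inl rfl)]
    · rw [hf a hai, one_mul]
      by_cases hil : i ∈ l
      · rw [if_pos hil, if_pos (Or.inr hil)]
      · rw [if_neg hil, if_neg]
        rintro (h | h)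
        · exact hai h.symm
        · exact hil h

/-- a generator is a column element -/
theorem binjcolmem_gen (c i : Fin n) (hi : i < c) (s : K) :
    xx i c s = colElt c (Pi.single i s) := by
  rw [binjcolmul_colElt, binjcolmem_prod_single _ (List.nodup_finRange n) _ i, if_pos (List.mem_finRange i)]
  · unfold binjcolmul_fac
    rw [if_pos hi, Pi.single_eq_same]
  · intro j hj
    unfold binjcolmul_fac
    by_cases hjc : j < c
    · rw [if_pos hjc, Pi.single_eq_of_ne hj, xx_zero]
    · rw [if_neg hjc]

theorem binjcolmem_inv (c : Fin n) (t : Fin n → K) : (colElt c t)⁻¹ = colElt c (-t) := by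
  rw [inv_eq_iff_mul_eq_one, colElt_mul, add_neg_cancel, colElt_zero]

/-- BINJ-COLMEM (M) -/
theorem mem_Ucol_iff (c : Fin n) (g : St K n) : g ∈ Ucol K n c ↔ ∃ t : Fin n → K, g = colElt c t := by
  constructor
  · intro hg
    unfold Ucol at hg
    induction hg using Subgroup.closure_induction with
    | mem x hx =>
      obtain ⟨i, s, hi, rfl⟩ := hx
      exact ⟨Pi.single i s, binjcolmem_gen c i hi s⟩
    | one => exact ⟨0, (colElt_zero c).symm⟩
    | mul x y _ _ hx hy =>
      obtain ⟨t, rfl⟩ := hx
      obtain ⟨t', rfl⟩ := hy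
      exact ⟨t + t', colElt_mul c t t'⟩
    | inv x _ hx =>
      obtain ⟨t, rfl⟩ := hx
      exact ⟨-t, binjcolmem_inv c t⟩
  · rintro ⟨t, rfl⟩
    rw [binjcolmul_colElt]
    apply Subgroup.list_prod_mem
    intro x hx
    obtain ⟨i, _, rfl⟩ := List.mem_map.1 hx
    unfold binjcolmul_fac
    by_cases hi : i < c
    · rw [if_pos hi]
      exact Subgroup.subset_closure ⟨i, t i, hi, rfl⟩
    · rw [if_neg hi]
      exact Subgroup.one_mem _

end Cfsg.Agent.Lib.Helper41.Stn
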