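import Cfsg.Agent.Lib.Helper41.StnDefs

/-! # Stn hive (S2401), leaf STN-MAT : `diag_of_upper_monomial` (helper74) -/

set_option autoImplicit false

namespace Cfsg.Agent.Lib.Helper41.Stn

open Matrix

variable {K : Type*} [Field K] {n : ℕ}

/-- a permutation of `Fin n` with `σ j ≤ j` for all `j` is the identity -/
theorem mat_perm_eq_one (σ : Equiv.Perm (Fin n)) (h : ∀ j, σ j ≤ j) : ∀ j, σ j = j := by
  have key : ∀ m : ℕ, ∀ j : Fin n, j.val = m → σ j = j := by
    intro m
    induction m using Nat.strong_induction_on with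
    | _ m ih =>
      intro j hj
      rcases lt_or_eq_of_le (h j) with hlt | heq
      · exfalso
        have h1 : σ (σ j) = σ j := ih (σ j).val (by rw [← hj]; exact hlt) (σ j) rfl
        have h2 : σ j = j := σ.injective h1
        rw [h2] at hlt
        exact lt_irrefl _ hlt
      · exact heq
  exact fun j => key j.val j rfl

/-- STN-MAT. Pure matrices: upper * monomial * upper = 1 forces the monomial matrix to be
diagonal. -/
theorem diag_of_upper_monomial (P M P' : SpecialLinearGroup (Fin n) K)
    (hP : ∀ i j : Fin n, j < i → P.1 i j = 0) (hP' : ∀ i j : Fin n, j < i → P'.1 i j = 0)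
    (σ : Equiv.Perm (Fin n)) (hM : ∀ i j : Fin n, M.1 i j ≠ 0 → i = σ j) (h : P * M * P' = 1) :
    ∀ i j : Fin n, i ≠ j → M.1 i j = 0 := by
  -- `M = P⁻¹ * P'⁻¹`
  have hMeq : M = P⁻¹ * P'⁻¹ := by
    have h1 : M = P⁻¹ * (P * M * P') * P'⁻¹ := by group
    rw [h1, h]; group
  -- inverses are upper triangular
  have hbt : ∀ A : SpecialLinearGroup (Fin n) K, (∀ i j : Fin n, j < i → A.1 i j = 0) →
      Matrix.BlockTriangular (A⁻¹).1 (id : Fin n → Fin n) := by
    intro A hA
    have hA' : Matrix.BlockTriangular A.1 (id : Fin n → Fin n) := fun i j hij => hA i j hij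
    have hdet : IsUnit A.1.det := by rw [A.2]; exact isUnit_one
    let _inst : Invertible A.1 := Matrix.invertibleOfIsUnitDet A.1 hdet
    have h2 := Matrix.blockTriangular_inv_of_blockTriangular hA'
    have h3 : (A⁻¹).1 = (A.1)⁻¹ := by
      rw [Matrix.SpecialLinearGroup.coe_inv, Matrix.inv_def, A.2]
      simp
    rw [h3]
    exact h2
  have hMbt : Matrix.BlockTriangular M.1 (id : Fin n → Fin n) := by
    rw [hMeq, Matrix.SpecialLinearGroup.coe_mul]
    exact (hbt P hP).mul (hbt P' hP')
  -- every column has a nonzero entry, at row `σ j ≤ j`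
  have hcol : ∀ j : Fin n, σ j ≤ j := by
    intro j
    by_contra hlt
    push Not at hlt
    have hz : ∀ i, M.1 i j = 0 := by
      intro i
      by_contra hne
      have hi := hM i j hne
      subst hi
      exact hne (hMbt hlt)
    have hdet : M.1.det = 0 := Matrix.det_eq_zero_of_column_eq_zero j hz
    rw [M.2] at hdet
    exact one_ne_zero hdet
  have hσ := mat_perm_eq_one σ hcol
  intro i j hij
  by_contra hne
  have hi := hM i j hne
  rw [hσ j] at hi
  exact hij hi

end Cfsg.Agent.Lib.Helper41.Stn
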