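import Mathlib
import Cfsg.Prelude.Def_GeometricClasses
import Cfsg.Agent.Lib.Helper44.OcDefs

set_option autoImplicit false
open scoped MatrixGroups
open Matrix Polynomial

/-! OC-NORM leaf of helper44's "Oc" hive (S5977 / S5978): the normaliser of `K = {a + b J}`, `J * J = δ • 1` with `δ` a
nonsquare, in odd characteristic, is `{g | g J = J g ∨ g J = - J g}`.  The two auxiliary lemmas are adapted from
`Cfsg.Agent.Lib.Helper44.SLInv.mem_normalizer_of_gen / mem_normalizer_of_semicommute` (stated there for `Fin n`). -/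

namespace Cfsg.Agent.Lib.Helper44.Oc

open Module

universe v

variable {F : Type v} [Field F] {ι : Type} [Fintype ι] [DecidableEq ι]

/-- membership in the normaliser of a subalgebra spanned by `1` and `κ` -/
theorem norm_mem_normalizer_of_gen (K : Subalgebra F (Matrix ι ι F))
    (κ : Matrix ι ι F)
    (hgen : ∀ k ∈ K, ∃ α β : F, k = α • (1 : Matrix ι ι F) + β • κ)
    (y : GL ι F)
    (h1 : (y : Matrix ι ι F) * κ * ((y⁻¹ : GL ι F) : Matrix ι ι F) ∈ K)
    (h2 : ((y⁻¹ : GL ι F) : Matrix ι ι F) * κ * (y : Matrix ι ι F) ∈ K) :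
    y ∈ Cfsg.Geo.subalgebraNormalizer K := by
  have hyy : (y : Matrix ι ι F) * ((y⁻¹ : GL ι F) : Matrix ι ι F) = 1 := by
    rw [← Units.val_mul, mul_inv_cancel, Units.val_one]
  have hyy' : ((y⁻¹ : GL ι F) : Matrix ι ι F) * (y : Matrix ι ι F) = 1 := by
    rw [← Units.val_mul, inv_mul_cancel, Units.val_one]
  intro k
  constructor
  · intro hk
    obtain ⟨α, β, rfl⟩ := hgen k hk
    have e : (y : Matrix ι ι F) * (α • (1 : Matrix ι ι F) + β • κ) *
        ((y⁻¹ : GL ι F) : Matrix ι ι F) =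
        α • 1 + β • ((y : Matrix ι ι F) * κ *
          ((y⁻¹ : GL ι F) : Matrix ι ι F)) := by
      rw [Matrix.mul_add, Matrix.add_mul, Matrix.mul_smul, Matrix.mul_smul, Matrix.smul_mul,
        Matrix.smul_mul, Matrix.mul_one, hyy]
    rw [e]
    exact K.add_mem (K.smul_mem K.one_mem α) (K.smul_mem h1 β)
  · intro hk
    obtain ⟨α, β, hαβ⟩ := hgen _ hk
    have e : k = ((y⁻¹ : GL ι F) : Matrix ι ι F) *
        ((y : Matrix ι ι F) * k *
          ((y⁻¹ : GL ι F) : Matrix ι ι F)) * (y : Matrix ι ι F) := by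
      rw [Matrix.mul_assoc, Matrix.mul_assoc, hyy', Matrix.mul_one, ← Matrix.mul_assoc, hyy',
        Matrix.one_mul]
    rw [e, hαβ, Matrix.mul_add, Matrix.add_mul, Matrix.mul_smul, Matrix.mul_smul, Matrix.smul_mul,
      Matrix.smul_mul, Matrix.mul_one, hyy']
    exact K.add_mem (K.smul_mem K.one_mem α) (K.smul_mem h2 β)

/-- if `y κ = ε κ y` with `ε * ε = 1`, then `y` normalises the subalgebra spanned by `1, κ` -/
theorem norm_mem_normalizer_of_semicommute (K : Subalgebra F (Matrix ι ι F))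
    (κ : Matrix ι ι F) (hκ : κ ∈ K)
    (hgen : ∀ k ∈ K, ∃ α β : F, k = α • (1 : Matrix ι ι F) + β • κ)
    (y : GL ι F) (ε : F) (hε : ε * ε = 1)
    (h : (y : Matrix ι ι F) * κ = ε • (κ * (y : Matrix ι ι F))) :
    y ∈ Cfsg.Geo.subalgebraNormalizer K := by
  have hyy : (y : Matrix ι ι F) * ((y⁻¹ : GL ι F) : Matrix ι ι F) = 1 := by
    rw [← Units.val_mul, mul_inv_cancel, Units.val_one]
  have hyy' : ((y⁻¹ : GL ι F) : Matrix ι ι F) * (y : Matrix ι ι F) = 1 := by
    rw [← Units.val_mul, inv_mul_cancel, Units.val_one]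
  apply norm_mem_normalizer_of_gen K κ hgen y
  · rw [h, Matrix.smul_mul, Matrix.mul_assoc, hyy, Matrix.mul_one]
    exact K.smul_mem hκ ε
  · have h' : ((y⁻¹ : GL ι F) : Matrix ι ι F) * κ * (y : Matrix ι ι F)
        = ε • κ := by
      have e1 : κ * (y : Matrix ι ι F) = ε • ((y : Matrix ι ι F) * κ) := by
        rw [h, smul_smul, hε, one_smul]
      rw [Matrix.mul_assoc, e1, Matrix.mul_smul, ← Matrix.mul_assoc, hyy', Matrix.one_mul]
    rw [h']
    exact K.smul_mem hκ ε

/-- OC-NORM : the normaliser of `K = {a + b J}` -/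
theorem mem_normalizer_iff (h2 : (2 : F) ≠ 0) (K : Subalgebra F (Matrix ι ι F)) (J : Matrix ι ι F) (δ : F)
    (hδ : ¬ IsSquare δ) (hJJ : J * J = δ • (1 : Matrix ι ι F)) (hJK : J ∈ K)
    (hK : ∀ k ∈ K, ∃ a b : F, k = a • (1 : Matrix ι ι F) + b • J) (g : GL ι F) :
    g ∈ Cfsg.Geo.subalgebraNormalizer K ↔
      ((g : Matrix ι ι F) * J = J * (g : Matrix ι ι F) ∨ (g : Matrix ι ι F) * J = -(J * (g : Matrix ι ι F))) := by
  have hgg : (g : Matrix ι ι F) * ((g⁻¹ : GL ι F) : Matrix ι ι F) = 1 := by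
    rw [← Units.val_mul, mul_inv_cancel, Units.val_one]
  have hgg' : ((g⁻¹ : GL ι F) : Matrix ι ι F) * (g : Matrix ι ι F) = 1 := by
    rw [← Units.val_mul, inv_mul_cancel, Units.val_one]
  constructor
  · intro hg
    by_cases h10 : (1 : Matrix ι ι F) = 0
    · left
      have hz : ∀ M : Matrix ι ι F, M = 0 := fun M => by
        rw [← Matrix.mul_one M, h10, Matrix.mul_zero]
      rw [hz ((g : Matrix ι ι F) * J), hz (J * (g : Matrix ι ι F))]
    have hδ0 : δ ≠ 0 := by
      intro h
      exact hδ ⟨0, by rw [h, mul_zero]⟩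
    -- `J` is not a scalar
    have hJns : ∀ c : F, J ≠ c • (1 : Matrix ι ι F) := by
      intro c hc
      apply hδ
      refine ⟨c, ?_⟩
      have h1 : (δ - c * c) • (1 : Matrix ι ι F) = 0 := by
        rw [sub_smul, ← hJJ, hc, Matrix.smul_mul, Matrix.mul_smul, Matrix.mul_one, smul_smul, sub_self]
      rcases smul_eq_zero.1 h1 with h | h
      · exact sub_eq_zero.1 h
      · exact absurd h h10
    have hind : ∀ s t : F, s • (1 : Matrix ι ι F) + t • J = 0 → s = 0 ∧ t = 0 := by
      intro s t hst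
      have ht : t = 0 := by
        by_contra ht
        apply hJns (-(s / t))
        have h3 : t • J = -(s • (1 : Matrix ι ι F)) := by
          rw [eq_neg_iff_add_eq_zero, add_comm]
          exact hst
        have h4 : J = t⁻¹ • (t • J) := by rw [smul_smul, inv_mul_cancel₀ ht, one_smul]
        rw [h4, h3, smul_neg, smul_smul, neg_smul, div_eq_inv_mul, mul_comm]
      refine ⟨?_, ht⟩
      rw [ht, zero_smul, add_zero] at hst
      exact (smul_eq_zero.1 hst).resolve_right h10
    have hmem := (hg J).1 hJK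
    obtain ⟨a, b, hab⟩ := hK _ hmem
    -- the square of the conjugate
    have hsq1 : ((g : Matrix ι ι F) * J * ((g⁻¹ : GL ι F) : Matrix ι ι F)) *
        ((g : Matrix ι ι F) * J * ((g⁻¹ : GL ι F) : Matrix ι ι F)) = δ • (1 : Matrix ι ι F) := by
      calc ((g : Matrix ι ι F) * J * ((g⁻¹ : GL ι F) : Matrix ι ι F)) *
          ((g : Matrix ι ι F) * J * ((g⁻¹ : GL ι F) : Matrix ι ι F))
          = (g : Matrix ι ι F) * (J * ((((g⁻¹ : GL ι F) : Matrix ι ι F)) * (g : Matrix ι ι F)) * J) *
              ((g⁻¹ : GL ι F) : Matrix ι ι F) := by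
            simp only [Matrix.mul_assoc]
        _ = (g : Matrix ι ι F) * (J * J) * ((g⁻¹ : GL ι F) : Matrix ι ι F) := by
            rw [hgg', Matrix.mul_one]
        _ = δ • (1 : Matrix ι ι F) := by
            rw [hJJ, Matrix.mul_smul, Matrix.smul_mul, Matrix.mul_one, hgg]
    have hsq2 : (a • (1 : Matrix ι ι F) + b • J) * (a • (1 : Matrix ι ι F) + b • J) =
        (a * a + b * b * δ) • (1 : Matrix ι ι F) + (2 * a * b) • J := by
      have e1 : (a • (1 : Matrix ι ι F) + b • J) * (a • (1 : Matrix ι ι F) + b • J) =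
          (a * a) • (1 : Matrix ι ι F) + (a * b) • J + (a * b) • J + (b * b) • (J * J) := by
        simp only [add_mul, mul_add, Matrix.smul_mul, Matrix.mul_smul, Matrix.mul_one,
          Matrix.one_mul, smul_smul]
        rw [mul_comm b a]
        abel
      rw [e1, hJJ]
      module
    rw [hab, hsq2] at hsq1
    have h0 : (a * a + b * b * δ - δ) • (1 : Matrix ι ι F) + (2 * a * b) • J = 0 := by
      rw [sub_smul, sub_add_eq_add_sub, hsq1, sub_self]
    obtain ⟨e1, e2⟩ := hind _ _ h0
    have hab0 : a * b = 0 := by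
      have : 2 * (a * b) = 0 := by rw [← mul_assoc]; exact e2
      exact (mul_eq_zero.1 this).resolve_left h2
    have hb0 : b ≠ 0 := by
      intro hb
      apply hδ
      refine ⟨a, ?_⟩
      rw [hb] at e1
      have : a * a - δ = 0 := by simpa using e1
      exact (sub_eq_zero.1 this).symm
    have ha0 : a = 0 := (mul_eq_zero.1 hab0).resolve_right hb0
    have hbb : b * b = 1 := by
      rw [ha0] at e1
      have h5 : (b * b - 1) * δ = 0 := by
        have : 0 * 0 + b * b * δ - δ = 0 := e1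
        rw [sub_mul, one_mul]
        simpa using this
      exact sub_eq_zero.1 ((mul_eq_zero.1 h5).resolve_right hδ0)
    have hb1 : b = 1 ∨ b = -1 := mul_self_eq_one_iff.1 hbb
    have hconj : (g : Matrix ι ι F) * J = (b • J) * (g : Matrix ι ι F) := by
      have h6 : (g : Matrix ι ι F) * J * ((g⁻¹ : GL ι F) : Matrix ι ι F) * (g : Matrix ι ι F) =
          (g : Matrix ι ι F) * J := by
        rw [Matrix.mul_assoc _ _ (g : Matrix ι ι F), hgg', Matrix.mul_one]
      rw [← h6, hab, ha0, zero_smul, zero_add]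
    rcases hb1 with hb | hb
    · left
      rw [hconj, hb, one_smul]
    · right
      rw [hconj, hb, neg_smul, one_smul, Matrix.neg_mul]
  · rintro (h | h)
    · apply norm_mem_normalizer_of_semicommute K J hJK hK g 1 (one_mul 1)
      rw [one_smul]
      exact h
    · apply norm_mem_normalizer_of_semicommute K J hJK hK g (-1) (by ring)
      rw [neg_smul, one_smul]
      exact h

end Cfsg.Agent.Lib.Helper44.Oc
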