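import Mathlib
import Cfsg.Prelude.Def_GeometricClasses
import Cfsg.Agent.Lib.Helper44.OcDefs
import Cfsg.Agent.Lib.Helper35.OfNSQ1
import Cfsg.Agent.Lib.Helper53.OcAJplanes

set_option autoImplicit false
set_option linter.unusedSimpArgs false
open scoped MatrixGroups
open Matrix Polynomial

/-! OC-AJ leaf of helper44's "Oc" hive (S5977 / S5978), part (b): from an orthogonal decomposition of `ι → F` into planes
`⟨v_j, x v_j⟩` (`x² = -1`, `Q v_j ≠ 0`; part (a) = `aj_planes`, helper53) build `J` (`!![α, β; β, -α]` on each plane,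
`α² + β² = δ`) and `τ` (the reflection in `v_0`). -/

namespace Cfsg.Agent.Lib.Helper44.Oc

universe v

variable {F : Type v} [Field F] {ι : Type} [Fintype ι] [DecidableEq ι]

/-- the polar form of `Q` as a Mathlib bilinear form -/
noncomputable def ajb_B (Q : (ι → F) → F)
    (hQ : Cfsg.Geo.IsNondegenerateQuadraticForm Q) : LinearMap.BilinForm F (ι → F) :=
  LinearMap.mk₂ F (QuadraticMap.polar Q) hQ.polar_bilinear.add_left
    (fun c m n => by rw [hQ.polar_bilinear.smul_left, smul_eq_mul]) hQ.polar_bilinear.add_right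
    (fun c m n => by rw [hQ.polar_bilinear.smul_right, smul_eq_mul])

omit [Fintype ι] [DecidableEq ι] in
theorem ajb_B_apply (Q : (ι → F) → F)
    (hQ : Cfsg.Geo.IsNondegenerateQuadraticForm Q) (u v : ι → F) :
    ajb_B Q hQ u v = QuadraticMap.polar Q u v := rfl

/-- part (b) of OC-AJ on top of the plane decomposition -/
theorem ajb_core [Fintype F] (h2 : (2 : F) ≠ 0) (Q : (ι → F) → F)
    (hQ : Cfsg.Geo.IsNondegenerateQuadraticForm Q) [Nonempty ι] (δ : F)
    (x : GL ι F) (hx : x ∈ Cfsg.isometryGroup F Q)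
    (hxx : (x : Matrix ι ι F) * (x : Matrix ι ι F) = -1)
    (m : ℕ) (b : Module.Basis (Fin m ⊕ Fin m) F (ι → F))
    (hxb : ∀ j, (x : Matrix ι ι F) *ᵥ b (Sum.inl j) = b (Sum.inr j))
    (hQb : ∀ j, Q (b (Sum.inl j)) ≠ 0)
    (hob : ∀ a c, a ≠ c → QuadraticMap.polar Q (b a) (b c) = 0) :
    ∃ (J : Matrix ι ι F) (τ : GL ι F), IsJ Q δ J ∧
      (x : Matrix ι ι F) * J = -(J * (x : Matrix ι ι F)) ∧
      τ ∈ Cfsg.isometryGroup F Q ∧ (τ : Matrix ι ι F).det = -1 ∧
      ((τ * x * τ⁻¹ : GL ι F) : Matrix ι ι F) * J = -(J * ((τ * x * τ⁻¹ : GL ι F) : Matrix ι ι F)) := by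
  classical
  have hm : 0 < m := by
    rcases Nat.eq_zero_or_pos m with h | h
    · exfalso
      subst h
      have hc : Fintype.card ι = Fintype.card (Fin 0 ⊕ Fin 0) := by
        rw [← Module.finrank_fintype_fun_eq_card F, Module.finrank_eq_card_basis b]
      rw [Fintype.card_sum, Fintype.card_fin] at hc
      exact Fintype.card_ne_zero hc
    · exact h
  let j₀ : Fin m := ⟨0, hm⟩
  obtain ⟨α, β, hαβ'⟩ := Cfsg.Agent.Lib.Helper44.Of.nsq1_exists_norm_eq h2 1 δ one_ne_zero
  have hαβ : α * α + β * β = δ := by rw [← hαβ']; ring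
  set B := ajb_B Q hQ with hB
  have hBs : ∀ u w, B u w = B w u := fun u w => by
    rw [hB, ajb_B_apply, ajb_B_apply, QuadraticMap.polar_comm]
  have hxQ : ∀ u : ι → F, Q ((x : Matrix ι ι F) *ᵥ u) = Q u := fun u => hx u u
  have hQadd : ∀ u w : ι → F, Q (u + w) = Q u + Q w + B u w := fun u w => by
    rw [hB, ajb_B_apply]
    unfold QuadraticMap.polar
    ring
  have hBself : ∀ u : ι → F, B u u = 2 * Q u := fun u => by
    have h1 : Q (u + u) = 2 ^ 2 * Q u := by
      have := hQ.smul 2 u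
      rwa [two_smul] at this
    have h3 := hQadd u u
    rw [h1] at h3
    linear_combination -h3
  set xl := Matrix.toLin' (x : Matrix ι ι F) with hxl_def
  have hxl : ∀ j, xl (b (Sum.inl j)) = b (Sum.inr j) := fun j => by
    rw [hxl_def, Matrix.toLin'_apply]; exact hxb j
  have hxr : ∀ j, xl (b (Sum.inr j)) = - b (Sum.inl j) := fun j => by
    rw [← hxb j, hxl_def, Matrix.toLin'_apply, Matrix.mulVec_mulVec, hxx, Matrix.neg_mulVec,
      Matrix.one_mulVec]
  have hQr : ∀ j, Q (b (Sum.inr j)) = Q (b (Sum.inl j)) := fun j => by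
    rw [← hxb j, hxQ]
  have hob' : ∀ a c, a ≠ c → B (b a) (b c) = 0 := fun a c hac => by
    rw [hB, ajb_B_apply]; exact hob a c hac
  have hlr : ∀ k l, B (b (Sum.inl k)) (b (Sum.inr l)) = 0 := fun k l => hob' _ _ (by simp)
  have hrl : ∀ k l, B (b (Sum.inr k)) (b (Sum.inl l)) = 0 := fun k l => hob' _ _ (by simp)
  -- `J`
  let img : Fin m ⊕ Fin m → (ι → F) := Sum.elim (fun k => α • b (Sum.inl k) + β • b (Sum.inr k))
    (fun k => β • b (Sum.inl k) - α • b (Sum.inr k))
  let Jl : (ι → F) →ₗ[F] (ι → F) := b.constr F img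
  have hJl : ∀ k, Jl (b (Sum.inl k)) = α • b (Sum.inl k) + β • b (Sum.inr k) := fun k => by
    simp only [Jl, Module.Basis.constr_basis, img, Sum.elim_inl]
  have hJr : ∀ k, Jl (b (Sum.inr k)) = β • b (Sum.inl k) - α • b (Sum.inr k) := fun k => by
    simp only [Jl, Module.Basis.constr_basis, img, Sum.elim_inr]
  have hJJ : Jl ∘ₗ Jl = δ • LinearMap.id := by
    apply b.ext
    rintro (k | k)
    · simp only [LinearMap.comp_apply, hJl, hJr, map_add, map_smul, map_sub, LinearMap.smul_apply,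
        LinearMap.id_apply]
      rw [← hαβ]
      module
    · simp only [LinearMap.comp_apply, hJl, hJr, map_add, map_smul, map_sub, LinearMap.smul_apply,
        LinearMap.id_apply]
      rw [← hαβ]
      module
  have hJB : B.compl₁₂ Jl LinearMap.id = B.compl₁₂ LinearMap.id Jl := by
    apply LinearMap.BilinForm.ext_basis b
    rintro (k | k) (l | l)
    · simp only [LinearMap.compl₁₂_apply, LinearMap.id_apply, hJl, hJr, map_add, map_smul, map_sub,
        LinearMap.add_apply, LinearMap.smul_apply, LinearMap.sub_apply, smul_eq_mul, hlr, hrl]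
    · simp only [LinearMap.compl₁₂_apply, LinearMap.id_apply, hJl, hJr, map_add, map_smul, map_sub,
        LinearMap.add_apply, LinearMap.smul_apply, LinearMap.sub_apply, smul_eq_mul, hlr, hrl]
      by_cases hkl : k = l
      · subst hkl
        rw [hBself, hBself, hQr]
        ring
      · have e1 : B (b (Sum.inl k)) (b (Sum.inl l)) = 0 := hob' _ _ (by simpa using hkl)
        have e2 : B (b (Sum.inr k)) (b (Sum.inr l)) = 0 := hob' _ _ (by simpa using hkl)
        rw [e1, e2]; ring
    · simp only [LinearMap.compl₁₂_apply, LinearMap.id_apply, hJl, hJr, map_add, map_smul, map_sub,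
        LinearMap.add_apply, LinearMap.smul_apply, LinearMap.sub_apply, smul_eq_mul, hlr, hrl]
      by_cases hkl : k = l
      · subst hkl
        rw [hBself, hBself, hQr]
        ring
      · have e1 : B (b (Sum.inl k)) (b (Sum.inl l)) = 0 := hob' _ _ (by simpa using hkl)
        have e2 : B (b (Sum.inr k)) (b (Sum.inr l)) = 0 := hob' _ _ (by simpa using hkl)
        rw [e1, e2]; ring
    · simp only [LinearMap.compl₁₂_apply, LinearMap.id_apply, hJl, hJr, map_add, map_smul, map_sub,
        LinearMap.add_apply, LinearMap.smul_apply, LinearMap.sub_apply, smul_eq_mul, hlr, hrl]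
  -- anticommutation with any `y` acting as `s_j • !![0, -1; 1, 0]` on the planes
  have hanti : ∀ (y : (ι → F) →ₗ[F] (ι → F)) (s : Fin m → F),
      (∀ j, y (b (Sum.inl j)) = s j • b (Sum.inr j)) →
      (∀ j, y (b (Sum.inr j)) = -(s j • b (Sum.inl j))) → y ∘ₗ Jl = -(Jl ∘ₗ y) := by
    intro y s hyl hyr
    apply b.ext
    rintro (k | k)
    · simp only [LinearMap.comp_apply, LinearMap.neg_apply, hJl, hJr, hyl, hyr, map_add, map_smul,
        map_sub, map_neg]
      module
    · simp only [LinearMap.comp_apply, LinearMap.neg_apply, hJl, hJr, hyl, hyr, map_add, map_smul,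
        map_sub, map_neg]
      module
  -- the reflection `τ`
  set v₁ : ι → F := b (Sum.inl j₀) with hv₁
  have hQv₁ : Q v₁ ≠ 0 := hQb j₀
  let τl : (ι → F) →ₗ[F] (ι → F) := LinearMap.id - ((Q v₁)⁻¹ • (B v₁)).smulRight v₁
  have hτl : ∀ u, τl u = u - ((Q v₁)⁻¹ * B v₁ u) • v₁ := fun u => by
    simp only [τl, LinearMap.sub_apply, LinearMap.id_apply, LinearMap.smulRight_apply,
      LinearMap.smul_apply, smul_eq_mul]
  have hτv₁ : τl v₁ = -v₁ := by
    rw [hτl, hBself, ← mul_assoc, mul_comm _ (2 : F), mul_assoc, inv_mul_cancel₀ hQv₁, mul_one,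
      two_smul]
    abel
  have hτfix : ∀ i, i ≠ Sum.inl j₀ → τl (b i) = b i := by
    intro i hi
    rw [hτl, hv₁, hob' _ _ (fun h => hi h.symm), mul_zero, zero_smul, sub_zero]
  have hτQ : ∀ u, Q (τl u) = Q u := by
    intro u
    rw [hτl, sub_eq_add_neg, ← neg_smul, hQadd, hQ.smul, map_smul, smul_eq_mul, hBs u v₁]
    field_simp
    ring
  have hττ : τl ∘ₗ τl = LinearMap.id := by
    apply b.ext
    intro i
    rw [LinearMap.comp_apply, LinearMap.id_apply]
    by_cases hi : i = Sum.inl j₀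
    · rw [hi, ← hv₁, hτv₁, map_neg, hτv₁, neg_neg]
    · rw [hτfix i hi, hτfix i hi]
  let s : Fin m → F := fun j => if j = j₀ then -1 else 1
  have hτlb : ∀ j, τl (b (Sum.inl j)) = s j • b (Sum.inl j) := by
    intro j
    by_cases hj : j = j₀
    · subst hj
      simp only [s, if_true, neg_smul, one_smul]
      exact hτv₁
    · rw [hτfix _ (by simpa using hj)]
      simp only [s, if_neg hj, one_smul]
  have hτrb : ∀ j, τl (b (Sum.inr j)) = b (Sum.inr j) := fun j => hτfix _ (by simp)
  set M : Matrix ι ι F := LinearMap.toMatrix' τl with hM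
  have hMM : M * M = 1 := by
    rw [hM, ← LinearMap.toMatrix'_comp, hττ, LinearMap.toMatrix'_id]
  let τ : GL ι F := ⟨M, M, hMM, hMM⟩
  have hτval : (τ : Matrix ι ι F) = M := rfl
  have hτinv : ((τ⁻¹ : GL ι F) : Matrix ι ι F) = M := rfl
  set J : Matrix ι ι F := LinearMap.toMatrix' Jl with hJ
  have hxJ : ∀ (A : Matrix ι ι F), Matrix.toLin' A ∘ₗ Jl = -(Jl ∘ₗ Matrix.toLin' A) →
      A * J = -(J * A) := by
    intro A hA
    apply Matrix.toLin'.injective
    rw [map_neg, Matrix.toLin'_mul, Matrix.toLin'_mul, hJ, Matrix.toLin'_toMatrix']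
    exact hA
  refine ⟨J, τ, ⟨?_, ?_⟩, ?_, ?_, ?_, ?_⟩
  · apply Matrix.toLin'.injective
    rw [Matrix.toLin'_mul, hJ, Matrix.toLin'_toMatrix', hJJ, map_smul, Matrix.toLin'_one]
  · intro u w
    rw [hJ, LinearMap.toMatrix'_mulVec, LinearMap.toMatrix'_mulVec, ← ajb_B_apply Q hQ,
      ← ajb_B_apply Q hQ]
    have := LinearMap.congr_fun (LinearMap.congr_fun hJB u) w
    simpa [LinearMap.compl₁₂_apply] using this
  · apply hxJ
    apply hanti xl (fun _ => 1)
    · intro j; rw [hxl, one_smul]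
    · intro j; rw [hxr, one_smul]
  · intro u w
    show Q (M *ᵥ u) = Q u
    rw [hM, LinearMap.toMatrix'_mulVec]
    exact hτQ u
  · rw [hτval, ← LinearMap.det_toLin', hM, Matrix.toLin'_toMatrix', ← LinearMap.det_toMatrix b]
    have hmat : LinearMap.toMatrix b b τl =
        Matrix.diagonal (fun i => if i = Sum.inl j₀ then (-1 : F) else 1) := by
      ext i j
      rw [LinearMap.toMatrix_apply, Matrix.diagonal_apply]
      by_cases hj : j = Sum.inl j₀
      · rw [hj, ← hv₁, hτv₁, map_neg, hv₁, Module.Basis.repr_self, Finsupp.neg_apply,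
          Finsupp.single_apply]
        by_cases hij : i = Sum.inl j₀
        · rw [hij]; simp
        · have hji : ¬ Sum.inl j₀ = i := fun h => hij h.symm
          simp [hij, hji]
      · rw [hτfix j hj, Module.Basis.repr_self, Finsupp.single_apply]
        by_cases hij : i = j
        · subst hij; simp [hj]
        · have hji : ¬ j = i := fun h => hij h.symm
          simp [hij, hji]
    rw [hmat, Matrix.det_diagonal, Finset.prod_ite_eq']
    simp
  · rw [Units.val_mul, Units.val_mul, hτval, hτinv]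
    apply hxJ
    rw [Matrix.toLin'_mul, Matrix.toLin'_mul, hM, Matrix.toLin'_toMatrix']
    apply hanti _ s
    · intro j
      rw [LinearMap.comp_apply, LinearMap.comp_apply, hτlb, map_smul, hxl, map_smul, hτrb]
    · intro j
      rw [LinearMap.comp_apply, LinearMap.comp_apply, hτrb, hxr, map_neg, hτlb]

/-- OC-AJ -/
theorem exists_J_anticomm [Fintype F] (h2 : (2 : F) ≠ 0) (Q : (ι → F) → F)
    (hQ : Cfsg.Geo.IsNondegenerateQuadraticForm Q) [Nonempty ι] (δ : F) (hδ : ¬ IsSquare δ)
    (x : GL ι F) (hx : x ∈ Cfsg.isometryGroup F Q)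
    (hxx : (x : Matrix ι ι F) * (x : Matrix ι ι F) = -1) :
    ∃ (J : Matrix ι ι F) (τ : GL ι F), IsJ Q δ J ∧
      (x : Matrix ι ι F) * J = -(J * (x : Matrix ι ι F)) ∧
      τ ∈ Cfsg.isometryGroup F Q ∧ (τ : Matrix ι ι F).det = -1 ∧
      ((τ * x * τ⁻¹ : GL ι F) : Matrix ι ι F) * J = -(J * ((τ * x * τ⁻¹ : GL ι F) : Matrix ι ι F)) := by
  obtain ⟨m, b, hb1, hb2, hb3⟩ := aj_planes h2 Q hQ x hx hxx
  exact ajb_core h2 Q hQ δ x hx hxx m b hb1 hb2 hb3

end Cfsg.Agent.Lib.Helper44.Oc
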