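import Mathlib
import Cfsg.Prelude.Def_GeometricClasses
import Cfsg.Agent.Lib.Helper44.OcDefs

set_option autoImplicit false
open scoped MatrixGroups
open Matrix Polynomial

/-! OC-GEN leaf of helper44's "Oc" hive (S5977 / S5978): a field subalgebra of degree two in odd characteristic
is `{a + b J}` with `J * J = δ • 1`, `δ` a nonsquare.  Adapted from `Cfsg.Agent.Lib.Helper44.SLInv.exists_sqrt_gen`
(the same statement for `Fin n`) to a general index type. -/

namespace Cfsg.Agent.Lib.Helper44.Oc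

open Module

universe v

variable {F : Type v} [Field F] {ι : Type} [Fintype ι] [DecidableEq ι]

/-- nonzero elements of a field subalgebra are two-sided invertible -/
theorem gen_exists_inv_of_mem (K : Subalgebra F (Matrix ι ι F)) {r : ℕ}
    (hK : Cfsg.Geo.IsFieldSubalgebra r K) (k : Matrix ι ι F) (hk : k ∈ K)
    (hk0 : k ≠ 0) : ∃ y ∈ K, k * y = 1 ∧ y * k = 1 := by
  obtain ⟨y, hy, hky⟩ := hK.inv k hk hk0
  exact ⟨y, hy, hky, by rw [← hK.comm k hk y hy]; exact hky⟩

/-- a field subalgebra of degree two is spanned by `1` and a nonscalar element -/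
theorem gen_exists_gen_of_fieldSubalgebra (K : Subalgebra F (Matrix ι ι F))
    (hK : Cfsg.Geo.IsFieldSubalgebra 2 K) :
    ∃ κ ∈ K, (∀ c : F, κ ≠ c • (1 : Matrix ι ι F)) ∧
      ∀ k ∈ K, ∃ α β : F, k = α • (1 : Matrix ι ι F) + β • κ := by
  have hfr : finrank F (Subalgebra.toSubmodule K) = 2 := by
    rw [Subalgebra.finrank_toSubmodule]
    exact hK.finrank_eq
  have hex : ∃ κ ∈ K, κ ∉ Submodule.span F {(1 : Matrix ι ι F)} := by
    by_contra hcon
    push Not at hcon
    have hle : Subalgebra.toSubmodule K ≤ Submodule.span F {(1 : Matrix ι ι F)} :=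
      fun k hk => hcon k hk
    have h1 := Submodule.finrank_mono hle
    have h2 : finrank F (Submodule.span F {(1 : Matrix ι ι F)}) ≤ 1 := by
      have h3 := finrank_span_le_card (R := F) ({(1 : Matrix ι ι F)} : Set _)
      simpa using h3
    omega
  obtain ⟨κ, hκK, hκ⟩ := hex
  have hκns : ∀ c : F, κ ≠ c • (1 : Matrix ι ι F) := by
    intro c hc
    exact hκ (Submodule.mem_span_singleton.2 ⟨c, hc.symm⟩)
  have h10 : (1 : Matrix ι ι F) ≠ 0 := by
    intro h
    apply hκns 0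
    rw [zero_smul, ← Matrix.mul_one κ, h, Matrix.mul_zero]
  have hind : LinearIndependent F ![(1 : Matrix ι ι F), κ] := by
    rw [LinearIndependent.pair_iff]
    intro s t hst
    have ht : t = 0 := by
      by_contra ht
      apply hκns (-(s / t))
      have h3 : t • κ = -(s • (1 : Matrix ι ι F)) := by
        rw [eq_neg_iff_add_eq_zero, add_comm]
        exact hst
      have h4 : κ = t⁻¹ • (t • κ) := by rw [smul_smul, inv_mul_cancel₀ ht, one_smul]
      rw [h4, h3, smul_neg, smul_smul, neg_smul, div_eq_inv_mul, mul_comm]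
    refine ⟨?_, ht⟩
    rw [ht, zero_smul, add_zero] at hst
    exact (smul_eq_zero.1 hst).resolve_right h10
  have hspan : Submodule.span F (Set.range ![(1 : Matrix ι ι F), κ]) =
      Subalgebra.toSubmodule K := by
    apply Submodule.eq_of_le_of_finrank_eq
    · rw [Submodule.span_le]
      rintro _ ⟨i, rfl⟩
      fin_cases i
      · exact K.one_mem
      · exact hκK
    · rw [finrank_span_eq_card hind, hfr, Fintype.card_fin]
  refine ⟨κ, hκK, hκns, fun k hk => ?_⟩
  have hk' : k ∈ Submodule.span F (Set.range ![(1 : Matrix ι ι F), κ]) := by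
    rw [hspan]
    exact hk
  obtain ⟨c, hc⟩ := (Submodule.mem_span_range_iff_exists_fun F).1 hk'
  rw [Fin.sum_univ_two] at hc
  exact ⟨c 0, c 1, hc.symm⟩

/-- in odd characteristic, a field subalgebra of degree two is generated by a square root of a
nonsquare scalar -/
theorem gen_exists_sqrt_gen (K : Subalgebra F (Matrix ι ι F))
    (hK : Cfsg.Geo.IsFieldSubalgebra 2 K) (h2 : (2 : F) ≠ 0) :
    ∃ κ₁ ∈ K, ∃ Δ : F, ¬ IsSquare Δ ∧ κ₁ * κ₁ = Δ • (1 : Matrix ι ι F) ∧
      ∀ k ∈ K, ∃ α β : F, k = α • (1 : Matrix ι ι F) + β • κ₁ := by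
  obtain ⟨κ, hκK, hκns, hgen⟩ := gen_exists_gen_of_fieldSubalgebra K hK
  obtain ⟨t₀, t₁, hκκ⟩ := hgen (κ * κ) (K.mul_mem hκK hκK)
  set c : F := t₁ / 2 with hc
  have hc2 : t₁ = 2 * c := by
    rw [hc]
    field_simp
  have hκ₁K : κ - c • (1 : Matrix ι ι F) ∈ K :=
    K.sub_mem hκK (K.smul_mem K.one_mem c)
  have hsq : (κ - c • (1 : Matrix ι ι F)) * (κ - c • 1) = (t₀ + c * c) • 1 := by
    have e1 : (κ - c • (1 : Matrix ι ι F)) * (κ - c • 1) =
        κ * κ - c • κ - c • κ + (c * c) • 1 := by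
      simp only [sub_mul, mul_sub, Matrix.smul_mul, Matrix.mul_smul, Matrix.mul_one,
        Matrix.one_mul, smul_smul]
      abel
    rw [e1, hκκ, hc2]
    module
  have hκ₁ns : ∀ d : F, κ - c • (1 : Matrix ι ι F) ≠ d • 1 := by
    intro d hd
    apply hκns (d + c)
    rw [add_smul, ← hd]
    abel
  refine ⟨κ - c • 1, hκ₁K, t₀ + c * c, ?_, hsq, fun k hk => ?_⟩
  · rintro ⟨δ, hδ⟩
    have hprod : (κ - c • (1 : Matrix ι ι F) - δ • 1) * (κ - c • 1 + δ • 1) = 0 := by
      have e2 : ∀ A : Matrix ι ι F,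
          (A - δ • (1 : Matrix ι ι F)) * (A + δ • 1) = A * A - (δ * δ) • 1 := by
        intro A
        simp only [sub_mul, mul_add, Matrix.smul_mul, Matrix.mul_smul,
          Matrix.mul_one, Matrix.one_mul, smul_smul]
        abel
      rw [e2, hsq, hδ, sub_self]
    have hmem : κ - c • (1 : Matrix ι ι F) - δ • 1 ∈ K :=
      K.sub_mem hκ₁K (K.smul_mem K.one_mem δ)
    have hne : κ - c • (1 : Matrix ι ι F) - δ • 1 ≠ 0 := by
      intro h
      exact hκ₁ns δ (sub_eq_zero.1 h)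
    obtain ⟨y, _, _, hyk⟩ := gen_exists_inv_of_mem K hK _ hmem hne
    have h3 : κ - c • (1 : Matrix ι ι F) + δ • 1 = 0 := by
      have h4 := congrArg (fun M => y * M) hprod
      simp only [Matrix.mul_zero] at h4
      rwa [← Matrix.mul_assoc, hyk, Matrix.one_mul] at h4
    apply hκ₁ns (-δ)
    rw [neg_smul]
    exact eq_neg_of_add_eq_zero_left h3
  · obtain ⟨α, β, hk'⟩ := hgen k hk
    refine ⟨α + β * c, β, ?_⟩
    rw [hk']
    module

/-- OC-GEN : a field subalgebra of degree two in odd characteristic is `{a + b J}` with `J² = δ` a nonsquare -/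
theorem exists_gen (h2 : (2 : F) ≠ 0) (K : Subalgebra F (Matrix ι ι F)) (hK : Cfsg.Geo.IsFieldSubalgebra 2 K) :
    ∃ (J : Matrix ι ι F) (δ : F), J ∈ K ∧ ¬ IsSquare δ ∧ J * J = δ • (1 : Matrix ι ι F) ∧
      ∀ k ∈ K, ∃ a b : F, k = a • (1 : Matrix ι ι F) + b • J := by
  obtain ⟨J, hJK, δ, hδ, hJJ, hgen⟩ := gen_exists_sqrt_gen K hK h2
  exact ⟨J, δ, hJK, hδ, hJJ, hgen⟩

end Cfsg.Agent.Lib.Helper44.Oc
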