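import Mathlib
import Cfsg.Prelude.Def_GeometricClasses
import Cfsg.Agent.Lib.Helper44.UfDefs
import Cfsg.Agent.Lib.Helper44.HermSpace
import Cfsg.Agent.Lib.Helper44.SLInvExt

/-!
# S5982 hive, leaf UF-WLOG (helper74): every unitary form is equivalent to the standard one
-/

set_option autoImplicit false
open scoped MatrixGroups
open Matrix

namespace Cfsg.Agent.Lib.Helper44.Uf

universe v

variable {F : Type v} [Field F]

/-- UF-WLOG : every unitary form is equivalent to the standard one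
(use `Cfsg.Agent.Lib.Helper44.exists_herm_coords` in `Lib/Helper44/HermSpace.lean` and
`Cfsg.Agent.Lib.Helper44.SLInv.glOfEquiv` in `Lib/Helper44/SLInvExt.lean`) -/
theorem exists_std [Fintype F] {n q₀ : ℕ} (hF : Fintype.card F = q₀ ^ 2)
    (f : (Fin n → F) → (Fin n → F) → F) (hf : Cfsg.Geo.IsUnitaryFormPow q₀ f) :
    ∃ B : GL (Fin n) F, ∀ g : GL (Fin n) F,
      g ∈ Cfsg.Geo.similarityGroup f ↔ B * g * B⁻¹ ∈ HS n F q₀ := by
  have hH : Cfsg.Agent.Lib.Helper44.IsHermSpace q₀ f := by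
    refine ⟨hf.add_left, hf.smul_left, fun u v => (hf.herm v u).symm, ?_⟩
    intro v hv
    by_contra hv0
    obtain ⟨⟨x, hx⟩, -⟩ := hf.nondegenerate v hv0
    exact hx (hv x)
  obtain ⟨Θ, hΘ⟩ := Cfsg.Agent.Lib.Helper44.exists_herm_coords hF (Fin n → F) f hH n
    (Module.finrank_fin_fun F)
  refine ⟨Cfsg.Agent.Lib.Helper44.SLInv.glOfEquiv Θ, fun g => ?_⟩
  set B := Cfsg.Agent.Lib.Helper44.SLInv.glOfEquiv Θ with hB
  have hBv : ∀ u, (B : Matrix (Fin n) (Fin n) F) *ᵥ u = Θ u :=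
    fun u => Cfsg.Agent.Lib.Helper44.SLInv.glOfEquiv_mulVec Θ u
  have hBi : ∀ u, ((B⁻¹ : GL (Fin n) F) : Matrix (Fin n) (Fin n) F) *ᵥ u = Θ.symm u :=
    fun u => Cfsg.Agent.Lib.Helper44.SLInv.glOfEquiv_inv_mulVec Θ u
  have hconj : ∀ u, ((B * g * B⁻¹ : GL (Fin n) F) : Matrix (Fin n) (Fin n) F) *ᵥ u
      = Θ ((g : Matrix (Fin n) (Fin n) F) *ᵥ Θ.symm u) := by
    intro u
    rw [Units.val_mul, Units.val_mul, ← Matrix.mulVec_mulVec, ← Matrix.mulVec_mulVec, hBi, hBv]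
  constructor
  · rintro ⟨c, hc⟩
    refine ⟨c, fun u v => ?_⟩
    rw [hconj, hconj, hΘ, hc, ← hΘ, Θ.apply_symm_apply, Θ.apply_symm_apply]
  · rintro ⟨c, hc⟩
    refine ⟨c, fun u v => ?_⟩
    have h := hc (Θ u) (Θ v)
    rw [hconj, hconj, Θ.symm_apply_apply, Θ.symm_apply_apply, hΘ, hΘ] at h
    exact h

end Cfsg.Agent.Lib.Helper44.Uf
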