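import Mathlib
import Cfsg.Prelude.Def_GeometricClasses
import Cfsg.Agent.Lib.Helper44.UfDefs

/-!
# S5982 hive, leaf UF-BADA (helper74)
-/

set_option autoImplicit false
open scoped MatrixGroups
open Matrix

namespace Cfsg.Agent.Lib.Helper44.Uf

universe v

variable {F : Type v} [Field F]

/-- existence of units `w, ζ` with `orderOf ζ = r` and `w ^ n * ζ = 1`. -/
theorem bada_exists_units [Fintype F] {n q₀ : ℕ} (hF : Fintype.card F = q₀ ^ 2) (hn : 3 ≤ n) (r : ℕ)
    [hr : Fact r.Prime] (hv : padicValNat r n < padicValNat r (q₀ - 1)) :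
    ∃ w ζ : Fˣ, orderOf ζ = r ∧ w ^ n * ζ = 1 := by
  classical
  have hrp : r.Prime := hr.out
  set b := padicValNat r n with hb
  have hq1 : q₀ - 1 ≠ 0 := by
    intro h0
    rw [h0] at hv
    simp at hv
  have hn0 : n ≠ 0 := by omega
  -- r^(b+1) ∣ q₀ - 1 ∣ card Fˣ
  have hd1 : r ^ (b + 1) ∣ q₀ - 1 :=
    (padicValNat_dvd_iff_le hq1).mpr hv
  have hcardU : Nat.card Fˣ = q₀ ^ 2 - 1 := by
    rw [Nat.card_eq_fintype_card, Fintype.card_units, hF]
  have hd2 : q₀ - 1 ∣ q₀ ^ 2 - 1 := by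
    have : q₀ ^ 2 - 1 = (q₀ - 1) * (q₀ + 1) := by
      have h1 : 1 ≤ q₀ := by omega
      obtain ⟨k, rfl⟩ := Nat.exists_eq_add_of_le h1
      simp only [Nat.add_sub_cancel_left]
      have : (1 + k) ^ 2 = k * (1 + k + 1) + 1 := by ring
      rw [this]; simp
    rw [this]
    exact dvd_mul_right _ _
  have hd : r ^ (b + 1) ∣ Nat.card Fˣ := by
    rw [hcardU]; exact hd1.trans hd2
  obtain ⟨g, hg⟩ := IsCyclic.exists_ofOrder_eq_natCard (α := Fˣ)
  obtain ⟨m, hm⟩ := hd
  have hm0 : m ≠ 0 := by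
    rintro rfl
    have : Nat.card Fˣ ≠ 0 := Nat.card_pos.ne'
    rw [hm] at this
    simp at this
  have hy : orderOf (g ^ m) = r ^ (b + 1) := by
    rw [orderOf_pow_of_dvd hm0 (by rw [hg, hm]; exact dvd_mul_left _ _), hg, hm]
    exact Nat.mul_div_cancel _ (Nat.pos_of_ne_zero hm0)
  set y := g ^ m with hydef
  -- gcd (r^(b+1)) n = r^b
  have hgcd : Nat.gcd (r ^ (b + 1)) n = r ^ b := by
    obtain ⟨k, hk1, hk⟩ := (Nat.dvd_prime_pow hrp).mp (Nat.gcd_dvd_left (r ^ (b + 1)) n)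
    have hk2 : k ≤ b := by
      have : r ^ k ∣ n := by rw [← hk]; exact Nat.gcd_dvd_right _ _
      exact (padicValNat_dvd_iff_le hn0).mp this
    have hk3 : b ≤ k := by
      have h1 : r ^ b ∣ Nat.gcd (r ^ (b + 1)) n :=
        Nat.dvd_gcd (pow_dvd_pow r (Nat.le_succ b)) pow_padicValNat_dvd
      rw [hk] at h1
      exact (Nat.pow_dvd_pow_iff_le_right hrp.one_lt).mp h1
    rw [hk, le_antisymm hk2 hk3]
  have hord : orderOf (y ^ n) = r := by
    rw [orderOf_pow' y hn0, hy, hgcd, pow_succ]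
    exact Nat.mul_div_cancel_left _ (pow_pos hrp.pos b)
  refine ⟨y, (y ^ n)⁻¹, ?_, ?_⟩
  · rw [orderOf_inv, hord]
  · exact mul_inv_cancel _

/-- field version -/
theorem bada_exists_field [Fintype F] {n q₀ : ℕ} (hF : Fintype.card F = q₀ ^ 2) (hn : 3 ≤ n) (r : ℕ)
    [hr : Fact r.Prime] (hr2 : r ≠ 2) (hv : padicValNat r n < padicValNat r (q₀ - 1)) :
    ∃ w ζ : F, w ≠ 0 ∧ ζ ≠ 0 ∧ ζ ^ r = 1 ∧ ζ ≠ 1 ∧ ζ ^ 2 ≠ 1 ∧ w ^ n * ζ = 1 := by
  have hrp : r.Prime := hr.out
  obtain ⟨wu, ζu, hζord, hwζ⟩ := bada_exists_units (F := F) hF hn r hv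
  refine ⟨(wu : F), (ζu : F), wu.ne_zero, ζu.ne_zero, ?_, ?_, ?_, ?_⟩
  · have h1 : ζu ^ r = 1 := by rw [← hζord]; exact pow_orderOf_eq_one ζu
    have := congrArg (fun u : Fˣ => (u : F)) h1
    simpa using this
  · intro h1
    have : ζu = 1 := Units.ext (by simpa using h1)
    rw [this, orderOf_one] at hζord
    exact hrp.one_lt.ne hζord
  · intro h2
    have h2u : ζu ^ 2 = 1 := Units.ext (by rw [Units.val_pow_eq_pow_val]; simpa using h2)
    have : r ∣ 2 := by rw [← hζord]; exact orderOf_dvd_of_pow_eq_one h2u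
    have := (Nat.prime_dvd_prime_iff_eq hrp Nat.prime_two).mp this
    exact hr2 this
  · have := congrArg (fun u : Fˣ => (u : F)) hwζ
    simpa using this

/-- the diagonal entries of the bad element -/
def bada_d {n : ℕ} (i0 : Fin n) (w ζ : F) : Fin n → F := fun i => w * (if i = i0 then ζ else 1)

theorem bada_rank {n : ℕ} (i0 : Fin n) (w ζ μ : F) :
    (Matrix.diagonal (bada_d i0 w ζ) - μ • (1 : Matrix (Fin n) (Fin n) F)).rank
      = Nat.card {i : Fin n // bada_d i0 w ζ i - μ ≠ 0} := by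
  classical
  have : Matrix.diagonal (bada_d i0 w ζ) - μ • (1 : Matrix (Fin n) (Fin n) F)
      = Matrix.diagonal (fun i => bada_d i0 w ζ i - μ) := by
    ext i j
    by_cases hij : i = j
    · subst hij; simp
    · simp [hij]
  rw [this]
  exact (Matrix.rank_diagonal _).trans (Nat.card_eq_fintype_card).symm

/-- UF-BADA : `x = w • diag(1, …, 1, ζ)` with `ζ` of order `r` and `w ^ n = ζ⁻¹`
(`ζ⁻¹` is an `n`-th power since `v_r(n) < v_r(q₀ - 1) = v_r(q - 1)`); `Matrix.rank_diagonal` -/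
theorem exists_bad_A [Fintype F] {n q₀ : ℕ} (hF : Fintype.card F = q₀ ^ 2) (hn : 3 ≤ n) (r : ℕ)
    [Fact r.Prime] (hr2 : r ≠ 2) (hr1 : r ∣ q₀ - 1) (hv : padicValNat r n < padicValNat r (q₀ - 1)) :
    ∃ x : GL (Fin n) F, x ∈ Cfsg.Geo.specialLinear (Fin n) F ∧
      (∃ z : F, ((x ^ r : GL (Fin n) F) : Matrix (Fin n) (Fin n) F) = z • (1 : Matrix (Fin n) (Fin n) F)) ∧
      (∀ z : F, (x : Matrix (Fin n) (Fin n) F) ≠ z • (1 : Matrix (Fin n) (Fin n) F)) ∧
      ¬ SpecSym q₀ (x : Matrix (Fin n) (Fin n) F) := by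
  classical
  have hrp : r.Prime := Fact.out
  obtain ⟨w, ζ, hw0, hζ0, hζr, hζ1, hζsq, hwζF⟩ := bada_exists_field (F := F) hF hn r hr2 hv
  have hζq : ζ ^ (q₀ - 1) = 1 := by
    obtain ⟨k, hk⟩ := hr1
    rw [hk, pow_mul, hζr, one_pow]
  have hq0 : 1 ≤ q₀ := by
    by_contra hcon
    have h0 : q₀ - 1 = 0 := by omega
    rw [h0] at hv
    simp at hv
  let i0 : Fin n := ⟨0, by omega⟩
  let i1 : Fin n := ⟨1, by omega⟩
  let i2 : Fin n := ⟨2, by omega⟩
  have h01 : i1 ≠ i0 := by simp [i0, i1, Fin.ext_iff]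
  have h02 : i2 ≠ i0 := by simp [i0, i2, Fin.ext_iff]
  have h12 : i1 ≠ i2 := by simp [i1, i2, Fin.ext_iff]
  set d : Fin n → F := bada_d i0 w ζ with hd
  have hd0 : d i0 = w * ζ := by simp [hd, bada_d]
  have hdne : ∀ i, i ≠ i0 → d i = w := by
    intro i hi
    simp [hd, bada_d, hi]
  have hprod : ∏ i, d i = 1 := by
    have : ∏ i, d i = w ^ n * ζ := by
      simp only [hd, bada_d]
      rw [Finset.prod_mul_distrib, Finset.prod_const, Finset.card_univ, Fintype.card_fin,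
        Finset.prod_ite_eq' Finset.univ i0 (fun _ => ζ)]
      simp
    rw [this, hwζF]
  have hdet : (Matrix.diagonal d).det = 1 := by rw [Matrix.det_diagonal, hprod]
  let x : GL (Fin n) F := Matrix.GeneralLinearGroup.mkOfDetNeZero (Matrix.diagonal d)
    (by rw [hdet]; exact one_ne_zero)
  have hx : (x : Matrix (Fin n) (Fin n) F) = Matrix.diagonal d := rfl
  refine ⟨x, ?_, ⟨w ^ r, ?_⟩, ?_, ?_⟩
  · -- SL membership
    show x ∈ (Matrix.GeneralLinearGroup.det : GL (Fin n) F →* Fˣ).ker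
    rw [MonoidHom.mem_ker]
    apply Units.ext
    rw [Matrix.GeneralLinearGroup.val_det_apply, hx, hdet]
    rfl
  · -- x ^ r scalar
    rw [Units.val_pow_eq_pow_val, hx, Matrix.diagonal_pow]
    ext i j
    by_cases hij : i = j
    · subst hij
      by_cases hi : i = i0
      · simp [hd, bada_d, hi, mul_pow, hζr]
      · simp [hd, bada_d, hi]
    · simp [hij]
  · -- not scalar
    intro z hz
    rw [hx] at hz
    have e0 := congrFun (congrFun hz i0) i0
    have e1 := congrFun (congrFun hz i1) i1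
    simp only [Matrix.diagonal_apply_eq, Matrix.smul_apply, Matrix.one_apply_eq, smul_eq_mul,
      mul_one] at e0 e1
    rw [hd0] at e0
    rw [hdne i1 h01] at e1
    rw [← e1] at e0
    apply hζ1
    have : w * ζ = w * 1 := by rw [e0, mul_one]
    exact mul_left_cancel₀ hw0 this
  · -- not spectrally symmetric
    rintro ⟨c, hc0, hcq, hsym⟩
    rw [hx] at hsym
    have hwζne : w * ζ ≠ w := by
      intro h
      apply hζ1
      have : w * ζ = w * 1 := by rw [h, mul_one]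
      exact mul_left_cancel₀ hw0 this
    -- ranks
    have hrank : ∀ μ : F, (Matrix.diagonal d - μ • (1 : Matrix (Fin n) (Fin n) F)).rank
        = Fintype.card {i : Fin n // d i - μ ≠ 0} := fun μ =>
      (bada_rank i0 w ζ μ).trans Nat.card_eq_fintype_card
    -- rank at w is 1
    have hrw : Fintype.card {i : Fin n // d i - w ≠ 0} = 1 := by
      rw [Fintype.card_eq_one_iff]
      refine ⟨⟨i0, ?_⟩, ?_⟩
      · rw [hd0]; exact sub_ne_zero.mpr hwζne
      · rintro ⟨i, hi⟩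
        apply Subtype.ext
        by_contra hne
        exact hi (by rw [hdne i hne, sub_self])
    -- if rank at μ is ≤ 1 then μ = w
    have hle1 : ∀ μ : F, Fintype.card {i : Fin n // d i - μ ≠ 0} ≤ 1 → μ = w := by
      intro μ hμ
      by_contra hne
      have h1 : d i1 - μ ≠ 0 := by rw [hdne i1 h01]; exact sub_ne_zero.mpr (Ne.symm hne)
      have h2 : d i2 - μ ≠ 0 := by rw [hdne i2 h02]; exact sub_ne_zero.mpr (Ne.symm hne)
      have := Fintype.card_le_one_iff.mp hμ ⟨i1, h1⟩ ⟨i2, h2⟩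
      exact h12 (congrArg Subtype.val this)
    -- rank at wζ is n - 1
    have hcompl : ∀ μ : F, Fintype.card {i : Fin n // d i - μ ≠ 0}
        = n - Fintype.card {i : Fin n // d i - μ = 0} := by
      intro μ
      have := Fintype.card_subtype_compl (fun i : Fin n => d i - μ = 0)
      rw [Fintype.card_fin] at this
      exact this
    have hrwζ : Fintype.card {i : Fin n // d i - w * ζ = 0} = 1 := by
      rw [Fintype.card_eq_one_iff]
      refine ⟨⟨i0, by rw [hd0, sub_self]⟩, ?_⟩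
      rintro ⟨i, hi⟩
      apply Subtype.ext
      by_contra hne
      rw [hdne i hne] at hi
      exact hwζne (sub_eq_zero.mp hi).symm
    -- if exactly one i has d i = μ then μ = wζ
    have hone : ∀ μ : F, Fintype.card {i : Fin n // d i - μ = 0} = 1 → μ = w * ζ := by
      intro μ hμ
      obtain ⟨⟨i, hi⟩, huniq⟩ := Fintype.card_eq_one_iff.mp hμ
      by_cases hi0 : i = i0
      · rw [hi0, hd0] at hi
        exact (sub_eq_zero.mp hi).symm
      · exfalso
        rw [hdne i hi0] at hi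
        have hμw : μ = w := (sub_eq_zero.mp hi).symm
        have h1 : d i1 - μ = 0 := by rw [hdne i1 h01, hμw, sub_self]
        have h2 : d i2 - μ = 0 := by rw [hdne i2 h02, hμw, sub_self]
        have e1 := huniq ⟨i1, h1⟩
        have e2 := huniq ⟨i2, h2⟩
        exact h12 ((congrArg Subtype.val e1).trans (congrArg Subtype.val e2).symm)
    have hcardle : ∀ μ : F, Fintype.card {i : Fin n // d i - μ = 0} ≤ n := by
      intro μ
      have := Fintype.card_subtype_le (fun i : Fin n => d i - μ = 0)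
      rwa [Fintype.card_fin] at this
    -- apply symmetry at μ = w
    have s1 := hsym w hw0
    rw [hrank, hrank, hrw] at s1
    have e1 : c / w ^ q₀ = w := hle1 _ (by rw [← s1])
    -- apply symmetry at μ = wζ
    have hwζ0 : w * ζ ≠ 0 := mul_ne_zero hw0 hζ0
    have s2 := hsym (w * ζ) hwζ0
    rw [hrank, hrank, hcompl, hcompl, hrwζ] at s2
    have e2 : c / (w * ζ) ^ q₀ = w * ζ := by
      apply hone
      have := hcardle (c / (w * ζ) ^ q₀)
      omega
    -- conclude ζ ^ (q₀ + 1) = 1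
    have hc1 : c = w ^ (q₀ + 1) := by
      have hwq : w ^ q₀ ≠ 0 := pow_ne_zero _ hw0
      rw [div_eq_iff hwq] at e1
      rw [e1, pow_succ']
    have hc2 : c = (w * ζ) ^ (q₀ + 1) := by
      have hwq : (w * ζ) ^ q₀ ≠ 0 := pow_ne_zero _ hwζ0
      rw [div_eq_iff hwq] at e2
      rw [e2, pow_succ']
    have hζq1 : ζ ^ (q₀ + 1) = 1 := by
      rw [hc1, mul_pow] at hc2
      have hwq : w ^ (q₀ + 1) ≠ 0 := pow_ne_zero _ hw0
      have : w ^ (q₀ + 1) * 1 = w ^ (q₀ + 1) * ζ ^ (q₀ + 1) := by rw [mul_one]; exact hc2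
      exact (mul_left_cancel₀ hwq this).symm
    apply hζsq
    have : q₀ + 1 = (q₀ - 1) + 2 := by omega
    rw [this, pow_add, hζq, one_mul] at hζq1
    exact hζq1

end Cfsg.Agent.Lib.Helper44.Uf
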