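import Cfsg.Agent.Lib.Helper74.BF4
import Cfsg.Agent.S0160

set_option autoImplicit false

namespace Cfsg.Agent.Lib.Helper74

open scoped ComplexConjugate

section
variable {G : Type*} [Group G] [Fintype G] [Fintype (Cfsg.IrrCharacter G)]

theorem card_real_irr :
    Nat.card {χ : Cfsg.IrrCharacter G // ∀ g : G, ((χ : G → ℂ) g).im = 0} =
      (realNontriv G).card + 1 := by
  classical
  rw [Nat.card_eq_fintype_card, Fintype.card_subtype]
  have : Finset.univ.filter (fun χ : Cfsg.IrrCharacter G => ∀ g : G, ((χ : G → ℂ) g).im = 0) =
      insert (trivIrr G) (realNontriv G) := by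
    ext χ
    simp only [Finset.mem_filter, Finset.mem_univ, true_and, Finset.mem_insert, mem_realNontriv]
    constructor
    · intro h
      by_cases h1 : χ = trivIrr G
      · exact Or.inl h1
      · exact Or.inr ⟨h, h1⟩
    · rintro (h | h)
      · rw [h]; intro g; rw [trivIrr_apply]; simp
      · exact h.1
  rw [this, Finset.card_insert_of_notMem]
  intro h
  exact ((mem_realNontriv _).mp h).2 rfl

open Classical in
/-- the real non-identity conjugacy classes -/
noncomputable def realClasses (G : Type*) [Group G] [Fintype G] : Finset (ConjClasses G) :=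
  Finset.univ.filter (fun C => (∀ g : G, ConjClasses.mk g = C → IsConj g g⁻¹) ∧ C ≠ ConjClasses.mk 1)

omit [Fintype (Cfsg.IrrCharacter G)] in
theorem mem_realClasses (C : ConjClasses G) :
    C ∈ realClasses G ↔ (∀ g : G, ConjClasses.mk g = C → IsConj g g⁻¹) ∧ C ≠ ConjClasses.mk 1 := by
  classical
  simp [realClasses]

theorem card_realClasses : (realClasses G).card = (realNontriv G).card := by
  classical
  have h0 := Cfsg.Agent.S0160.result (G := G)
  rw [card_real_irr] at h0
  rw [Nat.card_eq_fintype_card, Fintype.card_subtype] at h0
  have : Finset.univ.filter (fun C : ConjClasses G => ∀ g : G, ConjClasses.mk g = C → IsConj g g⁻¹) =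
      insert (ConjClasses.mk 1) (realClasses G) := by
    ext C
    simp only [Finset.mem_filter, Finset.mem_univ, true_and, Finset.mem_insert, mem_realClasses]
    constructor
    · intro h
      by_cases h1 : C = ConjClasses.mk 1
      · exact Or.inl h1
      · exact Or.inr ⟨h, h1⟩
    · rintro (h | h)
      · rw [h]
        intro g hg
        rw [ConjClasses.mk_eq_mk_iff_isConj, isConj_one_left] at hg
        rw [hg, inv_one]
      · exact h.1
  rw [this, Finset.card_insert_of_notMem] at h0
  · omega
  · intro h
    exact ((mem_realClasses _).mp h).2 rfl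

end

end Cfsg.Agent.Lib.Helper74
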