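import Cfsg.Agent.Lib.Helper74.FR7

/-!
# Brauer pairs at a normal `p`-subgroup: the idempotent of the block is an orbit sum
-/

set_option autoImplicit false
set_option linter.unusedSectionVars false

universe u

namespace Cfsg.Agent.Lib.Helper74

open Cfsg Cfsg.Agent.Lib.Helper77 Cfsg.Agent.Lib.Helper25 Cfsg.Agent.Lib.Helper81
open Cfsg.Agent.Lib.Helper16 Cfsg.Agent.Lib.Helper75
open scoped ComplexConjugate

section NP

variable {G : Type u} [Group G] [Fintype G]

theorem subgroupBlockCoeff_eq_extendByZero (C : Subgroup G) (e : Set (IrrCharacter C)) (y : G) :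
    subgroupBlockCoeff C e y = extendByZero C (blockCoeff e) y := by
  unfold subgroupBlockCoeff
  by_cases h : y ∈ C
  · rw [dif_pos h, extendByZero_of_mem C _ h]
  · rw [dif_neg h, extendByZero_of_not_mem C _ h]

/-- The stabilizer hypothesis of the frozen vocabulary, in the form used here. -/
theorem isStab_of_stabilizesBlock (C : Subgroup G) [hC : C.Normal] (e : Set (IrrCharacter C))
    (T : Subgroup G) (hT : ∀ x : G, x ∈ T ↔ StabilizesBlock C e x) : IsStab C T e := by
  intro g
  constructor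
  · intro hg θ hθ
    have hg' := (hT g⁻¹).mp (T.inv_mem hg)
    obtain ⟨θ', hθ', hc⟩ := hg'.2 θ hθ
    have : θ' = Cfsg.Agent.Lib.Helper16.conjIrr C g θ := by
      apply Subtype.ext
      funext k'
      show (θ' : C → ℂ) k' = conjFun C g (θ : C → ℂ) k'
      rw [conjFun_apply]
      apply hc
      show (k' : G) = g⁻¹ * (g * k' * g⁻¹) * g⁻¹⁻¹
      group
    rw [← this]
    exact hθ'
  · intro h
    have hg' : g⁻¹ ∈ T := by
      rw [hT]
      refine ⟨?_, ?_⟩
      · rw [Subgroup.normalizer_eq_top]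
        exact Subgroup.mem_top _
      · intro χ hχ
        refine ⟨Cfsg.Agent.Lib.Helper16.conjIrr C g χ, h χ hχ, ?_⟩
        intro k k' hk
        show conjFun C g (χ : C → ℂ) k' = (χ : C → ℂ) k
        rw [conjFun_apply]
        apply congrArg
        apply Subtype.ext
        show g * (k' : G) * g⁻¹ = k
        rw [hk]
        group
    simpa using T.inv_mem hg'

theorem le_of_stabilizesBlock (C : Subgroup G) (e : Set (IrrCharacter C))
    (T : Subgroup G) (hT : ∀ x : G, x ∈ T ↔ StabilizesBlock C e x) : C ≤ T := by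
  intro c hc
  have : Fintype C := Fintype.ofFinite _
  rw [hT]
  refine ⟨Subgroup.le_normalizer hc, ?_⟩
  intro χ hχ
  refine ⟨χ, hχ, ?_⟩
  intro k k' hk
  have hcl := isClassFunction_of_isCharacter χ.2
  have : k' = ⟨c, hc⟩ * k * (⟨c, hc⟩ : C)⁻¹ := by
    apply Subtype.ext
    rw [hk]
    rfl
  rw [this, hcl]

theorem normal_pair_main {p : ℕ} [Fact p.Prime] {M : Ideal AlgInt} (hpM : IsPModular p M)
    (P : Subgroup G) [P.Normal] (hP : IsPGroup p P) (B : Set (IrrCharacter G))
    (e : Set (IrrCharacter (Subgroup.centralizer (P : Set G))))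
    (hBe : IsBrauerPairOf p M B P e) (T : Subgroup G)
    (hT : ∀ x : G, x ∈ T ↔ StabilizesBlock (Subgroup.centralizer (P : Set G)) e x) :
    (∃ E : Set (IrrCharacter T), IsPBlock M E ∧ ∀ t : T, blockCoeff E t =
      subgroupBlockCoeff (Subgroup.centralizer (P : Set G)) e (t : G)) ∧
    ∀ g : G, blockCoeff B g = (Nat.card T : ℂ)⁻¹ *
      ∑ x : G, subgroupBlockCoeff (Subgroup.centralizer (P : Set G)) e (x⁻¹ * g * x) := by
  classical
  have hM := isPrime_of_isPModular hpM
  have : Fintype (Subgroup.centralizer (P : Set G)) := Fintype.ofFinite _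
  have : Fintype T := Fintype.ofFinite _
  obtain ⟨⟨_, he⟩, hB, hω⟩ := hBe
  have hCT := le_of_stabilizesBlock (Subgroup.centralizer (P : Set G)) e T hT
  have hst := isStab_of_stabilizesBlock (Subgroup.centralizer (P : Set G)) e T hT
  obtain ⟨χ₀, rfl⟩ := hB
  have hsupp : ∀ g : G, g ∉ Subgroup.centralizer (P : Set G) →
      blockCoeff (blockOf M (χ₀ : G → ℂ)) g = 0 :=
    fun g hg => blockCoeff_eq_zero_of_not_mem_centralizer hpM P hP χ₀ hg
  -- central characters of the characters of `C` at the truncated idempotent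
  have d1 : ∀ (χ : IrrCharacter G) (ξ : IrrCharacter (Subgroup.centralizer (P : Set G))),
      classInner (fun c : Subgroup.centralizer (P : Set G) => (χ : G → ℂ) c)
        (ξ : Subgroup.centralizer (P : Set G) → ℂ) ≠ 0 →
      omega (ξ : Subgroup.centralizer (P : Set G) → ℂ)
        (fun c : Subgroup.centralizer (P : Set G) => blockCoeff (blockOf M (χ₀ : G → ℂ)) c) =
        if χ ∈ blockOf M (χ₀ : G → ℂ) then 1 else 0 := by
    intro χ ξ hne
    rw [← omega_eq_of_classInner_ne_zero (Subgroup.centralizer (P : Set G)) χ.2 ξ.2 hne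
      (blockCoeff_isClassFunction _) hsupp, omega_blockCoeff]
  have hbo : ∀ ξ ∈ e, MemLocalIdeal M
      (omega (ξ : Subgroup.centralizer (P : Set G) → ℂ)
        (fun c : Subgroup.centralizer (P : Set G) => blockCoeff (blockOf M (χ₀ : G → ℂ)) c)
        - 1) := by
    intro ξ hξ
    have h := hω ξ hξ
    rw [brauerOmega_eq_omega] at h
    have hbr : brRes P (Subgroup.centralizer (P : Set G)) (blockCoeff (blockOf M (χ₀ : G → ℂ))) =
        fun c : Subgroup.centralizer (P : Set G) => blockCoeff (blockOf M (χ₀ : G → ℂ)) c := by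
      funext c
      exact brRes_pos _ c.2
    rw [hbr] at h
    exact h
  have d3 : ∀ χ : IrrCharacter G, FrOverG (Subgroup.centralizer (P : Set G)) e (χ : G → ℂ) →
      χ ∈ blockOf M (χ₀ : G → ℂ) := by
    rintro χ ⟨ξ, hξ, hne⟩
    by_contra hχ
    have h := hbo ξ hξ
    rw [d1 χ ξ hne, if_neg hχ, zero_sub] at h
    have := memLocalIdeal_neg h
    rw [neg_neg] at this
    exact not_memLocalIdeal_one hM this
  have hBiff : ∀ χ : IrrCharacter G, χ ∈ blockOf M (χ₀ : G → ℂ) ↔
      FrOverG (Subgroup.centralizer (P : Set G)) e (χ : G → ℂ) := by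
    intro χ
    refine ⟨fun hχ => ?_, d3 χ⟩
    obtain ⟨ξ₀, rfl⟩ := he
    obtain ⟨χ₁, hχ₁⟩ := fr_exists_over (Subgroup.centralizer (P : Set G)) ξ₀
    have hov₁ : FrOverG (Subgroup.centralizer (P : Set G))
        (blockOf M (ξ₀ : Subgroup.centralizer (P : Set G) → ℂ)) (χ₁ : G → ℂ) :=
      ⟨ξ₀, self_mem_blockOf hM ξ₀, hχ₁⟩
    have hχ₁B := d3 χ₁ hov₁
    have hs : SameBlock M (χ₁ : G → ℂ) (χ : G → ℂ) :=
      sameBlock_trans hM (sameBlock_symm hχ₁B) hχ
    exact overG_of_sameBlock (Subgroup.centralizer (P : Set G)) _ hpM ⟨ξ₀, rfl⟩ χ₁ χ hs hov₁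
  constructor
  · obtain ⟨E, hE, hEc⟩ := exists_block_T_of_overG (Subgroup.centralizer (P : Set G)) T hCT e hpM
      he hst (blockOf M (χ₀ : G → ℂ)) ⟨χ₀, rfl⟩ ⟨χ₀, self_mem_blockOf hM χ₀⟩ hBiff
    refine ⟨E, hE, fun t => ?_⟩
    rw [hEc, subgroupBlockCoeff_eq_extendByZero]
    rfl
  · have h := blockCoeff_eq_indFun_frIdem (Subgroup.centralizer (P : Set G)) T hCT e hM he hst
      (blockOf M (χ₀ : G → ℂ)) hBiff
    intro g
    rw [h, indFun_apply]
    congr 1
    refine Finset.sum_congr rfl fun x _ => ?_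
    rw [subgroupBlockCoeff_eq_extendByZero]
    by_cases hy : x⁻¹ * g * x ∈ T
    · rw [extendByZero_of_mem T _ hy]
      rfl
    · rw [extendByZero_of_not_mem T _ hy, extendByZero_of_not_mem]
      exact fun hc => hy (hCT hc)

end NP

end Cfsg.Agent.Lib.Helper74
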