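import Cfsg.Agent.Lib.Helper74.PReg3
import Cfsg.Agent.Lib.Helper75.DefectCmp
import Cfsg.Agent.Lib.Helper77.DefectConj
import Cfsg.Agent.Lib.Helper16.DefectVal

set_option autoImplicit false

namespace Cfsg.Agent.Lib.Helper74

open Cfsg Cfsg.Agent.Lib.Helper77 Cfsg.Agent.Lib.Helper81 Cfsg.Agent.Lib.Helper16
open scoped ComplexConjugate Pointwise

universe u

section
variable {G : Type u} [Group G] [Fintype G]

theorem factorization_index_centralizer (p : ℕ) [Fact p.Prime] (x : G) :
    ((Subgroup.centralizer ({x} : Set G)).index).factorization p +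
      (Nat.card (Subgroup.centralizer ({x} : Set G))).factorization p =
      (Nat.card G).factorization p := by
  have h1 := (Subgroup.centralizer ({x} : Set G)).card_mul_index
  have hH : Nat.card (Subgroup.centralizer ({x} : Set G)) ≠ 0 := Nat.card_pos.ne'
  have hi : (Subgroup.centralizer ({x} : Set G)).index ≠ 0 := Subgroup.index_ne_zero_of_finite
  rw [← h1, Nat.factorization_mul hH hi, Finsupp.add_apply, add_comm]

/-- If the degree of `χ` is divisible by a higher power of `p` than the class size of `x`, then
`χ x` lies in the local ideal. -/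
theorem irr_memLocalIdeal_of_val_lt {p : ℕ} [Fact p.Prime] {M : Ideal AlgInt}
    (hM : IsPModular p M) (χ : IrrCharacter G) (x : G)
    (h : ((Subgroup.centralizer ({x} : Set G)).index).factorization p <
      (charDegree (χ : G → ℂ)).factorization p) : MemLocalIdeal M ((χ : G → ℂ) x) := by
  have hp : p.Prime := Fact.out
  have hMp : M.IsPrime := isPrime_of_isPModular hM
  have hi : (Subgroup.centralizer ({x} : Set G)).index ≠ 0 := Subgroup.index_ne_zero_of_finite
  have hi' : ((Subgroup.centralizer ({x} : Set G)).index : ℂ) ≠ 0 := Nat.cast_ne_zero.mpr hi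
  have h1 : (χ : G → ℂ) 1 ≠ 0 := by
    rw [irr_apply_one_eq_charDegree]
    exact_mod_cast irr_charDegree_ne_zero χ
  have heq : (χ : G → ℂ) x = centralChar (χ : G → ℂ) x *
      (((charDegree (χ : G → ℂ) : ℕ) : ℤ) : ℂ) / ((Subgroup.centralizer ({x} : Set G)).index : ℂ) := by
    unfold centralChar
    rw [Int.cast_natCast, ← irr_apply_one_eq_charDegree]
    field_simp
  rw [heq, mul_div_assoc]
  apply memLocalIdeal_mul_left hMp (memLocalRing_centralChar hMp χ.2 x)
  have hdvd : p ^ (((Subgroup.centralizer ({x} : Set G)).index).factorization p + 1) ∣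
      charDegree (χ : G → ℂ) :=
    dvd_trans (pow_dvd_pow p h) (Nat.ordProj_dvd _ p)
  have hdvd0 : p ^ (((Subgroup.centralizer ({x} : Set G)).index).factorization p) ∣
      charDegree (χ : G → ℂ) :=
    dvd_trans (pow_dvd_pow p (Nat.le_succ _)) hdvd
  exact (memLocalIdeal_div_iff hM _ hi _ (Int.natCast_dvd_natCast.mpr hdvd0)).mpr
    (Int.natCast_dvd_natCast.mpr hdvd)

/-- A character in a block of defect smaller than the defect of the class of `x` has `χ x` in the
local ideal. -/
theorem irr_memLocalIdeal_of_defect_lt {p : ℕ} [Fact p.Prime] {M : Ideal AlgInt}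
    (hM : IsPModular p M) (χ : IrrCharacter G) (x : G)
    (h : blockDefect p (blockOf M (χ : G → ℂ)) <
      (Nat.card (Subgroup.centralizer ({x} : Set G))).factorization p) :
    MemLocalIdeal M ((χ : G → ℂ) x) := by
  have hMp : M.IsPrime := isPrime_of_isPModular hM
  apply irr_memLocalIdeal_of_val_lt hM
  have h1 := minDegVal_le p (self_mem_blockOf hMp χ)
  have h2 := factorization_index_centralizer p x
  rw [blockDefect_eq] at h
  omega

/-- If the central character of `χ` does not vanish modulo the local ideal at `x` and the defect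
of the block of `χ` is at least the defect of the class of `x`, then the Sylow subgroups of the
centralizer of `x` are defect groups of the block. -/
theorem isDefectGroup_of_centralChar {p : ℕ} [Fact p.Prime] {M : Ideal AlgInt}
    (hM : IsPModular p M) (χ : IrrCharacter G) (x : G)
    (hω : ¬ MemLocalIdeal M (centralChar (χ : G → ℂ) x))
    (hd : (Nat.card (Subgroup.centralizer ({x} : Set G))).factorization p ≤
      blockDefect p (blockOf M (χ : G → ℂ)))
    (S : Sylow p (Subgroup.centralizer ({x} : Set G))) :
    IsDefectGroup p M (blockOf M (χ : G → ℂ))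
      ((S : Subgroup (Subgroup.centralizer ({x} : Set G))).map
        (Subgroup.centralizer ({x} : Set G)).subtype) := by
  have hp : p.Prime := Fact.out
  have hMp : M.IsPrime := isPrime_of_isPModular hM
  obtain ⟨E, hE⟩ := exists_isDefectGroup hM χ
  have hEp := isPGroup_of_isDefectGroup hE
  obtain ⟨h, hh, Q, hEQ⟩ := id hE
  have hdef := defLE_of_blockCoeff hM χ x hω S h hh.2.1
  have hEle : E ≤ Subgroup.centralizer ({h} : Set G) := by
    rw [hEQ]
    exact Subgroup.map_subtype_le _
  obtain ⟨y, hy⟩ := hdef E hEp hEle
  have hcardE : Nat.card E = p ^ blockDefect p (blockOf M (χ : G → ℂ)) := by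
    rw [hEQ, Subgroup.card_map_of_injective (Subgroup.subtype_injective _),
      Sylow.card_eq_multiplicity Q,
      val_centralizer_of_isDefectClass p M hM ⟨χ, rfl⟩ hh, blockDefect_eq]
  have hcardS : Nat.card ((S : Subgroup (Subgroup.centralizer ({x} : Set G))).map
        (Subgroup.centralizer ({x} : Set G)).subtype) =
      p ^ (Nat.card (Subgroup.centralizer ({x} : Set G))).factorization p := by
    rw [Subgroup.card_map_of_injective (Subgroup.subtype_injective _),
      Sylow.card_eq_multiplicity S]
  have heq : MulAut.conj y • E = (S : Subgroup (Subgroup.centralizer ({x} : Set G))).map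
        (Subgroup.centralizer ({x} : Set G)).subtype := by
    have hcard : Nat.card ((S : Subgroup (Subgroup.centralizer ({x} : Set G))).map
        (Subgroup.centralizer ({x} : Set G)).subtype) ≤
        Nat.card (MulAut.conj y • E : Subgroup G) := by
      rw [card_conj_smul, hcardE, hcardS]
      exact Nat.pow_le_pow_right hp.pos hd
    apply SetLike.coe_injective
    exact Set.eq_of_subset_of_ncard_le hy hcard (Set.toFinite _)
  rw [← heq]
  exact isDefectGroup_conj hE y

end

end Cfsg.Agent.Lib.Helper74
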