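import Cfsg.Agent.Lib.Helper81.LocalRing
import Mathlib.LinearAlgebra.Matrix.Determinant.Basic

set_option autoImplicit false

namespace Cfsg.Agent.Lib.Helper74

open Cfsg Cfsg.Agent.Lib.Helper81

/-- Multilinear expansion of the determinant of a product `Aᵀ B` of rectangular matrices. -/
theorem det_sum_mul_expand {R : Type*} [CommRing R] {ι : Type*} [Fintype ι] [DecidableEq ι]
    {n : Type*} [Fintype n] [DecidableEq n]
    (A B : ι → n → R) :
    Matrix.det (Matrix.of fun i j : n => ∑ c : ι, A c i * B c j) =
      ∑ f : n → ι, (∏ j : n, B (f j) j) * Matrix.det (Matrix.of fun i j : n => A (f i) j) := by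
  rw [← Matrix.det_transpose]
  have h1 : (Matrix.of fun i j : n => ∑ c : ι, A c i * B c j).transpose =
      (fun j : n => ∑ c : ι, B c j • A c) := by
    funext j i
    simp [Matrix.transpose_apply, Finset.sum_apply, mul_comm]
  show Matrix.detRowAlternating _ = _
  rw [h1]
  have h2 := (Matrix.detRowAlternating (R := R) (n := n)).toMultilinearMap.map_sum
    (fun (j : n) (c : ι) => B c j • A c)
  simp only [AlternatingMap.coe_multilinearMap] at h2
  rw [h2]
  apply Finset.sum_congr rfl
  intro f _
  have h3 := (Matrix.detRowAlternating (R := R) (n := n)).toMultilinearMap.map_smul_univ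
    (fun j : n => B (f j) j) (fun j : n => A (f j))
  simp only [AlternatingMap.coe_multilinearMap] at h3
  rw [h3, smul_eq_mul]
  rfl

variable {M : Ideal AlgInt}

theorem memLocalIdeal_prod_sub_prod (hM : M.IsPrime) {ι : Type*} (s : Finset ι) (a b : ι → ℂ)
    (ha : ∀ i ∈ s, MemLocalRing M (a i)) (hb : ∀ i ∈ s, MemLocalRing M (b i))
    (hab : ∀ i ∈ s, MemLocalIdeal M (a i - b i)) :
    MemLocalIdeal M (∏ i ∈ s, a i - ∏ i ∈ s, b i) := by
  classical
  induction s using Finset.induction_on with
  | empty =>
    simp only [Finset.prod_empty, sub_self]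
    exact memLocalIdeal_zero hM
  | insert i s hi ih =>
    rw [Finset.prod_insert hi, Finset.prod_insert hi]
    have h1 : a i * ∏ j ∈ s, a j - b i * ∏ j ∈ s, b j =
        a i * (∏ j ∈ s, a j - ∏ j ∈ s, b j) + (a i - b i) * ∏ j ∈ s, b j := by ring
    rw [h1]
    apply memLocalIdeal_add hM
    · apply memLocalIdeal_mul_left hM (ha i (Finset.mem_insert_self i s))
      exact ih (fun j hj => ha j (Finset.mem_insert_of_mem hj))
        (fun j hj => hb j (Finset.mem_insert_of_mem hj))
        (fun j hj => hab j (Finset.mem_insert_of_mem hj))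
    · apply memLocalIdeal_mul_right hM (hab i (Finset.mem_insert_self i s))
      exact memLocalRing_prod hM s b (fun j hj => hb j (Finset.mem_insert_of_mem hj))

theorem memLocalRing_det (hM : M.IsPrime) {n : Type*} [Fintype n] [DecidableEq n]
    (X : Matrix n n ℂ) (hX : ∀ i j, MemLocalRing M (X i j)) : MemLocalRing M X.det := by
  rw [Matrix.det_apply']
  apply memLocalRing_sum hM
  intro σ _
  apply memLocalRing_mul hM
  · exact_mod_cast memLocalRing_intCast hM _
  · exact memLocalRing_prod hM _ _ (fun i _ => hX _ _)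

theorem memLocalIdeal_det_sub_det (hM : M.IsPrime) {n : Type*} [Fintype n] [DecidableEq n]
    (X Y : Matrix n n ℂ) (hX : ∀ i j, MemLocalRing M (X i j)) (hY : ∀ i j, MemLocalRing M (Y i j))
    (hXY : ∀ i j, MemLocalIdeal M (X i j - Y i j)) : MemLocalIdeal M (X.det - Y.det) := by
  rw [Matrix.det_apply', Matrix.det_apply', ← Finset.sum_sub_distrib]
  apply memLocalIdeal_sum hM
  intro σ _
  rw [← mul_sub]
  apply memLocalIdeal_mul_left hM
  · exact_mod_cast memLocalRing_intCast hM _
  · exact memLocalIdeal_prod_sub_prod hM _ _ _ (fun i _ => hX _ _) (fun i _ => hY _ _)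
      (fun i _ => hXY _ _)

end Cfsg.Agent.Lib.Helper74
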