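import Cfsg.Agent.Lib.Helper74.SP1
import Cfsg.Agent.Lib.Helper74.SP2
import Cfsg.Agent.Lib.Helper74.SP3

set_option autoImplicit false

namespace Cfsg.Agent.Lib.Helper74

open Cfsg Cfsg.Agent.Lib.Helper77 Cfsg.Agent.Lib.Helper81 Cfsg.Agent.Lib.Helper16
open Cfsg.Agent.Lib.Helper75
open scoped ComplexConjugate Pointwise

universe u

section
variable {G : Type u} [Group G] [Fintype G]

omit [Fintype G] in
theorem centralizer_singleton_inv (g : G) :
    Subgroup.centralizer ({g⁻¹} : Set G) = Subgroup.centralizer ({g} : Set G) := by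
  ext h
  rw [Subgroup.mem_centralizer_singleton_iff, Subgroup.mem_centralizer_singleton_iff]
  exact Commute.inv_right_iff (a := h) (b := g)

/-- The order of a defect group is `p` to the defect. -/
theorem card_eq_pow_blockDefect_of_isDefectGroup {p : ℕ} [Fact p.Prime] {M : Ideal AlgInt}
    (hM : IsPModular p M) (χ : IrrCharacter G) {D : Subgroup G}
    (hD : IsDefectGroup p M (blockOf M (χ : G → ℂ)) D) :
    Nat.card D = p ^ blockDefect p (blockOf M (χ : G → ℂ)) := by
  obtain ⟨h, hh, Q, rfl⟩ := hD
  rw [Subgroup.card_map_of_injective (Subgroup.subtype_injective _),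
    Sylow.card_eq_multiplicity Q,
    val_centralizer_of_isDefectClass p M hM ⟨χ, rfl⟩ hh, blockDefect_eq]

/-- Existence of `r` characters lying in blocks with defect group `D` whose matrix of central
character values on the given classes is nonsingular modulo the local ideal. -/
theorem sep_exists [Fintype (IrrCharacter G)] (p : ℕ) [Fact p.Prime] (M : Ideal AlgInt)
    (hM : IsPModular p M) (D : Subgroup G) {r : ℕ} (x : Fin r → G)
    (hx : ∀ i j : Fin r, IsConj (x i) (x j) → i = j)
    (hD : ∀ i : Fin r, ∃ S : Sylow p ↥(Subgroup.centralizer ({x i} : Set G)),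
      (S : Subgroup ↥(Subgroup.centralizer ({x i} : Set G))).map
        (Subgroup.centralizer ({x i} : Set G)).subtype = D)
    (hsep : ∀ i j : Fin r, ∀ g h : G, IsConj (x i) g → IsConj (x j) h → ∀ k : ℕ, 0 < k →
      orderOf (g * h⁻¹) ≠ p ^ k) :
    ∃ f : Fin r → IrrCharacter G,
      (∀ i, IsDefectGroup p M (blockOf M (f i : G → ℂ)) D) ∧
      ¬ MemLocalIdeal M (Matrix.det
        (Matrix.of fun i j : Fin r => centralChar (f i : G → ℂ) (x j))) := by
  classical
  have hp : p.Prime := Fact.out
  have hMp : M.IsPrime := isPrime_of_isPModular hM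
  let P : Sylow p G := default
  choose n hn using fun χ : IrrCharacter G => sum_subgroup_char_eq χ (P : Subgroup G)
  have hid := sep_identity p P x hx hsep n hn
  have hval : ∀ i, Nat.card D =
      p ^ (Nat.card (Subgroup.centralizer ({x i} : Set G))).factorization p := by
    intro i
    obtain ⟨S, hS⟩ := hD i
    rw [← hS, Subgroup.card_map_of_injective (Subgroup.subtype_injective _),
      Sylow.card_eq_multiplicity S]
  have hvaleq : ∀ i j, (Nat.card (Subgroup.centralizer ({x i} : Set G))).factorization p =
      (Nat.card (Subgroup.centralizer ({x j} : Set G))).factorization p :=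
    fun i j => Nat.pow_right_injective hp.two_le ((hval i).symm.trans (hval j))
  set Good : IrrCharacter G → Prop :=
    fun χ => IsDefectGroup p M (blockOf M (χ : G → ℂ)) D with hGood
  have hconjS : ∀ (χ : IrrCharacter G) (g : G), MemLocalRing M (conj ((χ : G → ℂ) g)) := by
    intro χ g
    rw [← Cfsg.Agent.Lib.Helper80.irr_conj_inv]
    exact memLocalRing_algInt hMp ⟨_, Cfsg.Agent.Lib.Helper80.irr_isIntegral χ g⁻¹⟩
  have hbad : ∀ χ : IrrCharacter G, ¬ Good χ → ∀ i j : Fin r,
      MemLocalIdeal M (centralChar (χ : G → ℂ) (x i) * (n χ : ℂ) * conj ((χ : G → ℂ) (x j))) := by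
    intro χ hχ i j
    by_cases hω : MemLocalIdeal M (centralChar (χ : G → ℂ) (x i))
    · exact memLocalIdeal_mul_right hMp
        (memLocalIdeal_mul_right hMp hω (memLocalRing_natCast hMp _)) (hconjS χ _)
    · have h2 : blockDefect p (blockOf M (χ : G → ℂ)) <
          (Nat.card (Subgroup.centralizer ({x i} : Set G))).factorization p := by
        by_contra hcon
        push Not at hcon
        obtain ⟨S, hS⟩ := hD i
        apply hχ
        show IsDefectGroup p M (blockOf M (χ : G → ℂ)) D
        rw [← hS]
        exact isDefectGroup_of_centralChar hM χ (x i) hω hcon S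
      have h3 : MemLocalIdeal M ((χ : G → ℂ) (x j)⁻¹) := by
        apply irr_memLocalIdeal_of_defect_lt hM
        rw [centralizer_singleton_inv, ← hvaleq i j]
        exact h2
      rw [← Cfsg.Agent.Lib.Helper80.irr_conj_inv]
      exact memLocalIdeal_mul_left hMp (memLocalRing_mul hMp
        (memLocalRing_centralChar hMp χ.2 _) (memLocalRing_natCast hMp _)) h3
  set A : IrrCharacter G → Fin r → ℂ := fun χ i => centralChar (χ : G → ℂ) (x i) with hA
  set Bm : IrrCharacter G → Fin r → ℂ :=
    fun χ j => if Good χ then (n χ : ℂ) * conj ((χ : G → ℂ) (x j)) else 0 with hBm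
  have hAS : ∀ χ i, MemLocalRing M (A χ i) := fun χ i => memLocalRing_centralChar hMp χ.2 _
  have hBS : ∀ χ j, MemLocalRing M (Bm χ j) := by
    intro χ j
    by_cases h : Good χ
    · simp only [hBm, if_pos h]
      exact memLocalRing_mul hMp (memLocalRing_natCast hMp _) (hconjS χ _)
    · simp only [hBm, if_neg h]
      exact memLocalRing_zero hMp
  set E : Matrix (Fin r) (Fin r) ℂ := Matrix.of fun i j => ∑ χ : IrrCharacter G, A χ i * Bm χ j
    with hE
  set Δ : Matrix (Fin r) (Fin r) ℂ := Matrix.diagonal fun _ => ((P : Subgroup G).index : ℂ)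
    with hΔ
  have hES : ∀ i j, MemLocalRing M (E i j) := by
    intro i j
    simp only [hE, Matrix.of_apply]
    exact memLocalRing_sum hMp _ _ (fun χ _ => memLocalRing_mul hMp (hAS χ i) (hBS χ j))
  have hΔS : ∀ i j, MemLocalRing M (Δ i j) := by
    intro i j
    rw [hΔ, Matrix.diagonal_apply]
    split_ifs
    · exact memLocalRing_natCast hMp _
    · exact memLocalRing_zero hMp
  have hEΔ : ∀ i j, MemLocalIdeal M (E i j - Δ i j) := by
    intro i j
    have h1 : E i j - Δ i j = ∑ χ : IrrCharacter G, (if Good χ then 0 else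
        -(centralChar (χ : G → ℂ) (x i) * (n χ : ℂ) * conj ((χ : G → ℂ) (x j)))) := by
      rw [hΔ, Matrix.diagonal_apply, ← hid i j]
      simp only [hE, Matrix.of_apply]
      rw [← Finset.sum_sub_distrib]
      apply Finset.sum_congr rfl
      intro χ _
      by_cases h : Good χ
      · simp only [hA, hBm, if_pos h]
        ring
      · simp only [hA, hBm, if_neg h]
        ring
    rw [h1]
    apply memLocalIdeal_sum hMp
    intro χ _
    by_cases h : Good χ
    · rw [if_pos h]
      exact memLocalIdeal_zero hMp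
    · rw [if_neg h]
      exact memLocalIdeal_neg (hbad χ h i j)
  have hdetΔ : ¬ MemLocalIdeal M Δ.det := by
    rw [hΔ, Matrix.det_diagonal, Finset.prod_const, ← Nat.cast_pow,
      memLocalIdeal_natCast_iff hM]
    intro h
    exact (Sylow.not_dvd_index P) (hp.dvd_of_dvd_pow h)
  have hdetE : ¬ MemLocalIdeal M E.det := by
    intro h
    apply hdetΔ
    have h1 := memLocalIdeal_det_sub_det hMp E Δ hES hΔS hEΔ
    have h2 : Δ.det = E.det - (E.det - Δ.det) := by ring
    rw [h2]
    exact memLocalIdeal_sub hMp h h1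
  have hexp : E.det = ∑ f : Fin r → IrrCharacter G, (∏ j : Fin r, Bm (f j) j) *
      Matrix.det (Matrix.of fun i j : Fin r => A (f i) j) := det_sum_mul_expand A Bm
  by_contra hcon
  push Not at hcon
  apply hdetE
  rw [hexp]
  apply memLocalIdeal_sum hMp
  intro f _
  by_cases hg : ∀ i, Good (f i)
  · exact memLocalIdeal_mul_left hMp (memLocalRing_prod hMp _ _ (fun j _ => hBS _ _))
      (hcon f hg)
  · push Not at hg
    obtain ⟨i, hi⟩ := hg
    have h0 : ∏ j : Fin r, Bm (f j) j = 0 := by
      apply Finset.prod_eq_zero (Finset.mem_univ i)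
      simp only [hBm, if_neg hi]
    rw [h0, zero_mul]
    exact memLocalIdeal_zero hMp

end

end Cfsg.Agent.Lib.Helper74
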