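import Cfsg.Agent.Lib.Helper16.OrbitBlock
import Cfsg.Agent.Lib.Helper77.Osima
import Cfsg.Agent.Lib.Helper77.Transport
import Cfsg.Agent.Lib.Helper77.Lambda
import Cfsg.Agent.Lib.Helper77.Cover
import Cfsg.Agent.Lib.Helper77.IndPart
import Cfsg.Agent.Lib.Helper15.IrrCrit
import Cfsg.Agent.Lib.Helper3.Induced
import Cfsg.Agent.Lib.Helper25.Ind

/-!
# Fong–Reynolds, part 1: general facts on induction of class functions
-/

set_option autoImplicit false

universe u

namespace Cfsg.Agent.Lib.Helper74

open Cfsg Cfsg.Agent.Lib.Helper77 Cfsg.Agent.Lib.Helper25 Cfsg.Agent.Lib.Helper81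
open scoped ComplexConjugate

section Ind

variable {G : Type u} [Group G] [Fintype G] (T : Subgroup G) [Fintype T]

omit [Fintype G] [Fintype T] in
/-- Extension by zero of a class function of `T` is invariant under conjugation by `T`. -/
theorem fr_extendByZero_conj {d : T → ℂ} (hd : IsClassFunction T d) (u : T) (y : G) :
    extendByZero T d ((u : G)⁻¹ * y * u) = extendByZero T d y := by
  by_cases hy : y ∈ T
  · have h1 : (u : G)⁻¹ * y * u = ((u⁻¹ * ⟨y, hy⟩ * u⁻¹⁻¹ : T) : G) := by
      push_cast
      rw [inv_inv]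
    have h2 : y = ((⟨y, hy⟩ : T) : G) := rfl
    rw [h1, extendByZero_coe, hd]
    conv_rhs => rw [h2, extendByZero_coe]
  · rw [extendByZero_of_not_mem T d hy, extendByZero_of_not_mem]
    intro h
    apply hy
    have := T.mul_mem (T.mul_mem u.2 h) (T.inv_mem u.2)
    have e : (u : G) * ((u : G)⁻¹ * y * u) * (u : G)⁻¹ = y := by group
    rwa [e] at this

/-- Summing a class function of `G` against an induced function. -/
theorem sum_mul_indFun (θ : T → ℂ) {c : G → ℂ} (hc : IsClassFunction G c) :
    ∑ g : G, c g * indFun T θ g =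
      (Nat.card T : ℂ)⁻¹ * (Nat.card G : ℂ) * ∑ t : T, c t * θ t := by
  have h2 : ∑ g : G, c g * extendByZero T θ g = ∑ t : T, c t * θ t := by
    rw [← sum_subgroup_eq (H := T) (fun g => c g * extendByZero T θ g)]
    · refine Finset.sum_congr rfl fun t _ => ?_
      rw [extendByZero_coe]
    · intro x hx
      show c x * extendByZero T θ x = 0
      rw [extendByZero_of_not_mem T θ hx, mul_zero]
  have h1 : ∀ x : G, ∑ g : G, c g * extendByZero T θ (x⁻¹ * g * x) = ∑ t : T, c t * θ t := by
    intro x
    rw [← h2]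
    symm
    refine Fintype.sum_equiv (MulAut.conj x).toEquiv _ _ ?_
    intro g
    show c g * extendByZero T θ g = c (x * g * x⁻¹) * extendByZero T θ (x⁻¹ * (x * g * x⁻¹) * x)
    rw [hc]
    congr 2
    group
  have h3 : ∀ g : G, c g * indFun T θ g =
      (Nat.card T : ℂ)⁻¹ * ∑ x : G, c g * extendByZero T θ (x⁻¹ * g * x) := by
    intro g
    rw [indFun_apply, ← Finset.mul_sum]
    ring
  rw [Finset.sum_congr rfl (fun g _ => h3 g), ← Finset.mul_sum, Finset.sum_comm,
    Finset.sum_congr rfl (fun x _ => h1 x), Finset.sum_const, Finset.card_univ, nsmul_eq_mul]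
  simp only [Nat.card_eq_fintype_card]
  ring

/-- The central character of an induced function at a class function. -/
theorem omega_indFun (θ : T → ℂ) {c : G → ℂ} (hc : IsClassFunction G c) :
    omega (indFun T θ) c = omega θ (fun t : T => c t) := by
  unfold omega
  rw [sum_mul_indFun T θ hc, indFun_one]
  have hT0 : (Nat.card T : ℂ) ≠ 0 := card_ne_zero_complex
  have hidx : (Nat.card G : ℂ) = (T.index : ℂ) * (Nat.card T : ℂ) := by
    rw [← Nat.cast_mul, Subgroup.index_mul_card]
  by_cases h1 : θ 1 = 0
  · rw [h1, mul_zero, div_zero, div_zero]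
  have hi0 : (T.index : ℂ) ≠ 0 := by
    intro h
    rw [h, zero_mul] at hidx
    exact card_ne_zero_complex hidx
  rw [hidx]
  field_simp

/-- The central character of an induced function is the induced central character. -/
theorem centralChar_indFun (θ : T → ℂ) (g : G) :
    centralChar (indFun T θ) g = inducedCentralChar T θ g := by
  rw [← omega_classInd (indFun_isClassFunction T θ), omega_indFun T θ (classInd_isClassFunction g),
    inducedCentralChar_eq_omega]
  rfl

/-- An induced class function with local-integer values has local-integer values. -/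
theorem memLocalRing_indFun {M : Ideal AlgInt} (hM : M.IsPrime) {d : T → ℂ}
    (hd : IsClassFunction T d) (hdR : ∀ t, MemLocalRing M (d t)) (g : G) :
    MemLocalRing M (indFun T d g) := by
  classical
  obtain ⟨S, hS, -⟩ := Subgroup.exists_isComplement_left T (1 : G)
  have : Fintype S := Fintype.ofFinite _
  have hT0 : (Nat.card T : ℂ) ≠ 0 := card_ne_zero_complex
  set F : G → ℂ := fun x => extendByZero T d (x⁻¹ * g * x) with hF
  have hinv : ∀ (x : G) (u : T), F (x * u) = F x := by
    intro x u
    show extendByZero T d ((x * u)⁻¹ * g * (x * u)) = extendByZero T d (x⁻¹ * g * x)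
    rw [← fr_extendByZero_conj T hd u (x⁻¹ * g * x)]
    congr 1
    group
  have h1 : ∑ x : G, F x = (Nat.card T : ℂ) * ∑ s : S, F s := by
    rw [← Fintype.sum_equiv (Equiv.ofBijective _ hS) (fun p : S × (T : Set G) => F p.1) F]
    · rw [Fintype.sum_prod_type]
      simp only [Finset.sum_const, Finset.card_univ, nsmul_eq_mul]
      rw [← Finset.mul_sum]
      congr 1
      rw [Nat.card_eq_fintype_card]
      congr 1
    · rintro ⟨s, t⟩
      show F s = F ((s : G) * (t : G))
      exact (hinv s ⟨t, t.2⟩).symm
  rw [indFun_apply, h1, ← mul_assoc, inv_mul_cancel₀ hT0, one_mul]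
  refine memLocalRing_sum hM _ _ fun s _ => ?_
  show MemLocalRing M (extendByZero T d _)
  by_cases h : (s : G)⁻¹ * g * s ∈ T
  · rw [extendByZero_of_mem T d h]
    exact hdR _
  · rw [extendByZero_of_not_mem T d h]
    exact memLocalRing_zero hM

theorem ZS.indFun {M : Ideal AlgInt} (hM : M.IsPrime) {d : T → ℂ} (hd : ZS M d) :
    ZS M (indFun T d) :=
  ⟨indFun_isClassFunction T d, memLocalRing_indFun T hM hd.1 hd.2⟩

end Ind

end Cfsg.Agent.Lib.Helper74
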