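import Cfsg.Agent.Lib.Helper74.FR5
import Cfsg.Agent.Lib.Helper16.DefectVal
import Cfsg.Agent.S0917

/-!
# Fong–Reynolds, part 6: defect groups and heights
-/

set_option autoImplicit false
set_option linter.unusedSectionVars false

universe u

namespace Cfsg.Agent.Lib.Helper74

open Cfsg Cfsg.Agent.Lib.Helper77 Cfsg.Agent.Lib.Helper25 Cfsg.Agent.Lib.Helper81
open Cfsg.Agent.Lib.Helper16 Cfsg.Agent.Lib.Helper75
open scoped ComplexConjugate

section Deg

variable {G : Type u} [Group G] [Fintype G] (T : Subgroup G) [Fintype T]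

theorem degval_indFun (p : ℕ) (ψ : IrrCharacter T) :
    (charDegree (indFun T (ψ : T → ℂ))).factorization p =
      T.index.factorization p + (charDegree (ψ : T → ℂ)).factorization p := by
  obtain ⟨k, hk⟩ := exists_nat_degree (Cfsg.Agent.Lib.Helper3.IsIrrCharacter.isCharacter ψ.2)
  have hk0 : k ≠ 0 := by
    intro h
    rw [h, Nat.cast_zero] at hk
    exact irr_one_ne_zero ψ.2 hk
  have hi0 : T.index ≠ 0 := Subgroup.index_ne_zero_of_finite
  have h1 : charDegree (ψ : T → ℂ) = k := by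
    unfold charDegree
    rw [hk]
    simp
  rw [charDegree_indFun T hk, h1, Nat.factorization_mul hi0 hk0, Finsupp.add_apply]

/-- The least `p`-exponent of the degrees, for a set of characters all of whose members are
induced from `B'`. -/
theorem minDegVal_indFun (p : ℕ) (B' : Set (IrrCharacter T)) (B : Set (IrrCharacter G))
    (hB'ne : B'.Nonempty)
    (hirr : ∀ ψ ∈ B', IsIrrCharacter G (indFun T (ψ : T → ℂ)))
    (hmem : ∀ χ : IrrCharacter G, χ ∈ B ↔ ∃ ψ ∈ B', (χ : G → ℂ) = indFun T (ψ : T → ℂ)) :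
    minDegVal p B = T.index.factorization p + minDegVal p B' := by
  apply le_antisymm
  · obtain ⟨ψ, hψ, hmin⟩ := exists_minDegVal p hB'ne
    have hχ : (⟨indFun T (ψ : T → ℂ), hirr ψ hψ⟩ : IrrCharacter G) ∈ B :=
      (hmem _).mpr ⟨ψ, hψ, rfl⟩
    have := minDegVal_le p hχ
    rw [← hmin, ← degval_indFun T p ψ]
    exact this
  · have hBne : B.Nonempty := by
      obtain ⟨ψ, hψ⟩ := hB'ne
      exact ⟨⟨indFun T (ψ : T → ℂ), hirr ψ hψ⟩, (hmem _).mpr ⟨ψ, hψ, rfl⟩⟩
    obtain ⟨χ, hχ, hmin⟩ := exists_minDegVal p hBne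
    obtain ⟨ψ, hψ, hχψ⟩ := (hmem χ).mp hχ
    rw [← hmin, hχψ, degval_indFun T p ψ]
    exact Nat.add_le_add_left (minDegVal_le p hψ) _

end Deg

section FR

variable {G : Type u} [Group G] [Fintype G] (N : Subgroup G) [hN : N.Normal] [Fintype N]
  (T : Subgroup G) [Fintype T] (hNT : N ≤ T) (b : Set (IrrCharacter N))

theorem fr_defect_height {p : ℕ} [Fact p.Prime] {M : Ideal AlgInt} (hpM : IsPModular p M)
    (hb : IsPBlock M b) (hst : IsStab N T b) (B' : Set (IrrCharacter T)) (hB' : IsPBlock M B')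
    (hcov : ∃ ψ ∈ B', FrOver N T hNT b (ψ : T → ℂ)) (B : Set (IrrCharacter G))
    (hind : IsInducedBlock M T B' B) :
    (∀ D : Subgroup T, IsDefectGroup p M B' D → IsDefectGroup p M B (D.map T.subtype)) ∧
      ∀ ψ ∈ B', ∃ χ ∈ B, (χ : G → ℂ) = indFun T (ψ : T → ℂ) ∧
        blockHeight p B (χ : G → ℂ) = blockHeight p B' (ψ : T → ℂ) := by
  have hM := isPrime_of_isPModular hpM
  obtain ⟨B₀, hind₀, -, hirr, hmem₀⟩ := fr_part_i N T hNT b hpM hb hst B' hB' hcov
  have hBB : B₀ = B := isInducedBlock_unique hM hind₀ hind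
  have hmem : ∀ χ : IrrCharacter G, χ ∈ B ↔ ∃ ψ ∈ B', (χ : G → ℂ) = indFun T (ψ : T → ℂ) := by
    intro χ
    rw [← hBB]
    exact hmem₀ χ
  have hB'ne : B'.Nonempty := by
    obtain ⟨ψ, hψ, -⟩ := hcov
    exact ⟨ψ, hψ⟩
  have hmin := minDegVal_indFun T p B' B hB'ne hirr hmem
  have hB : IsPBlock M B := hind.2.1
  have hcard : (Nat.card G).factorization p =
      T.index.factorization p + (Nat.card T).factorization p := by
    rw [← Subgroup.index_mul_card T,
      Nat.factorization_mul Subgroup.index_ne_zero_of_finite Nat.card_pos.ne', Finsupp.add_apply]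
  constructor
  · intro D hD
    obtain ⟨E, hE, hDE⟩ := Cfsg.Agent.S0917.result p M hpM T B' hB' B hB hind D hD
    obtain ⟨g, hg, -, hcD⟩ := isDefectGroup_iff.mp hD
    obtain ⟨y, hy, -, hcE⟩ := isDefectGroup_iff.mp hE
    rw [val_centralizer_of_isDefectClass p M hpM hB' hg] at hcD
    rw [val_centralizer_of_isDefectClass p M hpM hB hy, hmin, hcard,
      Nat.add_sub_add_left] at hcE
    have hcm : Nat.card (D.map T.subtype) = Nat.card D :=
      Subgroup.card_map_of_injective T.subtype_injective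
    have heq : D.map T.subtype = E := by
      apply Subgroup.eq_of_le_of_card_ge hDE
      rw [hcm, hcD, hcE]
    rw [heq]
    exact hE
  · intro ψ hψ
    refine ⟨⟨indFun T (ψ : T → ℂ), hirr ψ hψ⟩, (hmem _).mpr ⟨ψ, hψ, rfl⟩, rfl, ?_⟩
    rw [blockHeight_eq, blockHeight_eq, hmin]
    show (charDegree (indFun T (ψ : T → ℂ))).factorization p - _ = _
    rw [degval_indFun T p ψ, Nat.add_sub_add_left]

end FR

end Cfsg.Agent.Lib.Helper74
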