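import Mathlib
import Cfsg.Agent.Lib.Helper15.Gallagher
import Cfsg.Agent.Lib.Helper15.GlaubCyc
import Cfsg.Agent.Lib.Helper79.Basic
import Cfsg.Agent.Lib.Helper79.Abelian

/-!
# S4439 Fh hive (helper52), leaf FH-B1 `degree_eq_intrinsic` (helper74)

Coprime extension (`Helper15.exists_canon`, from S0867) + Gallagher (`Helper15.exists_mul_ext`) +
an irreducible character of a commutative quotient is linear.
-/

set_option autoImplicit false

universe u

namespace Cfsg.Agent.Lib.Helper52.Fh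

open Cfsg

/-- an irreducible character constant on the cosets of `K`, with `A ⧸ K` commutative, is linear -/
theorem b1_linear_of_coset_const {A : Type u} [Group A] [Finite A] (K : Subgroup A) [hK : K.Normal]
    (hab : ∀ a b : A, a * b * a⁻¹ * b⁻¹ ∈ K) {φ : A → ℂ} (hφ : IsIrrCharacter A φ)
    (hφK : ∀ (n : K) (g : A), φ ((n : A) * g) = φ g) : φ 1 = 1 := by
  have hker : ∀ x ∈ K, φ x = φ 1 := by
    intro x hx
    have := hφK ⟨x, hx⟩ 1
    rwa [mul_one] at this
  obtain ⟨ψ, hψ, hψφ⟩ := Cfsg.Agent.Lib.Helper79.isIrrCharacter_deflate hφ K hker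
  have : IsMulCommutative (A ⧸ K) := by
    refine ⟨⟨fun x y => ?_⟩⟩
    induction x using QuotientGroup.induction_on with
    | H a =>
      induction y using QuotientGroup.induction_on with
      | H b =>
        rw [← QuotientGroup.mk_mul, ← QuotientGroup.mk_mul, QuotientGroup.eq]
        have := hab b⁻¹ a⁻¹
        rw [inv_inv, inv_inv] at this
        rw [_root_.mul_inv_rev, ← mul_assoc]
        exact this
  have h1 := Cfsg.Agent.Lib.Helper79.irr_one_eq_one_of_comm (⟨ψ, hψ⟩ : IrrCharacter (A ⧸ K))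
  have h2 := hψφ 1
  rw [← h2]
  exact h1

/-- FH-B1 (intrinsic form of FH-B). -/
theorem degree_eq_intrinsic {A : Type u} [Group A] [Fintype A] (K : Subgroup A) [hK : K.Normal]
    [Fintype K] (hcop : (Nat.card K).Coprime K.index) (hab : ∀ a b : A, a * b * a⁻¹ * b⁻¹ ∈ K)
    (θ : K → ℂ) (hθ : IsIrrCharacter K θ)
    (hinv : ∀ (g : A) (n : K), θ ⟨g * n * g⁻¹, hK.conj_mem n n.2 g⟩ = θ n)
    (η : A → ℂ) (hη : IsIrrCharacter A η) (hne : classInner (fun n : K => η n) θ ≠ 0) :
    η 1 = θ 1 := by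
  obtain ⟨χ₀, hcan, hres⟩ := Cfsg.Agent.Lib.Helper15.exists_canon hcop hθ hinv
  have hχ₀ : IsIrrCharacter A χ₀ := hcan.1
  have hθeq : (fun n : K => χ₀ n) = θ := funext hres
  have hχ₀K : IsIrrCharacter K (fun n : K => χ₀ n) := by
    rw [hθeq]
    exact hθ
  obtain ⟨φ, hφ, hφK, hηeq, -⟩ := Cfsg.Agent.Lib.Helper15.exists_mul_ext K hχ₀ hχ₀K hη
    (by rw [hθeq]; exact hne)
  have hφ1 : φ 1 = 1 := b1_linear_of_coset_const K hab hφ hφK
  have h1 := hres 1
  rw [hηeq, Pi.mul_apply, hφ1, one_mul]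
  exact h1

end Cfsg.Agent.Lib.Helper52.Fh
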