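import Mathlib
import Cfsg.Agent.Lib.Helper74.FhB1
import Cfsg.Agent.Lib.Helper79.CliffordCorr

/-!
# S4439 Fh hive (helper52), leaf FH-B `degree_eq_of_abelian_coprime` (helper74)

Transport of FH-B1 to subgroups `K ≤ A ≤ G`.
-/

set_option autoImplicit false

universe u

namespace Cfsg.Agent.Lib.Helper52.Fh

open Cfsg

/-- FH-B (character theory: coprime extension + Gallagher). -/
theorem degree_eq_of_abelian_coprime {G : Type u} [Group G] [Fintype G] (K A : Subgroup G)
    [hK : K.Normal] [A.Normal] [Fintype K] [Fintype A] (hKA : K ≤ A)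
    (hcop : (Nat.card K).Coprime (K.relIndex A))
    (hab : ∀ a ∈ A, ∀ b ∈ A, a * b * a⁻¹ * b⁻¹ ∈ K)
    (θ : IrrCharacter K)
    (hinv : ∀ (g : G) (n : K), (θ : K → ℂ) ⟨g * n * g⁻¹, hK.conj_mem n n.2 g⟩ = (θ : K → ℂ) n)
    (η : IrrCharacter A)
    (hη : classInner (fun n : K => (η : A → ℂ) ⟨(n : G), hKA n.2⟩) (θ : K → ℂ) ≠ 0) :
    (η : A → ℂ) 1 = (θ : K → ℂ) 1 := by
  classical
  let e : K.subgroupOf A ≃* K := Subgroup.subgroupOfEquivOfLe hKA
  have he : ∀ x : K.subgroupOf A, ((e x : K) : G) = ((x : A) : G) := fun x => rfl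
  have : Fintype (K.subgroupOf A) := Fintype.ofFinite _
  have hθ' : IsIrrCharacter (K.subgroupOf A) (fun x => (θ : K → ℂ) (e x)) :=
    Cfsg.Agent.Lib.Helper79.isIrrCharacter_comp_surjective θ.2 e.toMonoidHom e.surjective
  have hcop' : (Nat.card (K.subgroupOf A)).Coprime (K.subgroupOf A).index := by
    rw [Nat.card_congr e.toEquiv]
    exact hcop
  have hab' : ∀ a b : A, a * b * a⁻¹ * b⁻¹ ∈ K.subgroupOf A := by
    intro a b
    rw [Subgroup.mem_subgroupOf]
    exact hab a a.2 b b.2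
  have hinv' : ∀ (g : A) (n : K.subgroupOf A),
      (fun x => (θ : K → ℂ) (e x)) ⟨g * n * g⁻¹,
        (inferInstance : (K.subgroupOf A).Normal).conj_mem n n.2 g⟩ =
      (fun x => (θ : K → ℂ) (e x)) n := by
    intro g n
    have h1 := hinv (g : G) (e n)
    simp only
    rw [← h1]
    congr 1
  have hne' : classInner (fun n : K.subgroupOf A => (η : A → ℂ) n)
      (fun x => (θ : K → ℂ) (e x)) ≠ 0 := by
    have h1 := Cfsg.Agent.Lib.Helper79.classInner_comp_mulEquiv e
      (fun n : K => (η : A → ℂ) ⟨(n : G), hKA n.2⟩) (θ : K → ℂ)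
    have h2 : (fun x : K.subgroupOf A => (fun n : K => (η : A → ℂ) ⟨(n : G), hKA n.2⟩) (e x)) =
        fun n : K.subgroupOf A => (η : A → ℂ) n := by
      funext x
      rfl
    rw [h2] at h1
    rw [h1]
    exact hη
  have key := degree_eq_intrinsic (K.subgroupOf A) hcop' hab' (fun x => (θ : K → ℂ) (e x)) hθ'
    hinv' (η : A → ℂ) η.2 hne'
  rw [key]
  rfl

end Cfsg.Agent.Lib.Helper52.Fh
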