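import Cfsg.Agent.Lib.Helper74.FR3
import Cfsg.Agent.Lib.Helper77.ExtFirstMain

/-!
# Fong–Reynolds, part 4: the block correspondence
-/

set_option autoImplicit false
set_option linter.unusedSectionVars false

universe u

namespace Cfsg.Agent.Lib.Helper74

open Cfsg Cfsg.Agent.Lib.Helper77 Cfsg.Agent.Lib.Helper25 Cfsg.Agent.Lib.Helper81
open Cfsg.Agent.Lib.Helper16 Cfsg.Agent.Lib.Helper75
open scoped ComplexConjugate

section General

variable {G : Type u} [Group G] [Fintype G]

/-- Pairing with the idempotent of `b` only sees the constituents in `b`. -/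
theorem sum_blockCoeff_mul_eq_zero (b : Set (IrrCharacter G)) (f : G → ℂ)
    (h : ∀ θ ∈ b, classInner f (θ : G → ℂ) = 0) : ∑ n : G, blockCoeff b n * f n = 0 := by
  classical
  have := Fintype.ofFinite (IrrCharacter G)
  have h1 : ∀ n : G, blockCoeff b n * f n =
      ∑ θ ∈ Finset.univ.filter (fun θ : IrrCharacter G => θ ∈ b),
        (Nat.card G : ℂ)⁻¹ * ((θ : G → ℂ) 1 * (f n * conj ((θ : G → ℂ) n))) := by
    intro n
    rw [blockCoeff_eq_sum, Finset.mul_sum, Finset.sum_mul]
    refine Finset.sum_congr rfl fun θ _ => ?_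
    ring
  rw [Finset.sum_congr rfl (fun n _ => h1 n), Finset.sum_comm]
  apply Finset.sum_eq_zero
  intro θ hθ
  have hθb : θ ∈ b := (Finset.mem_filter.mp hθ).2
  have := h θ hθb
  unfold classInner at this
  rw [← Finset.mul_sum, ← Finset.mul_sum]
  rw [mul_left_comm, this, mul_zero]

/-- If `ψ₀` induces irreducibly, its block induces the block of the induced character. -/
theorem isInducedBlock_of_indFun_irr {M : Ideal AlgInt} (hM : M.IsPrime) (T : Subgroup G)
    [Fintype T] (ψ₀ : IrrCharacter T) (hirr : IsIrrCharacter G (indFun T (ψ₀ : T → ℂ))) :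
    IsInducedBlock M T (blockOf M (ψ₀ : T → ℂ)) (blockOf M (indFun T (ψ₀ : T → ℂ))) := by
  refine ⟨⟨ψ₀, rfl⟩, ⟨⟨indFun T (ψ₀ : T → ℂ), hirr⟩, rfl⟩, ?_⟩
  intro ξ hξ χ hχ g
  have e1 : MemLocalIdeal M (inducedCentralChar T (ξ : T → ℂ) g -
      inducedCentralChar T (ψ₀ : T → ℂ) g) := by
    rw [inducedCentralChar_eq_omega, inducedCentralChar_eq_omega]
    exact memLocalIdeal_omega_sub hM (isClassFunction_of_isCharacter ξ.2)
      (isClassFunction_of_isCharacter ψ₀.2) (sameBlock_symm hξ)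
      (indClassFn_isClassFunction T g) (indClassFn_ZS hM T g).2
  have e2 : MemLocalIdeal M (centralChar (indFun T (ψ₀ : T → ℂ)) g -
      centralChar (χ : G → ℂ) g) := hχ g
  rw [centralChar_indFun] at e2
  have := memLocalIdeal_add hM e1 e2
  convert this using 1
  ring

end General

section FR

variable {G : Type u} [Group G] [Fintype G] (N : Subgroup G) [hN : N.Normal] [Fintype N]
  (T : Subgroup G) [Fintype T] (hNT : N ≤ T) (b : Set (IrrCharacter N))

/-- Characters of `T` in one block are all over `b` or all not. -/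
theorem over_of_sameBlock {p : ℕ} {M : Ideal AlgInt} (hpM : IsPModular p M) (hb : IsPBlock M b)
    (hst : IsStab N T b) {ψ₁ ψ₂ : T → ℂ} (h₁ : IsIrrCharacter T ψ₁) (h₂ : IsIrrCharacter T ψ₂)
    (hs : SameBlock M ψ₁ ψ₂) (hov : FrOver N T hNT b ψ₁) : FrOver N T hNT b ψ₂ := by
  have hM := isPrime_of_isPModular hpM
  have hZ := frIdem_ZS N T b hpM hb hst
  have h1 := omega_frIdem_of_over N T hNT b hst h₁ hov
  have hd := memLocalIdeal_omega_sub hM (isClassFunction_of_isCharacter h₁)
    (isClassFunction_of_isCharacter h₂) hs hZ.1 hZ.2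
  apply over_of_omega_ne_zero N T hNT b hst h₂
  intro h0
  rw [h1, h0, sub_zero] at hd
  exact not_memLocalIdeal_one hM hd

/-- `χ` lies over `b` (for functions on `G`). -/
def FrOverG (χ : G → ℂ) : Prop :=
  ∃ θ ∈ b, classInner (fun n : N => χ n) (θ : N → ℂ) ≠ 0

/-- Every irreducible character of `G` over `b` is induced from a character of `T` over `b`. -/
theorem exists_indFun_eq_of_overG {M : Ideal AlgInt} (hM : M.IsPrime) (hb : IsPBlock M b)
    (hst : IsStab N T b) (χ : IrrCharacter G) (hov : FrOverG N b (χ : G → ℂ)) :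
    ∃ ψ : IrrCharacter T, FrOver N T hNT b (ψ : T → ℂ) ∧ indFun T (ψ : T → ℂ) = (χ : G → ℂ) := by
  classical
  have := Fintype.ofFinite (IrrCharacter T)
  obtain ⟨θ, hθ, hne⟩ := hov
  have hχc := isClassFunction_of_isCharacter χ.2
  have hcl : IsClassFunction T (fun t : T => (χ : G → ℂ) t) := by
    intro h k
    show (χ : G → ℂ) ((k * h * k⁻¹ : T) : G) = (χ : G → ℂ) h
    push_cast
    exact hχc _ _
  have hexp := Cfsg.Agent.Lib.Helper3.classFunction_eq_sum hcl
  have hres : (fun n : N => (χ : G → ℂ) n) = ∑ ψ' : IrrCharacter T,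
      classInner (fun t : T => (χ : G → ℂ) t) (ψ' : T → ℂ) •
        (fun n : N => (ψ' : T → ℂ) ⟨(n : G), hNT n.2⟩) := by
    funext n
    have := congrFun hexp ⟨(n : G), hNT n.2⟩
    simp only [Finset.sum_apply, Pi.smul_apply] at this ⊢
    exact this
  rw [hres, classInner_sum_left] at hne
  obtain ⟨ψ', -, hψ'⟩ := Finset.exists_ne_zero_of_sum_ne_zero hne
  rw [classInner_smul_left] at hψ'
  have hm : classInner (fun t : T => (χ : G → ℂ) t) (ψ' : T → ℂ) ≠ 0 := left_ne_zero_of_mul hψ'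
  have hr := right_ne_zero_of_mul hψ'
  have hov' : FrOver N T hNT b (ψ' : T → ℂ) := ⟨θ, hθ, hr⟩
  have h1 := omega_frIdem_of_over N T hNT b hst ψ'.2 hov'
  have hirr := isIrrCharacter_indFun_of_omega N T hNT b hM hb hst ψ'.2 h1
  refine ⟨ψ', hov', ?_⟩
  have hfr := frobenius_reciprocity T (ψ' : T → ℂ) (χ : G → ℂ) hχc
  have hne2 : classInner (indFun T (ψ' : T → ℂ)) (χ : G → ℂ) ≠ 0 := by
    rw [hfr, ← classInner_conj_symm]
    intro h0
    apply hm
    have := congrArg conj h0
    rwa [Complex.conj_conj, map_zero] at this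
  rw [Cfsg.Agent.Lib.Helper3.classInner_irr hirr χ.2] at hne2
  by_contra hcon
  rw [if_neg hcon] at hne2
  exact hne2 rfl

/-- Characters of `G` in one block are all over `b` or all not. -/
theorem overG_of_sameBlock {p : ℕ} {M : Ideal AlgInt} (hpM : IsPModular p M)
    (hb : IsPBlock M b) (χ₁ χ₂ : IrrCharacter G)
    (hs : SameBlock M (χ₁ : G → ℂ) (χ₂ : G → ℂ)) (hov : FrOverG N b (χ₁ : G → ℂ)) :
    FrOverG N b (χ₂ : G → ℂ) := by
  classical
  have hM := isPrime_of_isPModular hpM
  obtain ⟨θ, hθ, hne⟩ := hov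
  have h1 : omega (χ₁ : G → ℂ) (orbitIdem N b) = 1 := by
    rw [omega_orbitIdem N b χ₁ θ hne, if_pos (mem_orbitBlock_of_mem N hθ)]
  obtain ⟨θ₂, hne₂⟩ := exists_constituent N χ₂
  have h2 := omega_orbitIdem N b χ₂ θ₂ hne₂
  have hd := memLocalIdeal_omega_sub hM (isClassFunction_of_isCharacter χ₁.2)
    (isClassFunction_of_isCharacter χ₂.2) hs (orbitIdem_isClassFunction N b)
    (memLocalRing_orbitIdem N hpM hb)
  have hmem : θ₂ ∈ orbitBlock N b := by
    by_contra hcon
    rw [h1, h2, if_neg hcon, sub_zero] at hd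
    exact not_memLocalIdeal_one hM hd
  obtain ⟨g, hg⟩ := hmem
  refine ⟨Cfsg.Agent.Lib.Helper16.conjIrr N g θ₂, hg, ?_⟩
  have := classInner_conjFun N g (fun n : N => (χ₂ : G → ℂ) n) (θ₂ : N → ℂ)
  rw [conjFun_restrict N g (isClassFunction_of_isCharacter χ₂.2)] at this
  show classInner _ (conjFun N g (θ₂ : N → ℂ)) ≠ 0
  rw [this]
  exact hne₂

include hNT in
/-- Induction from `T` is injective on blocks over `b`. -/
theorem sameBlock_of_sameBlock_indFun {p : ℕ} {M : Ideal AlgInt} (hpM : IsPModular p M)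
    (hb : IsPBlock M b) (hst : IsStab N T b) {ψ₁ ψ₂ : T → ℂ} (h₁ : IsIrrCharacter T ψ₁)
    (h₂ : IsIrrCharacter T ψ₂) (o₁ : omega ψ₁ (frIdem N T b) = 1)
    (o₂ : omega ψ₂ (frIdem N T b) = 1) (hs : SameBlock M (indFun T ψ₁) (indFun T ψ₂)) :
    SameBlock M ψ₁ ψ₂ := by
  have hM := isPrime_of_isPModular hpM
  intro t
  have hZ : ZS M (indFun T (conv (frIdem N T b) (classInd t))) :=
    ZS.indFun T hM (ZS.conv hM (frIdem_ZS N T b hpM hb hst) (ZS.classInd hM t))
  rw [← omega_classInd (isClassFunction_of_isCharacter h₁),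
    ← omega_classInd (isClassFunction_of_isCharacter h₂),
    ← omega_indFun_conv N T hNT b hM hb hst h₁ o₁ (classInd t),
    ← omega_indFun_conv N T hNT b hM hb hst h₂ o₂ (classInd t)]
  exact memLocalIdeal_omega_sub hM (indFun_isClassFunction T ψ₁) (indFun_isClassFunction T ψ₂)
    hs hZ.1 hZ.2

include hNT in
/-- The induced character of a character over `b` lies over `b`. -/
theorem overG_indFun {M : Ideal AlgInt} (hM : M.IsPrime) (hb : IsPBlock M b)
    (hst : IsStab N T b) {ψ : T → ℂ} (hψ : IsIrrCharacter T ψ)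
    (h1 : omega ψ (frIdem N T b) = 1) : FrOverG N b (indFun T ψ) := by
  by_contra hcon
  unfold FrOverG at hcon
  push Not at hcon
  have h0 := sum_blockCoeff_mul_eq_zero b (fun n : N => indFun T ψ n) hcon
  have hP := fr_P2 N T hNT b hM hb hst hψ h1 1
  have : ∑ n : N, blockCoeff b n * indFun T ψ ((n : G) * ((1 : T) : G)) =
      ∑ n : N, blockCoeff b n * indFun T ψ n := by
    refine Finset.sum_congr rfl fun n _ => ?_
    rw [Subgroup.coe_one, mul_one]
  rw [this, h0] at hP
  exact irr_one_ne_zero hψ hP.symm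

end FR

end Cfsg.Agent.Lib.Helper74
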