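import Cfsg.Agent.Lib.Helper74.FD1
import Cfsg.Agent.Lib.Helper77.FirstMain
import Cfsg.Agent.Lib.Helper77.BrauerCorr
import Cfsg.Agent.Lib.Helper77.DefectConj

/-!
# Blocks of full defect: the idempotent at `1` is a unit (helper74)

If a block `B` contains a character of degree prime to `p` (its defect is the full exponent of
`p` in `|G|`), then `e_B(1) = ∑_{χ ∈ B} χ(1)² / |G|` is a unit of the local ring.  The proof goes
through the Brauer correspondent in the normalizer of a Sylow subgroup.
-/

set_option autoImplicit false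

namespace Cfsg.Agent.Lib.Helper74

open Cfsg Cfsg.Agent.Lib.Helper81 Cfsg.Agent.Lib.Helper77 Cfsg.Agent.Lib.Helper16
open scoped ComplexConjugate

universe u

variable {G : Type u} [Group G] [Fintype G]

/-- A block of full defect has `e_B(1)` outside the local ideal. -/
theorem not_memLocalIdeal_blockCoeff_one_of_full_defect {p : ℕ} [Fact p.Prime]
    {M : Ideal AlgInt} (hpM : IsPModular p M) (χ₀ : IrrCharacter G)
    (hdef : blockDefect p (blockOf M (χ₀ : G → ℂ)) = (Nat.card G).factorization p) :
    ¬ MemLocalIdeal M (blockCoeff (blockOf M (χ₀ : G → ℂ)) 1) := by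
  classical
  have hp : p.Prime := Fact.out
  have hMp : M.IsPrime := isPrime_of_isPModular hpM
  set B := blockOf M (χ₀ : G → ℂ) with hB
  set a := (Nat.card G).factorization p with ha
  have hχ₀B : χ₀ ∈ B := sameBlock_refl hMp _
  have hmin : minDegVal p B = 0 := by
    have h1 := minDegVal_le_card p (B := B) ⟨χ₀, hχ₀B⟩
    rw [blockDefect_eq] at hdef
    omega
  obtain ⟨y, hy⟩ := exists_isDefectClass hpM χ₀
  have hval := val_centralizer_of_isDefectClass p M hpM ⟨χ₀, rfl⟩ hy
  rw [← hB, hmin, Nat.sub_zero] at hval
  -- the defect group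
  obtain ⟨Q⟩ : Nonempty (Sylow p (Subgroup.centralizer ({y} : Set G))) := inferInstance
  set D : Subgroup G := (Q : Subgroup (Subgroup.centralizer ({y} : Set G))).map
    (Subgroup.centralizer ({y} : Set G)).subtype with hD
  have hDdef : IsDefectGroup p M B D := ⟨y, hy, Q, rfl⟩
  have hDp : IsPGroup p D := isPGroup_of_isDefectGroup hDdef
  have hDcard : Nat.card D = p ^ a := by
    rw [hD, Subgroup.card_map_of_injective (Subgroup.subtype_injective _),
      Sylow.card_eq_multiplicity, hval]
  have hDidx : ¬ p ∣ D.index := by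
    intro h
    have h1 : Nat.card D * D.index = Nat.card G := Subgroup.card_mul_index D
    have h2 : p ^ (a + 1) ∣ Nat.card G := by
      rw [← h1, hDcard, pow_succ]
      exact Nat.mul_dvd_mul_left _ h
    exact Nat.pow_succ_factorization_not_dvd Nat.card_pos.ne' hp h2
  -- the Brauer correspondent
  have : Fintype (Subgroup.normalizer (D : Set G)) := Fintype.ofFinite _
  obtain ⟨ξ, hξdef, hξind⟩ := exists_block_normalizer hpM χ₀ hDdef
  have huniq : ∀ ψ : IrrCharacter (Subgroup.normalizer (D : Set G)),
      IsInducedBlock M (Subgroup.normalizer (D : Set G))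
        (blockOf M (ψ : Subgroup.normalizer (D : Set G) → ℂ)) B →
      ψ ∈ blockOf M (ξ : Subgroup.normalizer (D : Set G) → ℂ) := by
    intro ψ hψ
    have h1 := blockOf_eq_of_induced_normalizer hpM hDp ξ ψ χ₀ hξdef hξind hψ
    rw [← h1]
    exact sameBlock_refl hMp _
  have hcong := memLocalIdeal_brRes_blockCoeff_sub hpM D (Subgroup.normalizer (D : Set G)) hDp
    Subgroup.le_normalizer (Subgroup.centralizer_le_normalizer _) le_rfl hξind huniq 1
  rw [brRes_pos _ (by rw [Subgroup.coe_one]; exact Subgroup.one_mem _), Subgroup.coe_one] at hcong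
  -- the normal Sylow case
  have hDN : IsPGroup p (D.subgroupOf (Subgroup.normalizer (D : Set G))) :=
    hDp.comap_subtype
  have hDNidx : ¬ p ∣ (D.subgroupOf (Subgroup.normalizer (D : Set G))).index := by
    intro h
    apply hDidx
    exact h.trans (Subgroup.relIndex_dvd_index_of_le Subgroup.le_normalizer)
  have hunit := not_memLocalIdeal_blockCoeff_one_of_normal_sylow hpM
    (D.subgroupOf (Subgroup.normalizer (D : Set G))) hDN hDNidx ξ
  intro h1
  apply hunit
  have := memLocalIdeal_sub hMp h1 hcong
  rwa [sub_sub_cancel] at this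

end Cfsg.Agent.Lib.Helper74
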