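import Mathlib

/-!
# FUSC-DISC (FUS-C sub-hive of helper54, S2720/S2721): discriminant relation
-/

set_option autoImplicit false

namespace Cfsg.Agent.Lib.Helper37.Fus

open Polynomial

variable {F : Type*} [Field F] {V : Type*} [AddCommGroup V] [Module F V]

theorem disc_diag_det (B : LinearMap.BilinForm F V) {d : ℕ} (b : Module.Basis (Fin d) F V)
    (ho : ∀ i j, i ≠ j → B (b i) (b j) = 0) :
    (LinearMap.BilinForm.toMatrix b B).det = ∏ i, B (b i) (b i) := by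
  have h : LinearMap.BilinForm.toMatrix b B = Matrix.diagonal (fun i => B (b i) (b i)) := by
    ext i j
    rw [LinearMap.BilinForm.toMatrix_apply]
    by_cases hij : i = j
    · subst hij
      rw [Matrix.diagonal_apply_eq]
    · rw [Matrix.diagonal_apply_ne _ hij, ho i j hij]
  rw [h, Matrix.det_diagonal]

theorem disc_relation [FiniteDimensional F V] (B₁ B₂ : LinearMap.BilinForm F V)
    (m : V →ₗ[F] V) (hm : ∀ u v, B₂ u v = B₁ u (m v))
    {d : ℕ} (b₁ b₂ : Module.Basis (Fin d) F V)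
    (ho₁ : ∀ i j, i ≠ j → B₁ (b₁ i) (b₁ j) = 0) (hb₁ : ∀ i, B₁ (b₁ i) (b₁ i) ≠ 0)
    (ho₂ : ∀ i j, i ≠ j → B₂ (b₂ i) (b₂ j) = 0) :
    ∃ t : F, t ≠ 0 ∧ (∏ i, B₂ (b₂ i) (b₂ i)) * (∏ i, B₁ (b₁ i) (b₁ i)) = LinearMap.det m * t ^ 2 := by
  have hB₂ : B₂ = B₁.compRight m := by
    ext u v
    rw [hm]
    rfl
  have h1 : (LinearMap.BilinForm.toMatrix b₁ B₁).det = ∏ i, B₁ (b₁ i) (b₁ i) :=
    disc_diag_det B₁ b₁ ho₁
  have h2 : (LinearMap.BilinForm.toMatrix b₂ B₂).det = ∏ i, B₂ (b₂ i) (b₂ i) :=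
    disc_diag_det B₂ b₂ ho₂
  have h3 : LinearMap.BilinForm.toMatrix b₁ B₂ =
      LinearMap.BilinForm.toMatrix b₁ B₁ * LinearMap.toMatrix b₁ b₁ m := by
    rw [hB₂, LinearMap.BilinForm.toMatrix_compRight]
  have h4 : (b₁.toMatrix b₂).transpose * LinearMap.BilinForm.toMatrix b₁ B₂ * b₁.toMatrix b₂ =
      LinearMap.BilinForm.toMatrix b₂ B₂ :=
    LinearMap.BilinForm.toMatrix_mul_basis_toMatrix b₁ b₂ B₂
  have hP : (b₁.toMatrix b₂).det ≠ 0 := by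
    have hu : IsUnit (b₁.toMatrix b₂).det := by
      have := Module.Basis.invertibleToMatrix b₁ b₂
      exact Matrix.isUnit_det_of_invertible _
    exact hu.ne_zero
  have hG : (∏ i, B₁ (b₁ i) (b₁ i)) ≠ 0 := Finset.prod_ne_zero_iff.2 (fun i _ => hb₁ i)
  refine ⟨(b₁.toMatrix b₂).det * ∏ i, B₁ (b₁ i) (b₁ i), mul_ne_zero hP hG, ?_⟩
  rw [← h2, ← h4, h3, Matrix.det_mul, Matrix.det_mul, Matrix.det_mul, Matrix.det_transpose,
    LinearMap.det_toMatrix, h1]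
  ring

end Cfsg.Agent.Lib.Helper37.Fus
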