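import Mathlib
import Cfsg.Agent.Lib.Helper57.U62Defs
import Cfsg.Agent.S0280

/-! U62 hive (S1684 + S0471, helper57): leaf U62-CARD `card_PSU`. -/

set_option autoImplicit false

namespace Cfsg.Agent.Lib.Helper57.U62

open Cfsg.Agent.Lib.Helper28.Sp44F4

theorem card_PSU : Nat.card (Cfsg.PSU 6 F4 2) = 9196830720 := by
  have h := Cfsg.Agent.S0280.result (F := F4) (q := 2) (by rw [F4.card_eq]; norm_num) 6 (by norm_num)
  have h2 : (2 : ℕ) ^ (6 * (6 - 1) / 2) * ∏ i ∈ Finset.range 6,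
      (if Even i then 2 ^ (i + 1) + 1 else 2 ^ (i + 1) - 1) = 82771476480 := by
    decide
  rw [h2] at h
  have h3 : Nat.gcd 6 (2 + 1) = 3 := by decide
  rw [h3] at h
  omega

end Cfsg.Agent.Lib.Helper57.U62
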