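import Mathlib
import Cfsg.Agent.Lib.Helper6.Ls.Defs

set_option autoImplicit false

/-! `Rm` mini-hive (helper6, S2343): leaf RM-KL4 `four_dvd_finrank_of_klein`. -/

namespace Cfsg.Agent.Lib.Helper6.Rm

open Module Cfsg Cfsg.Agent.Lib.Helper6.Ls

section abstract

variable {G : Type*} [Group G] {W : Type*} [AddCommGroup W] [Module ℂ W] [FiniteDimensional ℂ W]

/-- RM-KL4 (Mathlib). -/
theorem four_dvd_finrank_of_klein (ρ : Representation ℂ G W) (a b : G) (ha : a * a = 1) (hb : b * b = 1)
    (hab : a * b = b * a) (hta : LinearMap.trace ℂ W (ρ a) = 0) (htb : LinearMap.trace ℂ W (ρ b) = 0)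
    (htab : LinearMap.trace ℂ W (ρ (a * b)) = 0) : 4 ∣ finrank ℂ W := by
  have hA : ρ a * ρ a = 1 := by rw [← map_mul, ha, map_one]
  have hB : ρ b * ρ b = 1 := by rw [← map_mul, hb, map_one]
  have hAB : ρ a * ρ b = ρ b * ρ a := by rw [← map_mul, ← map_mul, hab]
  have hm : ρ (a * b) = ρ a * ρ b := map_mul ρ a b
  set A : Module.End ℂ W := ρ a with hAdef
  set B : Module.End ℂ W := ρ b with hBdef
  let P : Module.End ℂ W := (1 / 4 : ℂ) • (1 + A + B + A * B)
  have hsq : (1 + A + B + A * B) * (1 + A + B + A * B) = (4 : ℂ) • (1 + A + B + A * B) := by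
    have e1 : A * B * A = B := by rw [hAB, mul_assoc, hA, mul_one]
    have e2 : A * (A * B) = B := by rw [← mul_assoc, hA, one_mul]
    have e3 : B * (A * B) = A := by rw [hAB, ← mul_assoc, hB, one_mul]
    have e4 : A * B * B = A := by rw [mul_assoc, hB, mul_one]
    have e5 : A * B * (A * B) = 1 := by rw [← mul_assoc, e1, hB]
    have e6 : B * A = A * B := hAB.symm
    simp only [mul_add, add_mul, mul_one, one_mul, hA, hB, e1, e2, e3, e4, e5, e6]
    module
  have hP : IsIdempotentElem P := by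
    show P * P = P
    simp only [P, smul_mul_smul_comm, hsq, smul_smul]
    norm_num
  have htr : LinearMap.trace ℂ W P = (finrank ℂ W : ℂ) / 4 := by
    simp only [P, map_smul, map_add, LinearMap.trace_one, ← hm, hta, htb, htab, add_zero, smul_eq_mul]
    ring
  have htr2 : LinearMap.trace ℂ W P = (finrank ℂ (LinearMap.range P) : ℂ) :=
    (LinearMap.IsIdempotentElem.isProj_range P hP).trace
  rw [htr] at htr2
  have h4 : (finrank ℂ W : ℂ) = ((4 * finrank ℂ (LinearMap.range P) : ℕ) : ℂ) := by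
    push_cast
    linear_combination 4 * htr2
  have h5 : finrank ℂ W = 4 * finrank ℂ (LinearMap.range P) := by exact_mod_cast h4
  exact ⟨_, h5⟩

end abstract

end Cfsg.Agent.Lib.Helper6.Rm
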