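import Mathlib
import Cfsg.Agent.Lib.Helper6.Ls.Defs

set_option autoImplicit false

/-! `Rm` mini-hive (helper6, S2343): leaf RM-TR0 `trace_eq_zero_of_fixIn_eq_bot`. -/

namespace Cfsg.Agent.Lib.Helper6.Rm

open Module Cfsg Cfsg.Agent.Lib.Helper6.Ls

section abstract

variable {G : Type*} [Group G] {W : Type*} [AddCommGroup W] [Module ℂ W] [FiniteDimensional ℂ W]

omit [FiniteDimensional ℂ W] in
theorem rmtr0_trace_conj (ρ : Representation ℂ G W) (w t : G) :
    LinearMap.trace ℂ W (ρ (w * t * w⁻¹)) = LinearMap.trace ℂ W (ρ t) := by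
  have h1 : ρ (w * t * w⁻¹) = ρ w * (ρ t * ρ w⁻¹) := by rw [map_mul, map_mul, mul_assoc]
  have h2 : ρ t * ρ w⁻¹ * ρ w = ρ t := by rw [mul_assoc, ← map_mul, inv_mul_cancel, map_one, mul_one]
  rw [h1, LinearMap.trace_mul_comm, h2]

/-- RM-TR0 (Mathlib + Ls.Defs). -/
theorem trace_eq_zero_of_fixIn_eq_bot (ρ : Representation ℂ G W) (Z : Subgroup G) [Finite Z] (t : G)
    (hconj : ∀ z ∈ Z, ∃ w : G, w * t * w⁻¹ = t * z) (hfix : fixIn ρ Z ⊤ = ⊥) :
    LinearMap.trace ℂ W (ρ t) = 0 := by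
  classical
  let _inst : Fintype Z := Fintype.ofFinite Z
  set S : Module.End ℂ W := ∑ z : Z, ρ (z : G) with hS
  -- `ρ z' * S = S`
  have hinv : ∀ z' : Z, ρ (z' : G) * S = S := by
    intro z'
    rw [hS, Finset.mul_sum]
    refine Fintype.sum_equiv (Equiv.mulLeft z') _ _ ?_
    intro z
    rw [← map_mul]
    rfl
  -- `S = 0`
  have hS0 : S = 0 := by
    apply LinearMap.ext
    intro x
    have hmem : S x ∈ fixIn ρ Z ⊤ := by
      unfold fixIn
      refine Submodule.mem_inf.2 ⟨Submodule.mem_top, (Submodule.mem_iInf _).2 ?_⟩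
      intro z'
      rw [LinearMap.mem_ker, LinearMap.sub_apply, Module.End.one_apply, sub_eq_zero]
      have := LinearMap.congr_fun (hinv z') x
      exact this
    rw [hfix, Submodule.mem_bot] at hmem
    rw [hmem, LinearMap.zero_apply]
  -- the trace
  have h1 : LinearMap.trace ℂ W (ρ t * S) = (Fintype.card Z : ℂ) * LinearMap.trace ℂ W (ρ t) := by
    rw [hS, Finset.mul_sum, map_sum]
    have : ∀ z : Z, LinearMap.trace ℂ W (ρ t * ρ (z : G)) = LinearMap.trace ℂ W (ρ t) := by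
      intro z
      obtain ⟨w, hw⟩ := hconj z z.2
      rw [← map_mul, ← hw, rmtr0_trace_conj]
    rw [Finset.sum_congr rfl (fun z _ => this z), Finset.sum_const, Finset.card_univ, nsmul_eq_mul]
  rw [hS0, mul_zero, map_zero] at h1
  have hcard : (Fintype.card Z : ℂ) ≠ 0 := by
    have : 0 < Fintype.card Z := Fintype.card_pos
    exact_mod_cast this.ne'
  rcases mul_eq_zero.1 h1.symm with h | h
  · exact absurd h hcard
  · exact h

end abstract

end Cfsg.Agent.Lib.Helper6.Rm
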