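import Mathlib
import Cfsg.Agent.Lib.Helper70.SpUDefs
import Cfsg.Agent.Lib.Helper97.SpBN_GENcore

/-! # S2316 hive (helper70): leaves SPU-LEV3 `lev_perm` and SPU-LEV4 `lev_top` (helper74) -/

set_option autoImplicit false

namespace Cfsg.Agent.Lib.Helper70.SpU

open Matrix Cfsg Cfsg.Agent.Lib.Helper13 Cfsg.Agent.Lib.Helper41.SpBN

universe u

variable {F : Type u} [Field F] {m : ℕ}

/-- own copy of SPU-LEV1: joined positions have the same level -/
theorem lev3_eq_of_joined (J : Set (SpG F m)) {a b : Idx m} (h : Joined J a b) :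
    lev J a = lev J b := by
  classical
  unfold lev
  congr 1
  apply Finset.filter_congr
  intro c _
  constructor
  · rintro ⟨h1, h2⟩
    exact ⟨by rw [h.1]; omega, h2⟩
  · rintro ⟨h1, h2⟩
    refine ⟨?_, h2⟩
    rw [h.1] at h1
    rcases Nat.lt_or_ge (pos c) (pos a) with h3 | h3
    · exact h3
    · exfalso
      have h4 : pos c = pos a := by omega
      have hca : c = a := pos_injective h4
      exact h2 ⟨b, hca ▸ h⟩

theorem lev3_short_inl (k k' : Fin m) (i : Fin m) :
    simpleShort k k' (Sum.inl i) = if i = k then Sum.inl k' else if i = k' then Sum.inl k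
      else Sum.inl i := by
  unfold simpleShort
  rw [Equiv.Perm.mul_apply, Equiv.swap_apply_of_ne_of_ne (a := Sum.inr k) (b := Sum.inr k')
    (x := Sum.inl i) (by simp) (by simp), Equiv.swap_apply_def]
  simp only [Sum.inl.injEq]

theorem lev3_short_inr (k k' : Fin m) (i : Fin m) :
    simpleShort k k' (Sum.inr i) = if i = k then Sum.inr k' else if i = k' then Sum.inr k
      else Sum.inr i := by
  unfold simpleShort
  rw [Equiv.Perm.mul_apply]
  by_cases h1 : i = k
  · subst h1
    rw [Equiv.swap_apply_left, Equiv.swap_apply_of_ne_of_ne (by simp) (by simp), if_pos rfl]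
  · by_cases h2 : i = k'
    · subst h2
      rw [Equiv.swap_apply_right, Equiv.swap_apply_of_ne_of_ne (by simp) (by simp), if_neg h1,
        if_pos rfl]
    · rw [Equiv.swap_apply_of_ne_of_ne (a := Sum.inr k) (b := Sum.inr k') (x := Sum.inr i)
        (by simpa using h1) (by simpa using h2),
        Equiv.swap_apply_of_ne_of_ne (by simp) (by simp), if_neg h1, if_neg h2]

theorem lev3_long_inl (k : Fin m) (i : Fin m) :
    simpleLong k (Sum.inl i) = if i = k then Sum.inr k else Sum.inl i := by
  unfold simpleLong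
  rw [Equiv.swap_apply_def]
  simp only [Sum.inl.injEq, reduceCtorEq, if_false]

theorem lev3_long_inr (k : Fin m) (i : Fin m) :
    simpleLong k (Sum.inr i) = if i = k then Sum.inl k else Sum.inr i := by
  unfold simpleLong
  rw [Equiv.swap_apply_def]
  simp only [Sum.inr.injEq, reduceCtorEq, if_false]

/-- a simple generator is an involution moving every position by at most one -/
theorem lev3_simple {σ : Equiv.Perm (Idx m)} (hσ : IsSimpleGen σ) (x : Idx m) :
    σ (σ x) = x ∧ pos (σ x) ≤ pos x + 1 ∧ pos x ≤ pos (σ x) + 1 := by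
  rcases hσ with ⟨k, k', hk, rfl⟩ | ⟨k, hk, rfl⟩
  · have hkk' : k ≠ k' := by
      intro h
      rw [h] at hk
      omega
    rcases x with i | i
    · rw [lev3_short_inl]
      by_cases h1 : i = k
      · subst h1
        rw [if_pos rfl, lev3_short_inl, if_neg (Ne.symm hkk'), if_pos rfl]
        refine ⟨rfl, ?_, ?_⟩ <;> simp only [pos_inl] <;> omega
      · by_cases h2 : i = k'
        · subst h2
          rw [if_neg h1, if_pos rfl, lev3_short_inl, if_pos rfl]
          refine ⟨rfl, ?_, ?_⟩ <;> simp only [pos_inl] <;> omega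
        · rw [if_neg h1, if_neg h2, lev3_short_inl, if_neg h1, if_neg h2]
          simp
    · rw [lev3_short_inr]
      have := k.2
      have := k'.2
      by_cases h1 : i = k
      · subst h1
        rw [if_pos rfl, lev3_short_inr, if_neg (Ne.symm hkk'), if_pos rfl]
        refine ⟨rfl, ?_, ?_⟩ <;> simp only [pos_inr] <;> omega
      · by_cases h2 : i = k'
        · subst h2
          rw [if_neg h1, if_pos rfl, lev3_short_inr, if_pos rfl]
          refine ⟨rfl, ?_, ?_⟩ <;> simp only [pos_inr] <;> omega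
        · rw [if_neg h1, if_neg h2, lev3_short_inr, if_neg h1, if_neg h2]
          simp
  · have := k.2
    rcases x with i | i
    · rw [lev3_long_inl]
      by_cases h1 : i = k
      · subst h1
        rw [if_pos rfl, lev3_long_inr, if_pos rfl]
        refine ⟨rfl, ?_, ?_⟩ <;> simp only [pos_inl, pos_inr] <;> omega
      · rw [if_neg h1, lev3_long_inl, if_neg h1]
        simp
    · rw [lev3_long_inr]
      by_cases h1 : i = k
      · subst h1
        rw [if_pos rfl, lev3_long_inl, if_pos rfl]
        refine ⟨rfl, ?_, ?_⟩ <;> simp only [pos_inl, pos_inr] <;> omega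
      · rw [if_neg h1, lev3_long_inr, if_neg h1]
        simp

/-- SPU-LEV3. The permutation of a simple reflection in `J` preserves the levels. -/
theorem lev_perm (J : Set (SpG F m)) {σ : Equiv.Perm (Idx m)} (hσ : σ ∈ permsOf J) (a : Idx m) :
    lev J (σ a) = lev J a := by
  obtain ⟨hgen, s, hsJ, hs⟩ := hσ
  obtain ⟨hinv, h1, h2⟩ := lev3_simple hgen a
  rcases Nat.lt_trichotomy (pos (σ a)) (pos a) with h | h | h
  · have hj : Joined J (σ a) a := ⟨by omega, s, hsJ, σ, hgen, hs, hinv⟩
    exact lev3_eq_of_joined J hj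
  · rw [pos_injective h]
  · have hj : Joined J a (σ a) := ⟨by omega, s, hsJ, σ, hgen, hs, Eq.refl _⟩
    exact (lev3_eq_of_joined J hj).symm

theorem lev4_pos_le (a : Idx m) : pos a ≤ 2 * m - 1 := by
  rcases a with i | i
  · have := i.2
    simp only [pos_inl]
    omega
  · simp only [pos_inr]
    omega

theorem lev4_joined (σ : Equiv.Perm (Idx m)) (hσ : IsSimpleGen σ) (c : Idx m)
    (h : pos (σ c) = pos c + 1) : ∃ d, Joined (Ssp F m) c d :=
  ⟨σ c, h, ⟨monoMat σ (1 : Fin m → Fˣ), monoMat_mem σ (gen_isSimpleGen_swap hσ) 1⟩,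
    ⟨σ, hσ, Eq.refl _⟩, σ, hσ, Eq.refl _, Eq.refl _⟩

/-- SPU-LEV4. For `J = S` there is no cut. -/
theorem lev_top (a : Idx m) : lev (Ssp F m) a = 0 := by
  classical
  unfold lev
  rw [Finset.card_eq_zero, Finset.filter_eq_empty_iff]
  intro c _ hc
  obtain ⟨hca, hcut⟩ := hc
  apply hcut
  have ha := lev4_pos_le a
  rcases c with k | k
  · have hk := k.2
    by_cases hk1 : (k : ℕ) + 1 < m
    · refine lev4_joined (simpleShort k ⟨(k : ℕ) + 1, hk1⟩)
        (Or.inl ⟨k, ⟨(k : ℕ) + 1, hk1⟩, Eq.refl _, Eq.refl _⟩) _ ?_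
      rw [lev3_short_inl, if_pos rfl]
      simp only [pos_inl]
    · have hk2 : (k : ℕ) + 1 = m := by omega
      refine lev4_joined (simpleLong k) (Or.inr ⟨k, hk2, Eq.refl _⟩) _ ?_
      rw [lev3_long_inl, if_pos rfl]
      simp only [pos_inl, pos_inr]
      omega
  · have hk := k.2
    simp only [pos_inr] at hca
    have hk0 : 0 < (k : ℕ) := by omega
    have hk1 : (k : ℕ) - 1 < m := by omega
    have hne : k ≠ ⟨(k : ℕ) - 1, hk1⟩ := by
      intro h
      have := congrArg Fin.val h
      simp only at this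
      omega
    refine lev4_joined (simpleShort ⟨(k : ℕ) - 1, hk1⟩ k)
      (Or.inl ⟨⟨(k : ℕ) - 1, hk1⟩, k, by simp only; omega, Eq.refl _⟩) _ ?_
    rw [lev3_short_inr, if_neg hne, if_pos rfl]
    simp only [pos_inr]
    omega

end Cfsg.Agent.Lib.Helper70.SpU
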