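import Cfsg.Agent.Lib.Helper64.MiKIDefs
import Cfsg.Agent.Lib.Helper43.MiTV1

/-! Mi hive (S2140, helper81), sub-hive MI-KI (helper64): leaf KI-HA (`hu_coe`, `hu_mul`). -/

set_option autoImplicit false

namespace Cfsg.Agent.Lib.Helper81.Mi

open Matrix

section concreteKI

variable {F : Type*} [Field F] {n k : ℕ}

theorem kiha_sum (f : Fin (k + 2) → F) :
    ∑ i, f i = f 0 + (∑ l : Fin k, f ⟨l.val + 1, by omega⟩) + f (Fin.last (k + 1)) := by
  rw [Fin.sum_univ_succ, Fin.sum_univ_castSucc, ← add_assoc]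
  rfl

theorem kiha_emb_zero (a : Fin k → F) : emb a 0 = 0 := by
  unfold emb
  rw [dif_neg]
  simp

theorem kiha_emb_last (a : Fin k → F) : emb a (Fin.last (k + 1)) = 0 := by
  unfold emb
  rw [dif_neg]
  simp

theorem kiha_emb_mid (a : Fin k → F) (l : Fin k) : emb a ⟨l.val + 1, by omega⟩ = a l := by
  unfold emb
  have h : 1 ≤ ((⟨l.val + 1, by omega⟩ : Fin (k + 2)) : ℕ) ∧ ((⟨l.val + 1, by omega⟩ : Fin (k + 2)) : ℕ) ≤ k :=
    ⟨by simp, by simp⟩
  rw [dif_pos h]
  congr 1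

theorem kiha_e0_zero : e0 F (k + 2) 0 = 1 := by simp [e0]
theorem kiha_e0_mid (l : Fin k) : e0 F (k + 2) ⟨l.val + 1, by omega⟩ = 0 := by simp [e0]
theorem kiha_e0_last : e0 F (k + 2) (Fin.last (k + 1)) = 0 := by simp [e0]
theorem kiha_elast_zero : elast F (k + 2) 0 = 0 := by simp [elast]
theorem kiha_elast_mid (l : Fin k) : elast F (k + 2) ⟨l.val + 1, by omega⟩ = 0 := by
  have h : ¬ (l.val = k) := by omega
  simp [elast, h]
theorem kiha_elast_last : elast F (k + 2) (Fin.last (k + 1)) = 1 := by simp [elast]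

theorem kiha_emb_dot_emb (a b : Fin k → F) : emb a ⬝ᵥ emb b = a ⬝ᵥ b := by
  unfold dotProduct
  rw [kiha_sum]
  simp only [kiha_emb_zero, kiha_emb_last, kiha_emb_mid]
  simp

theorem kiha_dot_e0 (x : Fin (k + 2) → F) : x ⬝ᵥ e0 F (k + 2) = x 0 := by
  unfold dotProduct
  rw [kiha_sum]
  simp only [kiha_e0_zero, kiha_e0_mid, kiha_e0_last]
  simp

theorem kiha_elast_dot (x : Fin (k + 2) → F) : elast F (k + 2) ⬝ᵥ x = x (Fin.last (k + 1)) := by
  unfold dotProduct
  rw [kiha_sum]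
  simp only [kiha_elast_zero, kiha_elast_mid, kiha_elast_last]
  simp

theorem kiha_dot_elast (x : Fin (k + 2) → F) : x ⬝ᵥ elast F (k + 2) = x (Fin.last (k + 1)) := by
  rw [dotProduct_comm, kiha_elast_dot]

theorem kiha_emb_add (a a' : Fin k → F) : emb (a + a') = emb a + emb a' := by
  funext i
  unfold emb
  by_cases h : 1 ≤ (i : ℕ) ∧ (i : ℕ) ≤ k
  · simp only [Pi.add_apply, dif_pos h]
  · simp only [Pi.add_apply, dif_neg h, add_zero]

theorem kiha_pair_left (a : Fin k → F) (s : F) : (emb a + s • elast F (k + 2)) ⬝ᵥ e0 F (k + 2) = 0 := by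
  rw [kiha_dot_e0]
  simp [kiha_emb_zero, kiha_elast_zero]

theorem kiha_pair_right (b : Fin k → F) : elast F (k + 2) ⬝ᵥ emb b = 0 := by
  rw [kiha_elast_dot, kiha_emb_last]

theorem kiha_pair_mid (a b : Fin k → F) (s : F) : (emb a + s • elast F (k + 2)) ⬝ᵥ emb b = a ⬝ᵥ b := by
  rw [add_dotProduct, smul_dotProduct, kiha_pair_right, kiha_emb_dot_emb]
  simp

/-- KI-HA: matrix of `hu`. -/
theorem hu_coe (a b : Fin k → F) (c : F) :
    ((hu a b c : SLn (k + 2) F) : Matrix (Fin (k + 2)) (Fin (k + 2)) F) =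
      1 + vecMulVec (e0 F (k + 2)) (emb a + c • elast F (k + 2)) + vecMulVec (emb b) (elast F (k + 2)) := by
  unfold hu
  rw [Matrix.SpecialLinearGroup.coe_mul, coe_tv _ _ (kiha_pair_left a _), coe_tv _ _ (kiha_pair_right b),
    tv1_tmat_mul, kiha_pair_mid]
  ext i j
  simp only [Matrix.add_apply, Matrix.smul_apply, Matrix.vecMulVec_apply, smul_eq_mul, Pi.smul_apply,
    Pi.add_apply, Matrix.one_apply]
  ring

/-- KI-HA: the Heisenberg law. -/
theorem hu_mul (a b : Fin k → F) (c : F) (a' b' : Fin k → F) (c' : F) :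
    hu a b c * hu a' b' c' = hu (a + a') (b + b') (c + c' + a ⬝ᵥ b') := by
  apply Subtype.ext
  rw [Matrix.SpecialLinearGroup.coe_mul, hu_coe, hu_coe, hu_coe]
  simp only [Matrix.add_mul, Matrix.mul_add, Matrix.one_mul, Matrix.mul_one,
    Matrix.vecMulVec_mul_vecMulVec, kiha_pair_left, kiha_pair_mid, kiha_elast_dot,
    kiha_e0_last, kiha_emb_last, kiha_emb_add]
  ext i j
  simp only [Matrix.add_apply, Matrix.vecMulVec_apply, smul_eq_mul, Pi.smul_apply,
    Pi.add_apply, Matrix.one_apply, Pi.zero_apply, zero_smul, mul_zero, add_zero]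
  ring

end concreteKI

end Cfsg.Agent.Lib.Helper81.Mi
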