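import Cfsg.Agent.Lib.Helper74.SelfCent

set_option autoImplicit false

namespace Cfsg.Agent.Lib.Helper74

open Subgroup

section
variable {G : Type*} [Group G] [Finite G]

theorem exists_conj_mem_zpowers {p : ℕ} [hp : Fact p.Prime] {x : G} (hx : orderOf x = p)
    (hC : Subgroup.centralizer ({x} : Set G) = Subgroup.zpowers x) {g : G} (hg : orderOf g = p) :
    ∃ h : G, h⁻¹ * g * h ∈ Subgroup.zpowers x := by
  obtain ⟨P, hP⟩ := exists_sylow_eq_zpowers hx hC
  have hPG : IsPGroup p (Subgroup.zpowers g) := by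
    apply IsPGroup.of_card (n := 1)
    rw [Nat.card_zpowers, hg, pow_one]
  obtain ⟨Q, hQ⟩ := hPG.exists_le_sylow
  obtain ⟨h, hh⟩ := MulAction.exists_smul_eq G P Q
  refine ⟨h, ?_⟩
  have hgQ : g ∈ (Q : Subgroup G) := hQ (Subgroup.mem_zpowers g)
  rw [← hh, Sylow.coe_subgroup_smul, Subgroup.mem_pointwise_smul_iff_inv_smul_mem] at hgQ
  simp only [MulAut.smul_def, MulAut.inv_apply, MulAut.conj_symm_apply] at hgQ
  rwa [hP] at hgQ

theorem comm_iff_mem_zpowers {p : ℕ} (hp : p.Prime) {x : G} (hx : orderOf x = p)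
    (hC : Subgroup.centralizer ({x} : Set G) = Subgroup.zpowers x) {y : G}
    (hy : y ∈ Subgroup.zpowers x) (hy1 : y ≠ 1) (g : G) :
    g * y = y * g ↔ g ∈ Subgroup.zpowers x := by
  have heq := zpowers_eq_of_mem_of_ne_one hp hx hy hy1
  constructor
  · intro h
    apply mem_zpowers_of_comm hC
    have hxy : x ∈ Subgroup.zpowers y := by rw [heq]; exact Subgroup.mem_zpowers x
    obtain ⟨k, hk⟩ := Subgroup.mem_zpowers_iff.mp hxy
    rw [← hk]
    exact (Commute.zpow_right h k).eq
  · intro h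
    obtain ⟨k, hk⟩ := Subgroup.mem_zpowers_iff.mp hy
    rw [← hk]
    exact (Commute.zpow_right (comm_of_mem_zpowers h) k).eq

theorem mem_normalizer_of_conj {p : ℕ} (hp : p.Prime) {x : G} (hx : orderOf x = p)
    {y y' c : G} (hy : y ∈ Subgroup.zpowers x) (hy1 : y ≠ 1) (hy' : y' ∈ Subgroup.zpowers x)
    (hc : c * y * c⁻¹ = y') :
    c ∈ Subgroup.normalizer ((Subgroup.zpowers x : Subgroup G) : Set G) := by
  have heq := zpowers_eq_of_mem_of_ne_one hp hx hy hy1
  apply Subgroup.mem_normalizer_fintype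
  intro n hn
  have hn' : n ∈ Subgroup.zpowers y := by rw [heq]; exact hn
  obtain ⟨k, hk⟩ := Subgroup.mem_zpowers_iff.mp hn'
  have : c * n * c⁻¹ = y' ^ k := by
    rw [← hk, ← hc, conj_zpow]
  rw [SetLike.mem_coe, this]
  exact Subgroup.zpow_mem _ hy' k

end

section
variable {G : Type*} [Group G] [Finite G]

theorem orderOf_eq_of_mem_zpowers {p : ℕ} (hp : p.Prime) {x y : G} (hx : orderOf x = p)
    (hy : y ∈ Subgroup.zpowers x) (hy1 : y ≠ 1) : orderOf y = p := by
  have heq := zpowers_eq_of_mem_of_ne_one hp hx hy hy1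
  have := congrArg (fun H : Subgroup G => Nat.card H) heq
  simp only [Nat.card_zpowers] at this
  rw [this, hx]

theorem card_fiber_eq {p : ℕ} [hp : Fact p.Prime] {x : G} (hx : orderOf x = p)
    (hC : Subgroup.centralizer ({x} : Set G) = Subgroup.zpowers x)
    (C : ConjClasses G) (hCp : ∃ g ∈ C.carrier, orderOf g = p) :
    Nat.card {y : G // (y ∈ Subgroup.zpowers x ∧ y ≠ 1) ∧ ConjClasses.mk y = C} =
      (Subgroup.zpowers x).relIndex (Subgroup.normalizer ((Subgroup.zpowers x : Subgroup G) : Set G)) := by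
  obtain ⟨g, hgC, hg⟩ := hCp
  obtain ⟨h, hh⟩ := exists_conj_mem_zpowers hx hC hg
  set y₀ := h⁻¹ * g * h with hy₀
  have hy₀1 : y₀ ≠ 1 := by
    intro h1
    have : g = 1 := by
      have : h * y₀ * h⁻¹ = g := by rw [hy₀]; group
      rw [← this, h1]; group
    rw [this, orderOf_one] at hg
    exact hp.out.ne_one hg.symm
  have hy₀C : ConjClasses.mk y₀ = C := by
    rw [← ConjClasses.mem_carrier_iff_mk_eq.mp hgC, ConjClasses.mk_eq_mk_iff_isConj, isConj_iff]
    exact ⟨h, by rw [hy₀]; group⟩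
  set N := Subgroup.normalizer ((Subgroup.zpowers x : Subgroup G) : Set G) with hN
  rw [Subgroup.relIndex, Subgroup.index]
  symm
  let φ₀ : N → {y : G // (y ∈ Subgroup.zpowers x ∧ y ≠ 1) ∧ ConjClasses.mk y = C} := fun n =>
    ⟨(n : G) * y₀ * (n : G)⁻¹, ⟨(Subgroup.mem_normalizer_iff.mp n.2 y₀).mp hh, by
      intro h1
      exact hy₀1 (conj_eq_one_iff.mp h1)⟩, by
      rw [← hy₀C, ConjClasses.mk_eq_mk_iff_isConj, isConj_iff]
      exact ⟨(n : G)⁻¹, by group⟩⟩
  have key : ∀ n m : N, φ₀ n = φ₀ m ↔ (n : G)⁻¹ * (m : G) ∈ Subgroup.zpowers x := by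
    intro n m
    rw [← comm_iff_mem_zpowers hp.out hx hC hh hy₀1]
    constructor
    · intro e
      have e' : (n : G) * y₀ * (n : G)⁻¹ = (m : G) * y₀ * (m : G)⁻¹ := congrArg Subtype.val e
      have : (n : G)⁻¹ * ((n : G) * y₀ * (n : G)⁻¹) * (m : G) = (n : G)⁻¹ * ((m : G) * y₀ * (m : G)⁻¹) * (m : G) := by
        rw [e']
      have l : (n : G)⁻¹ * ((n : G) * y₀ * (n : G)⁻¹) * (m : G) = y₀ * ((n : G)⁻¹ * (m : G)) := by group
      have r : (n : G)⁻¹ * ((m : G) * y₀ * (m : G)⁻¹) * (m : G) = (n : G)⁻¹ * (m : G) * y₀ := by group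
      rw [l, r] at this
      exact this.symm
    · intro e
      apply Subtype.ext
      show (n : G) * y₀ * (n : G)⁻¹ = (m : G) * y₀ * (m : G)⁻¹
      have : (n : G) * ((n : G)⁻¹ * (m : G) * y₀) * (m : G)⁻¹ = (n : G) * (y₀ * ((n : G)⁻¹ * (m : G))) * (m : G)⁻¹ := by
        rw [e]
      have l : (n : G) * ((n : G)⁻¹ * (m : G) * y₀) * (m : G)⁻¹ = (m : G) * y₀ * (m : G)⁻¹ := by group
      have r : (n : G) * (y₀ * ((n : G)⁻¹ * (m : G))) * (m : G)⁻¹ = (n : G) * y₀ * (n : G)⁻¹ := by group
      rw [l, r] at this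
      exact this.symm
  let φ : (N ⧸ (Subgroup.zpowers x).subgroupOf N) →
      {y : G // (y ∈ Subgroup.zpowers x ∧ y ≠ 1) ∧ ConjClasses.mk y = C} :=
    Quotient.lift φ₀ (by
      intro n m hnm
      rw [key]
      have := QuotientGroup.leftRel_apply.mp hnm
      exact this)
  apply Nat.card_congr
  apply Equiv.ofBijective φ
  constructor
  · intro a b
    induction a using Quotient.inductionOn with
    | _ n =>
    induction b using Quotient.inductionOn with
    | _ m =>
    intro hab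
    apply Quotient.sound
    apply QuotientGroup.leftRel_apply.mpr
    exact (key n m).mp hab
  · intro y
    obtain ⟨y, ⟨hy, hy1⟩, hyC⟩ := y
    have hconj : IsConj y₀ y := by
      rw [← ConjClasses.mk_eq_mk_iff_isConj, hy₀C, hyC]
    obtain ⟨c, hc⟩ := isConj_iff.mp hconj
    have hcN : c ∈ N := mem_normalizer_of_conj hp.out hx hh hy₀1 hy hc
    refine ⟨Quotient.mk _ ⟨c, hcN⟩, ?_⟩
    apply Subtype.ext
    exact hc

end

section
variable {G : Type*} [Group G] [Finite G]

theorem card_classes_mul_relIndex {p : ℕ} [hp : Fact p.Prime] {x : G} (hx : orderOf x = p)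
    (hC : Subgroup.centralizer ({x} : Set G) = Subgroup.zpowers x) :
    Nat.card {C : ConjClasses G // ∃ g ∈ C.carrier, orderOf g = p} *
      (Subgroup.zpowers x).relIndex (Subgroup.normalizer ((Subgroup.zpowers x : Subgroup G) : Set G))
      = p - 1 := by
  classical
  set e := (Subgroup.zpowers x).relIndex (Subgroup.normalizer ((Subgroup.zpowers x : Subgroup G) : Set G)) with he
  let T := {C : ConjClasses G // ∃ g ∈ C.carrier, orderOf g = p}
  let Ω := {y : G // y ∈ Subgroup.zpowers x ∧ y ≠ 1}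
  have hΩ : Nat.card Ω = p - 1 := by
    have e1 : Ω ≃ ↥(((Subgroup.zpowers x : Subgroup G) : Set G) \ {1}) :=
      Equiv.subtypeEquivRight (fun y => by simp)
    rw [Nat.card_congr e1, Nat.card_coe_set_eq, Set.ncard_sdiff_singleton_of_mem (Subgroup.one_mem _)]
    rw [← Nat.card_coe_set_eq]
    have : Nat.card ↥((Subgroup.zpowers x : Subgroup G) : Set G) = Nat.card (Subgroup.zpowers x) := rfl
    rw [this, Nat.card_zpowers, hx]
  let f : Ω → T := fun y => ⟨ConjClasses.mk y.1, y.1, ConjClasses.mem_carrier_mk,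
    orderOf_eq_of_mem_zpowers hp.out hx y.2.1 y.2.2⟩
  letI : Fintype T := Fintype.ofFinite T
  have hsum : Nat.card Ω = ∑ C : T, Nat.card {y : Ω // f y = C} := by
    rw [Nat.card_congr (Equiv.sigmaFiberEquiv f).symm, Nat.card_sigma]
  have hfib : ∀ C : T, Nat.card {y : Ω // f y = C} = e := by
    intro C
    rw [he, ← card_fiber_eq hx hC C.1 C.2]
    apply Nat.card_congr
    refine
      { toFun := fun y => ⟨y.1.1, y.1.2, congrArg Subtype.val y.2⟩
        invFun := fun y => ⟨⟨y.1, y.2.1⟩, Subtype.ext y.2.2⟩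
        left_inv := fun y => rfl
        right_inv := fun y => rfl }
  rw [← hΩ, hsum, Finset.sum_congr rfl (fun C _ => hfib C), Finset.sum_const, Finset.card_univ,
    smul_eq_mul, Nat.card_eq_fintype_card]

end

section
open scoped commutatorElement
variable {G : Type*} [Group G] [Finite G]

/-- Burnside: if `N_G(⟨x⟩) = ⟨x⟩` there is a normal complement `K`. -/
theorem exists_normal_complement {p : ℕ} [hp : Fact p.Prime] {x : G} (hx : orderOf x = p)
    (hC : Subgroup.centralizer ({x} : Set G) = Subgroup.zpowers x)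
    (hN : Subgroup.normalizer ((Subgroup.zpowers x : Subgroup G) : Set G) ≤ Subgroup.zpowers x) :
    ∃ K : Subgroup G, K.Normal ∧ K ⊓ Subgroup.zpowers x = ⊥ ∧ K.index = p ∧ commutator G ≤ K := by
  obtain ⟨P, hP⟩ := exists_sylow_eq_zpowers hx hC
  have hPc : Subgroup.normalizer ((P : Subgroup G) : Set G) ≤ Subgroup.centralizer ((P : Subgroup G) : Set G) := by
    rw [hP]
    intro n hn
    have hn' := hN hn
    rw [Subgroup.mem_centralizer_iff]
    intro h hh
    obtain ⟨i, rfl⟩ := Subgroup.mem_zpowers_iff.mp hn'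
    obtain ⟨j, rfl⟩ := Subgroup.mem_zpowers_iff.mp hh
    exact (((Commute.refl x).zpow_left j).zpow_right i).eq
  have hcomp := MonoidHom.ker_transferSylow_isComplement' P hPc
  refine ⟨(MonoidHom.transferSylow P hPc).ker, inferInstance, ?_, ?_, ?_⟩
  · rw [← hP]; exact hcomp.disjoint.eq_bot
  · have := hcomp.symm.index_eq_card
    rw [this, hP, Nat.card_zpowers, hx]
  · rw [commutator_def, Subgroup.commutator_le]
    intro a _ b _
    rw [MonoidHom.mem_ker, map_commutatorElement, commutatorElement_eq_one_iff_commute]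
    have key : ∀ u v : (P : Subgroup G), Commute u v := by
      intro u v
      have hu : (u : G) ∈ Subgroup.zpowers x := hP ▸ u.2
      have hv : (v : G) ∈ Subgroup.zpowers x := hP ▸ v.2
      obtain ⟨i, hi⟩ := Subgroup.mem_zpowers_iff.mp hu
      obtain ⟨j, hj⟩ := Subgroup.mem_zpowers_iff.mp hv
      apply Subtype.ext
      show (u : G) * (v : G) = (v : G) * (u : G)
      rw [← hi, ← hj]
      exact (((Commute.refl x).zpow_left i).zpow_right j).eq
    exact key _ _

theorem index_commutator_of_normalizer_le {p : ℕ} [hp : Fact p.Prime] {x : G} (hx : orderOf x = p)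
    (hC : Subgroup.centralizer ({x} : Set G) = Subgroup.zpowers x)
    (hN : Subgroup.normalizer ((Subgroup.zpowers x : Subgroup G) : Set G) ≤ Subgroup.zpowers x) :
    (commutator G).index = p := by
  obtain ⟨K, hKn, hKx, hKi, hKc⟩ := exists_normal_complement hx hC hN
  have hle : K ≤ commutator G := by
    intro k hk
    obtain ⟨s, _, hs'⟩ := exists_comm_eq hC K hKx hk
    rw [hs', commutator_def]
    have : s * x * s⁻¹ * x⁻¹ = ⁅s, x⁆ := by rw [commutatorElement_def]
    rw [this]
    exact Subgroup.commutator_mem_commutator (Subgroup.mem_top s) (Subgroup.mem_top x)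
  rw [← hKi, le_antisymm hKc hle]

theorem zpowers_le_commutator {p : ℕ} [hp : Fact p.Prime] {x : G} (hx : orderOf x = p)
    (hC : Subgroup.centralizer ({x} : Set G) = Subgroup.zpowers x)
    (hN : ¬ Subgroup.normalizer ((Subgroup.zpowers x : Subgroup G) : Set G) ≤ Subgroup.zpowers x) :
    Subgroup.zpowers x ≤ commutator G := by
  obtain ⟨n, hn, hnx⟩ := SetLike.not_le_iff_exists.mp hN
  have h1 : n * x * n⁻¹ ∈ Subgroup.zpowers x :=
    (Subgroup.mem_normalizer_iff.mp hn x).mp (Subgroup.mem_zpowers x)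
  have h2 : n * x * n⁻¹ * x⁻¹ ∈ Subgroup.zpowers x :=
    Subgroup.mul_mem _ h1 (Subgroup.inv_mem _ (Subgroup.mem_zpowers x))
  have h3 : n * x * n⁻¹ * x⁻¹ ≠ 1 := by
    intro h
    apply hnx
    apply mem_zpowers_of_comm hC
    have : n * x * n⁻¹ * x⁻¹ * (x * n) = 1 * (x * n) := by rw [h]
    simpa [mul_assoc] using this
  have h4 : n * x * n⁻¹ * x⁻¹ ∈ commutator G := by
    rw [commutator_def]
    have : n * x * n⁻¹ * x⁻¹ = ⁅n, x⁆ := by rw [commutatorElement_def]
    rw [this]
    exact Subgroup.commutator_mem_commutator (Subgroup.mem_top n) (Subgroup.mem_top x)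
  rw [← zpowers_eq_of_mem_of_ne_one hp.out hx h2 h3]
  exact Subgroup.zpowers_le_of_mem h4

theorem index_commutator_dvd {p : ℕ} [hp : Fact p.Prime] {x : G} (hx : orderOf x = p)
    (hC : Subgroup.centralizer ({x} : Set G) = Subgroup.zpowers x)
    (hN : ¬ Subgroup.normalizer ((Subgroup.zpowers x : Subgroup G) : Set G) ≤ Subgroup.zpowers x) :
    (commutator G).index ∣
      (Subgroup.zpowers x).relIndex (Subgroup.normalizer ((Subgroup.zpowers x : Subgroup G) : Set G)) := by
  have hle := zpowers_le_commutator hx hC hN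
  have htop := normalizer_sup_eq_top hx hC (commutator G) hle
  have h1 := Subgroup.relIndex_sup_right
    (Subgroup.normalizer ((Subgroup.zpowers x : Subgroup G) : Set G)) (commutator G)
  rw [htop, Subgroup.relIndex_top_right] at h1
  rw [h1]
  exact Subgroup.relIndex_dvd_of_le_left _ hle

end

end Cfsg.Agent.Lib.Helper74
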