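import Cfsg.Agent.Lib.Helper81.LocalRing
import Cfsg.Agent.Lib.Helper3.Degree

set_option autoImplicit false

namespace Cfsg.Agent.Lib.Helper74

open Cfsg Cfsg.Agent.Lib.Helper81

universe u

/-- A member of the principal block takes the value `ψ 1` modulo the local ideal at every
element whose class size is prime to `p`. -/
theorem ad_fact1 {H : Type u} [Group H] [Finite H] {p : ℕ} {M : Ideal AlgInt}
    (hM : IsPModular p M) (ψ : IrrCharacter H) (hψ : ψ ∈ principalBlock M H) (x : H)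
    (hx : ¬ p ∣ (Subgroup.centralizer ({x} : Set H)).index) :
    MemLocalIdeal M ((ψ : H → ℂ) x / (ψ : H → ℂ) 1 - 1) := by
  have hMp : M.IsPrime := isPrime_of_isPModular hM
  have h1 := (mem_principalBlock_iff (M := M) ψ).mp hψ x
  unfold centralChar at h1
  set m := (Subgroup.centralizer ({x} : Set H)).index with hm
  have hm0 : (m : ℂ) ≠ 0 := by
    intro h0
    have : m = 0 := by exact_mod_cast h0
    exact hx (this ▸ dvd_zero p)
  have h2 : MemLocalIdeal M ((m : ℂ)⁻¹ * ((m : ℂ) - (m : ℂ) * (ψ : H → ℂ) x / (ψ : H → ℂ) 1)) :=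
    memLocalIdeal_mul_left hMp (memLocalRing_inv_natCast hM hx) h1
  have h3 : (m : ℂ)⁻¹ * ((m : ℂ) - (m : ℂ) * (ψ : H → ℂ) x / (ψ : H → ℂ) 1)
      = -((ψ : H → ℂ) x / (ψ : H → ℂ) 1 - 1) := by
    field_simp
    ring
  rw [h3] at h2
  have := memLocalIdeal_neg h2
  rwa [neg_neg] at this

theorem ad_fact1_ne_zero {H : Type u} [Group H] [Finite H] {p : ℕ} {M : Ideal AlgInt}
    (hM : IsPModular p M) (ψ : IrrCharacter H) (hψ : ψ ∈ principalBlock M H) (x : H)
    (hx : ¬ p ∣ (Subgroup.centralizer ({x} : Set H)).index) :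
    (ψ : H → ℂ) x ≠ 0 := by
  have hMp : M.IsPrime := isPrime_of_isPModular hM
  intro h0
  have h := ad_fact1 hM ψ hψ x hx
  rw [h0, zero_div, zero_sub] at h
  have := memLocalIdeal_neg h
  rw [neg_neg] at this
  exact not_memLocalIdeal_one hMp this

/-- A root of unity of order prime to `p` that is congruent to `1` is `1`. -/
theorem ad_root_eq_one {p : ℕ} {M : Ideal AlgInt} (hM : IsPModular p M) {ζ : ℂ} {m : ℕ}
    (hm : ¬ p ∣ m) (hζ : ζ ^ m = 1) (h : MemLocalIdeal M (ζ - 1)) : ζ = 1 := by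
  have hMp : M.IsPrime := isPrime_of_isPModular hM
  by_contra hne
  have hm0 : 0 < m := by
    rcases Nat.eq_zero_or_pos m with h0 | h0
    · exact absurd (h0 ▸ dvd_zero p) hm
    · exact h0
  have hint : IsIntegral ℤ ζ := by
    apply IsIntegral.of_pow hm0
    rw [hζ]
    exact isIntegral_one
  have hloc : MemLocalRing M ζ := memLocalRing_algInt hMp ⟨ζ, hint⟩
  have hgeom : (ζ - 1) * ∑ i ∈ Finset.range m, ζ ^ i = 0 := by
    rw [mul_geom_sum, hζ, sub_self]
  have hsum : ∑ i ∈ Finset.range m, ζ ^ i = 0 := by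
    rcases mul_eq_zero.mp hgeom with h0 | h0
    · exact absurd (sub_eq_zero.mp h0) hne
    · exact h0
  have hpow : ∀ i : ℕ, MemLocalIdeal M (ζ ^ i - 1) := by
    intro i
    induction i with
    | zero => simpa using memLocalIdeal_zero hMp
    | succ i ih =>
      have h1 : ζ ^ (i + 1) - 1 = ζ * (ζ ^ i - 1) + (ζ - 1) := by ring
      rw [h1]
      exact memLocalIdeal_add hMp (memLocalIdeal_mul_left hMp hloc ih) h
  have h2 : MemLocalIdeal M (∑ i ∈ Finset.range m, (ζ ^ i - 1)) :=
    memLocalIdeal_sum hMp _ _ (fun i _ => hpow i)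
  rw [Finset.sum_sub_distrib, hsum, Finset.sum_const, Finset.card_range, zero_sub,
    nsmul_eq_mul, mul_one] at h2
  have h3 := memLocalIdeal_neg h2
  rw [neg_neg] at h3
  exact hm ((memLocalIdeal_natCast_iff hM m).mp h3)

/-- Character values are local integers. -/
theorem ad_memLocalRing_char {H : Type u} [Group H] [Finite H] {M : Ideal AlgInt}
    (hMp : M.IsPrime) {χ : H → ℂ} (hχ : IsCharacter H χ) (g : H) : MemLocalRing M (χ g) :=
  memLocalRing_algInt hMp ⟨χ g, Cfsg.Agent.Lib.Helper3.IsCharacter.isIntegral hχ g⟩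

end Cfsg.Agent.Lib.Helper74
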