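import Mathlib
import Cfsg.Prelude.Def_Characters

set_option autoImplicit false

namespace Cfsg.Agent.Lib.Helper74

open Cfsg

universe u

section

variable {G : Type u} [Group G]

theorem ad_exists_mul {N C : Subgroup G} [N.Normal] (hsup : N ⊔ C = ⊤) (g : G) :
    ∃ n ∈ N, ∃ c ∈ C, g = n * c := by
  have hg : g ∈ ((N ⊔ C : Subgroup G) : Set G) := by
    rw [hsup]; exact Set.mem_univ _
  rw [Subgroup.normal_mul, Set.mem_mul] at hg
  obtain ⟨n, hn, c, hc, h⟩ := hg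
  exact ⟨n, hn, c, hc, h.symm⟩

theorem ad_dedekind {N C J : Subgroup G} [N.Normal] (hsup : N ⊔ C = ⊤) (hNJ : N ≤ J) {g : G}
    (hg : g ∈ J) : ∃ n ∈ N, ∃ c ∈ C, c ∈ J ∧ g = n * c := by
  obtain ⟨n, hn, c, hc, h⟩ := ad_exists_mul hsup g
  refine ⟨n, hn, c, hc, ?_, h⟩
  have : c = n⁻¹ * g := by rw [h]; group
  rw [this]
  exact J.mul_mem (J.inv_mem (hNJ hn)) hg

theorem ad_gen_of_mk_mem [Finite G] {N : Subgroup G} [N.Normal] {y c : G}
    (h : (y : G ⧸ N) ∈ Subgroup.zpowers (c : G ⧸ N)) : ∃ k : ℕ, y * c ^ k ∈ N := by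
  have h1 : ((y : G ⧸ N))⁻¹ ∈ Subgroup.zpowers (c : G ⧸ N) := Subgroup.inv_mem _ h
  rw [← mem_powers_iff_mem_zpowers] at h1
  obtain ⟨k, hk⟩ := h1
  refine ⟨k, ?_⟩
  rw [← QuotientGroup.eq_one_iff, QuotientGroup.mk_mul, QuotientGroup.mk_pow]
  have hk' : (c : G ⧸ N) ^ k = ((y : G ⧸ N))⁻¹ := hk
  rw [hk', mul_inv_cancel]

/-- The one-step extension property of a predicate on subgroups. -/
def ADStep (N C : Subgroup G) (Good : Subgroup G → Prop) : Prop :=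
  ∀ (J₁ J : Subgroup G) (x : G), N ≤ J₁ → J₁ ≤ J → (∀ g ∈ J, ∀ y ∈ J₁, g * y * g⁻¹ ∈ J₁) →
    x ∈ C → x ∈ J → (∀ y ∈ J, ∃ k : ℕ, y * x ^ k ∈ J₁) → Good J₁ → Good J

theorem ad_chain [Finite G] {N C : Subgroup G} [N.Normal] (hsup : N ⊔ C = ⊤)
    {Good : Subgroup G → Prop} (hstep : ADStep N C Good) {q : ℕ} (hq : q.Prime) :
    ∀ (n : ℕ) (J₁ J₂ : Subgroup G), N ≤ J₁ → J₁ ≤ J₂ →
      (∀ g ∈ J₂, ∀ y ∈ J₁, g * y * g⁻¹ ∈ J₁) → J₁.relIndex J₂ = n → (∃ k, n = q ^ k) →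
      Good J₁ → Good J₂ := by
  intro n
  induction n using Nat.strong_induction_on with
  | _ n ih =>
    intro J₁ J₂ hN1 h12 hnorm hrel hpow hG1
    by_cases heq : J₂ ≤ J₁
    · have : J₁ = J₂ := le_antisymm h12 heq
      subst this
      exact hG1
    · haveI : Fact q.Prime := ⟨hq⟩
      have hK : (J₁.subgroupOf J₂).Normal := ⟨fun y hy g => by
        rw [Subgroup.mem_subgroupOf] at hy ⊢
        exact hnorm g g.2 y hy⟩
      obtain ⟨k, hk⟩ := hpow
      have hcard : Nat.card (↥J₂ ⧸ J₁.subgroupOf J₂) = q ^ k := by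
        rw [← Subgroup.index_eq_card]
        exact hrel.trans hk
      have hQp : IsPGroup q (↥J₂ ⧸ J₁.subgroupOf J₂) := IsPGroup.of_card hcard
      have hne1 : J₁.relIndex J₂ ≠ 1 := fun h => heq (Subgroup.relIndex_eq_one.mp h)
      have hnt : Nontrivial (↥J₂ ⧸ J₁.subgroupOf J₂) := by
        rw [← Finite.one_lt_card_iff_nontrivial, ← Subgroup.index_eq_card]
        have h0 : J₁.relIndex J₂ ≠ 0 := by
          rw [hrel, hk]
          exact (pow_pos hq.pos k).ne'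
        have : (J₁.subgroupOf J₂).index = J₁.relIndex J₂ := rfl
        omega
      have := hQp.center_nontrivial
      obtain ⟨⟨z, hz⟩, hz1'⟩ := exists_ne (1 : Subgroup.center (↥J₂ ⧸ J₁.subgroupOf J₂))
      have hz1 : z ≠ 1 := fun h => hz1' (Subtype.ext h)
      clear hz1'
      obtain ⟨⟨z0, hz0J⟩, rfl⟩ := QuotientGroup.mk_surjective z
      obtain ⟨n0, hn0, c, hc, hcJ, hz0⟩ := ad_dedekind hsup (hN1.trans h12) hz0J
      have hmk : ((⟨c, hcJ⟩ : ↥J₂) : ↥J₂ ⧸ J₁.subgroupOf J₂) = ((⟨z0, hz0J⟩ : ↥J₂) : ↥J₂ ⧸ J₁.subgroupOf J₂) := by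
        rw [QuotientGroup.eq, Subgroup.mem_subgroupOf]
        show c⁻¹ * z0 ∈ J₁
        rw [hz0]
        have : c⁻¹ * (n0 * c) = c⁻¹ * n0 * c⁻¹⁻¹ := by group
        rw [this]
        exact hN1 (Subgroup.Normal.conj_mem inferInstance n0 hn0 c⁻¹)
      rw [← hmk] at hz hz1
      set xq : ↥J₂ ⧸ J₁.subgroupOf J₂ := ((⟨c, hcJ⟩ : ↥J₂) : ↥J₂ ⧸ J₁.subgroupOf J₂) with hxq
      have hxq1 : xq ≠ 1 := hz1
      -- the intermediate subgroup
      set J'₀ : Subgroup ↥J₂ := (Subgroup.zpowers xq).comap (QuotientGroup.mk' (J₁.subgroupOf J₂)) with hJ'₀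
      set J' : Subgroup G := J'₀.map J₂.subtype with hJ'
      have hmemJ' : ∀ y : G, y ∈ J' ↔ ∃ hy : y ∈ J₂, ((⟨y, hy⟩ : ↥J₂) : ↥J₂ ⧸ J₁.subgroupOf J₂) ∈ Subgroup.zpowers xq := by
        intro y
        rw [hJ', Subgroup.mem_map]
        constructor
        · rintro ⟨⟨y', hy'⟩, hmem, rfl⟩
          exact ⟨hy', hmem⟩
        · rintro ⟨hy, hmem⟩
          exact ⟨⟨y, hy⟩, hmem, rfl⟩
      have h1' : J₁ ≤ J' := by
        intro y hy
        rw [hmemJ']
        refine ⟨h12 hy, ?_⟩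
        have : ((⟨y, h12 hy⟩ : ↥J₂) : ↥J₂ ⧸ J₁.subgroupOf J₂) = 1 := by
          rw [QuotientGroup.eq_one_iff, Subgroup.mem_subgroupOf]
          exact hy
        rw [this]
        exact Subgroup.one_mem _
      have h'2 : J' ≤ J₂ := by
        intro y hy
        rw [hmemJ'] at hy
        exact hy.1
      have hcJ' : c ∈ J' := by
        rw [hmemJ']
        exact ⟨hcJ, Subgroup.mem_zpowers _⟩
      have hgen : ∀ y ∈ J', ∃ k : ℕ, y * c ^ k ∈ J₁ := by
        intro y hy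
        rw [hmemJ'] at hy
        obtain ⟨hyJ, hmem⟩ := hy
        obtain ⟨k, hk⟩ := ad_gen_of_mk_mem (N := J₁.subgroupOf J₂) (y := ⟨y, hyJ⟩) (c := ⟨c, hcJ⟩) hmem
        exact ⟨k, by
          rw [Subgroup.mem_subgroupOf] at hk
          simpa using hk⟩
      have hnorm1 : ∀ g ∈ J', ∀ y ∈ J₁, g * y * g⁻¹ ∈ J₁ := fun g hg y hy => hnorm g (h'2 hg) y hy
      have hG' : Good J' := hstep J₁ J' c hN1 h1' hnorm1 hc hcJ' hgen hG1
      have hnorm2 : ∀ g ∈ J₂, ∀ y ∈ J', g * y * g⁻¹ ∈ J' := by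
        intro g hg y hy
        rw [hmemJ'] at hy ⊢
        obtain ⟨hyJ, hmem⟩ := hy
        refine ⟨J₂.mul_mem (J₂.mul_mem hg hyJ) (J₂.inv_mem hg), ?_⟩
        have hcen : ((⟨y, hyJ⟩ : ↥J₂) : ↥J₂ ⧸ J₁.subgroupOf J₂) ∈ Subgroup.center (↥J₂ ⧸ J₁.subgroupOf J₂) :=
          (Subgroup.zpowers_le.mpr hz) hmem
        have : ((⟨g * y * g⁻¹, J₂.mul_mem (J₂.mul_mem hg hyJ) (J₂.inv_mem hg)⟩ : ↥J₂) : ↥J₂ ⧸ J₁.subgroupOf J₂)
            = ((⟨y, hyJ⟩ : ↥J₂) : ↥J₂ ⧸ J₁.subgroupOf J₂) := by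
          have h1 : (⟨g * y * g⁻¹, J₂.mul_mem (J₂.mul_mem hg hyJ) (J₂.inv_mem hg)⟩ : ↥J₂)
              = ⟨g, hg⟩ * ⟨y, hyJ⟩ * (⟨g, hg⟩ : ↥J₂)⁻¹ := rfl
          rw [h1, QuotientGroup.mk_mul, QuotientGroup.mk_mul, QuotientGroup.mk_inv]
          rw [Subgroup.mem_center_iff] at hcen
          rw [hcen, mul_inv_cancel_right]
        rw [this]
        exact hmem
      have hmul := Subgroup.relIndex_mul_relIndex J₁ J' J₂ h1' h'2
      have hne1' : J₁.relIndex J' ≠ 1 := by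
        intro h
        have hle := Subgroup.relIndex_eq_one.mp h
        apply hxq1
        rw [hxq, QuotientGroup.eq_one_iff, Subgroup.mem_subgroupOf]
        exact hle hcJ'
      have hpos : 0 < J₁.relIndex J₂ := by
        rw [hrel, hk]; exact pow_pos hq.pos k
      have hlt : J'.relIndex J₂ < n := by
        rw [← hrel, ← hmul]
        have h0 : J₁.relIndex J' ≠ 0 := by
          intro h
          rw [← hmul, h, zero_mul] at hpos
          exact lt_irrefl _ hpos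
        have h0' : 0 < J'.relIndex J₂ := by
          rcases Nat.eq_zero_or_pos (J'.relIndex J₂) with h | h
          · rw [← hmul, h, mul_zero] at hpos
            exact absurd hpos (lt_irrefl _)
          · exact h
        have h2 : 2 ≤ J₁.relIndex J' := by omega
        nlinarith
      have hdvd : J'.relIndex J₂ ∣ q ^ k := by
        rw [← hk, ← hrel, ← hmul]
        exact dvd_mul_left _ _
      obtain ⟨j, -, hj⟩ := (Nat.dvd_prime_pow hq).mp hdvd
      exact ih _ hlt J' J₂ (hN1.trans h1') h'2 hnorm2 rfl ⟨j, hj⟩ hG'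

theorem ad_mem_sup_iff {N : Subgroup G} [N.Normal] (H : Subgroup G) (y : G) :
    y ∈ N ⊔ H ↔ (y : G ⧸ N) ∈ H.map (QuotientGroup.mk' N) := by
  rw [← QuotientGroup.comap_map_mk', Subgroup.mem_comap]
  rfl

theorem ad_cyc [Finite G] {N C : Subgroup G} [N.Normal] (hsup : N ⊔ C = ⊤)
    {Good : Subgroup G → Prop} (hstep : ADStep N C Good) (hN : Good N) (g : G) :
    Good (N ⊔ Subgroup.zpowers g) := by
  obtain ⟨n, hn, c, hc, hg⟩ := ad_exists_mul hsup g
  have hmk : (g : G ⧸ N) = (c : G ⧸ N) := by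
    rw [hg, QuotientGroup.mk_mul, (QuotientGroup.eq_one_iff n).mpr hn, one_mul]
  refine hstep N (N ⊔ Subgroup.zpowers g) c le_rfl le_sup_left
    (fun g _ y hy => Subgroup.Normal.conj_mem inferInstance y hy g) hc ?_ ?_ hN
  · have : c = n⁻¹ * g := by rw [hg]; group
    rw [this]
    exact Subgroup.mul_mem _ (Subgroup.inv_mem _ (Subgroup.mem_sup_left hn))
      (Subgroup.mem_sup_right (Subgroup.mem_zpowers g))
  · intro y hy
    apply ad_gen_of_mk_mem
    rw [ad_mem_sup_iff, MonoidHom.map_zpowers] at hy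
    rw [← hmk]
    exact hy

theorem ad_elementary [Finite G] {N C : Subgroup G} [N.Normal] (hsup : N ⊔ C = ⊤)
    {Good : Subgroup G → Prop} (hstep : ADStep N C Good) (hN : Good N)
    (E : Subgroup G) (q : ℕ) (hq : q.Prime) (hE : IsElementary q E) : Good (N ⊔ E) := by
  obtain ⟨x, hxc, -, k, hk⟩ := hE
  have h1 : Good (N ⊔ Subgroup.zpowers (x : G)) := ad_cyc hsup hstep hN (x : G)
  have hzE : Subgroup.zpowers (x : G) ≤ E := Subgroup.zpowers_le.mpr x.2
  -- normalization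
  have hnorm : ∀ g ∈ N ⊔ E, ∀ y ∈ N ⊔ Subgroup.zpowers (x : G),
      g * y * g⁻¹ ∈ N ⊔ Subgroup.zpowers (x : G) := by
    intro g hg y hy
    rw [ad_mem_sup_iff] at hg hy ⊢
    obtain ⟨e, he, hge⟩ := hg
    rw [MonoidHom.map_zpowers] at hy ⊢
    obtain ⟨i, hi⟩ := hy
    have hcomm : e * (x : G) ^ i * e⁻¹ = (x : G) ^ i := by
      have h2 : (⟨e, he⟩ : ↥E) * x ^ i = x ^ i * ⟨e, he⟩ :=
        ((Subgroup.mem_center_iff.mp (Subgroup.zpow_mem _ hxc i)) ⟨e, he⟩)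
      have h3 : e * (x : G) ^ i = (x : G) ^ i * e := by
        have := congrArg (Subtype.val) h2
        simpa using this
      rw [h3, mul_inv_cancel_right]
    refine ⟨i, ?_⟩
    have hgq : ((g * y * g⁻¹ : G) : G ⧸ N) = (QuotientGroup.mk' N) e * (QuotientGroup.mk' N) y * ((QuotientGroup.mk' N) e)⁻¹ := by
      rw [hge]; rfl
    rw [hgq]
    have hi' : (QuotientGroup.mk' N) y = (QuotientGroup.mk' N) ((x : G) ^ i) := by
      rw [map_zpow]; exact hi.symm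
    rw [hi', ← map_inv, ← map_mul, ← map_mul, hcomm, map_zpow]
  -- the relative index
  have hrel : ∃ j, (N ⊔ Subgroup.zpowers (x : G)).relIndex (N ⊔ E) = q ^ j := by
    have hdvd : (N ⊔ Subgroup.zpowers (x : G)).relIndex (N ⊔ E) ∣ q ^ k := by
      set h : ↥E →* G ⧸ N := (QuotientGroup.mk' N).comp E.subtype with hh
      have hA : (Subgroup.zpowers x).map h = (Subgroup.zpowers (x : G)).map (QuotientGroup.mk' N) := by
        rw [hh, ← Subgroup.map_map, MonoidHom.map_zpowers]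
        rfl
      have hB : (⊤ : Subgroup ↥E).map h = E.map (QuotientGroup.mk' N) := by
        rw [hh, ← Subgroup.map_map, ← MonoidHom.range_eq_map, Subgroup.range_subtype]
      have e1 : (N ⊔ Subgroup.zpowers (x : G)).relIndex (N ⊔ E)
          = ((Subgroup.zpowers (x : G)).map (QuotientGroup.mk' N)).relIndex (E.map (QuotientGroup.mk' N)) := by
        rw [← QuotientGroup.comap_map_mk' N (Subgroup.zpowers (x : G)), Subgroup.relIndex_comap,
          Subgroup.map_sup, QuotientGroup.map_mk'_self, bot_sup_eq]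
      rw [e1, ← hA, ← hB, Subgroup.relIndex_map_map, top_sup_eq, Subgroup.relIndex_top_right, ← hk]
      exact Subgroup.index_dvd_of_le le_sup_left
    obtain ⟨j, -, hj⟩ := (Nat.dvd_prime_pow hq).mp hdvd
    exact ⟨j, hj⟩
  obtain ⟨j, hj⟩ := hrel
  exact ad_chain hsup hstep hq _ (N ⊔ Subgroup.zpowers (x : G)) (N ⊔ E) le_sup_left
    (sup_le le_sup_left (hzE.trans le_sup_right)) hnorm rfl ⟨j, hj⟩ h1

end

end Cfsg.Agent.Lib.Helper74
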