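import Cfsg.Agent.Lib.Helper74.AD1
import Cfsg.Agent.Lib.Helper74.AD2
import Cfsg.Agent.Lib.Helper77.Transport
import Cfsg.Agent.S4708
import Cfsg.Agent.Lib.Helper15.GlaubCyc
import Cfsg.Agent.Lib.Helper15.Gallagher
import Cfsg.Agent.Lib.Helper15.LinearChar
import Cfsg.Agent.Lib.Helper79.TI1
import Cfsg.Agent.Lib.Helper79.Basic
import Cfsg.Agent.Lib.Helper3.OddOrder

set_option autoImplicit false

namespace Cfsg.Agent.Lib.Helper74

open Cfsg Cfsg.Agent.Lib.Helper81 Cfsg.Agent.Lib.Helper77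
open scoped ComplexConjugate

universe u

theorem ad_irrMap_mem_principal {H₁ H₂ : Type u} [Group H₁] [Group H₂] (M : Ideal AlgInt)
    (e : H₁ ≃* H₂) (ψ : IrrCharacter H₂) (h : ψ ∈ principalBlock M H₂) :
    irrMap e ψ ∈ principalBlock M H₁ :=
  (sameBlock_comp_mulEquiv_iff (M := M) e (fun _ => (1 : ℂ)) (ψ : H₂ → ℂ)).2 h

theorem ad_irr_one_ne_zero {H : Type u} [Group H] [Finite H] {χ : H → ℂ} (hχ : IsIrrCharacter H χ) :
    χ 1 ≠ 0 := by
  have : Fintype H := Fintype.ofFinite _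
  obtain ⟨n, hn, -, hn0⟩ := Cfsg.Agent.Lib.Helper3.IsIrrCharacter.apply_one_dvd_card hχ
  rw [hn]
  exact_mod_cast hn0

section

variable {G : Type u} [Group G] [Finite G] {p : ℕ} [Fact p.Prime]

omit [Finite G] in
theorem ad_sylow_le (N : Subgroup G) [N.Normal] (hidx : ¬ p ∣ N.index) (P : Sylow p G) :
    (P : Subgroup G) ≤ N := by
  have hp : p.Prime := Fact.out
  intro x hx
  obtain ⟨k, hk⟩ := (P.2 : IsPGroup p (P : Subgroup G)) ⟨x, hx⟩
  have hk' : x ^ p ^ k = 1 := by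
    have := congrArg Subtype.val hk
    simpa using this
  have h1 : orderOf (x : G ⧸ N) ∣ p ^ k := by
    apply orderOf_dvd_of_pow_eq_one
    rw [← QuotientGroup.mk_pow, hk']
    rfl
  have h2 : orderOf (x : G ⧸ N) ∣ N.index := by
    rw [Subgroup.index_eq_card]
    exact orderOf_dvd_natCard _
  have hcop : Nat.Coprime (p ^ k) N.index :=
    Nat.Coprime.pow_left k ((Nat.Prime.coprime_iff_not_dvd hp).mpr hidx)
  have h3 : orderOf (x : G ⧸ N) = 1 :=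
    Nat.Coprime.eq_one_of_dvd (Nat.Coprime.coprime_dvd_left h1 hcop) h2
  rw [orderOf_eq_one_iff] at h3
  exact (QuotientGroup.eq_one_iff x).mp h3

theorem ad_not_dvd_index_centralizer (N : Subgroup G) [N.Normal] (hidx : ¬ p ∣ N.index)
    (P : Sylow p G) {J : Subgroup G} (hNJ : N ≤ J) {x : G} (hxJ : x ∈ J)
    (hxC : x ∈ Subgroup.centralizer ((P : Subgroup G) : Set G)) :
    ¬ p ∣ (Subgroup.centralizer ({(⟨x, hxJ⟩ : ↥J)} : Set ↥J)).index := by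
  have hPJ : (P : Subgroup G) ≤ J := (ad_sylow_le N hidx P).trans hNJ
  have hle : (P : Subgroup G).subgroupOf J ≤ Subgroup.centralizer ({(⟨x, hxJ⟩ : ↥J)} : Set ↥J) := by
    intro y hy
    rw [Subgroup.mem_subgroupOf] at hy
    rw [Subgroup.mem_centralizer_singleton_iff]
    apply Subtype.ext
    have := hxC (y : G) hy
    simpa using this
  intro hdvd
  have h1 : (Subgroup.centralizer ({(⟨x, hxJ⟩ : ↥J)} : Set ↥J)).index ∣
      ((P : Subgroup G).subgroupOf J).index := Subgroup.index_dvd_of_le hle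
  have h2 : ((P : Subgroup G).subgroupOf J).index ∣ (P : Subgroup G).index :=
    Subgroup.relIndex_dvd_index_of_le hPJ
  exact P.not_dvd_index (hdvd.trans (h1.trans h2))

end

section

variable {G : Type u} [Group G]

/-- `ψ` is a member of the principal block of `J` extending `θ`. -/
def ADGoodExt (M : Ideal AlgInt) (N : Subgroup G) (θ : N → ℂ) (J : Subgroup G)
    (ψ : IrrCharacter ↥J) : Prop :=
  ψ ∈ principalBlock M ↥J ∧
    ∀ (n : G) (hn : n ∈ N) (hJ : n ∈ J), (ψ : ↥J → ℂ) ⟨n, hJ⟩ = θ ⟨n, hn⟩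

/-- `J` contains `N` and carries a member of its principal block extending `θ`. -/
def ADGood (M : Ideal AlgInt) (N : Subgroup G) (θ : N → ℂ) (J : Subgroup G) : Prop :=
  N ≤ J ∧ ∃ ψ : IrrCharacter ↥J, ADGoodExt M N θ J ψ

theorem ad_good_base (M : Ideal AlgInt) (N : Subgroup G) (θ : IrrCharacter N)
    (hθ : θ ∈ principalBlock M ↥N) : ADGood M N (θ : N → ℂ) N :=
  ⟨le_rfl, θ, hθ, fun _ _ _ => rfl⟩

variable [Finite G] {p : ℕ} [Fact p.Prime] {M : Ideal AlgInt}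

theorem ad_step (hM : IsPModular p M) (N : Subgroup G) [N.Normal] (hidx : ¬ p ∣ N.index)
    (P : Sylow p G) (θ : N → ℂ) :
    ADStep N (Subgroup.centralizer ((P : Subgroup G) : Set G)) (ADGood M N θ) := by
  classical
  intro J₁ J x hN1 h1J hnorm hxC hxJ hgen hgood
  obtain ⟨-, ψ₁, hψ₁B, hψ₁θ⟩ := hgood
  refine ⟨hN1.trans h1J, ?_⟩
  have hK : (J₁.subgroupOf J).Normal := ⟨fun y hy g => by
    rw [Subgroup.mem_subgroupOf] at hy ⊢
    exact hnorm g g.2 y hy⟩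
  have : Fintype ↥J := Fintype.ofFinite _
  have : Fintype ↥(J₁.subgroupOf J) := Fintype.ofFinite _
  set e : ↥(J₁.subgroupOf J) ≃* ↥J₁ := Subgroup.subgroupOfEquivOfLe h1J with he
  have hψ₁' : irrMap e ψ₁ ∈ principalBlock M ↥(J₁.subgroupOf J) :=
    ad_irrMap_mem_principal M e ψ₁ hψ₁B
  obtain ⟨χ, hχB, hχne⟩ := Cfsg.Agent.S4708.exists_over_principal (J₁.subgroupOf J) p M hM
    (irrMap e ψ₁) hψ₁'
  have hχx : (χ : ↥J → ℂ) ⟨x, hxJ⟩ ≠ 0 :=
    ad_fact1_ne_zero hM χ hχB ⟨x, hxJ⟩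
      (ad_not_dvd_index_centralizer N hidx P (hN1.trans h1J) hxJ hxC)
  have hgen' : ∀ y : ↥J, ∃ k : ℕ, y * (⟨x, hxJ⟩ : ↥J) ^ k ∈ J₁.subgroupOf J := by
    intro y
    obtain ⟨k, hk⟩ := hgen y.1 y.2
    refine ⟨k, ?_⟩
    rw [Subgroup.mem_subgroupOf]
    simpa using hk
  have hirr : IsIrrCharacter ↥(J₁.subgroupOf J) (fun n : ↥(J₁.subgroupOf J) => (χ : ↥J → ℂ) n) :=
    Cfsg.Agent.Lib.Helper15.irr_restrict_of_ne_zero (N := J₁.subgroupOf J) (a := ⟨x, hxJ⟩) hgen' χ.2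
      (h := 1) (Subgroup.one_mem _) (by rwa [one_mul])
  have heq : (fun n : ↥(J₁.subgroupOf J) => (χ : ↥J → ℂ) n) = (irrMap e ψ₁ : ↥(J₁.subgroupOf J) → ℂ) := by
    by_contra hne
    apply hχne
    rw [Cfsg.Agent.Lib.Helper3.classInner_irr hirr (irrMap e ψ₁).2, if_neg hne]
  refine ⟨χ, hχB, ?_⟩
  intro n hn hJ
  have h1 := congrFun heq ⟨⟨n, hJ⟩, (Subgroup.mem_subgroupOf).mpr (hN1 hn)⟩
  rw [irrMap_apply] at h1
  have h2 : e ⟨⟨n, hJ⟩, (Subgroup.mem_subgroupOf).mpr (hN1 hn)⟩ = ⟨n, hN1 hn⟩ := rfl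
  rw [h2] at h1
  exact h1.trans (hψ₁θ n hn (hN1 hn))

theorem ad_unique (hM : IsPModular p M) (N : Subgroup G) [N.Normal] (hidx : ¬ p ∣ N.index)
    (P : Sylow p G)
    (hsup : N ⊔ Subgroup.centralizer ((P : Subgroup G) : Set G) = ⊤)
    (θ : N → ℂ) (hθ : IsIrrCharacter N θ)
    {J' J : Subgroup G} (hNJ' : N ≤ J') (hle : J' ≤ J)
    (ψ : IrrCharacter ↥J) (hψ : ADGoodExt M N θ J ψ)
    (ψ' : IrrCharacter ↥J') (hψ' : ADGoodExt M N θ J' ψ') (y : G) (hy : y ∈ J') :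
    (ψ : ↥J → ℂ) ⟨y, hle hy⟩ = (ψ' : ↥J' → ℂ) ⟨y, hy⟩ := by
  classical
  have hMp : M.IsPrime := isPrime_of_isPModular hM
  have hp : p.Prime := Fact.out
  have : Fintype ↥J' := Fintype.ofFinite _
  have : Fintype ↥(N.subgroupOf J') := Fintype.ofFinite _
  set e : ↥(N.subgroupOf J') ≃* ↥N := Subgroup.subgroupOfEquivOfLe hNJ' with he
  have hθ' : IsIrrCharacter ↥(N.subgroupOf J') (fun k => θ (e k)) :=
    Cfsg.Agent.Lib.Helper79.isIrrCharacter_comp_surjective hθ e.toMonoidHom e.surjective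
  set ψr : ↥J' → ℂ := fun z => (ψ : ↥J → ℂ) (Subgroup.inclusion hle z) with hψr
  have hψrc : IsCharacter ↥J' ψr :=
    Cfsg.Agent.Lib.Helper79.isCharacter_comp (Cfsg.Agent.Lib.Helper3.IsIrrCharacter.isCharacter ψ.2)
      (Subgroup.inclusion hle)
  have hres : (fun k : ↥(N.subgroupOf J') => ψr k) = fun k => θ (e k) := by
    funext k
    exact hψ.2 (k : ↥J') (Subgroup.mem_subgroupOf.mp k.2) (hle (k : ↥J').2)
  have hres' : (fun k : ↥(N.subgroupOf J') => (ψ' : ↥J' → ℂ) k) = fun k => θ (e k) := by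
    funext k
    exact hψ'.2 (k : ↥J') (Subgroup.mem_subgroupOf.mp k.2) (k : ↥J').2
  have hψrirr : IsIrrCharacter ↥J' ψr := by
    apply Cfsg.Agent.Lib.Helper79.isIrrCharacter_of_restrict_irr (N.subgroupOf J') hψrc
    rw [hres]
    exact hθ'
  have hne : classInner (fun n : ↥(N.subgroupOf J') => ψr n)
      (fun n : ↥(N.subgroupOf J') => (ψ' : ↥J' → ℂ) n) ≠ 0 := by
    rw [hres, hres', Cfsg.Agent.Lib.Helper3.classInner_irr hθ' hθ', if_pos rfl]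
    exact one_ne_zero
  obtain ⟨φ, hφirr, hφN, hmul, -⟩ := Cfsg.Agent.Lib.Helper15.exists_mul_ext (N.subgroupOf J')
    ψ'.2 (by rw [hres']; exact hθ') hψrirr hne
  -- degrees
  have hθ1 : θ 1 ≠ 0 := ad_irr_one_ne_zero hθ
  have hψ1 : (ψ : ↥J → ℂ) 1 = θ 1 := hψ.2 1 (Subgroup.one_mem _) (Subgroup.one_mem _)
  have hψ'1 : (ψ' : ↥J' → ℂ) 1 = θ 1 := hψ'.2 1 (Subgroup.one_mem _) (Subgroup.one_mem _)
  have hψr1 : ψr 1 = θ 1 := hψ1
  have hφ1 : φ 1 = 1 := by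
    have h1 := congrFun hmul 1
    rw [Pi.mul_apply, hψr1, hψ'1] at h1
    have h2 : (1 : ℂ) * θ 1 = φ 1 * θ 1 := by rw [one_mul]; exact h1
    exact (mul_right_cancel₀ hθ1 h2).symm
  have hφc : IsCharacter ↥J' φ := Cfsg.Agent.Lib.Helper3.IsIrrCharacter.isCharacter hφirr
  have hl : IsCharacter ↥J' φ ∧ φ 1 = 1 := ⟨hφc, hφ1⟩
  have hφK : ∀ k : ↥(N.subgroupOf J'), φ k = 1 := by
    intro k
    have := hφN k 1
    rw [mul_one] at this
    rw [this, hφ1]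
  have hidx' : ¬ p ∣ (N.subgroupOf J').index := fun h =>
    hidx (h.trans (Subgroup.relIndex_dvd_index_of_le hNJ'))
  -- the value of `φ` on centralizing elements
  have hφC : ∀ (c : G) (hcJ : c ∈ J'),
      c ∈ Subgroup.centralizer ((P : Subgroup G) : Set G) → φ ⟨c, hcJ⟩ = 1 := by
    intro c hcJ hcC
    have hpow : φ ⟨c, hcJ⟩ ^ (N.subgroupOf J').index = 1 := by
      rw [← Cfsg.Agent.Lib.Helper15.linCharHom_apply hl, ← map_pow,
        Cfsg.Agent.Lib.Helper15.linCharHom_apply hl]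
      exact hφK ⟨_, Subgroup.pow_index_mem (N.subgroupOf J') ⟨c, hcJ⟩⟩
    apply ad_root_eq_one hM hidx' hpow
    have hF := ad_fact1 hM ψ hψ.1 ⟨c, hle hcJ⟩
      (ad_not_dvd_index_centralizer N hidx P (hNJ'.trans hle) (hle hcJ) hcC)
    have hF' := ad_fact1 hM ψ' hψ'.1 ⟨c, hcJ⟩
      (ad_not_dvd_index_centralizer N hidx P hNJ' hcJ hcC)
    rw [hψ1] at hF
    rw [hψ'1] at hF'
    have hval : (ψ : ↥J → ℂ) ⟨c, hle hcJ⟩ = φ ⟨c, hcJ⟩ * (ψ' : ↥J' → ℂ) ⟨c, hcJ⟩ := by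
      have := congrFun hmul ⟨c, hcJ⟩
      rw [Pi.mul_apply] at this
      exact this
    have hφloc : MemLocalRing M (φ ⟨c, hcJ⟩) := ad_memLocalRing_char hMp hφc _
    have hdecomp : φ ⟨c, hcJ⟩ - 1 = φ ⟨c, hcJ⟩ * (-((ψ' : ↥J' → ℂ) ⟨c, hcJ⟩ / θ 1 - 1))
        + ((ψ : ↥J → ℂ) ⟨c, hle hcJ⟩ / θ 1 - 1) := by
      rw [hval]
      field_simp
      ring
    rw [hdecomp]
    exact memLocalIdeal_add hMp (memLocalIdeal_mul_left hMp hφloc (memLocalIdeal_neg hF')) hF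
  -- conclude
  obtain ⟨n, hn, c, hcC, hcJ, hyc⟩ := ad_dedekind hsup hNJ' hy
  have hφy : φ ⟨y, hy⟩ = 1 := by
    have h1 : (⟨y, hy⟩ : ↥J') = ((⟨⟨n, hNJ' hn⟩, Subgroup.mem_subgroupOf.mpr hn⟩ : ↥(N.subgroupOf J')) : ↥J') * ⟨c, hcJ⟩ := by
      apply Subtype.ext
      exact hyc
    rw [h1, hφN, hφC c hcJ hcC]
  have := congrFun hmul ⟨y, hy⟩
  rw [Pi.mul_apply, hφy, one_mul] at this
  exact this

end

end Cfsg.Agent.Lib.Helper74
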