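import Cfsg.Agent.Lib.Helper74.AD3
import Cfsg.Agent.Lib.Helper3.Brauer
import Cfsg.Agent.Lib.Helper3.CharOps
import Cfsg.Agent.Lib.Helper81.HallCompl
import Cfsg.Agent.Lib.Helper81.Irr

set_option autoImplicit false
set_option linter.unusedSectionVars false

namespace Cfsg.Agent.Lib.Helper74

open Cfsg Cfsg.Agent.Lib.Helper81 Cfsg.Agent.Lib.Helper77
open scoped ComplexConjugate

universe u

/-- The data of the Alperin--Dade situation together with a member of the principal block of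
the normal subgroup. -/
structure ADData (G : Type u) [Group G] (p : ℕ) (M : Ideal AlgInt) where
  N : Subgroup G
  normal : N.Normal
  P : Sylow p G
  hM : IsPModular p M
  hidx : ¬ p ∣ N.index
  hsup : N ⊔ Subgroup.centralizer ((P : Subgroup G) : Set G) = ⊤
  θ : IrrCharacter N
  hθ : θ ∈ principalBlock M ↥N

section

variable {G : Type u} [Group G] {p : ℕ} {M : Ideal AlgInt}

instance ADData.instNormal (D : ADData G p M) : D.N.Normal := D.normal

variable [Finite G] [Fact p.Prime] (D : ADData G p M)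

theorem ADData.step : ADStep D.N (Subgroup.centralizer ((D.P : Subgroup G) : Set G))
    (ADGood M D.N (D.θ : D.N → ℂ)) :=
  ad_step D.hM D.N D.hidx D.P _

theorem ADData.good_base : ADGood M D.N (D.θ : D.N → ℂ) D.N := ad_good_base M D.N D.θ D.hθ

theorem ADData.good_cyc (g : G) : ADGood M D.N (D.θ : D.N → ℂ) (D.N ⊔ Subgroup.zpowers g) :=
  ad_cyc D.hsup D.step D.good_base g

/-- The chosen extension on `N ⊔ ⟨g⟩`. -/
noncomputable def ADData.psi (g : G) : IrrCharacter ↥(D.N ⊔ Subgroup.zpowers g) :=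
  Classical.choose (D.good_cyc g).2

theorem ADData.psi_spec (g : G) :
    ADGoodExt M D.N (D.θ : D.N → ℂ) (D.N ⊔ Subgroup.zpowers g) (D.psi g) :=
  Classical.choose_spec (D.good_cyc g).2

/-- The canonical extension of `θ` to `G`. -/
noncomputable def ADData.hat : G → ℂ := fun g =>
  (D.psi g : ↥(D.N ⊔ Subgroup.zpowers g) → ℂ)
    ⟨g, Subgroup.mem_sup_right (Subgroup.mem_zpowers g)⟩

theorem ADData.hat_eq {J : Subgroup G} (hNJ : D.N ≤ J) (ψ : IrrCharacter ↥J)
    (hψ : ADGoodExt M D.N (D.θ : D.N → ℂ) J ψ) (g : G) (hg : g ∈ J) :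
    (ψ : ↥J → ℂ) ⟨g, hg⟩ = D.hat g :=
  ad_unique D.hM D.N D.hidx D.P D.hsup (D.θ : D.N → ℂ) D.θ.2 (J' := D.N ⊔ Subgroup.zpowers g)
    le_sup_left (sup_le hNJ (Subgroup.zpowers_le.mpr hg)) ψ hψ (D.psi g) (D.psi_spec g) g _

theorem ADData.hat_restrict (n : G) (hn : n ∈ D.N) : D.hat n = (D.θ : D.N → ℂ) ⟨n, hn⟩ :=
  (D.hat_eq le_rfl D.θ ⟨D.hθ, fun _ _ _ => rfl⟩ n hn).symm

theorem ADData.hat_conj_of_mem {J : Subgroup G} (hNJ : D.N ≤ J) (ψ : IrrCharacter ↥J)
    (hψ : ADGoodExt M D.N (D.θ : D.N → ℂ) J ψ) (g h : G) (hg : g ∈ J) (hh : h ∈ J) :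
    D.hat (h * g * h⁻¹) = D.hat g := by
  rw [← D.hat_eq hNJ ψ hψ g hg,
    ← D.hat_eq hNJ ψ hψ (h * g * h⁻¹) (J.mul_mem (J.mul_mem hh hg) (J.inv_mem hh))]
  exact irr_conj_apply ψ ⟨g, hg⟩ ⟨h, hh⟩

theorem ADData.hat_conj_N (g n : G) (hn : n ∈ D.N) : D.hat (n * g * n⁻¹) = D.hat g :=
  D.hat_conj_of_mem le_sup_left (D.psi g) (D.psi_spec g) g n
    (Subgroup.mem_sup_right (Subgroup.mem_zpowers g)) (Subgroup.mem_sup_left hn)

theorem ADData.theta_conj_C (c : G) (n : G) (hn : n ∈ D.N) :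
    (D.θ : D.N → ℂ) ⟨c * n * c⁻¹, D.normal.conj_mem n hn c⟩ = (D.θ : D.N → ℂ) ⟨n, hn⟩ := by
  rw [← D.hat_restrict, ← D.hat_restrict]
  exact D.hat_conj_of_mem le_sup_left (D.psi c) (D.psi_spec c) n c
    (Subgroup.mem_sup_left hn) (Subgroup.mem_sup_right (Subgroup.mem_zpowers c))

theorem ADData.hat_conj_C (g c : G) :
    D.hat (c * g * c⁻¹) = D.hat g := by
  set J : Subgroup G := D.N ⊔ Subgroup.zpowers g with hJ
  have hgJ : g ∈ J := Subgroup.mem_sup_right (Subgroup.mem_zpowers g)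
  set J' : Subgroup G := J.map (MulAut.conj c).toMonoidHom with hJ'
  set e : ↥J ≃* ↥J' := (MulAut.conj c).subgroupMap J with he
  have hec : ∀ y : ↥J, ((e y : ↥J') : G) = c * (y : G) * c⁻¹ := fun y => rfl
  have hesymm : ∀ z : ↥J', ((e.symm z : ↥J) : G) = c⁻¹ * (z : G) * c := by
    intro z
    have h1 := hec (e.symm z)
    rw [e.apply_symm_apply] at h1
    rw [h1]
    group
  have hNJ' : D.N ≤ J' := by
    intro n hn
    rw [hJ', Subgroup.mem_map]
    refine ⟨c⁻¹ * n * c, Subgroup.mem_sup_left ?_, ?_⟩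
    · have := D.normal.conj_mem n hn c⁻¹
      rwa [inv_inv] at this
    · show c * (c⁻¹ * n * c) * c⁻¹ = n
      group
  have hgood : ADGoodExt M D.N (D.θ : D.N → ℂ) J' (irrMap e.symm (D.psi g)) := by
    refine ⟨ad_irrMap_mem_principal M e.symm (D.psi g) (D.psi_spec g).1, ?_⟩
    intro n hn hnJ'
    rw [irrMap_apply]
    have hmemN : c⁻¹ * n * c ∈ D.N := by
      have := D.normal.conj_mem n hn c⁻¹
      rwa [inv_inv] at this
    have h1 : e.symm ⟨n, hnJ'⟩ = ⟨c⁻¹ * n * c, Subgroup.mem_sup_left hmemN⟩ := by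
      apply Subtype.ext
      exact hesymm ⟨n, hnJ'⟩
    rw [h1, (D.psi_spec g).2 (c⁻¹ * n * c) hmemN]
    have h2 := D.theta_conj_C c⁻¹ n hn
    have h3 : (⟨c⁻¹ * n * c⁻¹⁻¹, D.normal.conj_mem n hn c⁻¹⟩ : ↥D.N) = ⟨c⁻¹ * n * c, hmemN⟩ := by
      apply Subtype.ext
      simp
    rw [h3] at h2
    exact h2
  have hmem : c * g * c⁻¹ ∈ J' := by
    rw [hJ', Subgroup.mem_map]
    exact ⟨g, hgJ, rfl⟩
  rw [← D.hat_eq hNJ' _ hgood (c * g * c⁻¹) hmem, irrMap_apply]
  have h1 : e.symm ⟨c * g * c⁻¹, hmem⟩ = ⟨g, hgJ⟩ := by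
    rw [MulEquiv.symm_apply_eq]
    apply Subtype.ext
    rfl
  rw [h1]
  rfl

theorem ADData.hat_class : IsClassFunction G D.hat := by
  intro g h
  exact D.hat_conj_C g h

theorem ADData.hat_elementary (E : Subgroup G) (q : ℕ) (hq : q.Prime) (hE : IsElementary q E) :
    IsGeneralizedCharacter E (fun e : E => D.hat e) := by
  obtain ⟨hNJ, ψ, hψ⟩ := ad_elementary D.hsup D.step D.good_base E q hq hE
  have hle : E ≤ D.N ⊔ E := le_sup_right
  have h1 : (fun e : E => D.hat e) = fun e : E => (ψ : ↥(D.N ⊔ E) → ℂ) (Subgroup.inclusion hle e) := by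
    funext e
    exact (D.hat_eq hNJ ψ hψ (e : G) (hle e.2)).symm
  rw [h1]
  have hc : IsCharacter E (fun e : E => (ψ : ↥(D.N ⊔ E) → ℂ) (Subgroup.inclusion hle e)) :=
    Cfsg.Agent.Lib.Helper79.isCharacter_comp
      (Cfsg.Agent.Lib.Helper3.IsIrrCharacter.isCharacter ψ.2) (Subgroup.inclusion hle)
  exact ⟨_, 0, hc, Cfsg.Agent.Lib.Helper3.IsCharacter.zero, by simp⟩

theorem ADData.hat_gen : IsGeneralizedCharacter G D.hat := by
  have : Fintype G := Fintype.ofFinite _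
  exact Cfsg.Agent.Lib.Helper3.isGeneralizedCharacter_of_forall_elementary D.hat_class
    (fun E q hq hE => D.hat_elementary E q hq hE)

theorem ADData.hat_coset_sum (g : G) [Fintype D.N] :
    ∑ n : D.N, D.hat ((n : G) * g) * conj (D.hat ((n : G) * g)) = (Nat.card D.N : ℂ) := by
  classical
  set J : Subgroup G := D.N ⊔ Subgroup.zpowers g with hJ
  have hgJ : g ∈ J := Subgroup.mem_sup_right (Subgroup.mem_zpowers g)
  have hNJ : D.N ≤ J := le_sup_left
  have : Fintype ↥J := Fintype.ofFinite _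
  have : Fintype ↥(D.N.subgroupOf J) := Fintype.ofFinite _
  set e : ↥(D.N.subgroupOf J) ≃* ↥D.N := Subgroup.subgroupOfEquivOfLe hNJ with he
  have hres : IsIrrCharacter ↥(D.N.subgroupOf J)
      (fun k : ↥(D.N.subgroupOf J) => (D.psi g : ↥J → ℂ) k) := by
    have h1 : (fun k : ↥(D.N.subgroupOf J) => (D.psi g : ↥J → ℂ) k)
        = fun k => (D.θ : D.N → ℂ) (e k) := by
      funext k
      exact (D.psi_spec g).2 (k : ↥J) (Subgroup.mem_subgroupOf.mp k.2) (k : ↥J).2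
    rw [h1]
    exact Cfsg.Agent.Lib.Helper79.isIrrCharacter_comp_surjective D.θ.2 e.toMonoidHom e.surjective
  have h2 := Cfsg.Agent.Lib.Helper15.coset_sum_norm (D.N.subgroupOf J) (D.psi g).2 hres ⟨g, hgJ⟩
  have h3 : Nat.card ↥(D.N.subgroupOf J) = Nat.card D.N := Nat.card_congr e.toEquiv
  rw [← h3, ← h2]
  symm
  apply Fintype.sum_equiv e.toEquiv
  intro k
  have hk : ((e k : D.N) : G) * g ∈ J := J.mul_mem (hNJ (e k).2) hgJ
  have h4 := D.hat_eq hNJ (D.psi g) (D.psi_spec g) (((e k : D.N) : G) * g) hk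
  show _ = D.hat (((e k : D.N) : G) * g) * conj (D.hat (((e k : D.N) : G) * g))
  rw [← h4]
  rfl

theorem ADData.hat_norm [Fintype G] : classInner D.hat D.hat = 1 := by
  classical
  have : Fintype D.N := Fintype.ofFinite _
  have h1 := Cfsg.Agent.Lib.Helper15.sum_coset_avg D.N (fun g => D.hat g * conj (D.hat g))
  simp only [D.hat_coset_sum] at h1
  rw [Finset.sum_const, Finset.card_univ, nsmul_eq_mul] at h1
  have hN0 : (Nat.card D.N : ℂ) ≠ 0 := Cfsg.Agent.Lib.Helper15.card_ne_zero_complex D.N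
  have h2 : (Fintype.card G : ℂ) = ∑ g : G, D.hat g * conj (D.hat g) := by
    have h3 : (Nat.card D.N : ℂ) * (Fintype.card G : ℂ)
        = (Nat.card D.N : ℂ) * ∑ g : G, D.hat g * conj (D.hat g) := by
      rw [← h1]; ring
    exact mul_left_cancel₀ hN0 h3
  unfold classInner
  rw [← h2, Nat.card_eq_fintype_card]
  have hG0 : (Fintype.card G : ℂ) ≠ 0 := by
    have : 0 < Fintype.card G := Fintype.card_pos
    exact_mod_cast this.ne'
  exact inv_mul_cancel₀ hG0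

theorem ADData.hat_irr : IsIrrCharacter G D.hat := by
  have : Fintype G := Fintype.ofFinite _
  apply isIrrCharacter_of_genChar_norm_one D.hat_gen D.hat_norm
  rw [D.hat_restrict 1 (Subgroup.one_mem _)]
  have : Fintype D.N := Fintype.ofFinite _
  obtain ⟨n, hn, -, hn0⟩ := Cfsg.Agent.Lib.Helper3.IsIrrCharacter.apply_one_dvd_card D.θ.2
  have h1 : (D.θ : D.N → ℂ) ⟨1, Subgroup.one_mem _⟩ = (n : ℂ) := hn
  rw [h1]
  simp only [Complex.natCast_re]
  exact_mod_cast Nat.pos_of_ne_zero hn0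

end

end Cfsg.Agent.Lib.Helper74
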