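import Cfsg.Agent.Lib.Helper74.AD4
import Cfsg.Agent.Lib.Helper16.OrbitBlock

set_option autoImplicit false
set_option linter.unusedSectionVars false

namespace Cfsg.Agent.Lib.Helper74

open Cfsg Cfsg.Agent.Lib.Helper81 Cfsg.Agent.Lib.Helper77
open scoped ComplexConjugate

universe u

section

variable {G : Type u} [Group G] {p : ℕ} {M : Ideal AlgInt}

variable [Finite G] [Fact p.Prime] (D : ADData G p M)

theorem ADData.hat_res : (fun n : D.N => D.hat n) = (D.θ : D.N → ℂ) := by
  funext n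
  exact D.hat_restrict (n : G) n.2

theorem ADData.not_dvd_index_centralizer (c : G)
    (hc : c ∈ Subgroup.centralizer ((D.P : Subgroup G) : Set G)) :
    ¬ p ∣ (Subgroup.centralizer ({c} : Set G)).index := by
  have hle : (D.P : Subgroup G) ≤ Subgroup.centralizer ({c} : Set G) := by
    intro y hy
    rw [Subgroup.mem_centralizer_singleton_iff]
    exact hc y hy
  intro hdvd
  exact D.P.not_dvd_index (hdvd.trans (Subgroup.index_dvd_of_le hle))

theorem ADData.hat_cong (c : G)
    (hc : c ∈ Subgroup.centralizer ((D.P : Subgroup G) : Set G)) :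
    MemLocalIdeal M (D.hat c / (D.θ : D.N → ℂ) 1 - 1) := by
  have hcJ : c ∈ D.N ⊔ Subgroup.zpowers c := Subgroup.mem_sup_right (Subgroup.mem_zpowers c)
  have hF := ad_fact1 D.hM (D.psi c) (D.psi_spec c).1 ⟨c, hcJ⟩
    (ad_not_dvd_index_centralizer D.N D.hidx D.P le_sup_left hcJ hc)
  have h1 : (D.psi c : ↥(D.N ⊔ Subgroup.zpowers c) → ℂ) 1 = (D.θ : D.N → ℂ) 1 :=
    (D.psi_spec c).2 1 (Subgroup.one_mem _) (Subgroup.one_mem _)
  rw [h1] at hF
  exact hF

theorem ADData.eq_hat [Fintype D.N] (χ : IrrCharacter G) (hχ : χ ∈ principalBlock M G)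
    (hne : classInner (fun n : D.N => (χ : G → ℂ) n) (D.θ : D.N → ℂ) ≠ 0) :
    (χ : G → ℂ) = D.hat := by
  classical
  have hMp : M.IsPrime := isPrime_of_isPModular D.hM
  have hp : p.Prime := Fact.out
  have : Fintype G := Fintype.ofFinite _
  have hθ1 : (D.θ : D.N → ℂ) 1 ≠ 0 := ad_irr_one_ne_zero D.θ.2
  obtain ⟨φ, hφirr, hφN, hmul, -⟩ := Cfsg.Agent.Lib.Helper15.exists_mul_ext D.N D.hat_irr
    (by rw [D.hat_res]; exact D.θ.2) χ.2 (by rw [D.hat_res]; exact hne)
  have hφc : IsCharacter G φ := Cfsg.Agent.Lib.Helper3.IsIrrCharacter.isCharacter hφirr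
  have hhat1 : D.hat 1 = (D.θ : D.N → ℂ) 1 := D.hat_restrict 1 (Subgroup.one_mem _)
  have hφ1 : φ 1 ≠ 0 := ad_irr_one_ne_zero hφirr
  -- congruence on the centralizer
  have hφC : ∀ c : G, c ∈ Subgroup.centralizer ((D.P : Subgroup G) : Set G) →
      MemLocalIdeal M (φ c - φ 1) := by
    intro c hc
    have hA := D.hat_cong c hc
    have hB := ad_fact1 D.hM χ hχ c (D.not_dvd_index_centralizer c hc)
    have hχc : (χ : G → ℂ) c = φ c * D.hat c := by
      have := congrFun hmul c
      rwa [Pi.mul_apply] at this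
    have hχ1 : (χ : G → ℂ) 1 = φ 1 * (D.θ : D.N → ℂ) 1 := by
      have := congrFun hmul 1
      rwa [Pi.mul_apply, hhat1] at this
    have hdecomp : φ c - φ 1 = φ c * (-(D.hat c / (D.θ : D.N → ℂ) 1 - 1))
        + φ 1 * ((χ : G → ℂ) c / (χ : G → ℂ) 1 - 1) := by
      rw [hχc, hχ1]
      field_simp
      ring
    rw [hdecomp]
    exact memLocalIdeal_add hMp
      (memLocalIdeal_mul_left hMp (ad_memLocalRing_char hMp hφc _) (memLocalIdeal_neg hA))
      (memLocalIdeal_mul_left hMp (ad_memLocalRing_char hMp hφc _) hB)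
  have hφall : ∀ g : G, MemLocalIdeal M (φ g - φ 1) := by
    intro g
    obtain ⟨n, hn, c, hc, hg⟩ := ad_exists_mul D.hsup g
    have : φ g = φ c := by
      rw [hg]
      exact hφN ⟨n, hn⟩ c
    rw [this]
    exact hφC c hc
  -- deflate to the quotient
  have hker : ∀ x ∈ D.N, φ x = φ 1 := by
    intro x hx
    have := hφN ⟨x, hx⟩ 1
    rwa [mul_one] at this
  obtain ⟨φq, hφq, hval⟩ := Cfsg.Agent.Lib.Helper79.isIrrCharacter_deflate hφirr D.N hker
  have : Fintype (G ⧸ D.N) := Fintype.ofFinite _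
  obtain ⟨d, hd, hddvd, hd0⟩ := Cfsg.Agent.Lib.Helper3.IsIrrCharacter.apply_one_dvd_card hφq
  have hcardQ : Nat.card (G ⧸ D.N) = D.N.index := (Subgroup.index_eq_card D.N).symm
  have hφq1 : φq 1 = φ 1 := hval 1
  have htriv : φq = fun _ => (1 : ℂ) := by
    by_contra hne1
    have h0 := Cfsg.Agent.Lib.Helper3.classInner_irr hφq
      (Cfsg.Agent.Lib.Helper3.isIrrCharacter_one (G := G ⧸ D.N))
    rw [if_neg hne1] at h0
    unfold classInner at h0
    have hcard0 : (Nat.card (G ⧸ D.N) : ℂ) ≠ 0 := by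
      have : 0 < Nat.card (G ⧸ D.N) := Nat.card_pos
      exact_mod_cast this.ne'
    have hsum : ∑ x : G ⧸ D.N, φq x = 0 := by
      rcases mul_eq_zero.mp h0 with h | h
      · exact absurd (inv_eq_zero.mp h) hcard0
      · simpa using h
    have hmem : MemLocalIdeal M (∑ x : G ⧸ D.N, (φq x - φq 1)) := by
      apply memLocalIdeal_sum hMp
      intro x _
      obtain ⟨g, rfl⟩ := QuotientGroup.mk_surjective x
      rw [hval g, hφq1]
      exact hφall g
    rw [Finset.sum_sub_distrib, hsum, Finset.sum_const, Finset.card_univ, zero_sub,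
      nsmul_eq_mul, hd, ← Nat.card_eq_fintype_card, hcardQ] at hmem
    have h2 := memLocalIdeal_neg hmem
    rw [neg_neg, ← Nat.cast_mul] at h2
    have h3 := (memLocalIdeal_natCast_iff D.hM _).mp h2
    rcases (Nat.Prime.dvd_mul hp).mp h3 with h | h
    · exact D.hidx h
    · exact D.hidx (h.trans (hcardQ ▸ hddvd))
  have hφone : φ = fun _ => (1 : ℂ) := by
    funext g
    rw [← hval g, htriv]
  rw [hmul, hφone]
  funext g
  simp

end

end Cfsg.Agent.Lib.Helper74
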