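import Cfsg.Agent.Lib.Helper74.ADR1
import Cfsg.Agent.Lib.Helper81.Irr

set_option autoImplicit false
set_option linter.unusedSectionVars false

namespace Cfsg.Agent.Lib.Helper74

open Cfsg Cfsg.Agent.Lib.Helper81 Cfsg.Agent.Lib.Helper77
open scoped ComplexConjugate

universe u

/-- The data of the relative Alperin--Dade situation: `P₀ ≤ N` of index prime to `p` in `N`,
`G = N C_G(P₀)`, and a member `θ` of the principal block of `N` with an extension `ψ₀` to `G`. -/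
structure ADRData (G : Type u) [Group G] (p : ℕ) (M : Ideal AlgInt) where
  N : Subgroup G
  normal : N.Normal
  P₀ : Subgroup G
  hPN : P₀ ≤ N
  hPidx : ¬ p ∣ P₀.relIndex N
  hM : IsPModular p M
  hsup : N ⊔ Subgroup.centralizer (P₀ : Set G) = ⊤
  θ : IrrCharacter N
  hθ : θ ∈ principalBlock M ↥N
  ψ₀ : IrrCharacter G
  hψ₀ : ∀ n : N, (ψ₀ : G → ℂ) n = (θ : N → ℂ) n

section

variable {G : Type u} [Group G] {p : ℕ} {M : Ideal AlgInt}

instance ADRData.instNormal (D : ADRData G p M) : D.N.Normal := D.normal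

/-- `g` generates over `N` a subgroup of index prime to `p`. -/
def ADRData.Reg (D : ADRData G p M) (g : G) : Prop :=
  ¬ p ∣ D.N.relIndex (D.N ⊔ Subgroup.zpowers g)

variable [Finite G] [Fact p.Prime] (D : ADRData G p M)

theorem ADRData.step : ADStep D.N (Subgroup.centralizer (D.P₀ : Set G))
    (ADGoodR p M D.N (D.θ : D.N → ℂ)) :=
  adr_step D.hM D.N D.P₀ D.hPN D.hPidx _

theorem ADRData.good_base : ADGoodR p M D.N (D.θ : D.N → ℂ) D.N :=
  adr_good_base p M D.N D.θ D.hθ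

theorem ADRData.good_cyc (g : G) :
    ADGoodR p M D.N (D.θ : D.N → ℂ) (D.N ⊔ Subgroup.zpowers g) :=
  ad_cyc D.hsup D.step D.good_base g

/-- The chosen extension on `N ⊔ ⟨g⟩`. -/
noncomputable def ADRData.psi (g : G) (hg : D.Reg g) : IrrCharacter ↥(D.N ⊔ Subgroup.zpowers g) :=
  Classical.choose ((D.good_cyc g).2 hg)

theorem ADRData.psi_spec (g : G) (hg : D.Reg g) :
    ADGoodExt M D.N (D.θ : D.N → ℂ) (D.N ⊔ Subgroup.zpowers g) (D.psi g hg) :=
  Classical.choose_spec ((D.good_cyc g).2 hg)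

open Classical in
/-- The canonical partial extension of `θ`: defined on the elements generating over `N` a subgroup
of index prime to `p`, zero elsewhere. -/
noncomputable def ADRData.hatR : G → ℂ := fun g =>
  if hg : D.Reg g then
    (D.psi g hg : ↥(D.N ⊔ Subgroup.zpowers g) → ℂ)
      ⟨g, Subgroup.mem_sup_right (Subgroup.mem_zpowers g)⟩
  else 0

theorem ADRData.reg_of_mem {J : Subgroup G} (hNJ : D.N ≤ J) (hJ : ¬ p ∣ D.N.relIndex J)
    {g : G} (hg : g ∈ J) : D.Reg g := fun h =>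
  hJ (h.trans (adr_relIndex_dvd le_sup_left (sup_le hNJ (Subgroup.zpowers_le.mpr hg))))

theorem ADRData.hatR_eq {J : Subgroup G} (hNJ : D.N ≤ J) (hJ : ¬ p ∣ D.N.relIndex J)
    (ψ : IrrCharacter ↥J) (hψ : ADGoodExt M D.N (D.θ : D.N → ℂ) J ψ) (g : G) (hg : g ∈ J) :
    (ψ : ↥J → ℂ) ⟨g, hg⟩ = D.hatR g := by
  have hreg := D.reg_of_mem hNJ hJ hg
  unfold ADRData.hatR
  rw [dif_pos hreg]
  exact adr_unique D.hM D.N D.P₀ D.hPN D.hPidx D.hsup (D.θ : D.N → ℂ) D.θ.2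
    (J' := D.N ⊔ Subgroup.zpowers g)
    le_sup_left (sup_le hNJ (Subgroup.zpowers_le.mpr hg)) hJ ψ hψ (D.psi g hreg)
    (D.psi_spec g hreg) g _

theorem ADRData.not_dvd_relIndex_self : ¬ p ∣ D.N.relIndex D.N := by
  rw [Subgroup.relIndex_self]
  exact (Fact.out : p.Prime).one_lt.ne' ∘ Nat.dvd_one.mp

theorem ADRData.hatR_restrict (n : G) (hn : n ∈ D.N) : D.hatR n = (D.θ : D.N → ℂ) ⟨n, hn⟩ :=
  (D.hatR_eq le_rfl D.not_dvd_relIndex_self D.θ ⟨D.hθ, fun _ _ _ => rfl⟩ n hn).symm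

theorem ADRData.theta_conj (c : G) (n : G) (hn : n ∈ D.N) :
    (D.θ : D.N → ℂ) ⟨c * n * c⁻¹, D.normal.conj_mem n hn c⟩ = (D.θ : D.N → ℂ) ⟨n, hn⟩ := by
  rw [← D.hψ₀ ⟨n, hn⟩, ← D.hψ₀ ⟨c * n * c⁻¹, D.normal.conj_mem n hn c⟩]
  exact irr_conj_apply D.ψ₀ n c

theorem ADRData.map_conj_N (c : G) : D.N.map (MulAut.conj c).toMonoidHom = D.N := by
  ext x
  rw [Subgroup.mem_map]
  constructor
  · rintro ⟨y, hy, rfl⟩
    exact D.normal.conj_mem y hy c
  · intro hx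
    refine ⟨c⁻¹ * x * c, ?_, ?_⟩
    · have := D.normal.conj_mem x hx c⁻¹
      rwa [inv_inv] at this
    · show c * (c⁻¹ * x * c) * c⁻¹ = x
      group

theorem ADRData.relIndex_map_conj (c : G) (J : Subgroup G) :
    D.N.relIndex (J.map (MulAut.conj c).toMonoidHom) = D.N.relIndex J := by
  have h := Subgroup.relIndex_map_map_of_injective D.N J
    (f := (MulAut.conj c).toMonoidHom) (MulAut.conj c).injective
  rw [D.map_conj_N c] at h
  exact h

theorem ADRData.le_map_conj {J : Subgroup G} (hNJ : D.N ≤ J) (c : G) :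
    D.N ≤ J.map (MulAut.conj c).toMonoidHom := by
  have h1 : D.N.map (MulAut.conj c).toMonoidHom ≤ J.map (MulAut.conj c).toMonoidHom :=
    Subgroup.map_mono hNJ
  rwa [D.map_conj_N c] at h1

/-- Transport of a good extension along conjugation. -/
theorem ADRData.goodExt_conj {J : Subgroup G} (hNJ : D.N ≤ J) (ψ : IrrCharacter ↥J)
    (hψ : ADGoodExt M D.N (D.θ : D.N → ℂ) J ψ) (c : G) :
    ∃ ψ' : IrrCharacter ↥(J.map (MulAut.conj c).toMonoidHom),
      ADGoodExt M D.N (D.θ : D.N → ℂ) (J.map (MulAut.conj c).toMonoidHom) ψ' ∧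
      ∀ (g : G) (hg : g ∈ J) (hg' : c * g * c⁻¹ ∈ J.map (MulAut.conj c).toMonoidHom),
        (ψ' : ↥(J.map (MulAut.conj c).toMonoidHom) → ℂ) ⟨c * g * c⁻¹, hg'⟩ = (ψ : ↥J → ℂ) ⟨g, hg⟩ := by
  set J' : Subgroup G := J.map (MulAut.conj c).toMonoidHom with hJ'
  set e : ↥J ≃* ↥J' := (MulAut.conj c).subgroupMap J with he
  have hec : ∀ y : ↥J, ((e y : ↥J') : G) = c * (y : G) * c⁻¹ := fun y => rfl
  have hesymm : ∀ z : ↥J', ((e.symm z : ↥J) : G) = c⁻¹ * (z : G) * c := by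
    intro z
    have h1 := hec (e.symm z)
    rw [e.apply_symm_apply] at h1
    rw [h1]
    group
  refine ⟨irrMap e.symm ψ, ⟨ad_irrMap_mem_principal M e.symm ψ hψ.1, ?_⟩, ?_⟩
  · intro n hn hnJ'
    rw [irrMap_apply]
    have hmemN : c⁻¹ * n * c ∈ D.N := by
      have := D.normal.conj_mem n hn c⁻¹
      rwa [inv_inv] at this
    have h1 : e.symm ⟨n, hnJ'⟩ = ⟨c⁻¹ * n * c, hNJ hmemN⟩ := by
      apply Subtype.ext
      exact hesymm ⟨n, hnJ'⟩
    rw [h1, hψ.2 (c⁻¹ * n * c) hmemN]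
    have h2 := D.theta_conj c⁻¹ n hn
    have h3 : (⟨c⁻¹ * n * c⁻¹⁻¹, D.normal.conj_mem n hn c⁻¹⟩ : ↥D.N) = ⟨c⁻¹ * n * c, hmemN⟩ := by
      apply Subtype.ext
      simp
    rw [h3] at h2
    exact h2
  · intro g hg hg'
    rw [irrMap_apply]
    have h1 : e.symm ⟨c * g * c⁻¹, hg'⟩ = ⟨g, hg⟩ := by
      rw [MulEquiv.symm_apply_eq]
      apply Subtype.ext
      rfl
    rw [h1]

theorem ADRData.reg_conj {g : G} (hg : D.Reg g) (c : G) : D.Reg (c * g * c⁻¹) := by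
  have hJ' : ¬ p ∣ D.N.relIndex
      ((D.N ⊔ Subgroup.zpowers g).map (MulAut.conj c).toMonoidHom) := by
    rw [D.relIndex_map_conj]
    exact hg
  have hNJ' : D.N ≤ (D.N ⊔ Subgroup.zpowers g).map (MulAut.conj c).toMonoidHom :=
    D.le_map_conj le_sup_left c
  apply D.reg_of_mem hNJ' hJ'
  rw [Subgroup.mem_map]
  exact ⟨g, Subgroup.mem_sup_right (Subgroup.mem_zpowers g), rfl⟩

theorem ADRData.hatR_conj (g c : G) : D.hatR (c * g * c⁻¹) = D.hatR g := by
  by_cases hg : D.Reg g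
  · set J : Subgroup G := D.N ⊔ Subgroup.zpowers g with hJ
    have hgJ : g ∈ J := Subgroup.mem_sup_right (Subgroup.mem_zpowers g)
    obtain ⟨ψ', hψ', hval⟩ := D.goodExt_conj (J := J) le_sup_left (D.psi g hg) (D.psi_spec g hg) c
    have hJ' : ¬ p ∣ D.N.relIndex (J.map (MulAut.conj c).toMonoidHom) := by
      rw [D.relIndex_map_conj]
      exact hg
    have hNJ' : D.N ≤ J.map (MulAut.conj c).toMonoidHom := D.le_map_conj le_sup_left c
    have hmem : c * g * c⁻¹ ∈ J.map (MulAut.conj c).toMonoidHom := by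
      rw [Subgroup.mem_map]
      exact ⟨g, hgJ, rfl⟩
    rw [← D.hatR_eq hNJ' hJ' ψ' hψ' (c * g * c⁻¹) hmem, hval g hgJ hmem,
      D.hatR_eq le_sup_left hg (D.psi g hg) (D.psi_spec g hg) g hgJ]
  · have hg' : ¬ D.Reg (c * g * c⁻¹) := by
      intro h
      apply hg
      have := D.reg_conj h c⁻¹
      have h2 : c⁻¹ * (c * g * c⁻¹) * c⁻¹⁻¹ = g := by group
      rwa [h2] at this
    unfold ADRData.hatR
    rw [dif_neg hg, dif_neg hg']

theorem ADRData.hatR_class : IsClassFunction G D.hatR := fun g h => D.hatR_conj g h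

end

end Cfsg.Agent.Lib.Helper74
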