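import Cfsg.Agent.Lib.Helper74.AD2

set_option autoImplicit false
set_option linter.unusedSectionVars false

namespace Cfsg.Agent.Lib.Helper74

open Cfsg

universe u

section

variable {E : Type u} [Group E] [Finite E]

theorem adr_pow_mem_center {k : ℕ} (hk : (Subgroup.center E).index ∣ k) (a : E) :
    a ^ k ∈ Subgroup.center E := by
  obtain ⟨j, rfl⟩ := hk
  rw [pow_mul]
  exact Subgroup.pow_mem _ ((Subgroup.center E).pow_index_mem a) j

theorem adr_pow_mul_of_dvd {k : ℕ} (hk : (Subgroup.center E).index ∣ k) (a b : E) :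
    (a * b) ^ k = a ^ k * b ^ k := by
  obtain ⟨j, rfl⟩ := hk
  have h1 : (a * b) ^ (Subgroup.center E).index
      = a ^ (Subgroup.center E).index * b ^ (Subgroup.center E).index := by
    have := congrArg Subtype.val (map_mul (MonoidHom.transferCenterPow E) a b)
    simpa only [MonoidHom.transferCenterPow_apply, Subgroup.coe_mul] using this
  have hcomm : Commute (a ^ (Subgroup.center E).index) (b ^ (Subgroup.center E).index) := by
    have hc := (Subgroup.center E).pow_index_mem a
    exact ((Subgroup.mem_center_iff.mp hc) _).symm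
  rw [pow_mul, h1, hcomm.mul_pow, ← pow_mul, ← pow_mul]

theorem adr_pow_mul_succ {k : ℕ} (hk : (Subgroup.center E).index ∣ k) (a b : E) :
    (a * b) ^ (k + 1) = a ^ (k + 1) * b ^ (k + 1) := by
  have hb : b ^ k ∈ Subgroup.center E := adr_pow_mem_center hk b
  have hcomm : b ^ k * a = a * b ^ k := ((Subgroup.mem_center_iff.mp hb) a).symm
  rw [pow_succ, adr_pow_mul_of_dvd hk, pow_succ, pow_succ]
  calc a ^ k * b ^ k * (a * b) = a ^ k * (b ^ k * a) * b := by group
    _ = a ^ k * (a * b ^ k) * b := by rw [hcomm]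
    _ = a ^ k * a * (b ^ k * b) := by group

end

section

variable {G : Type u} [Group G] [Finite G]

/-- An exponent extracting the `p`-regular part of every element. -/
theorem adr_exists_exponent (p : ℕ) [Fact p.Prime] :
    ∃ m : ℕ, 1 ≤ m ∧ p ^ (Nat.card G).factorization p ∣ m ∧
      Nat.card G / p ^ (Nat.card G).factorization p ∣ m - 1 := by
  have hp : p.Prime := Fact.out
  set n := Nat.card G with hn
  have hn0 : n ≠ 0 := Nat.card_pos.ne'
  set pa := p ^ n.factorization p with hpa
  set n' := n / pa with hn'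
  have hcop : Nat.Coprime pa n' := by
    rw [hpa, hn']
    exact Nat.Coprime.pow_left _ (Nat.coprime_ordCompl hp hn0)
  obtain ⟨k, hk0, hk1⟩ := Nat.chineseRemainder hcop 0 1
  refine ⟨k + pa * n', ?_, ?_, ?_⟩
  · have : 0 < pa * n' := by
      rw [hpa, hn']
      exact Nat.mul_pos (pow_pos hp.pos _) (Nat.ordCompl_pos p hn0)
    omega
  · have h1 : pa ∣ k := (Nat.modEq_zero_iff_dvd).mp hk0
    exact dvd_add h1 (dvd_mul_right _ _)
  · have h2 : (k + pa * n') ≡ 1 [MOD n'] := by
      have : pa * n' ≡ 0 [MOD n'] := (Nat.modEq_zero_iff_dvd).mpr (dvd_mul_left _ _)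
      simpa using Nat.ModEq.add hk1 this
    have hpos : 1 ≤ k + pa * n' := by
      have : 0 < pa * n' := by
        rw [hpa, hn']
        exact Nat.mul_pos (pow_pos hp.pos _) (Nat.ordCompl_pos p hn0)
      omega
    exact (Nat.modEq_iff_dvd' hpos).mp h2.symm

theorem adr_pa_mul (p : ℕ) [Fact p.Prime] :
    p ^ (Nat.card G).factorization p * (Nat.card G / p ^ (Nat.card G).factorization p)
      = Nat.card G :=
  Nat.ordProj_mul_ordCompl_eq_self (Nat.card G) p

/-- The `m`-th power map on an elementary subgroup is multiplicative. -/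
theorem adr_pow_mul_elementary (p : ℕ) [Fact p.Prime] {m : ℕ} (hm1 : 1 ≤ m)
    (hmp : p ^ (Nat.card G).factorization p ∣ m)
    (hmn : Nat.card G / p ^ (Nat.card G).factorization p ∣ m - 1)
    (E : Subgroup G) (q : ℕ) (hq : q.Prime) (hE : IsElementary q E) (a b : E) :
    (a * b) ^ m = a ^ m * b ^ m := by
  have hp : p.Prime := Fact.out
  obtain ⟨z, hzc, -, k, hk⟩ := hE
  have hle : Subgroup.zpowers z ≤ Subgroup.center ↥E := Subgroup.zpowers_le.mpr hzc
  have ht : (Subgroup.center ↥E).index ∣ q ^ k := hk ▸ Subgroup.index_dvd_of_le hle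
  obtain ⟨j, -, hj⟩ := (Nat.dvd_prime_pow hq).mp ht
  have htE : (Subgroup.center ↥E).index ∣ Nat.card G :=
    (Subgroup.index_dvd_card _).trans (Subgroup.card_subgroup_dvd_card E)
  by_cases hqp : q = p
  · -- index is a power of `p`
    have h1 : (Subgroup.center ↥E).index ∣ p ^ (Nat.card G).factorization p := by
      rw [hj, hqp]
      apply pow_dvd_pow
      rw [hj, hqp] at htE
      exact (hp.pow_dvd_iff_le_factorization Nat.card_pos.ne').mp htE
    exact adr_pow_mul_of_dvd (h1.trans hmp) a b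
  · have hcop : Nat.Coprime (q ^ j) (p ^ (Nat.card G).factorization p) :=
      Nat.Coprime.pow _ _ ((Nat.coprime_primes hq hp).mpr hqp)
    have h1 : (Subgroup.center ↥E).index ∣ Nat.card G / p ^ (Nat.card G).factorization p := by
      rw [hj]
      rw [hj, ← adr_pa_mul (G := G) p] at htE
      exact hcop.dvd_of_dvd_mul_left htE
    have h2 := adr_pow_mul_succ (h1.trans hmn) a b
    have h3 : m - 1 + 1 = m := by omega
    rwa [h3] at h2

end

section

variable {G : Type u} [Group G]

/-- Generalization of `ad_elementary` to the image of an elementary group under a homomorphism. -/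
theorem ad_elementary_map [Finite G] {N C : Subgroup G} [N.Normal] (hsup : N ⊔ C = ⊤)
    {Good : Subgroup G → Prop} (hstep : ADStep N C Good) (hN : Good N)
    {E : Type u} [Group E] (f : E →* G) (q : ℕ) (hq : q.Prime) (hE : IsElementary q E) :
    Good (N ⊔ f.range) := by
  obtain ⟨x, hxc, -, k, hk⟩ := hE
  have h1 : Good (N ⊔ Subgroup.zpowers (f x)) := ad_cyc hsup hstep hN (f x)
  have hzE : Subgroup.zpowers (f x) ≤ f.range := Subgroup.zpowers_le.mpr ⟨x, rfl⟩
  have hnorm : ∀ g ∈ N ⊔ f.range, ∀ y ∈ N ⊔ Subgroup.zpowers (f x),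
      g * y * g⁻¹ ∈ N ⊔ Subgroup.zpowers (f x) := by
    intro g hg y hy
    rw [ad_mem_sup_iff] at hg hy ⊢
    obtain ⟨e', ⟨e, rfl⟩, hge⟩ := hg
    rw [MonoidHom.map_zpowers] at hy ⊢
    obtain ⟨i, hi⟩ := hy
    have hcomm : f e * (f x) ^ i * (f e)⁻¹ = (f x) ^ i := by
      have h2 : e * x ^ i = x ^ i * e :=
        ((Subgroup.mem_center_iff.mp (Subgroup.zpow_mem _ hxc i)) e)
      have h3 : f e * (f x) ^ i = (f x) ^ i * f e := by
        rw [← map_zpow, ← map_mul, h2, map_mul]
      rw [h3, mul_inv_cancel_right]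
    refine ⟨i, ?_⟩
    have hgq : ((g * y * g⁻¹ : G) : G ⧸ N) = (QuotientGroup.mk' N) (f e) * (QuotientGroup.mk' N) y * ((QuotientGroup.mk' N) (f e))⁻¹ := by
      rw [hge]; rfl
    rw [hgq]
    have hi' : (QuotientGroup.mk' N) y = (QuotientGroup.mk' N) ((f x) ^ i) := by
      rw [map_zpow]; exact hi.symm
    rw [hi', ← map_inv, ← map_mul, ← map_mul, hcomm, map_zpow]
  have hrel : ∃ j, (N ⊔ Subgroup.zpowers (f x)).relIndex (N ⊔ f.range) = q ^ j := by
    have hdvd : (N ⊔ Subgroup.zpowers (f x)).relIndex (N ⊔ f.range) ∣ q ^ k := by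
      set h : E →* G ⧸ N := (QuotientGroup.mk' N).comp f with hh
      have hA : (Subgroup.zpowers x).map h = (Subgroup.zpowers (f x)).map (QuotientGroup.mk' N) := by
        rw [hh, ← Subgroup.map_map, MonoidHom.map_zpowers]
      have hB : (⊤ : Subgroup E).map h = f.range.map (QuotientGroup.mk' N) := by
        rw [hh, ← Subgroup.map_map, ← MonoidHom.range_eq_map]
      have e1 : (N ⊔ Subgroup.zpowers (f x)).relIndex (N ⊔ f.range)
          = ((Subgroup.zpowers (f x)).map (QuotientGroup.mk' N)).relIndex (f.range.map (QuotientGroup.mk' N)) := by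
        rw [← QuotientGroup.comap_map_mk' N (Subgroup.zpowers (f x)), Subgroup.relIndex_comap,
          Subgroup.map_sup, QuotientGroup.map_mk'_self, bot_sup_eq]
      rw [e1, ← hA, ← hB, Subgroup.relIndex_map_map, top_sup_eq, Subgroup.relIndex_top_right, ← hk]
      exact Subgroup.index_dvd_of_le le_sup_left
    obtain ⟨j, -, hj⟩ := (Nat.dvd_prime_pow hq).mp hdvd
    exact ⟨j, hj⟩
  obtain ⟨j, hj⟩ := hrel
  exact ad_chain hsup hstep hq _ (N ⊔ Subgroup.zpowers (f x)) (N ⊔ f.range) le_sup_left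
    (sup_le le_sup_left (hzE.trans le_sup_right)) hnorm rfl ⟨j, hj⟩ h1

end

end Cfsg.Agent.Lib.Helper74
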