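import Cfsg.Agent.Lib.Helper74.ADR2
import Cfsg.Agent.Lib.Helper74.ADR3a
import Cfsg.Agent.Lib.Helper3.Brauer
import Cfsg.Agent.Lib.Helper3.CharOps
import Cfsg.Agent.Lib.Helper81.HallCompl

set_option autoImplicit false
set_option linter.unusedSectionVars false

namespace Cfsg.Agent.Lib.Helper74

open Cfsg Cfsg.Agent.Lib.Helper81 Cfsg.Agent.Lib.Helper77
open scoped ComplexConjugate

universe u

section

variable {G : Type u} [Group G] [Finite G]

/-- A fixed exponent extracting `p`-regular parts. -/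
noncomputable def adrExp (G : Type u) [Group G] [Finite G] (p : ℕ) [Fact p.Prime] : ℕ :=
  Classical.choose (adr_exists_exponent (G := G) p)

theorem adrExp_spec (p : ℕ) [Fact p.Prime] :
    1 ≤ adrExp G p ∧ p ^ (Nat.card G).factorization p ∣ adrExp G p ∧
      Nat.card G / p ^ (Nat.card G).factorization p ∣ adrExp G p - 1 :=
  Classical.choose_spec (adr_exists_exponent (G := G) p)

theorem adrExp_regular (p : ℕ) [Fact p.Prime] (g : G) : ¬ p ∣ orderOf (g ^ adrExp G p) := by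
  have hp : p.Prime := Fact.out
  obtain ⟨-, hmp, -⟩ := adrExp_spec (G := G) p
  have h1 : (g ^ adrExp G p) ^ (Nat.card G / p ^ (Nat.card G).factorization p) = 1 := by
    rw [← pow_mul]
    obtain ⟨t, ht⟩ := hmp
    rw [ht, mul_comm (p ^ (Nat.card G).factorization p) t, mul_assoc, adr_pa_mul (G := G) p, pow_mul]
    simp
  intro hdvd
  have h2 : p ∣ Nat.card G / p ^ (Nat.card G).factorization p :=
    hdvd.trans (orderOf_dvd_of_pow_eq_one h1)
  exact Nat.not_dvd_ordCompl hp Nat.card_pos.ne' h2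

theorem adrExp_of_regular (p : ℕ) [Fact p.Prime] (g : G) (hg : ¬ p ∣ orderOf g) :
    g ^ adrExp G p = g := by
  have hp : p.Prime := Fact.out
  obtain ⟨hm1, -, hmn⟩ := adrExp_spec (G := G) p
  have h1 : orderOf g ∣ Nat.card G / p ^ (Nat.card G).factorization p := by
    have h2 : orderOf g ∣ p ^ (Nat.card G).factorization p *
        (Nat.card G / p ^ (Nat.card G).factorization p) := by
      rw [adr_pa_mul (G := G) p]
      exact orderOf_dvd_natCard g
    have hcop : Nat.Coprime (orderOf g) (p ^ (Nat.card G).factorization p) :=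
      Nat.Coprime.pow_right _ ((Nat.Prime.coprime_iff_not_dvd hp).mpr hg).symm
    exact hcop.dvd_of_dvd_mul_left h2
  have h3 : g ^ (adrExp G p - 1) = 1 := orderOf_dvd_iff_pow_eq_one.mp (h1.trans hmn)
  have h4 : adrExp G p = adrExp G p - 1 + 1 := by omega
  rw [h4, pow_succ, h3, one_mul]

end

section

variable {G : Type u} [Group G] {p : ℕ} {M : Ideal AlgInt}

variable [Finite G] [Fact p.Prime] (D : ADRData G p M)

theorem ADRData.not_dvd_relIndex_sup (H : Subgroup G) (hH : ¬ p ∣ Nat.card H) :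
    ¬ p ∣ D.N.relIndex (D.N ⊔ H) := by
  rw [Subgroup.relIndex_sup_left]
  exact fun h => hH (h.trans (Subgroup.relIndex_dvd_card D.N H))

theorem ADRData.reg_of_regular (y : G) (hy : ¬ p ∣ orderOf y) : D.Reg y := by
  apply D.not_dvd_relIndex_sup
  rwa [Nat.card_zpowers]

variable [Fintype D.N]

/-- The coset average of `ψ₀ conj θ̂`. -/
noncomputable def ADRData.mu0 : G → ℂ :=
  Cfsg.Agent.Lib.Helper15.cosetAvg D.N (D.ψ₀ : G → ℂ) D.hatR

theorem ADRData.mu0_apply (y : G) : D.mu0 y = (Nat.card D.N : ℂ)⁻¹ *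
    ∑ n : D.N, (D.ψ₀ : G → ℂ) ((n : G) * y) * conj (D.hatR ((n : G) * y)) := rfl

theorem ADRData.mu0_spec {J : Subgroup G} (hNJ : D.N ≤ J) (hJ : ¬ p ∣ D.N.relIndex J)
    (η : IrrCharacter ↥J) (hη : ADGoodExt M D.N (D.θ : D.N → ℂ) J η) :
    ∃ lam : ↥J → ℂ, (IsCharacter ↥J lam ∧ lam 1 = 1) ∧
      (∀ k : ↥J, (k : G) ∈ D.N → lam k = 1) ∧
      (∀ x : ↥J, (D.ψ₀ : G → ℂ) x = lam x * (η : ↥J → ℂ) x) ∧ ∀ x : ↥J, D.mu0 x = lam x := by
  classical
  have : Fintype ↥J := Fintype.ofFinite _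
  have : Fintype ↥(D.N.subgroupOf J) := Fintype.ofFinite _
  set e : ↥(D.N.subgroupOf J) ≃* ↥D.N := Subgroup.subgroupOfEquivOfLe hNJ with he
  have hθ' : IsIrrCharacter ↥(D.N.subgroupOf J) (fun k => (D.θ : D.N → ℂ) (e k)) :=
    Cfsg.Agent.Lib.Helper79.isIrrCharacter_comp_surjective D.θ.2 e.toMonoidHom e.surjective
  set ψr : ↥J → ℂ := fun z => (D.ψ₀ : G → ℂ) (J.subtype z) with hψr
  have hψrc : IsCharacter ↥J ψr :=
    Cfsg.Agent.Lib.Helper79.isCharacter_comp
      (Cfsg.Agent.Lib.Helper3.IsIrrCharacter.isCharacter D.ψ₀.2) J.subtype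
  have hres : (fun k : ↥(D.N.subgroupOf J) => ψr k) = fun k => (D.θ : D.N → ℂ) (e k) := by
    funext k
    exact D.hψ₀ (e k)
  have hres' : (fun k : ↥(D.N.subgroupOf J) => (η : ↥J → ℂ) k)
      = fun k => (D.θ : D.N → ℂ) (e k) := by
    funext k
    exact hη.2 (k : ↥J) (Subgroup.mem_subgroupOf.mp k.2) (k : ↥J).2
  have hψrirr : IsIrrCharacter ↥J ψr := by
    apply Cfsg.Agent.Lib.Helper79.isIrrCharacter_of_restrict_irr (D.N.subgroupOf J) hψrc
    rw [hres]
    exact hθ'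
  have hne : classInner (fun n : ↥(D.N.subgroupOf J) => ψr n)
      (fun n : ↥(D.N.subgroupOf J) => (η : ↥J → ℂ) n) ≠ 0 := by
    rw [hres, hres', Cfsg.Agent.Lib.Helper3.classInner_irr hθ' hθ', if_pos rfl]
    exact one_ne_zero
  obtain ⟨φ, hφirr, hφN, hmul, havg⟩ := Cfsg.Agent.Lib.Helper15.exists_mul_ext (D.N.subgroupOf J)
    η.2 (by rw [hres']; exact hθ') hψrirr hne
  have hθ1 : (D.θ : D.N → ℂ) 1 ≠ 0 := ad_irr_one_ne_zero D.θ.2
  have hη1 : (η : ↥J → ℂ) 1 = (D.θ : D.N → ℂ) 1 :=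
    hη.2 1 (Subgroup.one_mem _) (Subgroup.one_mem _)
  have hψr1 : ψr 1 = (D.θ : D.N → ℂ) 1 := D.hψ₀ 1
  have hφ1 : φ 1 = 1 := by
    have h1 := congrFun hmul 1
    rw [Pi.mul_apply, hψr1, hη1] at h1
    have h2 : (1 : ℂ) * (D.θ : D.N → ℂ) 1 = φ 1 * (D.θ : D.N → ℂ) 1 := by rw [one_mul]; exact h1
    exact (mul_right_cancel₀ hθ1 h2).symm
  have hφc : IsCharacter ↥J φ := Cfsg.Agent.Lib.Helper3.IsIrrCharacter.isCharacter hφirr
  refine ⟨φ, ⟨hφc, hφ1⟩, ?_, ?_, ?_⟩
  · intro k hk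
    have := hφN ⟨k, Subgroup.mem_subgroupOf.mpr hk⟩ 1
    rw [mul_one] at this
    rw [this, hφ1]
  · intro x
    have := congrFun hmul x
    rw [Pi.mul_apply] at this
    exact this
  · intro x
    rw [← havg, D.mu0_apply]
    unfold Cfsg.Agent.Lib.Helper15.cosetAvg
    have hcard : Nat.card ↥(D.N.subgroupOf J) = Nat.card D.N := Nat.card_congr e.toEquiv
    rw [hcard]
    congr 1
    symm
    apply Fintype.sum_equiv e.toEquiv
    intro k
    have hk : ((e k : D.N) : G) * (x : G) ∈ J := J.mul_mem (hNJ (e k).2) x.2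
    have h4 := D.hatR_eq hNJ hJ η hη (((e k : D.N) : G) * (x : G)) hk
    show _ = (D.ψ₀ : G → ℂ) (((e k : D.N) : G) * (x : G)) * conj (D.hatR (((e k : D.N) : G) * (x : G)))
    rw [← h4]
    rfl

theorem ADRData.mu0_class : IsClassFunction G D.mu0 := by
  intro g h
  rw [D.mu0_apply, D.mu0_apply]
  congr 1
  apply Fintype.sum_equiv (MulAut.conjNormal (H := D.N) h⁻¹).toEquiv
  intro n
  have h1 : ((n : D.N) : G) * (h * g * h⁻¹)
      = h * (((MulAut.conjNormal (H := D.N) h⁻¹ n : D.N) : G) * g) * h⁻¹ := by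
    rw [MulAut.conjNormal_apply]
    group
  have h2 : (D.ψ₀ : G → ℂ) (h * (((MulAut.conjNormal (H := D.N) h⁻¹ n : D.N) : G) * g) * h⁻¹)
      = (D.ψ₀ : G → ℂ) (((MulAut.conjNormal (H := D.N) h⁻¹ n : D.N) : G) * g) :=
    irr_conj_apply D.ψ₀ _ h
  have h3 : D.hatR (h * (((MulAut.conjNormal (H := D.N) h⁻¹ n : D.N) : G) * g) * h⁻¹)
      = D.hatR (((MulAut.conjNormal (H := D.N) h⁻¹ n : D.N) : G) * g) := D.hatR_conj _ h
  rw [h1, h2, h3]
  rfl

/-- The linear character correcting `ψ₀`. -/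
noncomputable def ADRData.mu : G → ℂ := fun g => D.mu0 (g ^ adrExp G p)

theorem ADRData.mu_class : IsClassFunction G D.mu := by
  intro g h
  unfold ADRData.mu
  rw [conj_pow]
  exact D.mu0_class _ h

theorem ADRData.mu_elementary (E : Subgroup G) (q : ℕ) (hq : q.Prime) (hE : IsElementary q E) :
    IsGeneralizedCharacter E (fun e : E => D.mu e) := by
  obtain ⟨hm1, hmp, hmn⟩ := adrExp_spec (G := G) p
  set fhom : ↥E →* G :=
    { toFun := fun e => (e : G) ^ adrExp G p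
      map_one' := by simp
      map_mul' := fun a b => by
        have := congrArg Subtype.val (adr_pow_mul_elementary p hm1 hmp hmn E q hq hE a b)
        simpa using this } with hfhom
  have hfapp : ∀ e : ↥E, fhom e = (e : G) ^ adrExp G p := fun e => rfl
  obtain ⟨hNJ, hex⟩ := ad_elementary_map D.hsup D.step D.good_base fhom q hq hE
  have hcard : ¬ p ∣ Nat.card fhom.range := by
    intro hdvd
    obtain ⟨x, hx⟩ := exists_prime_orderOf_dvd_card' p hdvd
    obtain ⟨e, he⟩ := x.2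
    have h1 : orderOf (x : G) = p := by rw [Subgroup.orderOf_coe]; exact hx
    rw [← he, hfapp] at h1
    have h2 : p ∣ orderOf ((e : G) ^ adrExp G p) := by rw [h1]
    exact adrExp_regular p (e : G) h2
  have hJ : ¬ p ∣ D.N.relIndex (D.N ⊔ fhom.range) := D.not_dvd_relIndex_sup _ hcard
  obtain ⟨η, hη⟩ := hex hJ
  obtain ⟨lam, hl, -, -, hmu⟩ := D.mu0_spec hNJ hJ η hη
  set fJ : ↥E →* ↥(D.N ⊔ fhom.range) :=
    fhom.codRestrict (D.N ⊔ fhom.range) (fun e => Subgroup.mem_sup_right ⟨e, rfl⟩) with hfJ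
  have h1 : (fun e : E => D.mu e) = fun e : E => lam (fJ e) := by
    funext e
    exact hmu (fJ e)
  rw [h1]
  have hc : IsCharacter E (fun e : E => lam (fJ e)) :=
    Cfsg.Agent.Lib.Helper79.isCharacter_comp hl.1 fJ
  exact ⟨_, 0, hc, Cfsg.Agent.Lib.Helper3.IsCharacter.zero, by simp⟩

theorem ADRData.mu_gen : IsGeneralizedCharacter G D.mu := by
  have : Fintype G := Fintype.ofFinite _
  exact Cfsg.Agent.Lib.Helper3.isGeneralizedCharacter_of_forall_elementary D.mu_class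
    (fun E q hq hE => D.mu_elementary E q hq hE)

/-- The value of `μ` through the linear factor on a cyclic section. -/
theorem ADRData.mu_eq_lam (g : G) :
    ∃ (lam : ↥(D.N ⊔ Subgroup.zpowers (g ^ adrExp G p)) → ℂ),
      (IsCharacter ↥(D.N ⊔ Subgroup.zpowers (g ^ adrExp G p)) lam ∧ lam 1 = 1) ∧
      D.mu g = lam ⟨g ^ adrExp G p, Subgroup.mem_sup_right (Subgroup.mem_zpowers _)⟩ := by
  have hreg : D.Reg (g ^ adrExp G p) := D.reg_of_regular _ (adrExp_regular p g)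
  obtain ⟨lam, hl, -, -, hmu⟩ := D.mu0_spec le_sup_left hreg (D.psi _ hreg) (D.psi_spec _ hreg)
  exact ⟨lam, hl, hmu ⟨g ^ adrExp G p, Subgroup.mem_sup_right (Subgroup.mem_zpowers _)⟩⟩

theorem adr_linear_mul_conj {H : Type u} [Group H] [Finite H] {lam : H → ℂ}
    (hl : IsCharacter H lam ∧ lam 1 = 1) (x : H) : lam x * conj (lam x) = 1 := by
  rw [← Cfsg.Agent.Lib.Helper3.IsCharacter.inv hl.1 x, ← Cfsg.Agent.Lib.Helper15.linChar_mul hl,
    mul_inv_cancel, hl.2]

theorem ADRData.mu_mul_conj (g : G) : D.mu g * conj (D.mu g) = 1 := by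
  obtain ⟨lam, hl, hval⟩ := D.mu_eq_lam g
  rw [hval]
  exact adr_linear_mul_conj hl _

theorem ADRData.mu_norm [Fintype G] : classInner D.mu D.mu = 1 := by
  unfold classInner
  simp only [D.mu_mul_conj]
  rw [Finset.sum_const, Finset.card_univ, nsmul_eq_mul, mul_one, Nat.card_eq_fintype_card]
  have hG0 : (Fintype.card G : ℂ) ≠ 0 := by
    have : 0 < Fintype.card G := Fintype.card_pos
    exact_mod_cast this.ne'
  exact inv_mul_cancel₀ hG0

theorem ADRData.mu_of_mem (n : G) (hn : n ∈ D.N) : D.mu n = 1 := by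
  obtain ⟨lam, hl, hk, -, hmu⟩ := D.mu0_spec le_rfl D.not_dvd_relIndex_self D.θ
    ⟨D.hθ, fun _ _ _ => rfl⟩
  have hmem : n ^ adrExp G p ∈ D.N := Subgroup.pow_mem _ hn _
  have h1 := hmu ⟨n ^ adrExp G p, hmem⟩
  have h2 := hk ⟨n ^ adrExp G p, hmem⟩ hmem
  unfold ADRData.mu
  exact h1.trans h2

theorem ADRData.mu_one : D.mu 1 = 1 := D.mu_of_mem 1 (Subgroup.one_mem _)

theorem ADRData.mu_irr : IsIrrCharacter G D.mu := by
  have : Fintype G := Fintype.ofFinite _
  apply isIrrCharacter_of_genChar_norm_one D.mu_gen D.mu_norm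
  rw [D.mu_one]
  simp

end

end Cfsg.Agent.Lib.Helper74
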