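import Cfsg.Agent.Lib.Helper74.ADR3b
import Cfsg.Agent.S4708
import Cfsg.Agent.Lib.Helper15.Gallagher
import Cfsg.Agent.Lib.Helper15.GlaubCyc
import Cfsg.Agent.Lib.Helper75.Twist
import Cfsg.Agent.Lib.Helper79.Basic
import Cfsg.Agent.Lib.Helper79.Abelian
import Cfsg.Agent.Lib.Helper79.TI1

set_option autoImplicit false
set_option linter.unusedSectionVars false

namespace Cfsg.Agent.Lib.Helper74

open Cfsg Cfsg.Agent.Lib.Helper81 Cfsg.Agent.Lib.Helper77
open scoped ComplexConjugate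

universe u

section

variable {G : Type u} [Group G]

/-- Indicator of the `p`-regular elements. -/
noncomputable def adrInd (p : ℕ) (x : G) : ℂ := if p ∣ orderOf x then 0 else 1

theorem adrInd_of_regular {p : ℕ} {x : G} (hx : ¬ p ∣ orderOf x) : adrInd p x = 1 := if_neg hx

theorem adrInd_of_dvd {p : ℕ} {x : G} (hx : p ∣ orderOf x) : adrInd p x = 0 := if_pos hx

theorem adr_not_dvd_one (p : ℕ) [Fact p.Prime] : ¬ p ∣ 1 :=
  (Fact.out : p.Prime).one_lt.ne' ∘ Nat.dvd_one.mp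

theorem adrInd_one (p : ℕ) [Fact p.Prime] : adrInd p (1 : G) = 1 := by
  apply adrInd_of_regular
  rw [orderOf_one]
  exact adr_not_dvd_one p

theorem adrInd_coe (p : ℕ) (J : Subgroup G) (x : J) : adrInd p (x : G) = adrInd p x := by
  unfold adrInd
  rw [Subgroup.orderOf_coe]

theorem adr_pTilde_inner (p : ℕ) [Fintype G] (ξ : G → ℂ) :
    classInner (pTilde p (fun _ : G => (1 : ℂ))) ξ =
      (Nat.card G : ℂ)⁻¹ * (((p ^ (Nat.card G).factorization p : ℕ) : ℂ) *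
        ∑ y : G, adrInd p y * conj (ξ y)) := by
  unfold classInner
  congr 1
  rw [Finset.mul_sum]
  apply Finset.sum_congr rfl
  intro y _
  rw [pTilde_apply]
  unfold adrInd
  split_ifs
  · ring
  · ring

theorem adr_mem_principal_iff [Fintype G] (p : ℕ) [Fact p.Prime] (M : Ideal AlgInt)
    (hM : IsPModular p M) (ξ : IrrCharacter G) :
    ξ ∈ principalBlock M G ↔ ∑ y : G, adrInd p y * conj ((ξ : G → ℂ) y) ≠ 0 := by
  have : Finite (IrrCharacter G) := Cfsg.Agent.Lib.Helper3.irrCharacter_finite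
  have : Fintype (IrrCharacter G) := Fintype.ofFinite _
  rw [Cfsg.Agent.S4708.mem_principalBlock_iff_pTilde p M hM ξ, adr_pTilde_inner]
  have hG0 : (Nat.card G : ℂ)⁻¹ ≠ 0 := by
    apply inv_ne_zero
    have : 0 < Nat.card G := Nat.card_pos
    exact_mod_cast this.ne'
  have hp0 : ((p ^ (Nat.card G).factorization p : ℕ) : ℂ) ≠ 0 := by
    have : 0 < p ^ (Nat.card G).factorization p := pow_pos (Fact.out : p.Prime).pos _
    exact_mod_cast this.ne'
  constructor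
  · intro h h0
    apply h
    rw [h0, mul_zero, mul_zero]
  · intro h h0
    rcases mul_eq_zero.mp h0 with h1 | h1
    · exact hG0 h1
    · rcases mul_eq_zero.mp h1 with h2 | h2
      · exact hp0 h2
      · exact h h2

open Classical in
theorem adr_sum_subtype [Fintype G] (J : Subgroup G) [Fintype J] (F : G → ℂ) :
    ∑ y : J, F y = ∑ g : G, if g ∈ J then F g else 0 := by
  rw [← Finset.sum_filter]
  symm
  apply Finset.sum_subtype
  intro x
  simp

end

section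

open Cfsg.Agent.Lib.Helper15

/-- If `Γ / N` is cyclic and the only twist of `η` by a linear character of `Γ / N` seen by `ψ` is
`η` itself, the coset average of `ψ conj η` is constant. -/
theorem adr_cosetAvg_const {Γ : Type u} [Group Γ] [Fintype Γ] (N : Subgroup Γ) [N.Normal]
    [Fintype N] (a : Γ) (hgen : ∀ x : Γ, ∃ k : ℕ, x * a ^ k ∈ N)
    {η : Γ → ℂ} (hη : IsIrrCharacter Γ η)
    {ψ : Γ → ℂ} (hψ : IsClassFunction Γ ψ)
    (huniq : ∀ φ : IrrCharacter Γ,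
      (∀ (n : N) (g : Γ), (φ : Γ → ℂ) ((n : Γ) * g) = (φ : Γ → ℂ) g) →
      (φ : Γ → ℂ) 1 = 1 → classInner ψ ((φ : Γ → ℂ) * η) ≠ 0 → (φ : Γ → ℂ) = fun _ => 1)
    (g : Γ) : cosetAvg N ψ η g = classInner ψ η := by
  classical
  have : Finite (IrrCharacter Γ) := Cfsg.Agent.Lib.Helper3.irrCharacter_finite
  have : Fintype (IrrCharacter Γ) := Fintype.ofFinite _
  have hηc := Cfsg.Agent.Lib.Helper3.IsIrrCharacter.isCharacter hη
  rw [cosetAvg_eq_sum N hηc hψ]
  have hz : ∀ x : Γ ⧸ N, ∃ i : ℤ, (QuotientGroup.mk a : Γ ⧸ N) ^ i = x := by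
    intro x
    obtain ⟨g, rfl⟩ := QuotientGroup.mk_surjective x
    obtain ⟨k, hk⟩ := hgen g
    refine ⟨-(k : ℤ), ?_⟩
    have h1 : (QuotientGroup.mk (g * a ^ k) : Γ ⧸ N) = 1 := (QuotientGroup.eq_one_iff _).2 hk
    rw [QuotientGroup.mk_mul, QuotientGroup.mk_pow] at h1
    rw [zpow_neg, zpow_natCast]
    exact (eq_inv_of_mul_eq_one_left h1).symm
  have hcomm : IsMulCommutative (Γ ⧸ N) := ⟨⟨fun x y => by
    obtain ⟨i, rfl⟩ := hz x
    obtain ⟨j, rfl⟩ := hz y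
    rw [← zpow_add, ← zpow_add, add_comm]⟩⟩
  have hlin : ∀ φ : IrrCharacter Γ,
      (∀ (n : N) (g : Γ), (φ : Γ → ℂ) ((n : Γ) * g) = (φ : Γ → ℂ) g) → (φ : Γ → ℂ) 1 = 1 := by
    intro φ hφ
    obtain ⟨ψ', hψ', hval⟩ := Cfsg.Agent.Lib.Helper79.isIrrCharacter_deflate φ.2 N
      (fun x hx => by have := hφ ⟨x, hx⟩ 1; simpa using this)
    have := Cfsg.Agent.Lib.Helper79.irr_one_eq_one_of_comm ⟨ψ', hψ'⟩
    rw [← hval 1]
    exact this
  have htriv : IsIrrCharacter Γ (fun _ => (1 : ℂ)) := by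
    have := Cfsg.Agent.Lib.Helper79.isIrrCharacter_of_monoidHom (1 : Γ →* ℂˣ)
    simpa using this
  rw [Finset.sum_apply, Finset.sum_eq_single_of_mem (⟨fun _ => (1 : ℂ), htriv⟩ : IrrCharacter Γ)]
  · simp only [Pi.smul_apply, smul_eq_mul, mul_one]
    have h1 : ((fun _ => (1 : ℂ)) * η : Γ → ℂ) = η := by
      funext g
      simp
    rw [h1]
  · rw [Finset.mem_filter]
    exact ⟨Finset.mem_univ _, fun _ _ => rfl⟩
  · intro φ hφmem hφne
    have hφ := (Finset.mem_filter.1 hφmem).2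
    have hφ1 := hlin φ hφ
    by_cases h0 : classInner ψ ((φ : Γ → ℂ) * η) = 0
    · rw [Pi.smul_apply, h0, zero_smul]
    · exfalso
      apply hφne
      apply Subtype.ext
      exact huniq φ hφ hφ1 h0

end

section

variable {G : Type u} [Group G] {p : ℕ} {M : Ideal AlgInt}

variable [Finite G] [Fact p.Prime] (D : ADRData G p M)

variable [Fintype D.N]

theorem ADRData.chi_regular (y : G) (hy : ¬ p ∣ orderOf y) :
    (D.ψ₀ : G → ℂ) y * conj (D.mu y) = D.hatR y := by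
  have hreg : D.Reg y := D.reg_of_regular y hy
  have hyJ : y ∈ D.N ⊔ Subgroup.zpowers y := Subgroup.mem_sup_right (Subgroup.mem_zpowers y)
  obtain ⟨lam, hl, -, hψ, hmu⟩ := D.mu0_spec le_sup_left hreg (D.psi y hreg) (D.psi_spec y hreg)
  have h1 : D.mu y = lam ⟨y, hyJ⟩ := by
    unfold ADRData.mu
    rw [adrExp_of_regular p y hy]
    exact hmu ⟨y, hyJ⟩
  have h2 : (D.ψ₀ : G → ℂ) y
      = lam ⟨y, hyJ⟩ * (D.psi y hreg : ↥(D.N ⊔ Subgroup.zpowers y) → ℂ) ⟨y, hyJ⟩ := hψ ⟨y, hyJ⟩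
  have h3 := D.hatR_eq le_sup_left hreg (D.psi y hreg) (D.psi_spec y hreg) y hyJ
  have h4 := adr_linear_mul_conj hl ⟨y, hyJ⟩
  rw [h1, h2, h3]
  calc lam ⟨y, hyJ⟩ * D.hatR y * conj (lam ⟨y, hyJ⟩)
      = (lam ⟨y, hyJ⟩ * conj (lam ⟨y, hyJ⟩)) * D.hatR y := by ring
    _ = D.hatR y := by rw [h4, one_mul]

/-- The sum of `conj θ` over the `p`-regular elements of `N` does not vanish. -/
theorem ADRData.tau_ne_zero :
    ∑ n : D.N, adrInd p (n : G) * conj (D.hatR (n : G)) ≠ 0 := by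
  have h1 := (adr_mem_principal_iff p M D.hM D.θ).mp D.hθ
  have h2 : ∑ n : D.N, adrInd p (n : G) * conj (D.hatR (n : G))
      = ∑ n : D.N, adrInd p n * conj ((D.θ : D.N → ℂ) n) := by
    apply Finset.sum_congr rfl
    intro n _
    rw [adrInd_coe, D.hatR_restrict (n : G) n.2]
  rw [h2]
  exact h1

/-- Transfer of a coset sum in the section `N ⊔ ⟨y⟩` to `G`. -/
theorem ADRData.coset_sum_transfer (y : G) (hreg : D.Reg y)
    [Fintype ↥(D.N.subgroupOf (D.N ⊔ Subgroup.zpowers y))]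
    (g : ↥(D.N ⊔ Subgroup.zpowers y)) :
    ∑ k : ↥(D.N.subgroupOf (D.N ⊔ Subgroup.zpowers y)),
        pTilde p (fun _ : ↥(D.N ⊔ Subgroup.zpowers y) => (1 : ℂ)) ((k : ↥(D.N ⊔ Subgroup.zpowers y)) * g)
          * conj ((D.psi y hreg : ↥(D.N ⊔ Subgroup.zpowers y) → ℂ)
              ((k : ↥(D.N ⊔ Subgroup.zpowers y)) * g))
      = ((p ^ (Nat.card ↥(D.N ⊔ Subgroup.zpowers y)).factorization p : ℕ) : ℂ) *
        ∑ n : D.N, adrInd p ((n : G) * (g : G)) * conj (D.hatR ((n : G) * (g : G))) := by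
  have hNJ : D.N ≤ D.N ⊔ Subgroup.zpowers y := le_sup_left
  set e : ↥(D.N.subgroupOf (D.N ⊔ Subgroup.zpowers y)) ≃* ↥D.N :=
    Subgroup.subgroupOfEquivOfLe hNJ with he
  rw [Finset.mul_sum]
  apply Fintype.sum_equiv e.toEquiv
  intro k
  have hk : ((e k : D.N) : G) * (g : G) ∈ D.N ⊔ Subgroup.zpowers y :=
    Subgroup.mul_mem _ (hNJ (e k).2) g.2
  have h4 := D.hatR_eq hNJ hreg (D.psi y hreg) (D.psi_spec y hreg) (((e k : D.N) : G) * (g : G)) hk
  have h5 : ((k : ↥(D.N ⊔ Subgroup.zpowers y)) * g) = ⟨((e k : D.N) : G) * (g : G), hk⟩ := rfl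
  show _ = ((p ^ (Nat.card ↥(D.N ⊔ Subgroup.zpowers y)).factorization p : ℕ) : ℂ) *
    (adrInd p (((e k : D.N) : G) * (g : G)) * conj (D.hatR (((e k : D.N) : G) * (g : G))))
  rw [h5, h4, pTilde_apply]
  have h6 : orderOf (⟨((e k : D.N) : G) * (g : G), hk⟩ : ↥(D.N ⊔ Subgroup.zpowers y))
      = orderOf (((e k : D.N) : G) * (g : G)) := by
    rw [← Subgroup.orderOf_coe]
  rw [h6]
  unfold adrInd
  split_ifs
  · ring
  · ring

/-- The coset sums of `conj θ̂` over the `p`-regular elements agree on all cosets containing a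
`p`-regular element. -/
theorem ADRData.coset_const (y : G) (hy : ¬ p ∣ orderOf y) :
    ∑ n : D.N, adrInd p ((n : G) * y) * conj (D.hatR ((n : G) * y))
      = ∑ n : D.N, adrInd p (n : G) * conj (D.hatR (n : G)) := by
  classical
  have hreg : D.Reg y := D.reg_of_regular y hy
  have hNJ : D.N ≤ D.N ⊔ Subgroup.zpowers y := le_sup_left
  have hyJ : y ∈ D.N ⊔ Subgroup.zpowers y := Subgroup.mem_sup_right (Subgroup.mem_zpowers y)
  have hη : ADGoodExt M D.N (D.θ : D.N → ℂ) (D.N ⊔ Subgroup.zpowers y) (D.psi y hreg) :=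
    D.psi_spec y hreg
  have : Fintype ↥(D.N ⊔ Subgroup.zpowers y) := Fintype.ofFinite _
  have : Fintype ↥(D.N.subgroupOf (D.N ⊔ Subgroup.zpowers y)) := Fintype.ofFinite _
  have : Finite (IrrCharacter ↥(D.N ⊔ Subgroup.zpowers y)) :=
    Cfsg.Agent.Lib.Helper3.irrCharacter_finite
  have : Fintype (IrrCharacter ↥(D.N ⊔ Subgroup.zpowers y)) := Fintype.ofFinite _
  set e : ↥(D.N.subgroupOf (D.N ⊔ Subgroup.zpowers y)) ≃* ↥D.N :=
    Subgroup.subgroupOfEquivOfLe hNJ with he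
  have hθ' : IsIrrCharacter ↥(D.N.subgroupOf (D.N ⊔ Subgroup.zpowers y))
      (fun k => (D.θ : D.N → ℂ) (e k)) :=
    Cfsg.Agent.Lib.Helper79.isIrrCharacter_comp_surjective D.θ.2 e.toMonoidHom e.surjective
  have hres : (fun k : ↥(D.N.subgroupOf (D.N ⊔ Subgroup.zpowers y)) =>
      (D.psi y hreg : ↥(D.N ⊔ Subgroup.zpowers y) → ℂ) k) = fun k => (D.θ : D.N → ℂ) (e k) := by
    funext k
    exact hη.2 (k : ↥(D.N ⊔ Subgroup.zpowers y)) (Subgroup.mem_subgroupOf.mp k.2)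
      (k : ↥(D.N ⊔ Subgroup.zpowers y)).2
  have hηN : IsIrrCharacter ↥(D.N.subgroupOf (D.N ⊔ Subgroup.zpowers y))
      (fun k => (D.psi y hreg : ↥(D.N ⊔ Subgroup.zpowers y) → ℂ) k) := by
    rw [hres]
    exact hθ'
  have hgen : ∀ x : ↥(D.N ⊔ Subgroup.zpowers y),
      ∃ k : ℕ, x * (⟨y, hyJ⟩ : ↥(D.N ⊔ Subgroup.zpowers y)) ^ k
        ∈ D.N.subgroupOf (D.N ⊔ Subgroup.zpowers y) := by
    intro x
    have hx : ((x : G) : G ⧸ D.N) ∈ Subgroup.zpowers ((y : G) : G ⧸ D.N) := by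
      have := (ad_mem_sup_iff (N := D.N) (Subgroup.zpowers y) (x : G)).mp x.2
      rwa [MonoidHom.map_zpowers] at this
    obtain ⟨k, hk⟩ := ad_gen_of_mk_mem hx
    refine ⟨k, ?_⟩
    rw [Subgroup.mem_subgroupOf]
    simpa using hk
  have hψcl : IsClassFunction ↥(D.N ⊔ Subgroup.zpowers y)
      (pTilde p (fun _ : ↥(D.N ⊔ Subgroup.zpowers y) => (1 : ℂ))) :=
    pTilde_isClassFunction p (fun _ _ => rfl)
  have htriv : IsIrrCharacter ↥(D.N ⊔ Subgroup.zpowers y) (fun _ => (1 : ℂ)) := by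
    have := Cfsg.Agent.Lib.Helper79.isIrrCharacter_of_monoidHom
      (1 : ↥(D.N ⊔ Subgroup.zpowers y) →* ℂˣ)
    simpa using this
  have huniq : ∀ φ : IrrCharacter ↥(D.N ⊔ Subgroup.zpowers y),
      (∀ (n : ↥(D.N.subgroupOf (D.N ⊔ Subgroup.zpowers y))) (g : ↥(D.N ⊔ Subgroup.zpowers y)),
        (φ : ↥(D.N ⊔ Subgroup.zpowers y) → ℂ) ((n : ↥(D.N ⊔ Subgroup.zpowers y)) * g)
          = (φ : ↥(D.N ⊔ Subgroup.zpowers y) → ℂ) g) →
      (φ : ↥(D.N ⊔ Subgroup.zpowers y) → ℂ) 1 = 1 →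
      classInner (pTilde p (fun _ : ↥(D.N ⊔ Subgroup.zpowers y) => (1 : ℂ)))
        ((φ : ↥(D.N ⊔ Subgroup.zpowers y) → ℂ)
          * (D.psi y hreg : ↥(D.N ⊔ Subgroup.zpowers y) → ℂ)) ≠ 0 →
      (φ : ↥(D.N ⊔ Subgroup.zpowers y) → ℂ) = fun _ => 1 := by
    intro φ hφN hφ1 hne
    have hirr : IsIrrCharacter ↥(D.N ⊔ Subgroup.zpowers y)
        ((φ : ↥(D.N ⊔ Subgroup.zpowers y) → ℂ)
          * (D.psi y hreg : ↥(D.N ⊔ Subgroup.zpowers y) → ℂ)) :=
      Cfsg.Agent.Lib.Helper15.isIrrCharacter_mul_ext (D.N.subgroupOf (D.N ⊔ Subgroup.zpowers y))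
        (D.psi y hreg).2 hηN φ.2 hφN
    have hmem : (⟨_, hirr⟩ : IrrCharacter ↥(D.N ⊔ Subgroup.zpowers y))
        ∈ principalBlock M ↥(D.N ⊔ Subgroup.zpowers y) :=
      (Cfsg.Agent.S4708.mem_principalBlock_iff_pTilde p M D.hM ⟨_, hirr⟩).mpr hne
    have hgood : ADGoodExt M D.N (D.θ : D.N → ℂ) (D.N ⊔ Subgroup.zpowers y) ⟨_, hirr⟩ := by
      refine ⟨hmem, ?_⟩
      intro n hn hnJ
      show (φ : ↥(D.N ⊔ Subgroup.zpowers y) → ℂ) ⟨n, hnJ⟩
        * (D.psi y hreg : ↥(D.N ⊔ Subgroup.zpowers y) → ℂ) ⟨n, hnJ⟩ = _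
      have h1 := hφN ⟨⟨n, hnJ⟩, Subgroup.mem_subgroupOf.mpr hn⟩ 1
      rw [mul_one] at h1
      have h2 : (φ : ↥(D.N ⊔ Subgroup.zpowers y) → ℂ) ⟨n, hnJ⟩ = 1 := h1.trans hφ1
      rw [h2, one_mul]
      exact hη.2 n hn hnJ
    have heq : ∀ x : ↥(D.N ⊔ Subgroup.zpowers y),
        ((φ : ↥(D.N ⊔ Subgroup.zpowers y) → ℂ)
          * (D.psi y hreg : ↥(D.N ⊔ Subgroup.zpowers y) → ℂ)) x
        = (D.psi y hreg : ↥(D.N ⊔ Subgroup.zpowers y) → ℂ) x := by
      intro x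
      exact adr_unique D.hM D.N D.P₀ D.hPN D.hPidx D.hsup (D.θ : D.N → ℂ) D.θ.2 hNJ le_rfl hreg
        ⟨_, hirr⟩ hgood (D.psi y hreg) hη (x : G) x.2
    apply Cfsg.Agent.Lib.Helper15.mul_ext_injective (D.N.subgroupOf (D.N ⊔ Subgroup.zpowers y))
      (D.psi y hreg).2 hηN φ.2 hφN htriv (fun _ _ => rfl)
    funext x
    rw [heq x]
    simp
  have hconst := fun g => adr_cosetAvg_const (D.N.subgroupOf (D.N ⊔ Subgroup.zpowers y))
    (⟨y, hyJ⟩ : ↥(D.N ⊔ Subgroup.zpowers y)) hgen (D.psi y hreg).2 hψcl huniq g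
  have h1 := hconst ⟨y, hyJ⟩
  have h2 := hconst 1
  have h3 := h1.trans h2.symm
  unfold Cfsg.Agent.Lib.Helper15.cosetAvg at h3
  have hN0 : (Nat.card ↥(D.N.subgroupOf (D.N ⊔ Subgroup.zpowers y)) : ℂ)⁻¹ ≠ 0 := by
    apply inv_ne_zero
    have : 0 < Nat.card ↥(D.N.subgroupOf (D.N ⊔ Subgroup.zpowers y)) := Nat.card_pos
    exact_mod_cast this.ne'
  have h4 := mul_left_cancel₀ hN0 h3
  rw [D.coset_sum_transfer y hreg ⟨y, hyJ⟩, D.coset_sum_transfer y hreg 1] at h4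
  have hp0 : ((p ^ (Nat.card ↥(D.N ⊔ Subgroup.zpowers y)).factorization p : ℕ) : ℂ) ≠ 0 := by
    have : 0 < p ^ (Nat.card ↥(D.N ⊔ Subgroup.zpowers y)).factorization p :=
      pow_pos (Fact.out : p.Prime).pos _
    exact_mod_cast this.ne'
  have h5 := mul_left_cancel₀ hp0 h4
  simpa using h5

open Classical in
/-- The sum of `conj θ̂` over the `p`-regular elements of any `J ≥ N` does not vanish. -/
theorem ADRData.sum_ne_zero [Fintype G] (J : Subgroup G) (hNJ : D.N ≤ J) :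
    ∑ g : G, (if g ∈ J then adrInd p g * conj (D.hatR g) else 0) ≠ 0 := by
  set f : G → ℂ := fun g => if g ∈ J then adrInd p g * conj (D.hatR g) else 0 with hf
  set τ : ℂ := ∑ n : D.N, adrInd p (n : G) * conj (D.hatR (n : G)) with hτ
  have hτ0 : τ ≠ 0 := D.tau_ne_zero
  have h1 := Cfsg.Agent.Lib.Helper15.sum_coset_avg D.N f
  have hT : ∀ g : G, ∑ n : D.N, f ((n : G) * g)
      = if (g ∈ J ∧ ∃ n₀ : D.N, ¬ p ∣ orderOf ((n₀ : G) * g)) then τ else 0 := by
    intro g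
    by_cases hg : g ∈ J
    · have hmem : ∀ n : D.N, (n : G) * g ∈ J := fun n => J.mul_mem (hNJ n.2) hg
      have hfe : ∀ n : D.N, f ((n : G) * g)
          = adrInd p ((n : G) * g) * conj (D.hatR ((n : G) * g)) := by
        intro n
        rw [hf]
        exact if_pos (hmem n)
      simp only [hfe]
      by_cases hex : ∃ n₀ : D.N, ¬ p ∣ orderOf ((n₀ : G) * g)
      · rw [if_pos ⟨hg, hex⟩]
        obtain ⟨n₀, hn₀⟩ := hex
        rw [hτ, ← D.coset_const ((n₀ : G) * g) hn₀]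
        symm
        apply Fintype.sum_equiv (Equiv.mulRight n₀)
        intro n
        have h2 : (((Equiv.mulRight n₀) n : D.N) : G) * g = (n : G) * ((n₀ : G) * g) := by
          show ((n * n₀ : D.N) : G) * g = _
          rw [Subgroup.coe_mul, mul_assoc]
        rw [h2]
      · rw [if_neg (fun h => hex h.2)]
        push Not at hex
        apply Finset.sum_eq_zero
        intro n _
        rw [adrInd_of_dvd (hex n), zero_mul]
    · rw [if_neg (fun h => hg h.1)]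
      apply Finset.sum_eq_zero
      intro n _
      rw [hf]
      apply if_neg
      intro hmem
      apply hg
      have h2 : g = (n : G)⁻¹ * ((n : G) * g) := by group
      rw [h2]
      exact J.mul_mem (J.inv_mem (hNJ n.2)) hmem
  simp only [hT] at h1
  rw [← Finset.sum_filter, Finset.sum_const, nsmul_eq_mul] at h1
  intro h0
  rw [h0, mul_zero] at h1
  rcases mul_eq_zero.mp h1 with h2 | h2
  · have h3 : (Finset.univ.filter
        (fun g : G => g ∈ J ∧ ∃ n₀ : D.N, ¬ p ∣ orderOf ((n₀ : G) * g))).card = 0 := by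
      exact_mod_cast h2
    rw [Finset.card_eq_zero] at h3
    have h4 : (1 : G) ∈ Finset.univ.filter
        (fun g : G => g ∈ J ∧ ∃ n₀ : D.N, ¬ p ∣ orderOf ((n₀ : G) * g)) := by
      rw [Finset.mem_filter]
      refine ⟨Finset.mem_univ _, J.one_mem, 1, ?_⟩
      rw [Subgroup.coe_one, mul_one, orderOf_one]
      exact adr_not_dvd_one p
    rw [h3] at h4
    exact absurd h4 (Finset.notMem_empty _)
  · exact hτ0 h2

end

section

variable {G : Type u} [Group G] {p : ℕ} {M : Ideal AlgInt}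

variable [Finite G] [Fact p.Prime] (D : ADRData G p M)

/-- The main theorem in the relative Alperin--Dade situation. -/
theorem ADRData.main :
    ∃ χ : IrrCharacter G, χ ∈ principalBlock M G ∧
      (∀ x : D.N, (χ : G → ℂ) x = (D.θ : D.N → ℂ) x) ∧
      ∀ J : Subgroup G, D.N ≤ J → ∃ ξ : IrrCharacter ↥J, ξ ∈ principalBlock M ↥J ∧
        ∀ y : ↥J, (ξ : ↥J → ℂ) y = (χ : G → ℂ) y := by
  classical
  have : Fintype G := Fintype.ofFinite _
  have : Fintype D.N := Fintype.ofFinite _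
  have hμirr : IsIrrCharacter G D.mu := D.mu_irr
  have hμc : IsCharacter G (fun g => conj (D.mu g)) :=
    Cfsg.Agent.Lib.Helper3.IsCharacter.conj (Cfsg.Agent.Lib.Helper3.IsIrrCharacter.isCharacter hμirr)
  have hμ1 : (fun g => conj (D.mu g)) 1 = 1 := by
    show conj (D.mu 1) = 1
    rw [D.mu_one, map_one]
  have hirr : IsIrrCharacter G ((D.ψ₀ : G → ℂ) * fun g => conj (D.mu g)) :=
    Cfsg.Agent.Lib.Helper75.isIrrCharacter_mul_of_linear hμc hμ1 D.ψ₀.2
  have hval : ∀ g : G, ((D.ψ₀ : G → ℂ) * fun g => conj (D.mu g)) g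
      = (D.ψ₀ : G → ℂ) g * conj (D.mu g) := fun g => rfl
  have hχN : ∀ x : D.N, ((D.ψ₀ : G → ℂ) * fun g => conj (D.mu g)) x = (D.θ : D.N → ℂ) x := by
    intro x
    rw [hval, D.mu_of_mem (x : G) x.2, map_one, mul_one]
    exact D.hψ₀ x
  have hχreg : ∀ y : G, ¬ p ∣ orderOf y →
      ((D.ψ₀ : G → ℂ) * fun g => conj (D.mu g)) y = D.hatR y := by
    intro y hy
    rw [hval]
    exact D.chi_regular y hy
  have hterm : ∀ y : G, adrInd p y * conj (((D.ψ₀ : G → ℂ) * fun g => conj (D.mu g)) y)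
      = adrInd p y * conj (D.hatR y) := by
    intro y
    by_cases hy : p ∣ orderOf y
    · rw [adrInd_of_dvd hy, zero_mul, zero_mul]
    · rw [hχreg y hy]
  refine ⟨⟨_, hirr⟩, ?_, hχN, ?_⟩
  · rw [adr_mem_principal_iff p M D.hM]
    have h1 := D.sum_ne_zero ⊤ le_top
    have h2 : ∑ g : G, (if g ∈ (⊤ : Subgroup G) then adrInd p g * conj (D.hatR g) else 0)
        = ∑ g : G, adrInd p g * conj (((D.ψ₀ : G → ℂ) * fun g => conj (D.mu g)) g) := by
      apply Finset.sum_congr rfl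
      intro g _
      rw [if_pos (Subgroup.mem_top g), hterm]
    rw [h2] at h1
    exact h1
  · intro J hNJ
    have : Fintype ↥J := Fintype.ofFinite _
    have : Fintype ↥(D.N.subgroupOf J) := Fintype.ofFinite _
    set e : ↥(D.N.subgroupOf J) ≃* ↥D.N := Subgroup.subgroupOfEquivOfLe hNJ with he
    have hθ' : IsIrrCharacter ↥(D.N.subgroupOf J) (fun k => (D.θ : D.N → ℂ) (e k)) :=
      Cfsg.Agent.Lib.Helper79.isIrrCharacter_comp_surjective D.θ.2 e.toMonoidHom e.surjective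
    have hξc : IsCharacter ↥J (fun y : ↥J => ((D.ψ₀ : G → ℂ) * fun g => conj (D.mu g)) (J.subtype y)) :=
      Cfsg.Agent.Lib.Helper79.isCharacter_comp
        (Cfsg.Agent.Lib.Helper3.IsIrrCharacter.isCharacter hirr) J.subtype
    have hres : (fun k : ↥(D.N.subgroupOf J) =>
        (fun y : ↥J => ((D.ψ₀ : G → ℂ) * fun g => conj (D.mu g)) (J.subtype y)) k)
        = fun k => (D.θ : D.N → ℂ) (e k) := by
      funext k
      exact hχN (e k)
    have hξirr : IsIrrCharacter ↥J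
        (fun y : ↥J => ((D.ψ₀ : G → ℂ) * fun g => conj (D.mu g)) (J.subtype y)) := by
      apply Cfsg.Agent.Lib.Helper79.isIrrCharacter_of_restrict_irr (D.N.subgroupOf J) hξc
      rw [hres]
      exact hθ'
    refine ⟨⟨_, hξirr⟩, ?_, fun y => rfl⟩
    rw [adr_mem_principal_iff p M D.hM]
    have h1 := D.sum_ne_zero J hNJ
    rw [← adr_sum_subtype J (fun g => adrInd p g * conj (D.hatR g))] at h1
    have h2 : ∑ y : ↥J, adrInd p (y : G) * conj (D.hatR (y : G))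
        = ∑ y : ↥J, adrInd p y * conj (((⟨_, hξirr⟩ : IrrCharacter ↥J) : ↥J → ℂ) y) := by
      apply Finset.sum_congr rfl
      intro y _
      rw [← adrInd_coe]
      exact (hterm (y : G)).symm
    rw [h2] at h1
    exact h1

end

end Cfsg.Agent.Lib.Helper74
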