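import Mathlib
import Cfsg.Agent.Lib.Helper81.Ah.Defs

/-! # Ah hive (S2272, owner helper81): leaf AH-NC (helper74) -/

set_option autoImplicit false

namespace Cfsg.Agent.Lib.Helper81.Ah

open Matrix Cfsg.Agent.Lib.Helper81.Mi

variable {F : Type*} [Field F] {n : ℕ}

/-- AH-NC: a non-central element of `SL_n` is not a scalar matrix. -/
theorem not_scalar_of_not_mem_center (A : SLn n F) (hA : A ∉ Subgroup.center (SLn n F)) :
    ∀ c : F, (A : Matrix (Fin n) (Fin n) F) ≠ Matrix.scalar (Fin n) c := by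
  intro c hc
  apply hA
  rw [Subgroup.mem_center_iff]
  intro g
  apply Subtype.ext
  rw [Matrix.SpecialLinearGroup.coe_mul, Matrix.SpecialLinearGroup.coe_mul, hc]
  exact ((Matrix.scalar_commute c (fun r => mul_comm c r) (g : Matrix (Fin n) (Fin n) F)).eq).symm

end Cfsg.Agent.Lib.Helper81.Ah
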