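import Mathlib
import Cfsg.Agent.Lib.Helper81.Ah.Defs

/-! # Ah hive (S2272, owner helper81): leaf AH-PSL (helper74) -/

set_option autoImplicit false

namespace Cfsg.Agent.Lib.Helper81.Ah

open Matrix Cfsg.Agent.Lib.Helper81.Mi

variable {F : Type*} [Field F] {n : ℕ}

/-- AH-PSL: conjugacy in `PSL` gives equality of traces up to a non-zero scalar. -/
theorem trace_of_isConj (A B g h : SLn n F)
    (hc : IsConj
      (((A : SLn n F) : Matrix.ProjectiveSpecialLinearGroup (Fin n) F) * (B : SLn n F))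
      (((g : SLn n F) : Matrix.ProjectiveSpecialLinearGroup (Fin n) F) * (A : SLn n F) *
          ((g : SLn n F) : Matrix.ProjectiveSpecialLinearGroup (Fin n) F)⁻¹ *
        (((h : SLn n F) : Matrix.ProjectiveSpecialLinearGroup (Fin n) F) * (B : SLn n F) *
          ((h : SLn n F) : Matrix.ProjectiveSpecialLinearGroup (Fin n) F)⁻¹))) :
    ∃ ζ : F, ζ ≠ 0 ∧
      Matrix.trace (((g * A * g⁻¹ : SLn n F) : Matrix (Fin n) (Fin n) F) *
          ((h * B * h⁻¹ : SLn n F) : Matrix (Fin n) (Fin n) F)) =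
        ζ * Matrix.trace ((A : Matrix (Fin n) (Fin n) F) * (B : Matrix (Fin n) (Fin n) F)) := by
  rw [isConj_iff] at hc
  obtain ⟨c, hc⟩ := hc
  obtain ⟨C, rfl⟩ := QuotientGroup.mk_surjective c
  have h1 : ((C * (A * B) * C⁻¹ : SLn n F) : Matrix.ProjectiveSpecialLinearGroup (Fin n) F) =
      ((g * A * g⁻¹ * (h * B * h⁻¹) : SLn n F) : Matrix.ProjectiveSpecialLinearGroup (Fin n) F) := by
    simpa only [QuotientGroup.mk_mul, QuotientGroup.mk_inv] using hc
  rw [QuotientGroup.eq, Matrix.SpecialLinearGroup.mem_center_iff] at h1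
  obtain ⟨r, hr, hrz⟩ := h1
  -- the product is `C (A B) C⁻¹` times the scalar `r`
  have h2 : (g * A * g⁻¹ * (h * B * h⁻¹) : SLn n F) =
      (C * (A * B) * C⁻¹) * ((C * (A * B) * C⁻¹)⁻¹ * (g * A * g⁻¹ * (h * B * h⁻¹))) := by
    rw [mul_inv_cancel_left]
  have h3 : ((g * A * g⁻¹ : SLn n F) : Matrix (Fin n) (Fin n) F) *
      ((h * B * h⁻¹ : SLn n F) : Matrix (Fin n) (Fin n) F) =
      ((C * (A * B) * C⁻¹ : SLn n F) : Matrix (Fin n) (Fin n) F) * Matrix.scalar (Fin n) r := by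
    rw [← Matrix.SpecialLinearGroup.coe_mul, h2, Matrix.SpecialLinearGroup.coe_mul, ← hrz]
  by_cases hr0 : r = 0
  · -- then `n = 0` and both traces vanish
    subst hr0
    have hn : n = 0 := by
      by_contra hn
      rw [Fintype.card_fin, zero_pow hn] at hr
      exact zero_ne_one hr
    subst hn
    refine ⟨1, one_ne_zero, ?_⟩
    simp [Matrix.trace]
  · refine ⟨r, hr0, ?_⟩
    rw [h3]
    have h4 : ((C * (A * B) * C⁻¹ : SLn n F) : Matrix (Fin n) (Fin n) F) =
        (C : Matrix (Fin n) (Fin n) F) * ((A : Matrix (Fin n) (Fin n) F) * (B : Matrix (Fin n) (Fin n) F)) *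
          ((C⁻¹ : SLn n F) : Matrix (Fin n) (Fin n) F) := by
      simp only [Matrix.SpecialLinearGroup.coe_mul]
    have h5 : ((C⁻¹ : SLn n F) : Matrix (Fin n) (Fin n) F) * (C : Matrix (Fin n) (Fin n) F) = 1 := by
      rw [← Matrix.SpecialLinearGroup.coe_mul, inv_mul_cancel, Matrix.SpecialLinearGroup.coe_one]
    have h6 : Matrix.scalar (Fin n) r = r • (1 : Matrix (Fin n) (Fin n) F) := by
      ext i j
      simp [Matrix.scalar_apply, Matrix.diagonal_apply, Matrix.one_apply]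
    rw [h6, Matrix.mul_smul, Matrix.mul_one, Matrix.trace_smul, smul_eq_mul, h4,
      Matrix.trace_mul_cycle, h5, Matrix.one_mul]

end Cfsg.Agent.Lib.Helper81.Ah
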