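import Cfsg.Agent.Lib.Helper74.FS7

set_option autoImplicit false

namespace Cfsg.Agent.Lib.Helper74

open scoped ComplexConjugate

section
variable {G : Type*} [Group G] [Fintype G]

theorem sq_eq_one_iff (s : G) : s * s = 1 ↔ s = 1 ∨ orderOf s = 2 := by
  constructor
  · intro h
    by_cases h1 : s = 1
    · exact Or.inl h1
    · right
      apply orderOf_eq_prime _ h1
      rw [pow_two]; exact h
  · rintro (h | h)
    · rw [h, mul_one]
    · rw [← pow_two, ← h]; exact pow_orderOf_eq_one s

theorem card_sq_eq_one_eq_succ :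
    Nat.card {s : G // s * s = 1} = Nat.card {x : G // orderOf x = 2} + 1 := by
  classical
  rw [Nat.card_eq_fintype_card, Nat.card_eq_fintype_card, Fintype.card_subtype, Fintype.card_subtype]
  have : Finset.univ.filter (fun s : G => s * s = 1) =
      insert 1 (Finset.univ.filter (fun x : G => orderOf x = 2)) := by
    ext s
    simp only [Finset.mem_filter, Finset.mem_univ, true_and, Finset.mem_insert]
    exact sq_eq_one_iff s
  rw [this, Finset.card_insert_of_notMem]
  simp

theorem one_le_card_involutions (heven : Even (Nat.card G)) :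
    1 ≤ Nat.card {x : G // orderOf x = 2} := by
  haveI : Fact (Nat.Prime 2) := ⟨Nat.prime_two⟩
  obtain ⟨x, hx⟩ := exists_prime_orderOf_dvd_card' 2 (even_iff_two_dvd.mp heven)
  exact Nat.card_pos_iff.mpr ⟨⟨⟨x, hx⟩⟩, inferInstance⟩

end

end Cfsg.Agent.Lib.Helper74
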