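import Cfsg.Agent.Lib.Helper74.BF1
import Cfsg.Agent.Lib.Helper81.Irr
import Cfsg.Agent.Lib.Helper79.Basic

set_option autoImplicit false

namespace Cfsg.Agent.Lib.Helper74

open scoped ComplexConjugate

section
variable {G : Type*} [Group G]

/-- the trivial character as an irreducible character -/
noncomputable def trivIrr (G : Type*) [Group G] : Cfsg.IrrCharacter G :=
  ⟨fun _ => 1, by
    have := Cfsg.Agent.Lib.Helper79.isIrrCharacter_of_monoidHom (1 : G →* ℂˣ)
    simpa using this⟩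

theorem trivIrr_apply (g : G) : ((trivIrr G : Cfsg.IrrCharacter G) : G → ℂ) g = 1 := rfl

theorem ne_trivIrr_iff (χ : Cfsg.IrrCharacter G) :
    χ ≠ trivIrr G ↔ (χ : G → ℂ) ≠ (fun _ => 1) := by
  constructor
  · intro h h'
    exact h (Subtype.ext h')
  · intro h h'
    exact h (congrArg Subtype.val h')

variable [Fintype G]

theorem fs_trivIrr :
    (Nat.card G : ℂ)⁻¹ * ∑ s : G, ((trivIrr G : Cfsg.IrrCharacter G) : G → ℂ) (s * s) = 1 := by
  simp only [trivIrr_apply, Finset.sum_const, Finset.card_univ, nsmul_eq_mul, mul_one]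
  rw [← Nat.card_eq_fintype_card]
  exact inv_mul_cancel₀ card_ne_zero_complex

theorem fs_mul_deg_re_le (χ : Cfsg.IrrCharacter G) :
    (((Nat.card G : ℂ)⁻¹ * ∑ s : G, (χ : G → ℂ) (s * s)) * (χ : G → ℂ) 1).re ≤
      (Cfsg.charDegree (χ : G → ℂ) : ℝ) ∧
    ((∃ g : G, ((χ : G → ℂ) g).im ≠ 0) →
      (((Nat.card G : ℂ)⁻¹ * ∑ s : G, (χ : G → ℂ) (s * s)) * (χ : G → ℂ) 1).re = 0) := by
  have hd := Cfsg.Agent.Lib.Helper81.irr_apply_one_eq_charDegree χ
  rw [hd]
  rcases (fs_trichotomy χ.2).1 with h | h | h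
  · rw [h, zero_mul]
    simp
  · rw [h, one_mul]
    refine ⟨by simp, ?_⟩
    intro hnr
    have := fs_of_not_real χ.2 hnr
    rw [h] at this
    norm_num at this
  · rw [h]
    refine ⟨by simp, ?_⟩
    intro hnr
    have := fs_of_not_real χ.2 hnr
    rw [h] at this
    norm_num at this

end

end Cfsg.Agent.Lib.Helper74
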