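import Cfsg.Agent.Lib.Helper74.BF2

set_option autoImplicit false

namespace Cfsg.Agent.Lib.Helper74

open scoped ComplexConjugate

section
variable {G : Type*} [Group G] [Fintype G] [Fintype (Cfsg.IrrCharacter G)]

open Classical in
/-- the real-valued non-principal irreducible characters -/
noncomputable def realNontriv (G : Type*) [Group G] [Fintype (Cfsg.IrrCharacter G)] :
    Finset (Cfsg.IrrCharacter G) :=
  Finset.univ.filter (fun χ => (∀ g : G, ((χ : G → ℂ) g).im = 0) ∧ χ ≠ trivIrr G)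

theorem mem_realNontriv (χ : Cfsg.IrrCharacter G) :
    χ ∈ realNontriv G ↔ (∀ g : G, ((χ : G → ℂ) g).im = 0) ∧ χ ≠ trivIrr G := by
  classical
  simp [realNontriv]

theorem involutions_le_sum :
    (Nat.card {x : G // orderOf x = 2} : ℝ) ≤
      ∑ χ ∈ realNontriv G, (Cfsg.charDegree (χ : G → ℂ) : ℝ) := by
  classical
  have h0 := card_sq_eq_one (G := G)
  rw [card_sq_eq_one_eq_succ] at h0
  have h1 := congrArg Complex.re h0
  rw [Complex.re_sum] at h1
  push_cast at h1
  simp only [Complex.add_re, Complex.natCast_re, Complex.one_re] at h1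
  rw [← Finset.add_sum_erase Finset.univ _ (Finset.mem_univ (trivIrr G))] at h1
  have htriv : (((Nat.card G : ℂ)⁻¹ * ∑ s : G, ((trivIrr G : Cfsg.IrrCharacter G) : G → ℂ) (s * s)) *
      ((trivIrr G : Cfsg.IrrCharacter G) : G → ℂ) 1).re = 1 := by
    rw [fs_trivIrr, trivIrr_apply, one_mul, Complex.one_re]
  rw [htriv] at h1
  have h2 : ∑ χ ∈ Finset.univ.erase (trivIrr G),
      (((Nat.card G : ℂ)⁻¹ * ∑ s : G, (χ : G → ℂ) (s * s)) * (χ : G → ℂ) 1).re ≤
      ∑ χ ∈ Finset.univ.erase (trivIrr G),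
        (if (∀ g : G, ((χ : G → ℂ) g).im = 0) then (Cfsg.charDegree (χ : G → ℂ) : ℝ) else 0) := by
    apply Finset.sum_le_sum
    intro χ _
    by_cases hr : ∀ g : G, ((χ : G → ℂ) g).im = 0
    · rw [if_pos hr]
      exact (fs_mul_deg_re_le χ).1
    · rw [if_neg hr]
      rw [not_forall] at hr
      exact le_of_eq ((fs_mul_deg_re_le χ).2 hr)
  have h3 : ∑ χ ∈ Finset.univ.erase (trivIrr G),
        (if (∀ g : G, ((χ : G → ℂ) g).im = 0) then (Cfsg.charDegree (χ : G → ℂ) : ℝ) else 0) =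
      ∑ χ ∈ realNontriv G, (Cfsg.charDegree (χ : G → ℂ) : ℝ) := by
    rw [← Finset.sum_filter]
    apply Finset.sum_congr
    · ext χ
      simp only [Finset.mem_filter, Finset.mem_erase, Finset.mem_univ, and_true, mem_realNontriv]
      tauto
    · intro _ _; rfl
  rw [← h3]
  linarith

theorem sum_sq_realNontriv_le :
    ∑ χ ∈ realNontriv G, (Cfsg.charDegree (χ : G → ℂ) : ℝ) ^ 2 ≤ (Nat.card G : ℝ) - 1 := by
  classical
  have h0 := Cfsg.Agent.Lib.Helper3.sum_sq_degree (G := G)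
  have h1 : ∑ χ : Cfsg.IrrCharacter G, (Cfsg.charDegree (χ : G → ℂ) : ℝ) ^ 2 = (Nat.card G : ℝ) := by
    have : ∑ χ : Cfsg.IrrCharacter G, ((Cfsg.charDegree (χ : G → ℂ) : ℝ) : ℂ) ^ 2 = (Nat.card G : ℂ) := by
      rw [← h0]
      apply Finset.sum_congr rfl
      intro χ _
      rw [Cfsg.Agent.Lib.Helper81.irr_apply_one_eq_charDegree χ]
      push_cast
      rfl
    exact_mod_cast this
  rw [← Finset.add_sum_erase Finset.univ _ (Finset.mem_univ (trivIrr G))] at h1
  have htriv : (Cfsg.charDegree ((trivIrr G : Cfsg.IrrCharacter G) : G → ℂ) : ℝ) = 1 := by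
    have := Cfsg.Agent.Lib.Helper81.irr_apply_one_eq_charDegree (trivIrr G)
    rw [trivIrr_apply] at this
    have h : (Cfsg.charDegree ((trivIrr G : Cfsg.IrrCharacter G) : G → ℂ) : ℂ) = 1 := this.symm
    exact_mod_cast h
  rw [htriv] at h1
  have h2 : ∑ χ ∈ realNontriv G, (Cfsg.charDegree (χ : G → ℂ) : ℝ) ^ 2 ≤
      ∑ χ ∈ Finset.univ.erase (trivIrr G), (Cfsg.charDegree (χ : G → ℂ) : ℝ) ^ 2 := by
    apply Finset.sum_le_sum_of_subset_of_nonneg
    · intro χ hχ
      rw [mem_realNontriv] at hχ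
      simp [hχ.2]
    · intro _ _ _
      positivity
  linarith

end

end Cfsg.Agent.Lib.Helper74
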