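import Cfsg.Agent.Lib.Helper74.BF3

set_option autoImplicit false

namespace Cfsg.Agent.Lib.Helper74

open scoped ComplexConjugate

section
variable {G : Type*} [Group G] [Fintype G] [Fintype (Cfsg.IrrCharacter G)]

theorem card_pos_real_sub_one (heven : Even (Nat.card G)) : (0 : ℝ) < (Nat.card G : ℝ) - 1 := by
  have h2 : 2 ≤ Nat.card G := by
    obtain ⟨k, hk⟩ := heven
    have : 0 < Nat.card G := Nat.card_pos
    omega
  have : (2 : ℝ) ≤ (Nat.card G : ℝ) := by exact_mod_cast h2
  linarith

theorem realNontriv_nonempty (heven : Even (Nat.card G)) : (realNontriv G).Nonempty := by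
  by_contra h
  rw [Finset.not_nonempty_iff_eq_empty] at h
  have h1 := involutions_le_sum (G := G)
  rw [h, Finset.sum_empty] at h1
  have h2 : (1 : ℝ) ≤ (Nat.card {x : G // orderOf x = 2} : ℝ) := by
    exact_mod_cast one_le_card_involutions heven
  linarith

/-- Brauer–Fowler, character part -/
theorem brauer_fowler_char (heven : Even (Nat.card G)) :
    ∃ χ ∈ realNontriv G, (Cfsg.charDegree (χ : G → ℂ) : ℝ) ≤
      ((Nat.card G : ℝ) - 1) / (Nat.card {x : G // orderOf x = 2} : ℝ) := by
  by_contra hcon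
  push Not at hcon
  set t : ℝ := (Nat.card {x : G // orderOf x = 2} : ℝ) with ht
  set α : ℝ := ((Nat.card G : ℝ) - 1) / t with hα
  have ht1 : (1 : ℝ) ≤ t := by
    rw [ht]; exact_mod_cast one_le_card_involutions heven
  have hg := card_pos_real_sub_one (G := G) heven
  have hα0 : 0 < α := div_pos hg (by linarith)
  have h1 := involutions_le_sum (G := G)
  have h2 := sum_sq_realNontriv_le (G := G)
  have hne := realNontriv_nonempty (G := G) heven
  have h3 : ∑ χ ∈ realNontriv G, α * (Cfsg.charDegree (χ : G → ℂ) : ℝ) <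
      ∑ χ ∈ realNontriv G, (Cfsg.charDegree (χ : G → ℂ) : ℝ) ^ 2 := by
    apply Finset.sum_lt_sum_of_nonempty hne
    intro χ hχ
    have := hcon χ hχ
    have hd : 0 < (Cfsg.charDegree (χ : G → ℂ) : ℝ) := lt_trans hα0 this
    nlinarith
  rw [← Finset.mul_sum] at h3
  have h4 : α * t ≤ α * ∑ χ ∈ realNontriv G, (Cfsg.charDegree (χ : G → ℂ) : ℝ) :=
    mul_le_mul_of_nonneg_left h1 hα0.le
  have h5 : α * t = (Nat.card G : ℝ) - 1 := by
    rw [hα]; field_simp
  linarith

end

end Cfsg.Agent.Lib.Helper74
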