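import Cfsg.Agent.Lib.Helper74.BF5

set_option autoImplicit false

namespace Cfsg.Agent.Lib.Helper74

open scoped ComplexConjugate

section
variable {G : Type*} [Group G] [Fintype G] [Fintype (Cfsg.IrrCharacter G)]

theorem sq_involutions_le :
    (Nat.card {x : G // orderOf x = 2} : ℝ) ^ 2 ≤
      ((realNontriv G).card : ℝ) * ((Nat.card G : ℝ) - 1) := by
  have h1 := involutions_le_sum (G := G)
  have h2 := sum_sq_realNontriv_le (G := G)
  have h3 : (∑ χ ∈ realNontriv G, (Cfsg.charDegree (χ : G → ℂ) : ℝ)) ^ 2 ≤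
      ((realNontriv G).card : ℝ) * ∑ χ ∈ realNontriv G, (Cfsg.charDegree (χ : G → ℂ) : ℝ) ^ 2 :=
    sq_sum_le_card_mul_sum_sq
  have ht0 : (0 : ℝ) ≤ (Nat.card {x : G // orderOf x = 2} : ℝ) := Nat.cast_nonneg _
  have h4 : (Nat.card {x : G // orderOf x = 2} : ℝ) ^ 2 ≤
      (∑ χ ∈ realNontriv G, (Cfsg.charDegree (χ : G → ℂ) : ℝ)) ^ 2 := by
    apply pow_le_pow_left₀ ht0 h1
  have hk0 : (0 : ℝ) ≤ ((realNontriv G).card : ℝ) := Nat.cast_nonneg _
  calc (Nat.card {x : G // orderOf x = 2} : ℝ) ^ 2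
      ≤ (∑ χ ∈ realNontriv G, (Cfsg.charDegree (χ : G → ℂ) : ℝ)) ^ 2 := h4
    _ ≤ ((realNontriv G).card : ℝ) * ∑ χ ∈ realNontriv G, (Cfsg.charDegree (χ : G → ℂ) : ℝ) ^ 2 := h3
    _ ≤ ((realNontriv G).card : ℝ) * ((Nat.card G : ℝ) - 1) := mul_le_mul_of_nonneg_left h2 hk0

/-- Brauer–Fowler, class part -/
theorem brauer_fowler_class (heven : Even (Nat.card G)) :
    ∃ x : G, x ≠ 1 ∧ ((Subgroup.centralizer ({x} : Set G)).index : ℝ) ≤
      (((Nat.card G : ℝ) - 1) / (Nat.card {x : G // orderOf x = 2} : ℝ)) ^ 2 := by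
  classical
  by_contra hcon
  push Not at hcon
  set t : ℝ := (Nat.card {x : G // orderOf x = 2} : ℝ) with ht
  set α : ℝ := ((Nat.card G : ℝ) - 1) / t with hα
  have ht1 : (1 : ℝ) ≤ t := by
    rw [ht]; exact_mod_cast one_le_card_involutions heven
  have hg := card_pos_real_sub_one (G := G) heven
  have hcs := sq_involutions_le (G := G)
  have hk : (realClasses G).card = (realNontriv G).card := card_realClasses
  have hkpos : 0 < (realClasses G).card := by
    rw [hk]; exact Finset.card_pos.mpr (realNontriv_nonempty heven)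
  -- the real non-identity elements
  set RE : Finset G := Finset.univ.filter (fun x : G => x ≠ 1 ∧ IsConj x x⁻¹) with hRE
  have hRE_le : (RE.card : ℝ) ≤ (Nat.card G : ℝ) - 1 := by
    have h1 : RE ⊆ Finset.univ.erase (1 : G) := by
      intro x hx
      simp only [hRE, Finset.mem_filter, Finset.mem_univ, true_and] at hx
      simp [hx.1]
    have h2 := Finset.card_le_card h1
    rw [Finset.card_erase_of_mem (Finset.mem_univ _), Finset.card_univ, ← Nat.card_eq_fintype_card] at h2
    have h3 : 0 < Nat.card G := Nat.card_pos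
    have : (RE.card : ℝ) ≤ ((Nat.card G - 1 : ℕ) : ℝ) := by exact_mod_cast h2
    rw [Nat.cast_sub h3] at this
    simpa using this
  have hmaps : ∀ x ∈ RE, ConjClasses.mk x ∈ realClasses G := by
    intro x hx
    simp only [hRE, Finset.mem_filter, Finset.mem_univ, true_and] at hx
    rw [mem_realClasses]
    refine ⟨?_, ?_⟩
    · intro g hg
      rw [ConjClasses.mk_eq_mk_iff_isConj] at hg
      -- g ~ x, x ~ x⁻¹, x⁻¹ ~ g⁻¹
      exact hg.trans (hx.2.trans (Cfsg.Agent.Lib.Helper81.isConj_inv_inv hg.symm))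
    · intro h
      rw [ConjClasses.mk_eq_mk_iff_isConj, isConj_one_left] at h
      exact hx.1 h
  have hfib := Finset.card_eq_sum_card_fiberwise hmaps
  have hfiber : ∀ C ∈ realClasses G, α ^ 2 < ((RE.filter (fun x => ConjClasses.mk x = C)).card : ℝ) := by
    intro C hC
    rw [mem_realClasses] at hC
    obtain ⟨x, rfl⟩ := ConjClasses.exists_rep C
    have hx1 : x ≠ 1 := by
      intro h
      exact hC.2 (by rw [h])
    have heq : RE.filter (fun y => ConjClasses.mk y = ConjClasses.mk x) =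
        Finset.univ.filter (fun y : G => IsConj y x) := by
      ext y
      simp only [hRE, Finset.mem_filter, Finset.mem_univ, true_and, ConjClasses.mk_eq_mk_iff_isConj]
      constructor
      · intro h; exact h.2
      · intro h
        refine ⟨⟨?_, hC.1 y (ConjClasses.mk_eq_mk_iff_isConj.mpr h)⟩, h⟩
        intro hy
        rw [hy, isConj_one_right] at h
        exact hx1 h
    rw [heq, Cfsg.Agent.Lib.Helper3.card_filter_isConj]
    exact hcon x hx1
  have hsum : ((realClasses G).card : ℝ) * α ^ 2 < (RE.card : ℝ) := by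
    rw [hfib]
    push_cast
    have hne : (realClasses G).Nonempty := Finset.card_pos.mp hkpos
    have := Finset.sum_lt_sum_of_nonempty hne hfiber
    rwa [Finset.sum_const, nsmul_eq_mul] at this
  have hkα : (Nat.card G : ℝ) - 1 ≤ ((realClasses G).card : ℝ) * α ^ 2 := by
    rw [hk, hα, div_pow]
    have ht2 : (0 : ℝ) < t ^ 2 := by positivity
    rw [← mul_div_assoc, le_div_iff₀ ht2]
    nlinarith [hcs, hg]
  linarith

end

end Cfsg.Agent.Lib.Helper74
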