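import Mathlib

set_option autoImplicit false

namespace Cfsg.Agent.Lib.Helper74

open Module in
/-- For a projection `R` preserving the span of a linearly independent family `v`, with matrix `A`
on that family, the dimension of the span of the images is the trace of `A`. -/
theorem finrank_span_proj_eq_trace {K E ι : Type*} [Field K] [AddCommGroup E] [Module K E]
    [Fintype ι] [DecidableEq ι] (v : ι → E) (hv : LinearIndependent K v) (R : E →ₗ[K] E)
    (hR : ∀ x, R (R x) = R x) (A : Matrix ι ι K) (hA : ∀ i, R (v i) = ∑ j, A i j • v j) :
    (Module.finrank K (Submodule.span K (Set.range (fun i => R (v i)))) : K) = A.trace := by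
  set W : Submodule K E := Submodule.span K (Set.range v) with hW
  let b : Basis ι K W := Basis.span hv
  have : Module.Finite K W := Module.Finite.of_basis b
  have hb : ∀ i, (b i : E) = v i := fun i => congrArg Subtype.val (Basis.span_apply hv i)
  have hvW : ∀ i, v i ∈ W := fun i => Submodule.subset_span (Set.mem_range_self i)
  have hRW : ∀ w ∈ W, R w ∈ W := by
    intro w hw
    have : W ≤ W.comap R := by
      rw [hW, Submodule.span_le]
      rintro _ ⟨i, rfl⟩
      show R (v i) ∈ W
      rw [hA]
      exact Submodule.sum_mem _ (fun j _ => Submodule.smul_mem _ _ (hvW j))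
    exact this hw
  let R' : W →ₗ[K] W := R.restrict hRW
  have hR' : IsIdempotentElem R' := by
    apply LinearMap.ext
    intro x
    apply Subtype.ext
    simp only [R', Module.End.mul_apply, LinearMap.coe_restrict_apply]
    exact hR _
  have htr : LinearMap.trace K W R' = (finrank K (LinearMap.range R') : K) :=
    (LinearMap.IsIdempotentElem.isProj_range R' hR').trace
  -- trace via the basis
  have htr2 : LinearMap.trace K W R' = A.trace := by
    rw [LinearMap.trace_eq_matrix_trace K b R']
    unfold Matrix.trace
    apply Finset.sum_congr rfl
    intro i _
    rw [Matrix.diag_apply, LinearMap.toMatrix_apply]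
    have h1 : R' (b i) = ∑ j, A i j • b j := by
      apply Subtype.ext
      simp only [R', LinearMap.coe_restrict_apply, hb, hA]
      rw [Submodule.coe_sum]
      apply Finset.sum_congr rfl
      intro j _
      rw [Submodule.coe_smul, hb]
    rw [h1, map_sum]
    simp only [map_smul, Basis.repr_self, Finsupp.coe_finsetSum, Finsupp.coe_smul,
      Finset.sum_apply, Pi.smul_apply, smul_eq_mul]
    rw [Finset.sum_eq_single i]
    · simp
    · intro j _ hji
      rw [Finsupp.single_eq_of_ne hji.symm, mul_zero]
    · intro h; exact absurd (Finset.mem_univ _) h
  -- the range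
  have hrange : (LinearMap.range R').map W.subtype =
      Submodule.span K (Set.range (fun i => R (v i))) := by
    have h1 : LinearMap.range R' = Submodule.span K (Set.range (fun i => R' (b i))) := by
      rw [LinearMap.range_eq_map, ← b.span_eq, Submodule.map_span, ← Set.range_comp]
      rfl
    rw [h1, Submodule.map_span, ← Set.range_comp]
    congr 2
    funext i
    simp only [Function.comp_apply, Submodule.subtype_apply, R', LinearMap.coe_restrict_apply, hb]
  have hfin : finrank K (LinearMap.range R') =
      finrank K (Submodule.span K (Set.range (fun i => R (v i)))) := by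
    rw [← hrange]
    exact (Submodule.finrank_map_subtype_eq W (LinearMap.range R')).symm
  rw [← hfin, ← htr, htr2]

end Cfsg.Agent.Lib.Helper74
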