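import Cfsg.Agent.Lib.Helper74.BrFeit1

/-!
# Brauer–Feit: heights are at most `d - 2`, and `2 k(B) ≤ p ^ (2 d - 2)` when there is a
character of positive height (helper74)
-/

set_option autoImplicit false

namespace Cfsg.Agent.Lib.Helper74

open Cfsg Cfsg.Agent.Lib.Helper81 Cfsg.Agent.Lib.Helper16
open scoped ComplexConjugate

universe u

theorem sq_le_sq_of_dvd_ne_zero {c t : ℤ} (hd : c ∣ t) (h0 : t ≠ 0) : c ^ 2 ≤ t ^ 2 := by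
  obtain ⟨e, rfl⟩ := hd
  have he : e ≠ 0 := by
    intro h
    apply h0
    rw [h, mul_zero]
  have h1 : 1 ≤ e ^ 2 := by
    have : 0 < e ^ 2 := by positivity
    omega
  rw [mul_pow]
  nlinarith [sq_nonneg c]

theorem card_mul_sq_le_sum {ι : Type*} (S : Finset ι) (T : ι → ℤ) (c : ℤ)
    (h : ∀ ψ ∈ S, c ∣ T ψ ∧ T ψ ≠ 0) : (S.card : ℤ) * c ^ 2 ≤ ∑ ψ ∈ S, T ψ ^ 2 := by
  rw [← nsmul_eq_mul, ← Finset.sum_const]
  apply Finset.sum_le_sum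
  intro ψ hψ
  exact sq_le_sq_of_dvd_ne_zero (h ψ hψ).1 (h ψ hψ).2


theorem bf_arith_A (P x n0 np pp q : ℤ) (hP : 0 < P)
    (h : (P * x) ^ 2 + (n0 - 1) * P ^ 2 + np * (P * pp) ^ 2 ≤ (P * (pp * q)) * (P * x)) :
    4 * (n0 - 1) + 4 * (np * pp ^ 2) ≤ pp ^ 2 * q ^ 2 := by
  have h1 : P ^ 2 * (x ^ 2 + (n0 - 1) + np * pp ^ 2) ≤ P ^ 2 * (pp * q * x) := by
    linear_combination h
  have h2 : x ^ 2 + (n0 - 1) + np * pp ^ 2 ≤ pp * q * x :=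
    le_of_mul_le_mul_left h1 (by positivity)
  nlinarith [sq_nonneg (pp * q - 2 * x)]

theorem bf_arith_B (V y n0 r : ℤ) (hV : 0 < V)
    (h : (V * y) ^ 2 + n0 * V ^ 2 ≤ (V * r) * (V * y)) : 4 * n0 ≤ r ^ 2 := by
  have h1 : V ^ 2 * (y ^ 2 + n0) ≤ V ^ 2 * (r * y) := by
    linear_combination h
  have h2 : y ^ 2 + n0 ≤ r * y := le_of_mul_le_mul_left h1 (by positivity)
  nlinarith [sq_nonneg (r - 2 * y)]

theorem bf_arith_C (n0 np pp q : ℤ) (hpp : 2 ≤ pp) (h0 : 0 ≤ n0)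
    (hA : 4 * (n0 - 1) + 4 * (np * pp ^ 2) ≤ pp ^ 2 * q ^ 2) (hB : 4 * n0 ≤ q ^ 2) :
    2 * (n0 + np) ≤ q ^ 2 := by
  have hP2 : (4 : ℤ) ≤ pp ^ 2 := by nlinarith
  have hBP : 4 * n0 * pp ^ 2 ≤ q ^ 2 * pp ^ 2 := mul_le_mul_of_nonneg_right hB (by positivity)
  by_contra hcon
  push Not at hcon
  have h1 : q ^ 2 + 1 ≤ 2 * (n0 + np) := by omega
  have h2 : (q ^ 2 + 1) * pp ^ 2 ≤ 2 * (n0 + np) * pp ^ 2 :=
    mul_le_mul_of_nonneg_right h1 (by positivity)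
  nlinarith [h2, hA, hBP, hP2, h0]

variable {G : Type u} [Group G] [Fintype G]

/-- In a block, a character is of height zero or its height is at most `d - 2`. -/
theorem height_zero_or_le [Fintype (IrrCharacter G)] (p : ℕ) [Fact p.Prime] (M : Ideal AlgInt)
    (hM : IsPModular p M) (χ₀ χ : IrrCharacter G) (hχ : χ ∈ blockOf M (χ₀ : G → ℂ)) :
    (charDegree (χ : G → ℂ)).factorization p = minDegVal p (blockOf M (χ₀ : G → ℂ)) ∨
      (charDegree (χ : G → ℂ)).factorization p + 2 ≤ (Nat.card G).factorization p := by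
  have hp : p.Prime := Fact.out
  have hMp : M.IsPrime := isPrime_of_isPModular hM
  set B := blockOf M (χ₀ : G → ℂ) with hB
  set a := (Nat.card G).factorization p with ha
  set m := minDegVal p B with hm
  set v := (charDegree (χ : G → ℂ)).factorization p with hv
  have hχ₀B : χ₀ ∈ B := sameBlock_refl hMp _
  by_cases hvm : v = m
  · exact Or.inl hvm
  right
  have hmv : m < v := lt_of_le_of_ne (minDegVal_le p hχ) (Ne.symm hvm)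
  obtain ⟨ψ, hψB, hψm⟩ := exists_minDegVal p (B := B) ⟨χ₀, hχ₀B⟩
  have hχ0 : charDegree (χ : G → ℂ) ≠ 0 := irr_charDegree_ne_zero χ
  have hψ0 : charDegree (ψ : G → ℂ) ≠ 0 := irr_charDegree_ne_zero ψ
  obtain ⟨tψ, htψ⟩ := pTilde_int p χ ψ
  obtain ⟨t, ht⟩ := pTilde_int p χ χ
  have hdψ : ((p ^ v : ℕ) : ℤ) ∣ tψ := pTilde_dvd_left p χ ψ tψ htψ
  have hdχ : ((p ^ v : ℕ) : ℤ) ∣ t := pTilde_dvd_left p χ χ t ht
  have hpow : ∀ i j : ℕ, i ≤ j → ((p ^ i : ℕ) : ℤ) ∣ ((p ^ j : ℕ) : ℤ) := by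
    intro i j hij
    exact_mod_cast pow_dvd_pow p hij
  have h1 : MemLocalIdeal M ((tψ : ℂ) / ((charDegree (ψ : G → ℂ) : ℕ) : ℂ)) := by
    rw [memLocalIdeal_div_iff hM _ hψ0 tψ (by rw [hψm]; exact (hpow m v hmv.le).trans hdψ), hψm]
    exact (hpow (m + 1) v hmv).trans hdψ
  have hs : SameBlock M (ψ : G → ℂ) (χ : G → ℂ) :=
    sameBlock_trans hMp (sameBlock_symm hψB) hχ
  have hcong := pTilde_cong p M hM χ ψ χ hs
  rw [htψ, ht, irr_apply_one_eq_charDegree ψ, irr_apply_one_eq_charDegree χ] at hcong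
  have h2 : MemLocalIdeal M ((t : ℂ) / ((charDegree (χ : G → ℂ) : ℕ) : ℂ)) := by
    have := memLocalIdeal_sub hMp h1 hcong
    rwa [sub_sub_cancel] at this
  rw [memLocalIdeal_div_iff hM _ hχ0 t hdχ] at h2
  obtain ⟨ht0, htle, htvan⟩ := pTilde_self_bounds p χ t ht
  have h3 : ((p ^ (v + 1) : ℕ) : ℤ) ≤ t := Int.le_of_dvd ht0 h2
  have h4 : p ^ (v + 1) ≤ p ^ a := by
    have : ((p ^ (v + 1) : ℕ) : ℤ) ≤ ((p ^ a : ℕ) : ℤ) := by
      push_cast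
      exact h3.trans htle
    exact_mod_cast this
  have h5 : v + 1 ≤ a := (Nat.pow_le_pow_iff_right hp.one_lt).mp h4
  by_contra hcon
  have h6 : v + 1 = a := by omega
  have h7 : t = (p : ℤ) ^ a := by
    apply le_antisymm htle
    have : ((p ^ (v + 1) : ℕ) : ℤ) = (p : ℤ) ^ a := by
      rw [h6]
      push_cast
      rfl
    rw [← this]
    exact h3
  have h8 := pow_dvd_charDegree_of_vanish p χ (htvan h7)
  have h9 : a ≤ v := (hp.pow_dvd_iff_le_factorization hχ0).mp h8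
  omega

end Cfsg.Agent.Lib.Helper74

namespace Cfsg.Agent.Lib.Helper74

open Cfsg Cfsg.Agent.Lib.Helper81 Cfsg.Agent.Lib.Helper16
open scoped ComplexConjugate

universe u

variable {G : Type u} [Group G] [Fintype G]

open Classical in
/-- **Brauer–Feit**: a block containing a character of positive height has
`2 k(B) ≤ p ^ (2 d - 2)`. -/
theorem two_mul_card_block_le [Fintype (IrrCharacter G)] (p : ℕ) [Fact p.Prime]
    (M : Ideal AlgInt) (hM : IsPModular p M) (χ₀ ψ₁ : IrrCharacter G)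
    (hψ₁ : ψ₁ ∈ blockOf M (χ₀ : G → ℂ))
    (hpos : minDegVal p (blockOf M (χ₀ : G → ℂ)) < (charDegree (ψ₁ : G → ℂ)).factorization p) :
    2 * (Finset.univ.filter (fun ψ : IrrCharacter G => ψ ∈ blockOf M (χ₀ : G → ℂ))).card ≤
      p ^ (2 * blockDefect p (blockOf M (χ₀ : G → ℂ)) - 2) := by
  have hp : p.Prime := Fact.out
  have hMp : M.IsPrime := isPrime_of_isPModular hM
  set B := blockOf M (χ₀ : G → ℂ) with hB
  set Bf := Finset.univ.filter (fun ψ : IrrCharacter G => ψ ∈ B) with hBf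
  set a := (Nat.card G).factorization p with ha
  set m := minDegVal p B with hm
  set v₁ := (charDegree (ψ₁ : G → ℂ)).factorization p with hv₁
  have hχ₀B : χ₀ ∈ B := sameBlock_refl hMp _
  have hmemBf : ∀ ψ : IrrCharacter G, ψ ∈ Bf ↔ ψ ∈ B := by
    intro ψ
    rw [hBf, Finset.mem_filter]
    exact ⟨fun h => h.2, fun h => ⟨Finset.mem_univ _, h⟩⟩
  have hv₁a : v₁ + 2 ≤ a := by
    rcases height_zero_or_le p M hM χ₀ ψ₁ hψ₁ with h | h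
    · have h' : v₁ = m := h
      omega
    · exact h
  obtain ⟨χ, hχB, hχm⟩ := exists_minDegVal p (B := B) ⟨χ₀, hχ₀B⟩
  have hht : blockHeight p B (χ : G → ℂ) = 0 := by
    rw [blockHeight_eq, hχm]
    exact Nat.sub_self _
  set Bf0 := Bf.filter (fun ψ : IrrCharacter G => (charDegree (ψ : G → ℂ)).factorization p = m)
    with hBf0
  set Bfp := Bf.filter (fun ψ : IrrCharacter G => ¬ (charDegree (ψ : G → ℂ)).factorization p = m)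
    with hBfp
  have hcard : Bf0.card + Bfp.card = Bf.card := Finset.card_filter_add_card_filter_not _
  have hχBf0 : χ ∈ Bf0 := by
    rw [hBf0, Finset.mem_filter, hmemBf]
    exact ⟨hχB, hχm⟩
  have hpowdvd : ∀ i j : ℕ, i ≤ j → ((p ^ i : ℕ) : ℤ) ∣ ((p ^ j : ℕ) : ℤ) := by
    intro i j hij
    exact_mod_cast pow_dvd_pow p hij
  have hpZ : (2 : ℤ) ≤ (p : ℤ) := by exact_mod_cast hp.two_le
  -- (A) the base of height zero
  obtain ⟨T, hT, hsq⟩ := pTilde_sum_sq p χ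
  obtain ⟨ht0, htle, -⟩ := pTilde_self_bounds p χ (T χ) (hT χ)
  rw [← ha] at htle hsq
  have hneA : ∀ ψ ∈ Bf, T ψ ≠ 0 := by
    intro ψ hψ h0
    apply pTilde_unit_of_height_zero hM χ₀ χ hχB hht ψ ((hmemBf ψ).mp hψ)
    rw [hT ψ, h0, Int.cast_zero, zero_div]
    exact memLocalIdeal_zero hMp
  have hA1 : ((Bf0.erase χ).card : ℤ) * (((p ^ m : ℕ) : ℤ)) ^ 2 ≤
      ∑ ψ ∈ Bf0.erase χ, T ψ ^ 2 := by
    apply card_mul_sq_le_sum
    intro ψ hψ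
    have hψ0 : ψ ∈ Bf0 := Finset.mem_of_mem_erase hψ
    rw [hBf0, Finset.mem_filter] at hψ0
    refine ⟨?_, hneA ψ hψ0.1⟩
    have := pTilde_dvd_left p χ ψ (T ψ) (hT ψ)
    rwa [hχm] at this
  have hA2 : (Bfp.card : ℤ) * (((p ^ (m + 1) : ℕ) : ℤ)) ^ 2 ≤ ∑ ψ ∈ Bfp, T ψ ^ 2 := by
    apply card_mul_sq_le_sum
    intro ψ hψ
    rw [hBfp, Finset.mem_filter] at hψ
    refine ⟨?_, hneA ψ hψ.1⟩
    have h1 := pTilde_dvd_right p χ ψ (T ψ) (hT ψ)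
    have h2 : m ≤ (charDegree (ψ : G → ℂ)).factorization p :=
      minDegVal_le p ((hmemBf ψ).mp hψ.1)
    exact (hpowdvd _ _ (by omega)).trans h1
  have hA3 : T χ ^ 2 + ((Bf0.card : ℤ) - 1) * (((p ^ m : ℕ) : ℤ)) ^ 2 +
      (Bfp.card : ℤ) * (((p ^ (m + 1) : ℕ) : ℤ)) ^ 2 ≤ (p : ℤ) ^ a * T χ := by
    rw [← hsq]
    have e1 : ((Bf0.erase χ).card : ℤ) = (Bf0.card : ℤ) - 1 := by
      rw [Finset.card_erase_of_mem hχBf0, Nat.cast_sub (Finset.card_pos.mpr ⟨χ, hχBf0⟩)]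
      simp
    calc T χ ^ 2 + ((Bf0.card : ℤ) - 1) * (((p ^ m : ℕ) : ℤ)) ^ 2 +
          (Bfp.card : ℤ) * (((p ^ (m + 1) : ℕ) : ℤ)) ^ 2
        ≤ T χ ^ 2 + ∑ ψ ∈ Bf0.erase χ, T ψ ^ 2 + ∑ ψ ∈ Bfp, T ψ ^ 2 := by
          rw [← e1]
          linarith
      _ = ∑ ψ ∈ Bf0, T ψ ^ 2 + ∑ ψ ∈ Bfp, T ψ ^ 2 := by
          rw [Finset.add_sum_erase Bf0 (fun ψ => T ψ ^ 2) hχBf0]
      _ = ∑ ψ ∈ Bf, T ψ ^ 2 := Finset.sum_filter_add_sum_filter_not _ _ _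
      _ ≤ ∑ ξ : IrrCharacter G, T ξ ^ 2 :=
          Finset.sum_le_sum_of_subset_of_nonneg (Finset.subset_univ _) (fun ξ _ _ => sq_nonneg _)
  -- (B) the base of positive height
  obtain ⟨T', hT', hsq'⟩ := pTilde_sum_sq p ψ₁
  obtain ⟨ht0', htle', -⟩ := pTilde_self_bounds p ψ₁ (T' ψ₁) (hT' ψ₁)
  rw [← ha] at htle' hsq'
  have hψ₁Bf : ψ₁ ∈ Bf := (hmemBf ψ₁).mpr hψ₁
  have hψ₁n0 : ψ₁ ∉ Bf0 := by
    intro h
    rw [hBf0, Finset.mem_filter] at h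
    omega
  have hB1 : (Bf0.card : ℤ) * (((p ^ v₁ : ℕ) : ℤ)) ^ 2 ≤ ∑ ψ ∈ Bf0, T' ψ ^ 2 := by
    apply card_mul_sq_le_sum
    intro ψ hψ
    rw [hBf0, Finset.mem_filter] at hψ
    have hψB : ψ ∈ B := (hmemBf ψ).mp hψ.1
    refine ⟨pTilde_dvd_left p ψ₁ ψ (T' ψ) (hT' ψ), ?_⟩
    intro h0
    have hhtψ : blockHeight p B (ψ : G → ℂ) = 0 := by
      rw [blockHeight_eq, hψ.2]
      exact Nat.sub_self _
    apply pTilde_unit_of_height_zero hM χ₀ ψ hψB hhtψ ψ₁ hψ₁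
    rw [← pTilde_symm p ψ₁ ψ, hT' ψ, h0, Int.cast_zero, zero_div]
    exact memLocalIdeal_zero hMp
  have hB2 : T' ψ₁ ^ 2 + (Bf0.card : ℤ) * (((p ^ v₁ : ℕ) : ℤ)) ^ 2 ≤ (p : ℤ) ^ a * T' ψ₁ := by
    rw [← hsq']
    calc T' ψ₁ ^ 2 + (Bf0.card : ℤ) * (((p ^ v₁ : ℕ) : ℤ)) ^ 2
        ≤ T' ψ₁ ^ 2 + ∑ ψ ∈ Bf0, T' ψ ^ 2 := by linarith
      _ = ∑ ψ ∈ insert ψ₁ Bf0, T' ψ ^ 2 := by rw [Finset.sum_insert hψ₁n0]
      _ ≤ ∑ ξ : IrrCharacter G, T' ξ ^ 2 :=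
          Finset.sum_le_sum_of_subset_of_nonneg (Finset.subset_univ _) (fun ξ _ _ => sq_nonneg _)
  -- arithmetic
  obtain ⟨x, hx⟩ : ((p ^ m : ℕ) : ℤ) ∣ T χ := by
    have := pTilde_dvd_left p χ χ (T χ) (hT χ)
    rwa [hχm] at this
  obtain ⟨y, hy⟩ : ((p ^ v₁ : ℕ) : ℤ) ∣ T' ψ₁ := pTilde_dvd_left p ψ₁ ψ₁ (T' ψ₁) (hT' ψ₁)
  have hd : blockDefect p B = a - m := blockDefect_eq p B
  set d := a - m with hdd
  have hd3 : 3 ≤ d := by omega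
  set q : ℤ := (p : ℤ) ^ (d - 1) with hq
  have hpm : (0 : ℤ) < ((p ^ m : ℕ) : ℤ) := by exact_mod_cast pow_pos hp.pos m
  have hpv : (0 : ℤ) < ((p ^ v₁ : ℕ) : ℤ) := by exact_mod_cast pow_pos hp.pos v₁
  have hq0 : 0 < q := by positivity
  have hpa : (p : ℤ) ^ a = ((p ^ m : ℕ) : ℤ) * ((p : ℤ) * q) := by
    rw [hq]
    push_cast
    rw [← pow_succ', ← pow_add]
    congr 1
    omega
  have hpm1 : ((p ^ (m + 1) : ℕ) : ℤ) = ((p ^ m : ℕ) : ℤ) * (p : ℤ) := by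
    push_cast
    ring
  -- (A) simplified
  have hA5 : 4 * ((Bf0.card : ℤ) - 1) + 4 * ((Bfp.card : ℤ) * (p : ℤ) ^ 2) ≤
      (p : ℤ) ^ 2 * q ^ 2 := by
    apply bf_arith_A ((p ^ m : ℕ) : ℤ) x _ _ _ _ hpm
    rw [← hx, ← hpa, ← hpm1]
    exact hA3
  -- (B) simplified
  set r : ℤ := (p : ℤ) ^ (a - v₁) with hr
  have hpa' : (p : ℤ) ^ a = ((p ^ v₁ : ℕ) : ℤ) * r := by
    rw [hr]
    push_cast
    rw [← pow_add]
    congr 1
    omega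
  have hB4 : 4 * (Bf0.card : ℤ) ≤ r ^ 2 := by
    apply bf_arith_B ((p ^ v₁ : ℕ) : ℤ) y _ _ hpv
    rw [← hy, ← hpa']
    exact hB2
  have hrq : r ≤ q := by
    rw [hr, hq]
    apply pow_le_pow_right₀ (by linarith)
    omega
  have hr0 : 0 < r := by positivity
  have hB5 : 4 * (Bf0.card : ℤ) ≤ q ^ 2 :=
    hB4.trans (pow_le_pow_left₀ hr0.le hrq 2)
  -- combine
  have hfin : 2 * ((Bf0.card : ℤ) + (Bfp.card : ℤ)) ≤ q ^ 2 :=
    bf_arith_C _ _ _ _ hpZ (by positivity) hA5 hB5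
  rw [hd]
  have h5 : ((2 * Bf.card : ℕ) : ℤ) ≤ ((p ^ (2 * d - 2) : ℕ) : ℤ) := by
    rw [← hcard]
    push_cast
    have : 2 * d - 2 = (d - 1) * 2 := by omega
    rw [this, pow_mul]
    exact hfin
  exact_mod_cast h5

end Cfsg.Agent.Lib.Helper74
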