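import Cfsg.Agent.Lib.Helper74.BrFeit2

/-!
# Brauer–Feit, weighted form: `∑_{χ ∈ B} p ^ (2 h(χ)) ≤ p ^ (2 d) / 4 + 1` (helper74)
-/

set_option autoImplicit false

namespace Cfsg.Agent.Lib.Helper74

open Cfsg Cfsg.Agent.Lib.Helper81 Cfsg.Agent.Lib.Helper16
open scoped ComplexConjugate

universe u

open Classical in
/-- A `finsum` over the members of a set as a filtered `Finset` sum (any additive monoid). -/
theorem finsum_mem_set_eq_sum_filter' {ι A : Type*} [AddCommMonoid A] [Fintype ι] (B : Set ι)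
    (f : ι → A) : ∑ᶠ ψ ∈ B, f ψ = ∑ ψ ∈ Finset.univ.filter (fun ψ => ψ ∈ B), f ψ := by
  apply finsum_mem_eq_sum_of_inter_support_eq
  congr 1
  ext χ
  simp

theorem sum_weight_sq_le_sum {ι : Type*} (S : Finset ι) (T : ι → ℤ) (c : ι → ℤ)
    (h : ∀ ψ ∈ S, c ψ ∣ T ψ ∧ T ψ ≠ 0) : ∑ ψ ∈ S, c ψ ^ 2 ≤ ∑ ψ ∈ S, T ψ ^ 2 := by
  apply Finset.sum_le_sum
  intro ψ hψ
  exact sq_le_sq_of_dvd_ne_zero (h ψ hψ).1 (h ψ hψ).2

variable {G : Type u} [Group G] [Fintype G]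

open Classical in
/-- **Brauer–Feit**, weighted by heights. -/
theorem sum_pow_height_le [Fintype (IrrCharacter G)] (p : ℕ) [Fact p.Prime]
    (M : Ideal AlgInt) (hM : IsPModular p M) (χ₀ : IrrCharacter G) :
    ∑ ψ ∈ Finset.univ.filter (fun ψ : IrrCharacter G => ψ ∈ blockOf M (χ₀ : G → ℂ)),
      p ^ (2 * blockHeight p (blockOf M (χ₀ : G → ℂ)) (ψ : G → ℂ)) ≤
      (p ^ blockDefect p (blockOf M (χ₀ : G → ℂ))) ^ 2 / 4 + 1 := by
  have hp : p.Prime := Fact.out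
  have hMp : M.IsPrime := isPrime_of_isPModular hM
  set B := blockOf M (χ₀ : G → ℂ) with hB
  set Bf := Finset.univ.filter (fun ψ : IrrCharacter G => ψ ∈ B) with hBf
  set a := (Nat.card G).factorization p with ha
  set m := minDegVal p B with hm
  have hχ₀B : χ₀ ∈ B := sameBlock_refl hMp _
  have hma : m ≤ a := minDegVal_le_card p ⟨χ₀, hχ₀B⟩
  have hmemBf : ∀ ψ : IrrCharacter G, ψ ∈ Bf ↔ ψ ∈ B := by
    intro ψ
    rw [hBf, Finset.mem_filter]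
    exact ⟨fun h => h.2, fun h => ⟨Finset.mem_univ _, h⟩⟩
  obtain ⟨χ, hχB, hχm⟩ := exists_minDegVal p (B := B) ⟨χ₀, hχ₀B⟩
  have hht : blockHeight p B (χ : G → ℂ) = 0 := by
    rw [blockHeight_eq, hχm]
    exact Nat.sub_self _
  obtain ⟨T, hT, hsq⟩ := pTilde_sum_sq p χ
  obtain ⟨ht0, htle, -⟩ := pTilde_self_bounds p χ (T χ) (hT χ)
  rw [← ha] at htle hsq
  have hne : ∀ ψ ∈ Bf, T ψ ≠ 0 := by
    intro ψ hψ h0
    apply pTilde_unit_of_height_zero hM χ₀ χ hχB hht ψ ((hmemBf ψ).mp hψ)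
    rw [hT ψ, h0, Int.cast_zero, zero_div]
    exact memLocalIdeal_zero hMp
  have hχBf : χ ∈ Bf := (hmemBf χ).mpr hχB
  set h : IrrCharacter G → ℕ := fun ψ => blockHeight p B (ψ : G → ℂ) with hh
  have hpm : (0 : ℤ) < ((p ^ m : ℕ) : ℤ) := by exact_mod_cast pow_pos hp.pos m
  -- lower bound for the sum over the other members
  have h1 : ∑ ψ ∈ Bf.erase χ, (((p ^ m : ℕ) : ℤ) * ((p ^ h ψ : ℕ) : ℤ)) ^ 2 ≤
      ∑ ψ ∈ Bf.erase χ, T ψ ^ 2 := by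
    apply sum_weight_sq_le_sum
    intro ψ hψ
    have hψBf : ψ ∈ Bf := Finset.mem_of_mem_erase hψ
    refine ⟨?_, hne ψ hψBf⟩
    have h2 := pTilde_dvd_right p χ ψ (T ψ) (hT ψ)
    have h3 : m ≤ (charDegree (ψ : G → ℂ)).factorization p :=
      minDegVal_le p ((hmemBf ψ).mp hψBf)
    have h4 : (charDegree (ψ : G → ℂ)).factorization p = m + h ψ := by
      simp only [hh, blockHeight_eq]
      omega
    rw [h4, pow_add] at h2
    exact_mod_cast h2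
  have h2 : T χ ^ 2 + ∑ ψ ∈ Bf.erase χ, T ψ ^ 2 ≤ (p : ℤ) ^ a * T χ := by
    rw [← hsq, Finset.add_sum_erase Bf (fun ψ => T ψ ^ 2) hχBf]
    exact Finset.sum_le_sum_of_subset_of_nonneg (Finset.subset_univ _) (fun ξ _ _ => sq_nonneg _)
  obtain ⟨x, hx⟩ : ((p ^ m : ℕ) : ℤ) ∣ T χ := by
    have := pTilde_dvd_left p χ χ (T χ) (hT χ)
    rwa [hχm] at this
  have hd : blockDefect p B = a - m := blockDefect_eq p B
  set d := a - m with hdd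
  have hpa : (p : ℤ) ^ a = ((p ^ m : ℕ) : ℤ) * (p : ℤ) ^ d := by
    push_cast
    rw [← pow_add]
    congr 1
    omega
  set W : ℤ := ∑ ψ ∈ Bf.erase χ, (((p ^ h ψ : ℕ) : ℤ)) ^ 2 with hW
  have h3 : ((p ^ m : ℕ) : ℤ) ^ 2 * W ≤ ∑ ψ ∈ Bf.erase χ, T ψ ^ 2 := by
    rw [hW, Finset.mul_sum]
    refine le_trans (le_of_eq ?_) h1
    apply Finset.sum_congr rfl
    intro ψ _
    ring
  have h4 : ((p ^ m : ℕ) : ℤ) ^ 2 * (x ^ 2 + W) ≤ ((p ^ m : ℕ) : ℤ) ^ 2 * ((p : ℤ) ^ d * x) := by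
    rw [hx, hpa] at h2
    linear_combination h2 + h3
  have h5 : x ^ 2 + W ≤ (p : ℤ) ^ d * x := le_of_mul_le_mul_left h4 (by positivity)
  have h6 : 4 * W ≤ ((p : ℤ) ^ d) ^ 2 := by
    nlinarith [sq_nonneg ((p : ℤ) ^ d - 2 * x)]
  -- back to naturals
  have hWnat : W = ((∑ ψ ∈ Bf.erase χ, p ^ (2 * h ψ) : ℕ) : ℤ) := by
    rw [hW]
    push_cast
    apply Finset.sum_congr rfl
    intro ψ _
    rw [← pow_mul, mul_comm]
  have h7 : (∑ ψ ∈ Bf.erase χ, p ^ (2 * h ψ)) * 4 ≤ (p ^ d) ^ 2 := by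
    have : ((((∑ ψ ∈ Bf.erase χ, p ^ (2 * h ψ)) * 4 : ℕ)) : ℤ) ≤ (((p ^ d) ^ 2 : ℕ) : ℤ) := by
      push_cast
      rw [hWnat] at h6
      push_cast at h6
      linarith
    exact_mod_cast this
  have h8 : ∑ ψ ∈ Bf.erase χ, p ^ (2 * h ψ) ≤ (p ^ d) ^ 2 / 4 :=
    (Nat.le_div_iff_mul_le (by norm_num)).mpr h7
  rw [hd, ← Finset.add_sum_erase Bf _ hχBf, hht, mul_zero, pow_zero, add_comm]
  exact Nat.add_le_add_right h8 1

end Cfsg.Agent.Lib.Helper74
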