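import Cfsg.Agent.Lib.Helper74.PQ2
import Cfsg.Agent.Lib.Helper74.Osima5
import Cfsg.Agent.Lib.Helper3.Ortho
import Cfsg.Agent.Lib.Helper81.ClassTable

set_option autoImplicit false

namespace Cfsg.Agent.Lib.Helper74

open Cfsg Cfsg.Agent.Lib.Helper77 Cfsg.Agent.Lib.Helper81 Representation
open scoped ComplexConjugate

universe u

section
variable {G : Type u} [Group G] [Fintype G]

open Classical in
/-- Counting formula: for a subgroup `P` and an element `z`, the number of pairs `(y, u)`,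
`y ∈ P`, with `y * (u z u⁻¹)` conjugate to `z`, times `|C(z)|`. -/
theorem sum_isConj_indicator [Fintype (IrrCharacter G)] (P : Subgroup G) [Fintype P] (z : G)
    (n : IrrCharacter G → ℕ)
    (hn : ∀ χ : IrrCharacter G, ∑ u : P, (χ : G → ℂ) (u : G) = (Nat.card P : ℂ) * (n χ : ℂ)) :
    ∑ y : P, ∑ u : G, (if IsConj z ((y : G) * (u * z * u⁻¹))
        then (Nat.card (Subgroup.centralizer ({z} : Set G)) : ℂ) else 0) =
      (Nat.card G : ℂ) * (Nat.card P : ℂ) *
        ∑ χ : IrrCharacter G, (χ : G → ℂ) z * conj ((χ : G → ℂ) z) * (n χ : ℂ) / (χ : G → ℂ) 1 := by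
  have h1 : ∀ (y : P) (u : G), (if IsConj z ((y : G) * (u * z * u⁻¹))
        then (Nat.card (Subgroup.centralizer ({z} : Set G)) : ℂ) else 0) =
      ∑ χ : IrrCharacter G, (χ : G → ℂ) z * conj ((χ : G → ℂ) ((y : G) * (u * z * u⁻¹))) := by
    intro y u
    rw [Cfsg.Agent.Lib.Helper3.column_orthogonality]
  simp_rw [h1]
  have h2 : ∀ y : P, ∑ u : G, ∑ χ : IrrCharacter G,
      (χ : G → ℂ) z * conj ((χ : G → ℂ) ((y : G) * (u * z * u⁻¹))) =
      ∑ χ : IrrCharacter G, (χ : G → ℂ) z *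
        conj ((Nat.card G : ℂ) * ((χ : G → ℂ) (y : G) * (χ : G → ℂ) z) / (χ : G → ℂ) 1) := by
    intro y
    rw [Finset.sum_comm]
    apply Finset.sum_congr rfl
    intro χ _
    rw [← Finset.mul_sum, ← map_sum]
    congr 2
    have h3 := irr_sum_conj_mul χ (y : G) z
    have h4 : (χ : G → ℂ) 1 ≠ 0 := by
      rw [irr_apply_one_eq_charDegree]
      exact_mod_cast irr_charDegree_ne_zero χ
    rw [eq_div_iff h4, mul_comm]
    exact h3
  simp_rw [h2]
  rw [Finset.sum_comm]
  rw [Finset.mul_sum]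
  apply Finset.sum_congr rfl
  intro χ _
  have h4 : (χ : G → ℂ) 1 ≠ 0 := by
    rw [irr_apply_one_eq_charDegree]
    exact_mod_cast irr_charDegree_ne_zero χ
  have h5 : conj ((χ : G → ℂ) 1) = (χ : G → ℂ) 1 := by
    rw [irr_apply_one_eq_charDegree]
    exact Complex.conj_natCast _
  have h6 : ∑ y : P, (χ : G → ℂ) z *
      conj ((Nat.card G : ℂ) * ((χ : G → ℂ) (y : G) * (χ : G → ℂ) z) / (χ : G → ℂ) 1) =
      (χ : G → ℂ) z * conj ((χ : G → ℂ) z) * (Nat.card G : ℂ) / (χ : G → ℂ) 1 *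
        conj (∑ y : P, (χ : G → ℂ) (y : G)) := by
    rw [map_sum, Finset.mul_sum]
    apply Finset.sum_congr rfl
    intro y _
    rw [map_div₀, map_mul, map_mul, h5, Complex.conj_natCast]
    field_simp
  rw [h6, hn χ, map_mul, Complex.conj_natCast, Complex.conj_natCast]
  field_simp

end

end Cfsg.Agent.Lib.Helper74
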