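import Cfsg.Agent.Lib.Helper74.CZ1
import Cfsg.Agent.Lib.Helper74.DZ4

set_option autoImplicit false

namespace Cfsg.Agent.Lib.Helper74

open Cfsg Cfsg.Agent.Lib.Helper77 Cfsg.Agent.Lib.Helper81 Representation
open scoped ComplexConjugate

universe u

section
variable {G : Type u} [Group G] [Fintype G]

/-- If `d ∣ N` and the exponent of `p` in `d` is not the full exponent of `p` in `N`, then
`p ^ (a - 1) / d` is a local integer, where `a` is the exponent of `p` in `N`. -/
theorem memLocalRing_pow_pred_div {p : ℕ} {M : Ideal AlgInt} (hM : IsPModular p M) {d N : ℕ}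
    (hN : N ≠ 0) (hd : d ∣ N) (hne : d.factorization p ≠ N.factorization p) :
    MemLocalRing M ((p : ℂ) ^ (N.factorization p - 1) / (d : ℂ)) := by
  have hp : p.Prime := hM.1
  have hMp := isPrime_of_isPModular hM
  have hd0 : d ≠ 0 := fun h => hN (by rw [h] at hd; exact zero_dvd_iff.mp hd)
  have hle : d.factorization p ≤ N.factorization p :=
    (Nat.factorization_le_iff_dvd hd0 hN).mpr hd p
  have hlt : d.factorization p ≤ N.factorization p - 1 := by omega
  have hdec : p ^ d.factorization p * (d / p ^ d.factorization p) = d :=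
    Nat.ordProj_mul_ordCompl_eq_self d p
  have hnd : ¬ p ∣ d / p ^ d.factorization p := Nat.not_dvd_ordCompl hp hd0
  have hm0 : ((d / p ^ d.factorization p : ℕ) : ℂ) ≠ 0 := by
    intro h
    have : d / p ^ d.factorization p = 0 := by exact_mod_cast h
    rw [this] at hnd
    exact hnd (dvd_zero p)
  have hp0 : (p : ℂ) ≠ 0 := Nat.cast_ne_zero.mpr hp.ne_zero
  have heq : (p : ℂ) ^ (N.factorization p - 1) / (d : ℂ) =
      (p : ℂ) ^ (N.factorization p - 1 - d.factorization p) *
        ((d / p ^ d.factorization p : ℕ) : ℂ)⁻¹ := by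
    have h1 : (d : ℂ) = (p : ℂ) ^ d.factorization p * ((d / p ^ d.factorization p : ℕ) : ℂ) := by
      exact_mod_cast hdec.symm
    have h2 : (p : ℂ) ^ (N.factorization p - 1) =
        (p : ℂ) ^ (N.factorization p - 1 - d.factorization p) * (p : ℂ) ^ d.factorization p := by
      rw [← pow_add]
      congr 1
      omega
    rw [h2]
    conv_lhs => rw [h1]
    field_simp
  rw [heq]
  exact memLocalRing_mul hMp (memLocalRing_pow hMp (memLocalRing_natCast hMp p) _)
    (memLocalRing_inv_natCast hM hnd)

open Classical in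
/-- If no irreducible character has `p`-defect zero and no product `y * (u z u⁻¹)` with
`y` a nonidentity element of a Sylow `p`-subgroup is conjugate to `z`, then `p` divides the
order of the centralizer of `z`. -/
theorem dvd_card_centralizer_of_no_defect_zero (p : ℕ) [Fact p.Prime] (hpG : p ∣ Nat.card G)
    (hdz : ∀ χ : IrrCharacter G,
      (charDegree (χ : G → ℂ)).factorization p ≠ (Nat.card G).factorization p)
    (P : Sylow p G) (z : G)
    (hno : ∀ y : G, y ∈ (P : Subgroup G) → y ≠ 1 → ∀ u : G, ¬ IsConj z (y * (u * z * u⁻¹))) :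
    p ∣ Nat.card (Subgroup.centralizer ({z} : Set G)) := by
  have hp : p.Prime := Fact.out
  haveI : Fintype (IrrCharacter G) := Fintype.ofFinite _
  obtain ⟨M, hM⟩ := exists_isPModular hp
  have hMp := isPrime_of_isPModular hM
  choose n hn using fun χ : IrrCharacter G => sum_subgroup_char_eq χ (P : Subgroup G)
  have hcount := sum_isConj_indicator (P : Subgroup G) z n hn
  set c : ℕ := Nat.card (Subgroup.centralizer ({z} : Set G)) with hc
  have hLHS : ∑ y : (P : Subgroup G), ∑ u : G, (if IsConj z ((y : G) * (u * z * u⁻¹))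
        then (c : ℂ) else 0) = (Nat.card G : ℂ) * (c : ℂ) := by
    rw [Finset.sum_eq_single (1 : (P : Subgroup G))]
    · have : ∀ u : G, (if IsConj z (((1 : (P : Subgroup G)) : G) * (u * z * u⁻¹))
          then (c : ℂ) else 0) = (c : ℂ) := by
        intro u
        rw [if_pos]
        rw [Subgroup.coe_one, one_mul]
        exact isConj_iff.mpr ⟨u, rfl⟩
      simp_rw [this]
      rw [Finset.sum_const, Finset.card_univ, nsmul_eq_mul, Nat.card_eq_fintype_card]
    · intro y _ hy1
      apply Finset.sum_eq_zero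
      intro u _
      rw [if_neg]
      apply hno (y : G) y.2 _ u
      intro h
      apply hy1
      exact Subtype.ext h
    · intro h
      exact absurd (Finset.mem_univ _) h
  rw [hLHS] at hcount
  have hG0 : (Nat.card G : ℂ) ≠ 0 := Nat.cast_ne_zero.mpr Nat.card_pos.ne'
  have hPcard : Nat.card (P : Subgroup G) = p ^ (Nat.card G).factorization p :=
    Sylow.card_eq_multiplicity P
  have ha : 1 ≤ (Nat.card G).factorization p :=
    (hp.dvd_iff_one_le_factorization Nat.card_pos.ne').mp hpG
  have hc2 : (c : ℂ) = (p : ℂ) * ∑ χ : IrrCharacter G,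
      (χ : G → ℂ) z * conj ((χ : G → ℂ) z) * (n χ : ℂ) *
        ((p : ℂ) ^ ((Nat.card G).factorization p - 1) / (χ : G → ℂ) 1) := by
    have h1 : (Nat.card G : ℂ) * (c : ℂ) = (Nat.card G : ℂ) * ((Nat.card (P : Subgroup G) : ℂ) *
        ∑ χ : IrrCharacter G,
          (χ : G → ℂ) z * conj ((χ : G → ℂ) z) * (n χ : ℂ) / (χ : G → ℂ) 1) := by
      rw [hcount]; ring
    have h2 := mul_left_cancel₀ hG0 h1
    rw [h2, hPcard, Finset.mul_sum, Finset.mul_sum]
    apply Finset.sum_congr rfl
    intro χ _
    have h3 : ((p ^ (Nat.card G).factorization p : ℕ) : ℂ) =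
        (p : ℂ) * (p : ℂ) ^ ((Nat.card G).factorization p - 1) := by
      rw [← pow_succ']
      push_cast
      congr 1
      omega
    rw [h3]
    ring
  have hloc : MemLocalRing M (∑ χ : IrrCharacter G,
      (χ : G → ℂ) z * conj ((χ : G → ℂ) z) * (n χ : ℂ) *
        ((p : ℂ) ^ ((Nat.card G).factorization p - 1) / (χ : G → ℂ) 1)) := by
    apply memLocalRing_sum hMp
    intro χ _
    have h1 : MemLocalRing M ((χ : G → ℂ) z) := by
      have := Cfsg.Agent.Lib.Helper80.irr_isIntegral χ z
      exact memLocalRing_algInt hMp ⟨_, this⟩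
    have h2 : MemLocalRing M (conj ((χ : G → ℂ) z)) := by
      rw [← Cfsg.Agent.Lib.Helper80.irr_conj_inv]
      have := Cfsg.Agent.Lib.Helper80.irr_isIntegral χ z⁻¹
      exact memLocalRing_algInt hMp ⟨_, this⟩
    have h3 : MemLocalRing M ((p : ℂ) ^ ((Nat.card G).factorization p - 1) / (χ : G → ℂ) 1) := by
      rw [irr_apply_one_eq_charDegree]
      exact memLocalRing_pow_pred_div hM Nat.card_pos.ne' (irr_charDegree_dvd_card χ) (hdz χ)
    exact memLocalRing_mul hMp (memLocalRing_mul hMp (memLocalRing_mul hMp h1 h2)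
      (memLocalRing_natCast hMp _)) h3
  have hmem : MemLocalIdeal M (c : ℂ) := by
    rw [hc2]
    exact memLocalIdeal_mul_right hMp ((memLocalIdeal_natCast_iff hM p).mpr dvd_rfl) hloc
  exact (memLocalIdeal_natCast_iff hM c).mp hmem

end

end Cfsg.Agent.Lib.Helper74
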