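import Cfsg.Agent.Lib.Helper74.BF6

set_option autoImplicit false

namespace Cfsg.Agent.Lib.Helper74

open scoped ComplexConjugate

section
variable {G : Type*} [Group G]

/-- the "half" exponent for an element of odd order -/
noncomputable def halfExp (h : G) : ℕ := (orderOf h + 1) / 2

theorem pow_two_mul_halfExp {h : G} (hodd : Odd (orderOf h)) : h ^ (2 * halfExp h) = h := by
  unfold halfExp
  obtain ⟨k, hk⟩ := hodd
  have : 2 * ((orderOf h + 1) / 2) = orderOf h + 1 := by omega
  rw [this, pow_succ, pow_orderOf_eq_one, one_mul]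

theorem sq_root_mul_sq {s h : G} (hs : s * s = 1) (hodd : Odd (orderOf h)) (hc : s * h = h * s) :
    (s * h ^ halfExp h) * (s * h ^ halfExp h) = h := by
  have hc' : Commute s (h ^ halfExp h) := (Commute.pow_right hc (halfExp h))
  have : (s * h ^ halfExp h) * (s * h ^ halfExp h) = (s * s) * (h ^ halfExp h * h ^ halfExp h) := by
    rw [mul_assoc, ← mul_assoc (h ^ halfExp h) s, ← hc'.eq]
    simp only [mul_assoc]
  rw [this, hs, one_mul, ← pow_add, ← two_mul, pow_two_mul_halfExp hodd]

theorem inv_part_sq {g : G} (hodd : Odd (orderOf (g * g))) :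
    (g * ((g * g) ^ halfExp (g * g))⁻¹) * (g * ((g * g) ^ halfExp (g * g))⁻¹) = 1 := by
  set h := g * g with hh
  have hgh : Commute g h := by
    rw [hh]; exact (Commute.refl g).mul_right (Commute.refl g)
  have hc : Commute g ((h ^ halfExp h)⁻¹) := (hgh.pow_right _).inv_right
  have : (g * (h ^ halfExp h)⁻¹) * (g * (h ^ halfExp h)⁻¹) = (g * g) * ((h ^ halfExp h)⁻¹ * (h ^ halfExp h)⁻¹) := by
    rw [mul_assoc, ← mul_assoc ((h ^ halfExp h)⁻¹) g, ← hc.eq]
    simp only [mul_assoc]
  rw [this, ← mul_inv_rev, ← pow_add, ← two_mul, pow_two_mul_halfExp hodd, ← hh, mul_inv_cancel]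

theorem inv_part_comm (g : G) :
    (g * ((g * g) ^ halfExp (g * g))⁻¹) * (g * g) = (g * g) * (g * ((g * g) ^ halfExp (g * g))⁻¹) := by
  set h := g * g with hh
  have hgh : Commute g h := by
    rw [hh]; exact (Commute.refl g).mul_right (Commute.refl g)
  have hc : Commute (g * (h ^ halfExp h)⁻¹) h :=
    hgh.mul_left (((Commute.refl h).pow_left _).inv_left)
  exact hc.eq

end

end Cfsg.Agent.Lib.Helper74
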