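import Cfsg.Agent.Lib.Helper74.DZ1

set_option autoImplicit false

namespace Cfsg.Agent.Lib.Helper74

open scoped ComplexConjugate

section
variable {G : Type*} [Group G] [Fintype G]

open Classical in
theorem sum_sq_odd_eq (f : G → ℂ) :
    ∑ g ∈ Finset.univ.filter (fun g : G => Odd (orderOf (g * g))), f (g * g) =
      ∑ p ∈ (Finset.univ ×ˢ Finset.univ).filter
        (fun p : G × G => p.1 * p.1 = 1 ∧ Odd (orderOf p.2) ∧ p.1 * p.2 = p.2 * p.1), f p.2 := by
  refine Finset.sum_bij' (fun g _ => (g * ((g * g) ^ halfExp (g * g))⁻¹, g * g))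
    (fun p _ => p.1 * p.2 ^ halfExp p.2) ?_ ?_ ?_ ?_ ?_
  · intro g hg
    simp only [Finset.mem_filter, Finset.mem_univ, true_and] at hg
    simp only [Finset.mem_filter, Finset.mem_product, Finset.mem_univ, true_and]
    exact ⟨inv_part_sq hg, hg, inv_part_comm g⟩
  · intro p hp
    simp only [Finset.mem_filter, Finset.mem_product, Finset.mem_univ, true_and] at hp
    simp only [Finset.mem_filter, Finset.mem_univ, true_and]
    rw [sq_root_mul_sq hp.1 hp.2.1 hp.2.2]
    exact hp.2.1
  · intro g _
    simp only [inv_mul_cancel_right]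
  · intro p hp
    simp only [Finset.mem_filter, Finset.mem_product, Finset.mem_univ, true_and] at hp
    have h := sq_root_mul_sq hp.1 hp.2.1 hp.2.2
    apply Prod.ext
    · simp only [h, mul_inv_cancel_right]
    · exact h
  · intro g _
    rfl

end

end Cfsg.Agent.Lib.Helper74
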