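import Cfsg.Agent.Lib.Helper74.DZ2

set_option autoImplicit false

namespace Cfsg.Agent.Lib.Helper74

open scoped ComplexConjugate

section
variable {G : Type*} [Group G] [Fintype G]

open Classical in
theorem sum_sq_eq_of_vanish (f : G → ℂ) (V2 : ∀ x : G, ¬ Odd (orderOf x) → f x = 0)
    (Vodd : ∀ s h : G, orderOf s = 2 → h ≠ 1 → Odd (orderOf h) → s * h = h * s → f h = 0)
    (hsum : ∑ g : G, f g = 0) :
    ∑ g : G, f (g * g) = (Nat.card {s : G // orderOf s = 2} : ℂ) * f 1 := by
  have h1 : ∑ g : G, f (g * g) =
      ∑ g ∈ Finset.univ.filter (fun g : G => Odd (orderOf (g * g))), f (g * g) := by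
    rw [Finset.sum_filter]
    apply Finset.sum_congr rfl
    intro g _
    by_cases hg : Odd (orderOf (g * g))
    · rw [if_pos hg]
    · rw [if_neg hg, V2 _ hg]
  rw [h1, sum_sq_odd_eq, Finset.sum_filter, Finset.sum_product]
  have h2 : ∀ s : G, ∑ h : G, (if s * s = 1 ∧ Odd (orderOf h) ∧ s * h = h * s then f h else 0) =
      if orderOf s = 2 then f 1 else 0 := by
    intro s
    by_cases hs : s * s = 1
    · rcases (sq_eq_one_iff s).mp hs with h1s | h2s
      · subst h1s
        have hne : ¬ orderOf (1 : G) = 2 := by rw [orderOf_one]; norm_num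
        rw [if_neg hne]
        have hcg : ∑ h : G, (if (1:G) * 1 = 1 ∧ Odd (orderOf h) ∧ (1:G) * h = h * 1 then f h else 0)
            = ∑ h : G, f h := by
          apply Finset.sum_congr rfl
          intro h _
          by_cases hh : Odd (orderOf h)
          · rw [if_pos ⟨by simp, hh, by simp⟩]
          · rw [if_neg (fun hc => hh hc.2.1)]
            exact (V2 h hh).symm
        rw [hcg]
        exact hsum
      · rw [if_pos h2s]
        rw [Finset.sum_eq_single (1 : G)]
        · rw [if_pos ⟨hs, by simp, by simp⟩]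
        · intro h _ hh1
          by_cases hc : s * s = 1 ∧ Odd (orderOf h) ∧ s * h = h * s
          · rw [if_pos hc]
            exact Vodd s h h2s hh1 hc.2.1 hc.2.2
          · rw [if_neg hc]
        · intro h; exact absurd (Finset.mem_univ _) h
    · have hne : ¬ orderOf s = 2 := by
        intro h2s
        exact hs ((sq_eq_one_iff s).mpr (Or.inr h2s))
      rw [if_neg hne]
      apply Finset.sum_eq_zero
      intro h _
      rw [if_neg (fun hc => hs hc.1)]
  simp only [h2]
  rw [← Finset.sum_filter, Finset.sum_const, nsmul_eq_mul, Nat.card_eq_fintype_card,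
    Fintype.card_subtype]

end

end Cfsg.Agent.Lib.Helper74
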