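import Cfsg.Agent.Lib.Helper74.DZ4

set_option autoImplicit false

namespace Cfsg.Agent.Lib.Helper74

open Cfsg
open scoped ComplexConjugate

universe u

section
variable {G : Type u} [Group G] [Fintype G]

/-- the hypotheses of S4478 -/
structure DZHyp (χ : IrrCharacter G) : Prop where
  heven : Even (Nat.card G)
  h2 : 2 ^ (Nat.card G).factorization 2 ∣ charDegree (χ : G → ℂ)
  hp : ∀ p : ℕ, p.Prime → p ≠ 2 → (∃ g : G, orderOf g = 2 * p) →
    p ^ (Nat.card G).factorization p ∣ charDegree (χ : G → ℂ)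

variable {χ : IrrCharacter G}

omit [Fintype G] in
theorem DZHyp.pow_dvd_of_comm (H : DZHyp χ) {s h : G} {q : ℕ} (hs : orderOf s = 2) (hq : q.Prime)
    (hh : orderOf h = q) (hc : Commute s h) :
    q ^ (Nat.card G).factorization q ∣ charDegree (χ : G → ℂ) := by
  by_cases hq2 : q = 2
  · subst hq2; exact H.h2
  · exact H.hp q hq hq2 ⟨s * h, orderOf_mul_eq_two_mul hs hq hq2 hh hc⟩

theorem DZHyp.vanish_even (H : DZHyp χ) (x : G) (hx : ¬ Odd (orderOf x)) : (χ : G → ℂ) x = 0 :=
  dz_vanish χ 2 Nat.prime_two H.h2 x (even_iff_two_dvd.mp (Nat.not_odd_iff_even.mp hx))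

theorem DZHyp.vanish_odd (H : DZHyp χ) (s h : G) (hs : orderOf s = 2) (hne : h ≠ 1)
    (_hodd : Odd (orderOf h)) (hc : s * h = h * s) : (χ : G → ℂ) h = 0 := by
  have h1 : orderOf h ≠ 1 := fun h0 => hne (orderOf_eq_one_iff.mp h0)
  obtain ⟨q, hq, hqd⟩ := Nat.exists_prime_and_dvd h1
  have h0 : orderOf h ≠ 0 := (orderOf_pos h).ne'
  have hh' : orderOf (h ^ (orderOf h / q)) = q := orderOf_pow_orderOf_div h0 hqd
  have hc' : Commute s (h ^ (orderOf h / q)) := Commute.pow_right hc _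
  exact dz_vanish χ q hq (H.pow_dvd_of_comm hs hq hh' hc') h hqd

theorem DZHyp.ne_triv (H : DZHyp χ) : χ ≠ trivIrr G := by
  intro h
  have h2 := H.h2
  have hpos : 0 < (Nat.card G).factorization 2 :=
    Nat.Prime.factorization_pos_of_dvd Nat.prime_two Nat.card_pos.ne' (even_iff_two_dvd.mp H.heven)
  have h3 : 2 ∣ charDegree (χ : G → ℂ) := Dvd.dvd.trans (dvd_pow_self 2 hpos.ne') h2
  have h4 : charDegree (χ : G → ℂ) = 1 := by
    rw [h]
    exact Cfsg.Agent.Lib.Helper81.charDegree_eq_of_apply_one (by simp [trivIrr_apply])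
  rw [h4] at h3
  exact absurd h3 (by norm_num)

theorem DZHyp.sum_eq_zero (H : DZHyp χ) : ∑ g : G, (χ : G → ℂ) g = 0 := by
  have h1 := Cfsg.Agent.Lib.Helper3.classInner_irr χ.2 (trivIrr G).2
  rw [if_neg (fun h => H.ne_triv (Subtype.ext h))] at h1
  unfold classInner at h1
  simp only [trivIrr_apply, map_one, mul_one] at h1
  rcases mul_eq_zero.mp h1 with h | h
  · exact absurd (inv_eq_zero.mp h) (Nat.cast_ne_zero.mpr Nat.card_pos.ne')
  · exact h

theorem DZHyp.sum_sq (H : DZHyp χ) : ∑ g : G, (χ : G → ℂ) (g * g) =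
    (Nat.card {s : G // orderOf s = 2} : ℂ) * (charDegree (χ : G → ℂ) : ℂ) := by
  rw [← Cfsg.Agent.Lib.Helper81.irr_apply_one_eq_charDegree χ]
  exact sum_sq_eq_of_vanish (χ : G → ℂ) H.vanish_even H.vanish_odd H.sum_eq_zero

/-- `t * d = |G|` and the Frobenius–Schur indicator is `1`. -/
theorem DZHyp.card_eq (H : DZHyp χ) :
    Nat.card {s : G // orderOf s = 2} * charDegree (χ : G → ℂ) = Nat.card G ∧
    (Nat.card G : ℂ)⁻¹ * ∑ g : G, (χ : G → ℂ) (g * g) = 1 := by
  have htri := (fs_trichotomy χ.2).1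
  have hG : (Nat.card G : ℂ) ≠ 0 := Nat.cast_ne_zero.mpr Nat.card_pos.ne'
  have ht : 1 ≤ Nat.card {s : G // orderOf s = 2} := one_le_card_involutions H.heven
  have hd : 0 < charDegree (χ : G → ℂ) := Cfsg.Agent.Lib.Helper80.irr_charDegree_pos χ
  rw [H.sum_sq] at htri ⊢
  have hcase : (Nat.card G : ℂ)⁻¹ * ((Nat.card {s : G // orderOf s = 2} : ℂ) *
      (charDegree (χ : G → ℂ) : ℂ)) = 1 := by
    rcases htri with h | h | h
    · exfalso
      rcases mul_eq_zero.mp h with h | h
      · exact hG (inv_eq_zero.mp h)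
      · rcases mul_eq_zero.mp h with h | h
        · exact absurd (Nat.cast_eq_zero.mp h) (by omega)
        · exact absurd (Nat.cast_eq_zero.mp h) (by omega)
    · exact h
    · exfalso
      have h1 : ((Nat.card {s : G // orderOf s = 2} : ℂ) * (charDegree (χ : G → ℂ) : ℂ)) =
          -(Nat.card G : ℂ) := by
        field_simp at h
        linear_combination h
      have h2 : ((Nat.card {s : G // orderOf s = 2} * charDegree (χ : G → ℂ) + Nat.card G : ℕ) : ℂ)
          = 0 := by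
        push_cast
        rw [h1]; ring
      have h3 := Nat.cast_eq_zero.mp h2
      have : 0 < Nat.card G := Nat.card_pos
      omega
  refine ⟨?_, hcase⟩
  have h1 : ((Nat.card {s : G // orderOf s = 2} : ℂ) * (charDegree (χ : G → ℂ) : ℂ)) =
      (Nat.card G : ℂ) := by
    field_simp at hcase
    linear_combination hcase
  exact_mod_cast h1

end

end Cfsg.Agent.Lib.Helper74
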