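import Cfsg.Agent.Lib.Helper74.DZ5

set_option autoImplicit false

namespace Cfsg.Agent.Lib.Helper74

open Cfsg
open scoped ComplexConjugate

universe u

section
variable {G : Type u} [Group G] [Fintype G] {χ : IrrCharacter G}

/-- every prime dividing the centralizer of an involution has its full power dividing the degree -/
theorem DZHyp.pow_dvd_of_dvd_centralizer (H : DZHyp χ) {s : G} (hs : orderOf s = 2) {q : ℕ}
    (hq : q.Prime) (hqd : q ∣ Nat.card (Subgroup.centralizer ({s} : Set G))) :
    q ^ (Nat.card G).factorization q ∣ charDegree (χ : G → ℂ) := by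
  have : Fact q.Prime := ⟨hq⟩
  obtain ⟨x, hx⟩ := exists_prime_orderOf_dvd_card' q hqd
  have hx' : orderOf (x : G) = q := by rw [Subgroup.orderOf_coe]; exact hx
  have hc : Commute s (x : G) := by
    have := Subgroup.mem_centralizer_iff.mp x.2 s (Set.mem_singleton s)
    exact this
  exact H.pow_dvd_of_comm hs hq hx' hc

theorem DZHyp.centralizer_dvd (H : DZHyp χ) {s : G} (hs : orderOf s = 2) :
    Nat.card (Subgroup.centralizer ({s} : Set G)) ∣ charDegree (χ : G → ℂ) := by
  have hd0 : charDegree (χ : G → ℂ) ≠ 0 := (Cfsg.Agent.Lib.Helper80.irr_charDegree_pos χ).ne'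
  have hC0 : Nat.card (Subgroup.centralizer ({s} : Set G)) ≠ 0 := Nat.card_pos.ne'
  have hG0 : Nat.card G ≠ 0 := Nat.card_pos.ne'
  rw [← Nat.factorization_prime_le_iff_dvd hC0 hd0]
  intro q hq
  by_cases hqd : q ∣ Nat.card (Subgroup.centralizer ({s} : Set G))
  · have h1 := H.pow_dvd_of_dvd_centralizer hs hq hqd
    have h2 : (Nat.card G).factorization q ≤ (charDegree (χ : G → ℂ)).factorization q :=
      (hq.pow_dvd_iff_le_factorization hd0).mp h1
    have h3 : Nat.card (Subgroup.centralizer ({s} : Set G)) ∣ Nat.card G :=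
      Subgroup.card_subgroup_dvd_card _
    have h4 := (Nat.factorization_le_iff_dvd hC0 hG0).mpr h3 q
    exact le_trans h4 h2
  · rw [Nat.factorization_eq_zero_of_not_dvd hqd]
    exact Nat.zero_le _

open Classical in
theorem DZHyp.main (H : DZHyp χ) {s : G} (hs : orderOf s = 2) :
    Nat.card (Subgroup.centralizer ({s} : Set G)) = charDegree (χ : G → ℂ) ∧
    (Subgroup.centralizer ({s} : Set G)).index = Nat.card {x : G // orderOf x = 2} ∧
    ∀ t : G, orderOf t = 2 → IsConj s t := by
  set C := Subgroup.centralizer ({s} : Set G) with hC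
  set t := Nat.card {x : G // orderOf x = 2} with ht
  set d := charDegree (χ : G → ℂ) with hd
  have hd0 : 0 < d := Cfsg.Agent.Lib.Helper80.irr_charDegree_pos χ
  have ht1 : 1 ≤ t := one_le_card_involutions H.heven
  obtain ⟨j, hj0⟩ := H.centralizer_dvd hs
  have hj : d = Nat.card C * j := hj0
  have hcard : t * d = Nat.card G := H.card_eq.1
  have hidx : Nat.card C * C.index = Nat.card G := Subgroup.card_mul_index C
  have hC0 : 0 < Nat.card C := Nat.card_pos
  -- index = t * j
  have h1 : C.index = t * j := by
    have : Nat.card C * C.index = Nat.card C * (t * j) := by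
      rw [hidx, ← hcard, hj]; ring
    exact Nat.eq_of_mul_eq_mul_left hC0 this
  -- index ≤ t
  have hsub : Finset.univ.filter (fun h : G => IsConj s h) ⊆
      Finset.univ.filter (fun x : G => orderOf x = 2) := by
    intro h hh
    simp only [Finset.mem_filter, Finset.mem_univ, true_and] at hh ⊢
    obtain ⟨c, hc⟩ := hh
    rw [← hc.orderOf_eq]
    exact hs
  have hcardconj : (Finset.univ.filter (fun h : G => IsConj s h)).card = C.index := by
    rw [hC, Cfsg.Agent.Lib.Helper80.index_centralizer_eq_card_conj, Nat.card_eq_fintype_card,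
      Fintype.card_subtype]
  have hcardinv : (Finset.univ.filter (fun x : G => orderOf x = 2)).card = t := by
    rw [ht, Nat.card_eq_fintype_card, Fintype.card_subtype]
  have hle : C.index ≤ t := by
    rw [← hcardconj, ← hcardinv]
    exact Finset.card_le_card hsub
  have hj0' : j ≠ 0 := by
    intro h0
    rw [h0, mul_zero] at hj
    omega
  have hj1 : j = 1 := by
    rw [h1] at hle
    have : t * j ≤ t * 1 := by rw [mul_one]; exact hle
    have := Nat.le_of_mul_le_mul_left this (by omega)
    omega
  rw [hj1, mul_one] at hj h1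
  refine ⟨hj.symm, h1, ?_⟩
  intro t' ht'
  have heq : Finset.univ.filter (fun h : G => IsConj s h) =
      Finset.univ.filter (fun x : G => orderOf x = 2) := by
    apply Finset.eq_of_subset_of_card_le hsub
    rw [hcardconj, hcardinv, h1]
  have : t' ∈ Finset.univ.filter (fun x : G => orderOf x = 2) := by
    simp only [Finset.mem_filter, Finset.mem_univ, true_and]
    exact ht'
  rw [← heq] at this
  simpa using this

/-- The full conclusion of S4478. -/
theorem DZHyp.conclusion (H : DZHyp χ) :
    (∀ s t : G, orderOf s = 2 → orderOf t = 2 → IsConj s t) ∧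
    (∀ s : G, orderOf s = 2 →
      Nat.card (Subgroup.centralizer ({s} : Set G)) = charDegree (χ : G → ℂ) ∧
      (Nat.card (Subgroup.centralizer ({s} : Set G))).Coprime
        (Subgroup.centralizer ({s} : Set G)).index) ∧
    (Nat.card G : ℂ)⁻¹ * ∑ g : G, (χ : G → ℂ) (g * g) = 1 := by
  refine ⟨fun s t hs ht => (H.main hs).2.2 t ht, ?_, H.card_eq.2⟩
  intro s hs
  obtain ⟨h1, h2, -⟩ := H.main hs
  refine ⟨h1, ?_⟩
  apply Nat.coprime_of_dvd
  intro q hq hqd hqi
  have h3 := H.pow_dvd_of_dvd_centralizer hs hq hqd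
  have h4 : Nat.card G = charDegree (χ : G → ℂ) * Nat.card {x : G // orderOf x = 2} := by
    rw [← H.card_eq.1]; ring
  have := not_dvd_cofactor hq Nat.card_pos.ne' h4 h3
  rw [h2] at hqi
  exact this hqi

end

end Cfsg.Agent.Lib.Helper74
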