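import Cfsg.Agent.Lib.Helper74.Osima5
import Cfsg.Agent.Lib.Helper77.Osima
import Cfsg.Agent.Lib.Helper77.BlockIdemSupp
import Cfsg.Agent.Lib.Helper77.DefectClass
import Cfsg.Agent.Lib.Helper16.DefectVal
import Cfsg.Agent.Lib.Helper81.ClassTable
import Cfsg.Agent.Lib.Helper15.IrrCrit
import Cfsg.Agent.Lib.Helper81.OneIrr

/-!
# Blocks of a group with a normal Sylow `p`-subgroup: the idempotent at `1` (helper74)

For `P` a normal `p`-subgroup and `y` a `p`-regular element centralizing `P`,
`[G : P] e_B(y) = ∑_{ψ ∈ B} [ψ_P, 1_P] conj (ψ y)`.  When `P` is moreover a Sylow subgroup, the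
coefficient `e_B(1)` is a unit of the local ring.
-/

set_option autoImplicit false

namespace Cfsg.Agent.Lib.Helper74

open Cfsg Cfsg.Agent.Lib.Helper81
open scoped ComplexConjugate

universe u

variable {G : Type u} [Group G] [Fintype G]

omit [Fintype G] in
/-- The product of a non-trivial `p`-element and a commuting `p`-regular element is `p`-singular. -/
theorem dvd_orderOf_mul_of_pElement {p : ℕ} [Fact p.Prime] {P : Subgroup G} (hP : IsPGroup p P)
    {x z : G} (hx : x ∈ P) (hx1 : x ≠ 1) (hc : Commute x z) (hz : ¬ p ∣ orderOf z) :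
    p ∣ orderOf (x * z) := by
  have hp : p.Prime := Fact.out
  obtain ⟨j, hj⟩ := hP ⟨x, hx⟩
  have hxj : x ^ p ^ j = 1 := by
    have := congrArg Subtype.val hj
    simpa using this
  obtain ⟨i, hi, hxi⟩ := (Nat.dvd_prime_pow hp).mp (orderOf_dvd_of_pow_eq_one hxj)
  have hi0 : i ≠ 0 := by
    intro h
    rw [h, pow_zero, orderOf_eq_one_iff] at hxi
    exact hx1 hxi
  have hcop : Nat.Coprime (orderOf x) (orderOf z) := by
    rw [hxi]
    exact Nat.Coprime.pow_left _ ((Nat.Prime.coprime_iff_not_dvd hp).mpr hz)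
  rw [hc.orderOf_mul_eq_mul_orderOf_of_coprime hcop, hxi]
  exact Dvd.dvd.mul_right (dvd_pow_self p hi0) _

open Classical in
/-- The block idempotent at `p`-regular elements centralizing a normal `p`-subgroup. -/
theorem exists_nat_blockCoeff_of_normal [Fintype (IrrCharacter G)] {p : ℕ} [Fact p.Prime]
    {M : Ideal AlgInt} (hpM : IsPModular p M) (P : Subgroup G) [P.Normal] (hP : IsPGroup p P)
    (χ₀ : IrrCharacter G) :
    ∃ n : IrrCharacter G → ℕ, ∀ y : G, y ∈ Subgroup.centralizer (P : Set G) → ¬ p ∣ orderOf y →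
      (P.index : ℂ) * blockCoeff (blockOf M (χ₀ : G → ℂ)) y =
        ∑ ψ ∈ Finset.univ.filter (fun ψ : IrrCharacter G => ψ ∈ blockOf M (χ₀ : G → ℂ)),
          (n ψ : ℂ) * conj ((ψ : G → ℂ) y) := by
  have hn : ∀ ψ : IrrCharacter G, ∃ m : ℕ,
      classInner (fun x : P => (ψ : G → ℂ) x) ((oneIrr P : IrrCharacter P) : P → ℂ) = (m : ℂ) := by
    intro ψ
    exact Cfsg.Agent.Lib.Helper15.exists_nat_classInner
      (Cfsg.Agent.Lib.Helper3.IsCharacter.restrict (Cfsg.Agent.Lib.Helper3.IsIrrCharacter.isCharacter ψ.2) P)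
      (Cfsg.Agent.Lib.Helper3.IsIrrCharacter.isCharacter (oneIrr P).2)
  choose n hn using hn
  refine ⟨n, ?_⟩
  intro y hyC hy
  set B := blockOf M (χ₀ : G → ℂ) with hB
  set Bf := Finset.univ.filter (fun ψ : IrrCharacter G => ψ ∈ B) with hBf
  have hcl : IsClassFunction G (blockCoeff B) := Cfsg.Agent.Lib.Helper77.blockCoeff_isClassFunction B
  have hCn : (Subgroup.centralizer (P : Set G)).Normal := inferInstance
  -- step 1
  have h1 : ∀ g : G, ∑ x : P, blockCoeff B ((x : G) * (g * y * g⁻¹)) = blockCoeff B y := by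
    intro g
    rw [Finset.sum_eq_single (1 : P)]
    · rw [Subgroup.coe_one, one_mul]
      exact hcl y g
    · intro x _ hx1
      apply blockCoeff_blockOf_eq_zero hpM χ₀
      have hzC : g * y * g⁻¹ ∈ Subgroup.centralizer (P : Set G) := hCn.conj_mem y hyC g
      have hc : Commute (x : G) (g * y * g⁻¹) := by
        have := Subgroup.mem_centralizer_iff.mp hzC (x : G) x.2
        exact this
      have hord : orderOf (g * y * g⁻¹) = orderOf y :=
        orderOf_injective (MulAut.conj g).toMonoidHom (MulAut.conj g).injective y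
      apply dvd_orderOf_mul_of_pElement hP x.2 _ hc (hord ▸ hy)
      intro h
      exact hx1 (Subtype.ext h)
    · intro h
      exact absurd (Finset.mem_univ _) h
  -- step 2
  have hG : (Nat.card G : ℂ) ≠ 0 := Nat.cast_ne_zero.mpr Nat.card_pos.ne'
  have h2 : ∀ x : G, ∑ g : G, blockCoeff B (x * (g * y * g⁻¹)) =
      ∑ ψ ∈ Bf, conj ((ψ : G → ℂ) x) * conj ((ψ : G → ℂ) y) := by
    intro x
    simp only [Cfsg.Agent.Lib.Helper77.blockCoeff_eq_sum]
    rw [← Finset.mul_sum, Finset.sum_comm]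
    rw [Finset.mul_sum]
    apply Finset.sum_congr rfl
    intro ψ _
    rw [← Finset.mul_sum]
    have h3 := irr_sum_conj_mul ψ x y
    have h4 : (ψ : G → ℂ) 1 = conj ((ψ : G → ℂ) 1) := by
      rw [irr_apply_one_eq_charDegree, Complex.conj_natCast]
    rw [h4, ← map_sum, ← map_mul, h3, map_mul, map_mul, Complex.conj_natCast, ← mul_assoc,
      inv_mul_cancel₀ hG, one_mul]
  -- combine
  have h5 : (Nat.card G : ℂ) * blockCoeff B y =
      ∑ ψ ∈ Bf, conj (∑ x : P, (ψ : G → ℂ) x) * conj ((ψ : G → ℂ) y) := by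
    calc (Nat.card G : ℂ) * blockCoeff B y
        = ∑ g : G, ∑ x : P, blockCoeff B ((x : G) * (g * y * g⁻¹)) := by
          rw [Finset.sum_congr rfl (fun g _ => h1 g), Finset.sum_const, Finset.card_univ,
            nsmul_eq_mul, Nat.card_eq_fintype_card]
      _ = ∑ x : P, ∑ g : G, blockCoeff B ((x : G) * (g * y * g⁻¹)) := Finset.sum_comm
      _ = ∑ x : P, ∑ ψ ∈ Bf, conj ((ψ : G → ℂ) x) * conj ((ψ : G → ℂ) y) :=
          Finset.sum_congr rfl (fun x _ => h2 x)
      _ = ∑ ψ ∈ Bf, conj (∑ x : P, (ψ : G → ℂ) x) * conj ((ψ : G → ℂ) y) := by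
          rw [Finset.sum_comm]
          apply Finset.sum_congr rfl
          intro ψ _
          rw [map_sum, Finset.sum_mul]
  have hPc : (Nat.card P : ℂ) ≠ 0 := Nat.cast_ne_zero.mpr Nat.card_pos.ne'
  have h6 : ∀ ψ : IrrCharacter G, ∑ x : P, (ψ : G → ℂ) x = (Nat.card P : ℂ) * (n ψ : ℂ) := by
    intro ψ
    rw [← hn ψ]
    unfold classInner
    rw [← mul_assoc, mul_inv_cancel₀ hPc, one_mul]
    apply Finset.sum_congr rfl
    intro x _
    rw [oneIrr_apply, map_one, mul_one]
  have h7 : (Nat.card G : ℂ) = (Nat.card P : ℂ) * (P.index : ℂ) := by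
    rw [← Nat.cast_mul, Subgroup.card_mul_index]
  rw [h7, mul_assoc] at h5
  apply mul_left_cancel₀ hPc
  rw [h5, Finset.mul_sum]
  apply Finset.sum_congr rfl
  intro ψ _
  rw [h6 ψ, map_mul, Complex.conj_natCast, Complex.conj_natCast, mul_assoc]

end Cfsg.Agent.Lib.Helper74

namespace Cfsg.Agent.Lib.Helper74

open Cfsg Cfsg.Agent.Lib.Helper81
open scoped ComplexConjugate

universe u

variable {G : Type u} [Group G] [Fintype G]

omit [Fintype G] in
theorem centralizer_inv_singleton (y : G) :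
    Subgroup.centralizer ({y⁻¹} : Set G) = Subgroup.centralizer ({y} : Set G) := by
  ext g
  simp only [Subgroup.mem_centralizer_iff, Set.mem_singleton_iff, forall_eq]
  constructor
  · intro h
    have : g * y⁻¹ = y⁻¹ * g := h.symm
    calc y * g = y * (g * y⁻¹) * y := by group
      _ = y * (y⁻¹ * g) * y := by rw [this]
      _ = g * y := by group
  · intro h
    have : g * y = y * g := h.symm
    calc y⁻¹ * g = y⁻¹ * (g * y) * y⁻¹ := by group
      _ = y⁻¹ * (y * g) * y⁻¹ := by rw [this]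
      _ = g * y⁻¹ := by group

/-- In a group with a normal Sylow `p`-subgroup, the idempotent of every block is a unit of the
local ring at the identity. -/
theorem not_memLocalIdeal_blockCoeff_one_of_normal_sylow {p : ℕ} [Fact p.Prime]
    {M : Ideal AlgInt} (hpM : IsPModular p M) (P : Subgroup G) [P.Normal] (hP : IsPGroup p P)
    (hidx : ¬ p ∣ P.index) (χ₀ : IrrCharacter G) :
    ¬ MemLocalIdeal M (blockCoeff (blockOf M (χ₀ : G → ℂ)) 1) := by
  classical
  have := Fintype.ofFinite (IrrCharacter G)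
  have hMp : M.IsPrime := isPrime_of_isPModular hpM
  obtain ⟨n, hn⟩ := exists_nat_blockCoeff_of_normal hpM P hP χ₀
  obtain ⟨y, hy⟩ := Cfsg.Agent.Lib.Helper77.exists_isDefectClass hpM χ₀
  set B := blockOf M (χ₀ : G → ℂ) with hB
  set Bf := Finset.univ.filter (fun ψ : IrrCharacter G => ψ ∈ B) with hBf
  have hyreg : ¬ p ∣ orderOf y :=
    Cfsg.Agent.Lib.Helper16.isPRegular_of_isDefectClass p M hpM ⟨χ₀, rfl⟩ hy
  have hyC : y ∈ Subgroup.centralizer (P : Set G) := by
    by_contra h
    have h0 := Cfsg.Agent.Lib.Helper77.blockCoeff_eq_zero_of_not_mem_centralizer hpM P hP χ₀ h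
    apply hy.2.1
    rw [h0]
    exact memLocalIdeal_zero hMp
  have h1C : (1 : G) ∈ Subgroup.centralizer (P : Set G) := Subgroup.one_mem _
  have h1reg : ¬ p ∣ orderOf (1 : G) := by
    rw [orderOf_one]
    exact (Fact.out : p.Prime).one_lt.ne' ∘ Nat.dvd_one.mp
  have e1 := hn 1 h1C h1reg
  have ey := hn y hyC hyreg
  set idx : ℕ := (Subgroup.centralizer ({y} : Set G)).index with hidxdef
  set w : ℂ := centralChar (χ₀ : G → ℂ) y⁻¹ with hw
  have hwR : MemLocalRing M w := Cfsg.Agent.Lib.Helper77.memLocalRing_centralChar hMp χ₀.2 y⁻¹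
  -- the key congruence
  have key : MemLocalIdeal M ((P.index : ℂ) *
      ((idx : ℂ) * blockCoeff B y - w * blockCoeff B 1)) := by
    have e : (P.index : ℂ) * ((idx : ℂ) * blockCoeff B y - w * blockCoeff B 1) =
        ∑ ψ ∈ Bf, ((n ψ * charDegree (ψ : G → ℂ) : ℕ) : ℂ) *
          (centralChar (ψ : G → ℂ) y⁻¹ - w) := by
      have : (P.index : ℂ) * ((idx : ℂ) * blockCoeff B y - w * blockCoeff B 1) =
          (idx : ℂ) * ((P.index : ℂ) * blockCoeff B y) - w * ((P.index : ℂ) * blockCoeff B 1) := by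
        ring
      rw [this, e1, ey, Finset.mul_sum, Finset.mul_sum, ← Finset.sum_sub_distrib]
      apply Finset.sum_congr rfl
      intro ψ _
      have hd : ((charDegree (ψ : G → ℂ) : ℕ) : ℂ) ≠ 0 := by
        exact_mod_cast irr_charDegree_ne_zero ψ
      unfold centralChar
      rw [centralizer_inv_singleton, Cfsg.Agent.Lib.Helper80.irr_conj_inv,
        irr_apply_one_eq_charDegree, Complex.conj_natCast]
      push_cast
      field_simp
      rw [hidxdef]
      ring
    rw [e]
    apply memLocalIdeal_sum hMp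
    intro ψ hψ
    apply memLocalIdeal_mul_left hMp (memLocalRing_natCast hMp _)
    have hs : SameBlock M (χ₀ : G → ℂ) (ψ : G → ℂ) := (Finset.mem_filter.mp hψ).2
    have := memLocalIdeal_neg (hs y⁻¹)
    rwa [neg_sub] at this
  have hidxR : MemLocalRing M (P.index : ℂ) := memLocalRing_natCast hMp _
  have hidxN : ¬ MemLocalIdeal M (P.index : ℂ) := by
    rw [memLocalIdeal_natCast_iff hpM]
    exact hidx
  have key2 := memLocalIdeal_of_mul_of_not_memLocalIdeal hMp hidxR hidxN key
  intro h1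
  have h2 : MemLocalIdeal M ((idx : ℂ) * blockCoeff B y) := by
    have := memLocalIdeal_add hMp key2 (memLocalIdeal_mul_left hMp hwR h1)
    rwa [sub_add_cancel] at this
  have hidx2 : ¬ p ∣ idx := by
    intro h
    apply hidx
    have hle : P ≤ Subgroup.centralizer ({y} : Set G) := by
      intro x hx
      rw [Subgroup.mem_centralizer_iff]
      intro z hz
      rw [Set.mem_singleton_iff] at hz
      subst hz
      exact ((Subgroup.mem_centralizer_iff.mp hyC) x hx).symm
    exact h.trans (Subgroup.index_dvd_of_le hle)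
  have hidx2N : ¬ MemLocalIdeal M (idx : ℂ) := by
    rw [memLocalIdeal_natCast_iff hpM]
    exact hidx2
  exact hy.2.1 (memLocalIdeal_of_mul_of_not_memLocalIdeal hMp (memLocalRing_natCast hMp _)
    hidx2N h2)

end Cfsg.Agent.Lib.Helper74
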