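import Cfsg.Agent.Lib.Helper74.FD2

/-!
# `2`-blocks of full defect stable under inversion of the odd-order elements (helper74)

If `k` is prime to `|G|` and `g ^ k = g⁻¹` for `g` of odd order, a `2`-block of full defect stable
under `χ ↦ χ ∘ (· ^ k)` is the principal block.
-/

set_option autoImplicit false

namespace Cfsg.Agent.Lib.Helper74

open Cfsg Cfsg.Agent.Lib.Helper81 Cfsg.Agent.Lib.Helper77
open scoped ComplexConjugate

universe u

variable {G : Type u} [Group G] [Fintype G]

open Classical in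
/-- A sum over an inversion-closed set without involutions of an inversion-invariant function is
twice a partial sum. -/
theorem exists_half_sum (S : Finset G) (hS : ∀ x ∈ S, x⁻¹ ∈ S) (hne : ∀ x ∈ S, x⁻¹ ≠ x)
    (f : G → ℂ) (hf : ∀ x ∈ S, f x⁻¹ = f x) :
    ∃ H : Finset G, H ⊆ S ∧ ∑ x ∈ S, f x = 2 * ∑ x ∈ H, f x := by
  set e := Fintype.equivFin G with he
  refine ⟨S.filter (fun x => e x < e x⁻¹), Finset.filter_subset _ _, ?_⟩
  rw [← Finset.sum_filter_add_sum_filter_not S (fun x => e x < e x⁻¹) f, two_mul]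
  congr 1
  refine Finset.sum_nbij' (fun x => x⁻¹) (fun x => x⁻¹) ?_ ?_ ?_ ?_ ?_
  · intro x hx
    rw [Finset.mem_filter] at hx ⊢
    refine ⟨hS x hx.1, ?_⟩
    rw [inv_inv]
    have h1 : e x⁻¹ ≠ e x := fun h => hne x hx.1 (e.injective h)
    exact lt_of_le_of_ne (not_lt.mp hx.2) h1
  · intro x hx
    rw [Finset.mem_filter] at hx ⊢
    refine ⟨hS x hx.1, ?_⟩
    rw [inv_inv]
    exact not_lt.mpr hx.2.le
  · intro x _
    exact inv_inv x
  · intro x _
    exact inv_inv x
  · intro x hx
    rw [Finset.mem_filter] at hx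
    exact (hf x hx.1).symm

/-- A `2`-block of full defect stable under a power map inverting the elements of odd order
contains the principal character. -/
theorem oneIrr_mem_of_stable_full_defect {M : Ideal AlgInt} (hM : IsPModular 2 M) (k : ℕ)
    (hk : Nat.Coprime k (Nat.card G)) (hk₂ : ∀ g : G, Odd (orderOf g) → g ^ k = g⁻¹)
    (χ₀ : IrrCharacter G)
    (hdef : blockDefect 2 (blockOf M (χ₀ : G → ℂ)) = (Nat.card G).factorization 2)
    (hstab : ∀ χ ∈ blockOf M (χ₀ : G → ℂ), ∃ ψ ∈ blockOf M (χ₀ : G → ℂ),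
      ∀ g : G, (ψ : G → ℂ) g = (χ : G → ℂ) (g ^ k)) :
    oneIrr G ∈ blockOf M (χ₀ : G → ℂ) := by
  classical
  have : Fact (Nat.Prime 2) := ⟨Nat.prime_two⟩
  have := Fintype.ofFinite (IrrCharacter G)
  have hMp : M.IsPrime := isPrime_of_isPModular hM
  set B := blockOf M (χ₀ : G → ℂ) with hB
  set Bf := Finset.univ.filter (fun ψ : IrrCharacter G => ψ ∈ B) with hBf
  have hmemBf : ∀ ψ : IrrCharacter G, ψ ∈ Bf ↔ ψ ∈ B := by
    intro ψ
    rw [hBf, Finset.mem_filter]
    exact ⟨fun h => h.2, fun h => ⟨Finset.mem_univ _, h⟩⟩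
  -- the permutation of `B`
  set s : IrrCharacter G → IrrCharacter G := fun χ =>
    if h : χ ∈ B then Classical.choose (hstab χ h) else χ with hs
  have hs1 : ∀ χ ∈ B, s χ ∈ B ∧ ∀ g : G, ((s χ : IrrCharacter G) : G → ℂ) g =
      (χ : G → ℂ) (g ^ k) := by
    intro χ hχ
    have := Classical.choose_spec (hstab χ hχ)
    simp only [hs, dif_pos hχ]
    exact this
  have hsurj : Function.Surjective (fun g : G => g ^ k) :=
    (powCoprime (Nat.Coprime.symm hk)).surjective
  have hsinj : Set.InjOn s (Bf : Set (IrrCharacter G)) := by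
    intro χ₁ h₁ χ₂ h₂ h
    rw [Finset.mem_coe, hmemBf] at h₁ h₂
    apply Subtype.ext
    funext g
    obtain ⟨g', rfl⟩ := hsurj g
    have e1 := (hs1 χ₁ h₁).2 g'
    have e2 := (hs1 χ₂ h₂).2 g'
    rw [← e1, ← e2, h]
  have himg : Bf.image s = Bf := by
    apply Finset.eq_of_subset_of_card_le
    · intro ψ hψ
      obtain ⟨χ, hχ, rfl⟩ := Finset.mem_image.mp hψ
      rw [hmemBf] at hχ ⊢
      exact (hs1 χ hχ).1
    · rw [Finset.card_image_of_injOn hsinj]
  -- invariance of the idempotent
  have hinv : ∀ x : G, blockCoeff B (x ^ k) = blockCoeff B x := by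
    intro x
    rw [blockCoeff_eq_sum, blockCoeff_eq_sum, ← hBf]
    congr 1
    conv_rhs => rw [← himg]
    rw [Finset.sum_image hsinj]
    apply Finset.sum_congr rfl
    intro χ hχ
    rw [hmemBf] at hχ
    rw [(hs1 χ hχ).2 x, (hs1 χ hχ).2 1, one_pow]
  -- the sum of the coefficients
  have hsum : ∑ g : G, blockCoeff B g = if oneIrr G ∈ B then 1 else 0 := by
    rw [← omega_blockCoeff B (oneIrr G)]
    unfold omega
    simp only [oneIrr_apply, mul_one, div_one]
  by_contra hone
  rw [if_neg hone] at hsum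
  set R := Finset.univ.filter (fun x : G => ¬ 2 ∣ orderOf x) with hR
  have h1R : (1 : G) ∈ R := by
    rw [hR, Finset.mem_filter]
    refine ⟨Finset.mem_univ _, ?_⟩
    rw [orderOf_one]
    norm_num
  have hsumR : ∑ g ∈ R, blockCoeff B g = 0 := by
    rw [← hsum, hR, Finset.sum_filter]
    apply Finset.sum_congr rfl
    intro g _
    split_ifs with hg
    · exact (blockCoeff_blockOf_eq_zero hM χ₀ g hg).symm
    · rfl
  rw [← Finset.add_sum_erase R _ h1R] at hsumR
  obtain ⟨H, hHS, hH⟩ := exists_half_sum (R.erase 1) (by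
      intro x hx
      rw [Finset.mem_erase, hR, Finset.mem_filter] at hx ⊢
      refine ⟨fun h => hx.1 (inv_eq_one.mp h), Finset.mem_univ _, ?_⟩
      rw [orderOf_inv]
      exact hx.2.2) (by
      intro x hx hxx
      rw [Finset.mem_erase, hR, Finset.mem_filter] at hx
      have h2 : x ^ 2 = 1 := by
        rw [sq]
        nth_rewrite 1 [← hxx]
        exact inv_mul_cancel x
      have h3 : orderOf x ∣ 2 := orderOf_dvd_of_pow_eq_one h2
      rcases (Nat.dvd_prime Nat.prime_two).mp h3 with h4 | h4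
      · exact hx.1 (orderOf_eq_one_iff.mp h4)
      · exact hx.2.2 (h4 ▸ dvd_rfl)) (blockCoeff B) (by
      intro x hx
      rw [Finset.mem_erase, hR, Finset.mem_filter] at hx
      have hodd : Odd (orderOf x) := by
        rw [← Nat.not_even_iff_odd, even_iff_two_dvd]
        exact hx.2.2
      rw [← hk₂ x hodd]
      exact hinv x)
  rw [hH] at hsumR
  have hunit := not_memLocalIdeal_blockCoeff_one_of_full_defect hM χ₀ hdef
  apply hunit
  have e : blockCoeff B 1 = ((2 : ℕ) : ℂ) * (-(∑ x ∈ H, blockCoeff B x)) := by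
    push_cast
    linear_combination hsumR
  rw [e]
  apply memLocalIdeal_mul_right hMp
  · rw [memLocalIdeal_natCast_iff hM]
  · apply memLocalRing_neg
    apply memLocalRing_sum hMp
    intro x _
    exact memLocalRing_blockCoeff hM χ₀ x

end Cfsg.Agent.Lib.Helper74
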