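import Cfsg.Agent.Lib.Helper74.FR1
import Cfsg.Agent.Lib.Helper75.CliffordCorr

/-!
# Fong–Reynolds, part 2: the stabilizer of a block of a normal subgroup
-/

set_option autoImplicit false
set_option linter.unusedSectionVars false

universe u

namespace Cfsg.Agent.Lib.Helper74

open Cfsg Cfsg.Agent.Lib.Helper77 Cfsg.Agent.Lib.Helper25 Cfsg.Agent.Lib.Helper81
open Cfsg.Agent.Lib.Helper16 Cfsg.Agent.Lib.Helper75
open scoped ComplexConjugate

section Basic

variable {G : Type u} [Group G]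

theorem blockCoeff_inv' [Fintype G] (B : Set (IrrCharacter G)) (g : G) :
    blockCoeff B g⁻¹ = conj (blockCoeff B g) := by
  classical
  have := Fintype.ofFinite (IrrCharacter G)
  rw [blockCoeff_eq_sum, blockCoeff_eq_sum, map_mul, map_inv₀, Complex.conj_natCast, map_sum]
  congr 1
  refine Finset.sum_congr rfl fun χ _ => ?_
  have hc := Cfsg.Agent.Lib.Helper3.IsIrrCharacter.isCharacter χ.2
  have h1 := Cfsg.Agent.Lib.Helper3.IsCharacter.inv hc (1 : G)
  rw [inv_one] at h1
  rw [map_mul, Complex.conj_conj, ← h1, Cfsg.Agent.Lib.Helper3.IsCharacter.inv hc g,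
    Complex.conj_conj]

end Basic

section Transport

variable {G : Type u} [Group G] [Fintype G] (N : Subgroup G) [Fintype N]
  (T : Subgroup G) [Fintype T] (hNT : N ≤ T)

omit [Fintype G] in
/-- Sum over `T` of a function vanishing off `N`. -/
theorem sum_T_eq_sum_N (F : T → ℂ) (hF : ∀ t : T, (t : G) ∉ N → F t = 0) :
    ∑ t : T, F t = ∑ n : N, F ⟨(n : G), hNT n.2⟩ := by
  symm
  refine Fintype.sum_of_injective (fun n : N => (⟨(n : G), hNT n.2⟩ : T)) ?_ _ _ ?_ ?_
  · intro n m h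
    apply Subtype.ext
    exact congrArg (fun t : T => (t : G)) h
  · intro t ht
    apply hF
    intro hn
    exact ht ⟨⟨t, hn⟩, rfl⟩
  · intro n
    rfl

/-- Every irreducible character of `T` has an irreducible constituent on `N`. -/
theorem exists_constituent_res (ψ : IrrCharacter T) :
    ∃ θ : IrrCharacter N,
      classInner (fun n : N => (ψ : T → ℂ) ⟨(n : G), hNT n.2⟩) (θ : N → ℂ) ≠ 0 := by
  classical
  have : Fintype (N.subgroupOf T) := Fintype.ofFinite _
  let e : N.subgroupOf T ≃* N := Subgroup.subgroupOfEquivOfLe hNT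
  obtain ⟨θ', hθ'⟩ := exists_constituent (N.subgroupOf T) ψ
  refine ⟨irrMap e.symm θ', ?_⟩
  have := classInner_comp_mulEquiv e (fun n : N => (ψ : T → ℂ) ⟨(n : G), hNT n.2⟩)
    (irrMap e.symm θ' : N → ℂ)
  rw [← this]
  have h2 : (fun a : N.subgroupOf T => (irrMap e.symm θ' : N → ℂ) (e a)) = (θ' : _ → ℂ) := by
    funext a
    rw [irrMap_apply, MulEquiv.symm_apply_apply]
  rw [h2]
  exact hθ'

/-- The central character of `ψ` at a class function of `T` supported on `N`, through a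
constituent of the restriction. -/
theorem omega_eq_of_res {ψ : T → ℂ} (hψ : IsIrrCharacter T ψ) {θ : N → ℂ}
    (hθ : IsIrrCharacter N θ)
    (hne : classInner (fun n : N => ψ ⟨(n : G), hNT n.2⟩) θ ≠ 0) {a : T → ℂ}
    (ha : IsClassFunction T a) (haN : ∀ t : T, (t : G) ∉ N → a t = 0) :
    omega ψ a = omega θ (fun n : N => a ⟨(n : G), hNT n.2⟩) := by
  classical
  have : Fintype (N.subgroupOf T) := Fintype.ofFinite _
  let e : N.subgroupOf T ≃* N := Subgroup.subgroupOfEquivOfLe hNT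
  have hirr : IsIrrCharacter (N.subgroupOf T) (fun x => θ (e x)) := (irrMap e ⟨θ, hθ⟩).2
  have hne' : classInner (fun h : N.subgroupOf T => ψ h) (fun x => θ (e x)) ≠ 0 := by
    have := classInner_comp_mulEquiv e (fun n : N => ψ ⟨(n : G), hNT n.2⟩) θ
    rw [← this] at hne
    exact hne
  rw [omega_eq_of_classInner_ne_zero (N.subgroupOf T) hψ hirr hne' ha
    (fun t ht => haN t (fun h => ht (Subgroup.mem_subgroupOf.mpr h)))]
  exact omega_comp_mulEquiv e θ (fun n : N => a ⟨(n : G), hNT n.2⟩)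

end Transport

section FR

variable {G : Type u} [Group G] [Fintype G] (N : Subgroup G) [hN : N.Normal] [Fintype N]
  (T : Subgroup G) [Fintype T] (hNT : N ≤ T) (b : Set (IrrCharacter N))

/-- The idempotent of `b` as a function on `T`. -/
noncomputable def frIdem : T → ℂ := fun t => extendByZero N (blockCoeff b) (t : G)

theorem frIdem_coe (n : N) : frIdem N T b ⟨(n : G), hNT n.2⟩ = blockCoeff b n :=
  extendByZero_coe N _ n

theorem frIdem_of_not_mem {t : T} (ht : (t : G) ∉ N) : frIdem N T b t = 0 :=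
  extendByZero_of_not_mem N _ ht

/-- `T` is the stabilizer of `b`. -/
def IsStab : Prop := ∀ g : G, g ∈ T ↔ ∀ θ ∈ b, conjIrr N g θ ∈ b

theorem isStab_of (hT : ∀ g : G, g ∈ T ↔ ∀ θ ∈ b, ∀ θ' : IrrCharacter N,
    (∀ n : N, (θ' : N → ℂ) n = (θ : N → ℂ) ⟨g * n * g⁻¹, hN.conj_mem n n.2 g⟩) → θ' ∈ b) :
    IsStab N T b := by
  intro g
  rw [hT g]
  constructor
  · intro h θ hθ
    exact h θ hθ (conjIrr N g θ) (fun n => conjFun_apply N g _ n)
  · intro h θ hθ θ' hθ'
    have : θ' = conjIrr N g θ := by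
      apply Subtype.ext
      funext n
      rw [hθ' n]
      exact (conjFun_apply N g _ n).symm
    rw [this]
    exact h θ hθ

open Classical in
theorem omega_conjFun_blockCoeff (x : G) (θ' : IrrCharacter N) :
    omega (θ' : N → ℂ) (conjFun N x (blockCoeff b)) =
      if conjIrr N x⁻¹ θ' ∈ b then 1 else 0 := by
  have := omega_conjFun N x⁻¹ (θ' : N → ℂ) (blockCoeff b)
  rw [inv_inv] at this
  rw [← this]
  exact omega_blockCoeff b (conjIrr N x⁻¹ θ')

theorem conjIrr_mem_of_exists {M : Ideal AlgInt} (hM : M.IsPrime) (hb : IsPBlock M b) (g : G)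
    {θ : IrrCharacter N} (hθ : θ ∈ b) (hgθ : conjIrr N g θ ∈ b) :
    ∀ θ'' ∈ b, conjIrr N g θ'' ∈ b := by
  obtain ⟨θ₀, rfl⟩ := hb
  intro θ'' hθ''
  have h1 : SameBlock M (θ : N → ℂ) (θ'' : N → ℂ) := sameBlock_trans hM (sameBlock_symm hθ) hθ''
  have h2 := sameBlock_conjFun N hM g θ.2 θ''.2 h1
  exact sameBlock_trans hM hgθ h2

theorem conjFun_blockCoeff_of_mem (hst : IsStab N T b) {u : G} (hu : u ∈ T) :
    conjFun N u (blockCoeff b) = blockCoeff b := by
  classical
  apply eq_of_omega_eq (Cfsg.Agent.Lib.Helper16.conjFun_isClassFunction N u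
    (blockCoeff_isClassFunction b)) (blockCoeff_isClassFunction b)
  intro θ'
  rw [omega_conjFun_blockCoeff, omega_blockCoeff]
  have hiff : conjIrr N u⁻¹ θ' ∈ b ↔ θ' ∈ b := by
    constructor
    · intro h
      have := (hst u).mp hu _ h
      rwa [conjIrr_conjIrr, inv_mul_cancel, conjIrr_one] at this
    · intro h
      exact (hst u⁻¹).mp (T.inv_mem hu) _ h
  simp only [hiff]

theorem conv_blockCoeff_conjFun_eq_zero {M : Ideal AlgInt} (hM : M.IsPrime) (hb : IsPBlock M b)
    (hst : IsStab N T b) {x : G} (hx : x ∉ T) :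
    conv (blockCoeff b) (conjFun N x (blockCoeff b)) = 0 := by
  classical
  have hc1 := blockCoeff_isClassFunction b
  have hc2 := Cfsg.Agent.Lib.Helper16.conjFun_isClassFunction N x (blockCoeff_isClassFunction b)
  have hz : IsClassFunction N (0 : N → ℂ) := fun _ _ => rfl
  apply eq_of_omega_eq (conv_isClassFunction hc1 hc2) hz
  intro θ'
  rw [omega_conv θ'.2 hc1 hc2, omega_blockCoeff, omega_conjFun_blockCoeff, omega_zero]
  by_cases h1 : θ' ∈ b
  · by_cases h2 : conjIrr N x⁻¹ θ' ∈ b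
    · exfalso
      apply hx
      have h3 := conjIrr_mem_of_exists N b hM hb x⁻¹ h1 h2
      have := (hst x⁻¹).mpr h3
      simpa using T.inv_mem this
    · rw [if_neg h2, mul_zero]
  · rw [if_neg h1, zero_mul]

theorem frIdem_isClassFunction (hst : IsStab N T b) : IsClassFunction T (frIdem N T b) := by
  intro t u
  by_cases ht : (t : G) ∈ N
  · have h1 : ((u * t * u⁻¹ : T) : G) =
        ((⟨(u : G) * t * (u : G)⁻¹, hN.conj_mem t ht u⟩ : N) : G) := by
      push_cast
      rfl
    have h2 : (t : G) = ((⟨(t : G), ht⟩ : N) : G) := rfl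
    unfold frIdem
    rw [h1, extendByZero_coe]
    conv_rhs => rw [h2, extendByZero_coe]
    have := congrFun (conjFun_blockCoeff_of_mem N T b hst u.2) ⟨(t : G), ht⟩
    rw [conjFun_apply] at this
    exact this
  · rw [frIdem_of_not_mem N T b ht, frIdem_of_not_mem]
    intro h
    apply ht
    have := hN.conj_mem _ h (u : G)⁻¹
    have e : (u : G)⁻¹ * ((u * t * u⁻¹ : T) : G) * (u : G)⁻¹⁻¹ = t := by
      push_cast
      group
    rwa [e] at this

theorem frIdem_ZS {p : ℕ} {M : Ideal AlgInt} (hpM : IsPModular p M) (hb : IsPBlock M b)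
    (hst : IsStab N T b) : ZS M (frIdem N T b) := by
  refine ⟨frIdem_isClassFunction N T b hst, fun t => ?_⟩
  have hM : M.IsPrime := isPrime_of_isPModular hpM
  by_cases ht : (t : G) ∈ N
  · have h2 : (t : G) = ((⟨(t : G), ht⟩ : N) : G) := rfl
    unfold frIdem
    rw [h2, extendByZero_coe]
    obtain ⟨θ₀, rfl⟩ := hb
    exact memLocalRing_blockCoeff hpM θ₀ _
  · rw [frIdem_of_not_mem N T b ht]
    exact memLocalRing_zero hM

/-- The translation formula for the idempotent of `b`. -/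
theorem fr_star (hst : IsStab N T b) {ψ : T → ℂ} (hψ : IsIrrCharacter T ψ) (t : T) :
    ∑ n : N, blockCoeff b n * ψ (⟨(n : G), hNT n.2⟩ * t) = omega ψ (frIdem N T b) * ψ t := by
  rw [← sum_mul_char_mul hψ (frIdem_isClassFunction N T b hst) t,
    sum_T_eq_sum_N N T hNT (fun y => frIdem N T b y * ψ (y * t))]
  · refine Finset.sum_congr rfl fun n _ => ?_
    rw [frIdem_coe]
  · intro y hy
    show frIdem N T b y * ψ (y * t) = 0
    rw [frIdem_of_not_mem N T b hy, zero_mul]

open Classical in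
theorem omega_frIdem (hst : IsStab N T b) {ψ : T → ℂ} (hψ : IsIrrCharacter T ψ)
    (θ : IrrCharacter N)
    (hne : classInner (fun n : N => ψ ⟨(n : G), hNT n.2⟩) (θ : N → ℂ) ≠ 0) :
    omega ψ (frIdem N T b) = if θ ∈ b then 1 else 0 := by
  rw [omega_eq_of_res N T hNT hψ θ.2 hne (frIdem_isClassFunction N T b hst)
    (fun t ht => frIdem_of_not_mem N T b ht)]
  have : (fun n : N => frIdem N T b ⟨(n : G), hNT n.2⟩) = blockCoeff b := by
    funext n
    exact frIdem_coe N T hNT b n
  rw [this, omega_blockCoeff]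

/-- `ψ` lies over `b`. -/
def FrOver (ψ : T → ℂ) : Prop :=
  ∃ θ ∈ b, classInner (fun n : N => ψ ⟨(n : G), hNT n.2⟩) (θ : N → ℂ) ≠ 0

theorem omega_frIdem_of_over (hst : IsStab N T b) {ψ : T → ℂ} (hψ : IsIrrCharacter T ψ)
    (hov : FrOver N T hNT b ψ) : omega ψ (frIdem N T b) = 1 := by
  classical
  obtain ⟨θ, hθ, hne⟩ := hov
  rw [omega_frIdem N T hNT b hst hψ θ hne, if_pos hθ]

theorem over_of_omega_ne_zero (hst : IsStab N T b) {ψ : T → ℂ} (hψ : IsIrrCharacter T ψ)
    (h0 : omega ψ (frIdem N T b) ≠ 0) : FrOver N T hNT b ψ := by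
  classical
  obtain ⟨θ, hne⟩ := exists_constituent_res N T hNT ⟨ψ, hψ⟩
  refine ⟨θ, ?_, hne⟩
  by_contra hθ
  apply h0
  rw [omega_frIdem N T hNT b hst hψ θ hne, if_neg hθ]

/-- A function on `N` annihilated by the idempotent of `b` kills the characters over `b`. -/
theorem fr_vanish (hst : IsStab N T b) {ψ : T → ℂ} (hψ : IsIrrCharacter T ψ)
    (h1 : omega ψ (frIdem N T b) = 1) (c : N → ℂ) (hc : conv (blockCoeff b) c = 0) (s : T) :
    ∑ m : N, c m * ψ (⟨(m : G), hNT m.2⟩ * s) = 0 := by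
  have step1 : ∀ m : N, ψ (⟨(m : G), hNT m.2⟩ * s) =
      ∑ n : N, blockCoeff b n * ψ (⟨((n * m : N) : G), hNT (n * m).2⟩ * s) := by
    intro m
    have := fr_star N T hNT b hst hψ (⟨(m : G), hNT m.2⟩ * s)
    rw [h1, one_mul] at this
    rw [← this]
    refine Finset.sum_congr rfl fun n _ => ?_
    congr 2
    rw [← mul_assoc]
    rfl
  have step2 : ∀ n : N, ∑ m : N, c m * (blockCoeff b n *
      ψ (⟨((n * m : N) : G), hNT (n * m).2⟩ * s)) =
      ∑ k : N, blockCoeff b n * c (n⁻¹ * k) * ψ (⟨(k : G), hNT k.2⟩ * s) := by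
    intro n
    refine Fintype.sum_equiv (Equiv.mulLeft n) _ _ ?_
    intro m
    show _ = blockCoeff b n * c (n⁻¹ * (n * m)) * ψ (⟨((n * m : N) : G), hNT (n * m).2⟩ * s)
    rw [inv_mul_cancel_left]
    ring
  calc ∑ m : N, c m * ψ (⟨(m : G), hNT m.2⟩ * s)
      = ∑ m : N, ∑ n : N, c m * (blockCoeff b n *
          ψ (⟨((n * m : N) : G), hNT (n * m).2⟩ * s)) := by
        refine Finset.sum_congr rfl fun m _ => ?_
        rw [step1 m, Finset.mul_sum]
    _ = ∑ n : N, ∑ k : N, blockCoeff b n * c (n⁻¹ * k) * ψ (⟨(k : G), hNT k.2⟩ * s) := by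
        rw [Finset.sum_comm]
        exact Finset.sum_congr rfl fun n _ => step2 n
    _ = ∑ k : N, conv (blockCoeff b) c k * ψ (⟨(k : G), hNT k.2⟩ * s) := by
        rw [Finset.sum_comm]
        refine Finset.sum_congr rfl fun k _ => ?_
        unfold conv
        rw [Finset.sum_mul]
    _ = 0 := by
        rw [hc]
        simp

end FR

end Cfsg.Agent.Lib.Helper74
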