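import Cfsg.Agent.Lib.Helper74.FR2

/-!
# Fong–Reynolds, part 3: induction from the stabilizer is irreducible
-/

set_option autoImplicit false
set_option linter.unusedSectionVars false

universe u

namespace Cfsg.Agent.Lib.Helper74

open Cfsg Cfsg.Agent.Lib.Helper77 Cfsg.Agent.Lib.Helper25 Cfsg.Agent.Lib.Helper81
open Cfsg.Agent.Lib.Helper16 Cfsg.Agent.Lib.Helper75
open scoped ComplexConjugate

section FR

variable {G : Type u} [Group G] [Fintype G] (N : Subgroup G) [hN : N.Normal] [Fintype N]
  (T : Subgroup G) [Fintype T] (hNT : N ≤ T) (b : Set (IrrCharacter N))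

include hNT

/-- Cutting the induced character with the idempotent of `b` recovers `ψ`. -/
theorem fr_P2 {M : Ideal AlgInt} (hM : M.IsPrime) (hb : IsPBlock M b) (hst : IsStab N T b)
    {ψ : T → ℂ} (hψ : IsIrrCharacter T ψ) (h1 : omega ψ (frIdem N T b) = 1) (t : T) :
    ∑ n : N, blockCoeff b n * indFun T ψ ((n : G) * t) = ψ t := by
  classical
  have hψc := isClassFunction_of_isCharacter hψ
  have hT0 : (Nat.card T : ℂ) ≠ 0 := card_ne_zero_complex
  have hS : ∀ x : G, ∑ n : N, blockCoeff b n * extendByZero T ψ (x⁻¹ * ((n : G) * t) * x) =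
      if x ∈ T then ψ t else 0 := by
    intro x
    by_cases hx : x ∈ T
    · rw [if_pos hx, ← one_mul (ψ t), ← h1, ← fr_star N T hNT b hst hψ t]
      refine Finset.sum_congr rfl fun n _ => ?_
      have := fr_extendByZero_conj T hψc ⟨x, hx⟩ ((n : G) * t)
      rw [show (((⟨x, hx⟩ : T) : G)) = x from rfl] at this
      rw [this]
      have e : (n : G) * t = ((⟨(n : G), hNT n.2⟩ * t : T) : G) := rfl
      rw [e, extendByZero_coe]
    · rw [if_neg hx]
      by_cases hs : x⁻¹ * (t : G) * x ∈ T
      · have key := fr_vanish N T hNT b hst hψ h1 (conjFun N x (blockCoeff b))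
          (conv_blockCoeff_conjFun_eq_zero N T b hM hb hst hx) ⟨x⁻¹ * (t : G) * x, hs⟩
        rw [← key]
        symm
        refine Fintype.sum_equiv (MulAut.conjNormal x : N ≃* N).toEquiv _ _ ?_
        intro m
        have e1 : ((MulAut.conjNormal x : N ≃* N).toEquiv m : N) =
            ⟨x * m * x⁻¹, hN.conj_mem m m.2 x⟩ := by
          apply Subtype.ext
          simp [MulAut.conjNormal_apply]
        rw [e1, conjFun_apply]
        congr 1
        have e2 : x⁻¹ * ((x * (m : G) * x⁻¹) * t) * x =
            (((⟨(m : G), hNT m.2⟩ : T) * ⟨x⁻¹ * (t : G) * x, hs⟩ : T) : G) := by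
          push_cast
          group
        show ψ _ = extendByZero T ψ (x⁻¹ * ((x * (m : G) * x⁻¹) * t) * x)
        rw [e2, extendByZero_coe]
      · apply Finset.sum_eq_zero
        intro n _
        rw [extendByZero_of_not_mem, mul_zero]
        intro h
        apply hs
        have hn : x⁻¹ * (n : G) * x ∈ T := hNT (by
          have := hN.conj_mem n n.2 x⁻¹
          simpa using this)
        have := T.mul_mem (T.inv_mem hn) h
        have e : (x⁻¹ * (n : G) * x)⁻¹ * (x⁻¹ * ((n : G) * t) * x) = x⁻¹ * t * x := by group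
        rwa [e] at this
  have h3 : ∀ n : N, blockCoeff b n * indFun T ψ ((n : G) * t) =
      (Nat.card T : ℂ)⁻¹ * ∑ x : G, blockCoeff b n *
        extendByZero T ψ (x⁻¹ * ((n : G) * t) * x) := by
    intro n
    rw [indFun_apply, ← Finset.mul_sum]
    ring
  rw [Finset.sum_congr rfl (fun n _ => h3 n), ← Finset.mul_sum, Finset.sum_comm,
    Finset.sum_congr rfl (fun x _ => hS x),
    ← sum_subgroup_eq (H := T) (fun x => if x ∈ T then ψ t else 0) (fun x hx => if_neg hx)]
  have h4 : ∑ k : T, (if (k : G) ∈ T then ψ t else 0) = (Nat.card T : ℂ) * ψ t := by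
    rw [Finset.sum_congr rfl (fun k _ => if_pos k.2), Finset.sum_const, Finset.card_univ,
      nsmul_eq_mul, Nat.card_eq_fintype_card]
  rw [h4, ← mul_assoc, inv_mul_cancel₀ hT0, one_mul]

/-- The multiplicity of `ψ` in the restriction of its induced character is one. -/
theorem fr_inner {M : Ideal AlgInt} (hM : M.IsPrime) (hb : IsPBlock M b) (hst : IsStab N T b)
    {ψ : T → ℂ} (hψ : IsIrrCharacter T ψ) (h1 : omega ψ (frIdem N T b) = 1) :
    classInner ψ (fun t : T => indFun T ψ t) = 1 := by
  classical
  have hψψ : classInner ψ ψ = 1 := by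
    rw [Cfsg.Agent.Lib.Helper3.classInner_irr hψ hψ, if_pos rfl]
  rw [← hψψ]
  unfold classInner
  congr 1
  have key : ∀ s : T, ∑ n : N, conj (blockCoeff b n) * ψ ((⟨(n : G), hNT n.2⟩ : T)⁻¹ * s) =
      ψ s := by
    intro s
    have := fr_star N T hNT b hst hψ s
    rw [h1, one_mul] at this
    rw [← this]
    refine Fintype.sum_equiv (Equiv.inv N) _ _ ?_
    intro n
    show conj (blockCoeff b n) * ψ ((⟨(n : G), hNT n.2⟩ : T)⁻¹ * s) =
      blockCoeff b n⁻¹ * ψ (⟨((n⁻¹ : N) : G), hNT (n⁻¹).2⟩ * s)
    rw [blockCoeff_inv']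
    rfl
  symm
  calc ∑ t : T, ψ t * conj (ψ t)
      = ∑ t : T, ∑ n : N, ψ t * (conj (blockCoeff b n) * conj (indFun T ψ ((n : G) * t))) := by
        refine Finset.sum_congr rfl fun t _ => ?_
        have hP := fr_P2 N T hNT b hM hb hst hψ h1 t
        calc ψ t * conj (ψ t)
            = ψ t * conj (∑ n : N, blockCoeff b n * indFun T ψ ((n : G) * t)) := by rw [hP]
          _ = _ := by
            rw [map_sum, Finset.mul_sum]
            refine Finset.sum_congr rfl fun n _ => ?_
            rw [map_mul]
    _ = ∑ n : N, ∑ s : T, ψ ((⟨(n : G), hNT n.2⟩ : T)⁻¹ * s) *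
          (conj (blockCoeff b n) * conj (indFun T ψ s)) := by
        rw [Finset.sum_comm]
        refine Finset.sum_congr rfl fun n _ => ?_
        refine Fintype.sum_equiv (Equiv.mulLeft (⟨(n : G), hNT n.2⟩ : T)) _ _ ?_
        intro t
        show _ = ψ ((⟨(n : G), hNT n.2⟩ : T)⁻¹ * (⟨(n : G), hNT n.2⟩ * t)) *
          (conj (blockCoeff b n) * conj (indFun T ψ ((⟨(n : G), hNT n.2⟩ * t : T) : G)))
        rw [inv_mul_cancel_left]
        rfl
    _ = ∑ s : T, ψ s * conj (indFun T ψ s) := by
        rw [Finset.sum_comm]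
        refine Finset.sum_congr rfl fun s _ => ?_
        rw [← key s, Finset.sum_mul]
        refine Finset.sum_congr rfl fun n _ => ?_
        ring

/-- Induction from the stabilizer of `b` sends characters over `b` to irreducible characters. -/
theorem isIrrCharacter_indFun_of_omega {M : Ideal AlgInt} (hM : M.IsPrime) (hb : IsPBlock M b)
    (hst : IsStab N T b) {ψ : T → ℂ} (hψ : IsIrrCharacter T ψ)
    (h1 : omega ψ (frIdem N T b) = 1) : IsIrrCharacter G (indFun T ψ) := by
  apply Cfsg.Agent.Lib.Helper15.isIrrCharacter_of_norm_one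
    (Cfsg.Agent.Lib.Helper3.isCharacter_indFun T (Cfsg.Agent.Lib.Helper3.IsIrrCharacter.isCharacter hψ))
  rw [frobenius_reciprocity T ψ _ (indFun_isClassFunction T ψ)]
  exact fr_inner N T hNT b hM hb hst hψ h1

/-- Central characters of `ψ` through those of the induced character. -/
theorem omega_indFun_conv {M : Ideal AlgInt} (hM : M.IsPrime) (hb : IsPBlock M b)
    (hst : IsStab N T b) {ψ : T → ℂ} (hψ : IsIrrCharacter T ψ)
    (h1 : omega ψ (frIdem N T b) = 1) (c : T → ℂ) :
    omega (indFun T ψ) (indFun T (conv (frIdem N T b) c)) = omega ψ c := by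
  have hT0 : (Nat.card T : ℂ) ≠ 0 := card_ne_zero_complex
  have hidx : (Nat.card G : ℂ) = (T.index : ℂ) * (Nat.card T : ℂ) := by
    rw [← Nat.cast_mul, Subgroup.index_mul_card]
  have hi0 : (T.index : ℂ) ≠ 0 := by
    intro h
    rw [h, zero_mul] at hidx
    exact card_ne_zero_complex hidx
  have hψ1 : ψ 1 ≠ 0 := irr_one_ne_zero hψ
  have hnum : ∑ t : T, indFun T ψ t * conv (frIdem N T b) c t = ∑ s : T, c s * ψ s := by
    unfold conv
    calc ∑ t : T, indFun T ψ t * ∑ y : T, frIdem N T b y * c (y⁻¹ * t)
        = ∑ y : T, ∑ t : T, indFun T ψ t * (frIdem N T b y * c (y⁻¹ * t)) := by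
          rw [Finset.sum_comm]
          refine Finset.sum_congr rfl fun t _ => ?_
          rw [Finset.mul_sum]
      _ = ∑ y : T, ∑ s : T, indFun T ψ ((y : G) * s) * (frIdem N T b y * c s) := by
          refine Finset.sum_congr rfl fun y _ => ?_
          symm
          refine Fintype.sum_equiv (Equiv.mulLeft y) _ _ ?_
          intro s
          show _ = indFun T ψ ((y * s : T) : G) * (frIdem N T b y * c (y⁻¹ * (y * s)))
          rw [inv_mul_cancel_left]
          rfl
      _ = ∑ s : T, c s * ∑ y : T, frIdem N T b y * indFun T ψ ((y : G) * s) := by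
          rw [Finset.sum_comm]
          refine Finset.sum_congr rfl fun s _ => ?_
          rw [Finset.mul_sum]
          refine Finset.sum_congr rfl fun y _ => ?_
          ring
      _ = ∑ s : T, c s * ψ s := by
          refine Finset.sum_congr rfl fun s _ => ?_
          rw [sum_T_eq_sum_N N T hNT (fun y => frIdem N T b y * indFun T ψ ((y : G) * s))]
          · have := fr_P2 N T hNT b hM hb hst hψ h1 s
            rw [← this]
            congr 1
            refine Finset.sum_congr rfl fun n _ => ?_
            rw [frIdem_coe]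
          · intro y hy
            show frIdem N T b y * _ = 0
            rw [frIdem_of_not_mem N T b hy, zero_mul]
  unfold omega
  have h2 : ∑ g : G, indFun T (conv (frIdem N T b) c) g * indFun T ψ g =
      (Nat.card T : ℂ)⁻¹ * (Nat.card G : ℂ) * ∑ s : T, c s * ψ s := by
    rw [← hnum, ← sum_mul_indFun T (conv (frIdem N T b) c) (indFun_isClassFunction T ψ)]
    refine Finset.sum_congr rfl fun g _ => ?_
    ring
  rw [h2, indFun_one, hidx]
  field_simp

end FR

end Cfsg.Agent.Lib.Helper74
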