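import Cfsg.Agent.Lib.Helper74.FR4

/-!
# Fong–Reynolds, part 5: the three statements
-/

set_option autoImplicit false
set_option linter.unusedSectionVars false

universe u

namespace Cfsg.Agent.Lib.Helper74

open Cfsg Cfsg.Agent.Lib.Helper77 Cfsg.Agent.Lib.Helper25 Cfsg.Agent.Lib.Helper81
open Cfsg.Agent.Lib.Helper16 Cfsg.Agent.Lib.Helper75
open scoped ComplexConjugate

section FR

variable {G : Type u} [Group G] [Fintype G] (N : Subgroup G) [hN : N.Normal] [Fintype N]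
  (T : Subgroup G) [Fintype T] (hNT : N ≤ T) (b : Set (IrrCharacter N))

theorem fr_part_i {p : ℕ} {M : Ideal AlgInt} (hpM : IsPModular p M) (hb : IsPBlock M b)
    (hst : IsStab N T b) (B' : Set (IrrCharacter T)) (hB' : IsPBlock M B')
    (hcov : ∃ ψ ∈ B', FrOver N T hNT b (ψ : T → ℂ)) :
    ∃ B : Set (IrrCharacter G), IsInducedBlock M T B' B ∧
      (∃ χ ∈ B, FrOverG N b (χ : G → ℂ)) ∧
      (∀ ψ ∈ B', IsIrrCharacter G (indFun T (ψ : T → ℂ))) ∧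
      ∀ χ : IrrCharacter G, χ ∈ B ↔ ∃ ψ ∈ B', (χ : G → ℂ) = indFun T (ψ : T → ℂ) := by
  have hM := isPrime_of_isPModular hpM
  obtain ⟨ψ₀, hψ₀, hov₀⟩ := hcov
  have hB'eq : B' = blockOf M (ψ₀ : T → ℂ) := eq_blockOf_of_mem hM hB' hψ₀
  have o₀ := omega_frIdem_of_over N T hNT b hst ψ₀.2 hov₀
  have hirr₀ := isIrrCharacter_indFun_of_omega N T hNT b hM hb hst ψ₀.2 o₀
  have hovG₀ := overG_indFun N T hNT b hM hb hst ψ₀.2 o₀
  refine ⟨blockOf M (indFun T (ψ₀ : T → ℂ)), ?_, ?_, ?_, ?_⟩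
  · rw [hB'eq]
    exact isInducedBlock_of_indFun_irr hM T ψ₀ hirr₀
  · exact ⟨⟨indFun T (ψ₀ : T → ℂ), hirr₀⟩, self_mem_blockOf hM ⟨indFun T (ψ₀ : T → ℂ), hirr₀⟩,
      hovG₀⟩
  · intro ψ hψ
    have hs : SameBlock M (ψ₀ : T → ℂ) (ψ : T → ℂ) := by
      rw [hB'eq] at hψ
      exact hψ
    have hov := over_of_sameBlock N T hNT b hpM hb hst ψ₀.2 ψ.2 hs hov₀
    exact isIrrCharacter_indFun_of_omega N T hNT b hM hb hst ψ.2
      (omega_frIdem_of_over N T hNT b hst ψ.2 hov)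
  · intro χ
    constructor
    · intro hχ
      have hχ' : SameBlock M (indFun T (ψ₀ : T → ℂ)) (χ : G → ℂ) := hχ
      have hovχ : FrOverG N b (χ : G → ℂ) :=
        overG_of_sameBlock N b hpM hb ⟨indFun T (ψ₀ : T → ℂ), hirr₀⟩ χ hχ' hovG₀
      obtain ⟨ψ, hovψ, hind⟩ := exists_indFun_eq_of_overG N T hNT b hM hb hst χ hovχ
      refine ⟨ψ, ?_, hind.symm⟩
      rw [hB'eq]
      show SameBlock M (ψ₀ : T → ℂ) (ψ : T → ℂ)
      apply sameBlock_of_sameBlock_indFun N T hNT b hpM hb hst ψ₀.2 ψ.2 o₀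
        (omega_frIdem_of_over N T hNT b hst ψ.2 hovψ)
      rw [hind]
      exact hχ'
    · rintro ⟨ψ, hψ, hχψ⟩
      show SameBlock M (indFun T (ψ₀ : T → ℂ)) (χ : G → ℂ)
      rw [hχψ]
      have hs : SameBlock M (ψ₀ : T → ℂ) (ψ : T → ℂ) := by
        rw [hB'eq] at hψ
        exact hψ
      intro g
      rw [centralChar_indFun, centralChar_indFun, inducedCentralChar_eq_omega,
        inducedCentralChar_eq_omega]
      exact memLocalIdeal_omega_sub hM (isClassFunction_of_isCharacter ψ₀.2)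
        (isClassFunction_of_isCharacter ψ.2) hs (indClassFn_isClassFunction T g)
        (indClassFn_ZS hM T g).2

theorem fr_part_ii {p : ℕ} {M : Ideal AlgInt} (hpM : IsPModular p M) (hb : IsPBlock M b)
    (hst : IsStab N T b) (B'₁ B'₂ : Set (IrrCharacter T)) (h₁ : IsPBlock M B'₁)
    (h₂ : IsPBlock M B'₂) (c₁ : ∃ ψ ∈ B'₁, FrOver N T hNT b (ψ : T → ℂ))
    (c₂ : ∃ ψ ∈ B'₂, FrOver N T hNT b (ψ : T → ℂ)) (B : Set (IrrCharacter G))
    (i₁ : IsInducedBlock M T B'₁ B) (i₂ : IsInducedBlock M T B'₂ B) : B'₁ = B'₂ := by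
  have hM := isPrime_of_isPModular hpM
  obtain ⟨ψ₁, hψ₁, ov₁⟩ := c₁
  obtain ⟨ψ₂, hψ₂, ov₂⟩ := c₂
  have o₁ := omega_frIdem_of_over N T hNT b hst ψ₁.2 ov₁
  have o₂ := omega_frIdem_of_over N T hNT b hst ψ₂.2 ov₂
  have irr₁ := isIrrCharacter_indFun_of_omega N T hNT b hM hb hst ψ₁.2 o₁
  have irr₂ := isIrrCharacter_indFun_of_omega N T hNT b hM hb hst ψ₂.2 o₂
  have e₁ : B'₁ = blockOf M (ψ₁ : T → ℂ) := eq_blockOf_of_mem hM h₁ hψ₁
  have e₂ : B'₂ = blockOf M (ψ₂ : T → ℂ) := eq_blockOf_of_mem hM h₂ hψ₂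
  have j₁ : IsInducedBlock M T B'₁ (blockOf M (indFun T (ψ₁ : T → ℂ))) := by
    rw [e₁]
    exact isInducedBlock_of_indFun_irr hM T ψ₁ irr₁
  have j₂ : IsInducedBlock M T B'₂ (blockOf M (indFun T (ψ₂ : T → ℂ))) := by
    rw [e₂]
    exact isInducedBlock_of_indFun_irr hM T ψ₂ irr₂
  have u₁ : B = blockOf M (indFun T (ψ₁ : T → ℂ)) := isInducedBlock_unique hM i₁ j₁
  have u₂ : B = blockOf M (indFun T (ψ₂ : T → ℂ)) := isInducedBlock_unique hM i₂ j₂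
  have hs : SameBlock M (indFun T (ψ₁ : T → ℂ)) (indFun T (ψ₂ : T → ℂ)) := by
    have heq : blockOf M (indFun T (ψ₁ : T → ℂ)) = blockOf M (indFun T (ψ₂ : T → ℂ)) :=
      u₁.symm.trans u₂
    have h0 : (⟨indFun T (ψ₂ : T → ℂ), irr₂⟩ : IrrCharacter G) ∈
        blockOf M (indFun T (ψ₂ : T → ℂ)) :=
      self_mem_blockOf hM ⟨indFun T (ψ₂ : T → ℂ), irr₂⟩
    exact (Set.ext_iff.mp heq ⟨indFun T (ψ₂ : T → ℂ), irr₂⟩).mpr h0
  have hs' := sameBlock_of_sameBlock_indFun N T hNT b hpM hb hst ψ₁.2 ψ₂.2 o₁ o₂ hs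
  have hmem : ψ₂ ∈ B'₁ := by
    rw [e₁]
    exact hs'
  rw [eq_blockOf_of_mem hM h₁ hmem, ← e₂]

theorem fr_part_iii {p : ℕ} {M : Ideal AlgInt} (hpM : IsPModular p M) (hb : IsPBlock M b)
    (hst : IsStab N T b) (B : Set (IrrCharacter G)) (hB : IsPBlock M B)
    (hcov : ∃ χ ∈ B, FrOverG N b (χ : G → ℂ)) :
    ∃ B' : Set (IrrCharacter T), IsPBlock M B' ∧ (∃ ψ ∈ B', FrOver N T hNT b (ψ : T → ℂ)) ∧
      IsInducedBlock M T B' B := by
  have hM := isPrime_of_isPModular hpM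
  obtain ⟨χ, hχ, hov⟩ := hcov
  obtain ⟨ψ, hovψ, hind⟩ := exists_indFun_eq_of_overG N T hNT b hM hb hst χ hov
  have hirr : IsIrrCharacter G (indFun T (ψ : T → ℂ)) := by
    rw [hind]
    exact χ.2
  refine ⟨blockOf M (ψ : T → ℂ), ⟨ψ, rfl⟩, ⟨ψ, self_mem_blockOf hM ψ, hovψ⟩, ?_⟩
  have := isInducedBlock_of_indFun_irr hM T ψ hirr
  rw [hind] at this
  rwa [eq_blockOf_of_mem hM hB hχ]

end FR

end Cfsg.Agent.Lib.Helper74
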