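import Mathlib

set_option autoImplicit false

namespace Cfsg.Agent.Lib.Helper74

open Matrix

section
variable {n : ℕ}

theorem trace_matrix_end (f : Matrix (Fin n) (Fin n) ℂ →ₗ[ℂ] Matrix (Fin n) (Fin n) ℂ) :
    LinearMap.trace ℂ _ f = ∑ i, ∑ j, f (Matrix.single i j 1) i j := by
  rw [LinearMap.trace_eq_matrix_trace ℂ (Matrix.stdBasis ℂ (Fin n) (Fin n)) f]
  rw [Matrix.trace, Fintype.sum_prod_type]
  apply Finset.sum_congr rfl
  intro i _
  apply Finset.sum_congr rfl
  intro j _
  rw [Matrix.diag_apply, LinearMap.toMatrix_apply, Matrix.stdBasis_eq_single]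
  simp [Matrix.stdBasis]

/-- The operator `M ↦ Aᵀ M B`. -/
def sandwich (A B : Matrix (Fin n) (Fin n) ℂ) :
    Matrix (Fin n) (Fin n) ℂ →ₗ[ℂ] Matrix (Fin n) (Fin n) ℂ where
  toFun M := Aᵀ * M * B
  map_add' := by intros; simp [mul_add, add_mul]
  map_smul' := by intros; simp

theorem sandwich_apply (A B M : Matrix (Fin n) (Fin n) ℂ) : sandwich A B M = Aᵀ * M * B := rfl

/-- transpose as a linear map -/
def transposeLin : Matrix (Fin n) (Fin n) ℂ →ₗ[ℂ] Matrix (Fin n) (Fin n) ℂ where
  toFun M := Mᵀ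
  map_add' := by intros; simp
  map_smul' := by intros; simp

theorem transposeLin_apply (M : Matrix (Fin n) (Fin n) ℂ) : transposeLin M = Mᵀ := rfl

theorem sandwich_single_apply (A B : Matrix (Fin n) (Fin n) ℂ) (i j k l : Fin n) :
    (Aᵀ * Matrix.single i j (1 : ℂ) * B : Matrix (Fin n) (Fin n) ℂ) k l = A i k * B j l := by
  rw [Matrix.mul_apply]
  simp only [Matrix.mul_apply, Matrix.single_apply, Matrix.transpose_apply]
  simp [Finset.sum_ite_eq, Finset.sum_ite_eq', ite_and, mul_ite]

theorem trace_sandwich (A B : Matrix (Fin n) (Fin n) ℂ) :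
    LinearMap.trace ℂ _ (sandwich A B) = A.trace * B.trace := by
  rw [trace_matrix_end]
  simp only [sandwich_apply, sandwich_single_apply]
  rw [Matrix.trace, Matrix.trace, Finset.sum_mul_sum]
  rfl

theorem trace_transpose_sandwich (A B : Matrix (Fin n) (Fin n) ℂ) :
    LinearMap.trace ℂ _ (transposeLin ∘ₗ sandwich A B) = (A * B).trace := by
  rw [trace_matrix_end]
  simp only [LinearMap.comp_apply, transposeLin_apply, Matrix.transpose_apply, sandwich_apply,
    sandwich_single_apply]
  rw [Matrix.trace]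
  apply Finset.sum_congr rfl
  intro i _
  rw [Matrix.diag_apply, Matrix.mul_apply]

end

end Cfsg.Agent.Lib.Helper74
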