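import Cfsg.Agent.Lib.Helper74.FS1

set_option autoImplicit false

namespace Cfsg.Agent.Lib.Helper74

open Matrix

section
variable {G : Type*} [Group G] {n : ℕ} (ρ : Representation ℂ G (Fin n → ℂ))

/-- matrix of `ρ g` -/
noncomputable def repMat (g : G) : Matrix (Fin n) (Fin n) ℂ := LinearMap.toMatrix' (ρ g)

theorem repMat_mul (g h : G) : repMat ρ (g * h) = repMat ρ g * repMat ρ h := by
  unfold repMat
  rw [map_mul, Module.End.mul_eq_comp, LinearMap.toMatrix'_comp]

theorem repMat_one : repMat ρ 1 = 1 := by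
  unfold repMat
  rw [map_one, Module.End.one_eq_id, LinearMap.toMatrix'_id]

theorem trace_repMat (g : G) : (repMat ρ g).trace = ρ.character g := by
  unfold repMat Representation.character
  rw [LinearMap.trace_eq_matrix_trace ℂ (Pi.basisFun ℂ (Fin n)), LinearMap.toMatrix_eq_toMatrix']

theorem repMat_mul_inv (g : G) : repMat ρ g * repMat ρ g⁻¹ = 1 := by
  rw [← repMat_mul, mul_inv_cancel, repMat_one]

theorem repMat_inv_mul (g : G) : repMat ρ g⁻¹ * repMat ρ g = 1 := by
  rw [← repMat_mul, inv_mul_cancel, repMat_one]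

/-- the space of `G`-invariant bilinear forms (as matrices) -/
def invForms : Submodule ℂ (Matrix (Fin n) (Fin n) ℂ) where
  carrier := {M | ∀ g, (repMat ρ g)ᵀ * M * repMat ρ g = M}
  add_mem' := by
    intro A B hA hB g
    rw [mul_add, add_mul, hA g, hB g]
  zero_mem' := by
    intro g
    simp
  smul_mem' := by
    intro c A hA g
    rw [Matrix.mul_smul, Matrix.smul_mul, hA g]

theorem mem_invForms (M : Matrix (Fin n) (Fin n) ℂ) :
    M ∈ invForms ρ ↔ ∀ g, (repMat ρ g)ᵀ * M * repMat ρ g = M := Iff.rfl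

theorem transpose_mem_invForms {M : Matrix (Fin n) (Fin n) ℂ} (hM : M ∈ invForms ρ) :
    Mᵀ ∈ invForms ρ := by
  intro g
  have := congrArg Matrix.transpose (hM g)
  rw [Matrix.transpose_mul, Matrix.transpose_mul, Matrix.transpose_transpose] at this
  rw [Matrix.mul_assoc]
  exact this

variable [Fintype G]

/-- averaging operator on bilinear forms -/
noncomputable def avgForm : Matrix (Fin n) (Fin n) ℂ →ₗ[ℂ] Matrix (Fin n) (Fin n) ℂ :=
  (Nat.card G : ℂ)⁻¹ • ∑ g : G, sandwich (repMat ρ g) (repMat ρ g)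

theorem avgForm_apply (M : Matrix (Fin n) (Fin n) ℂ) :
    avgForm ρ M = (Nat.card G : ℂ)⁻¹ • ∑ g : G, (repMat ρ g)ᵀ * M * repMat ρ g := by
  unfold avgForm
  rw [LinearMap.smul_apply, LinearMap.sum_apply]
  rfl

theorem avgForm_mem (M : Matrix (Fin n) (Fin n) ℂ) : avgForm ρ M ∈ invForms ρ := by
  rw [mem_invForms]
  intro h
  rw [avgForm_apply]
  rw [Matrix.mul_smul, Matrix.smul_mul]
  congr 1
  rw [Matrix.mul_sum, Matrix.sum_mul]
  rw [← Fintype.sum_equiv (Equiv.mulRight h) (fun g => (repMat ρ (g * h))ᵀ * M * repMat ρ (g * h))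
    (fun g => (repMat ρ g)ᵀ * M * repMat ρ g) (fun g => rfl)]
  apply Finset.sum_congr rfl
  intro g _
  rw [repMat_mul, Matrix.transpose_mul]
  simp only [Matrix.mul_assoc]

theorem card_ne_zero_complex : (Nat.card G : ℂ) ≠ 0 := by
  exact_mod_cast Nat.card_pos.ne'

theorem avgForm_of_mem {M : Matrix (Fin n) (Fin n) ℂ} (hM : M ∈ invForms ρ) : avgForm ρ M = M := by
  rw [avgForm_apply, Finset.sum_congr rfl (fun g _ => hM g), Finset.sum_const, Finset.card_univ,
    ← Nat.card_eq_fintype_card, ← Nat.cast_smul_eq_nsmul ℂ, smul_smul,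
    inv_mul_cancel₀ card_ne_zero_complex, one_smul]

theorem avgForm_isProj : LinearMap.IsProj (invForms ρ) (avgForm ρ) :=
  ⟨avgForm_mem ρ, fun _ hM => avgForm_of_mem ρ hM⟩

theorem trace_avgForm :
    LinearMap.trace ℂ _ (avgForm ρ) = (Nat.card G : ℂ)⁻¹ * ∑ g : G, ρ.character g * ρ.character g := by
  unfold avgForm
  rw [map_smul, map_sum, smul_eq_mul]
  congr 1
  apply Finset.sum_congr rfl
  intro g _
  rw [trace_sandwich, trace_repMat]

theorem finrank_invForms :
    (Module.finrank ℂ (invForms ρ) : ℂ) =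
      (Nat.card G : ℂ)⁻¹ * ∑ g : G, ρ.character g * ρ.character g := by
  rw [← trace_avgForm, (avgForm_isProj ρ).trace]

theorem trace_transpose_avgForm :
    LinearMap.trace ℂ _ (transposeLin ∘ₗ avgForm ρ) =
      (Nat.card G : ℂ)⁻¹ * ∑ g : G, ρ.character (g * g) := by
  have e : transposeLin ∘ₗ avgForm ρ =
      (Nat.card G : ℂ)⁻¹ • ∑ g : G, transposeLin ∘ₗ sandwich (repMat ρ g) (repMat ρ g) := by
    apply LinearMap.ext
    intro M
    unfold avgForm
    simp only [LinearMap.comp_apply, LinearMap.smul_apply, LinearMap.sum_apply, map_smul, map_sum]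
  rw [e, map_smul, map_sum, smul_eq_mul]
  congr 1
  apply Finset.sum_congr rfl
  intro g _
  rw [trace_transpose_sandwich, ← repMat_mul, trace_repMat]

end

end Cfsg.Agent.Lib.Helper74
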