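import Cfsg.Agent.Lib.Helper74.FS2
import Cfsg.Agent.Lib.Helper3.CharBasic

set_option autoImplicit false

namespace Cfsg.Agent.Lib.Helper74

open Matrix
open scoped ComplexConjugate

section
variable {G : Type*} [Group G] {n : ℕ} (ρ : Representation ℂ G (Fin n → ℂ))

theorem repMat_mulVec (g : G) (v : Fin n → ℂ) : (repMat ρ g) *ᵥ v = ρ g v := by
  unfold repMat
  rw [LinearMap.toMatrix'_mulVec]

theorem form_mul_repMat {M : Matrix (Fin n) (Fin n) ℂ} (hM : M ∈ invForms ρ) (g : G) :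
    M * repMat ρ g = (repMat ρ g⁻¹)ᵀ * M := by
  have h := hM g
  have h2 : (repMat ρ g⁻¹)ᵀ * ((repMat ρ g)ᵀ * M * repMat ρ g) = (repMat ρ g⁻¹)ᵀ * M := by rw [h]
  rw [← h2]
  rw [← Matrix.mul_assoc, ← Matrix.mul_assoc, ← Matrix.transpose_mul, repMat_mul_inv,
    Matrix.transpose_one, Matrix.one_mul]

theorem det_ne_zero_of_mem_invForms (hirr : ρ.IsIrreducible) {M : Matrix (Fin n) (Fin n) ℂ}
    (hM : M ∈ invForms ρ) (hM0 : M ≠ 0) : M.det ≠ 0 := by
  obtain ⟨_, hsub⟩ := (Cfsg.Agent.Lib.Helper3.isIrreducible_iff ρ).mp hirr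
  have hinv : ∀ g : G, ∀ v ∈ LinearMap.ker (Matrix.toLin' M), ρ g v ∈ LinearMap.ker (Matrix.toLin' M) := by
    intro g v hv
    rw [LinearMap.mem_ker, Matrix.toLin'_apply] at hv ⊢
    rw [← repMat_mulVec, Matrix.mulVec_mulVec, form_mul_repMat ρ hM, ← Matrix.mulVec_mulVec, hv,
      Matrix.mulVec_zero]
  rcases hsub _ hinv with h | h
  · have hinj : Function.Injective (Matrix.toLin' M) := LinearMap.ker_eq_bot.mp h
    have hu : IsUnit M := by
      rw [← Matrix.mulVec_injective_iff_isUnit]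
      intro v w hvw
      apply hinj
      rw [Matrix.toLin'_apply, Matrix.toLin'_apply]
      exact hvw
    exact ((Matrix.isUnit_iff_isUnit_det M).mp hu).ne_zero
  · exfalso
    apply hM0
    have : Matrix.toLin' M = 0 := LinearMap.ker_eq_top.mp h
    have h2 := congrArg LinearMap.toMatrix' this
    rwa [LinearMap.toMatrix'_toLin', map_zero] at h2

theorem char_inv_eq_of_mem_invForms (hirr : ρ.IsIrreducible) {M : Matrix (Fin n) (Fin n) ℂ}
    (hM : M ∈ invForms ρ) (hM0 : M ≠ 0) (g : G) : ρ.character g⁻¹ = ρ.character g := by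
  have hdet := det_ne_zero_of_mem_invForms ρ hirr hM hM0
  have hu : IsUnit M.det := isUnit_iff_ne_zero.mpr hdet
  have h1 := form_mul_repMat ρ hM g
  have h2 : (repMat ρ g⁻¹)ᵀ = M * repMat ρ g * M⁻¹ := by
    rw [h1, Matrix.mul_assoc, Matrix.mul_nonsing_inv M hu, Matrix.mul_one]
  rw [← trace_repMat, ← trace_repMat, ← Matrix.trace_transpose, h2, Matrix.trace_mul_comm,
    ← Matrix.mul_assoc, Matrix.nonsing_inv_mul M hu, Matrix.one_mul]

end

end Cfsg.Agent.Lib.Helper74
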