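import Cfsg.Agent.Lib.Helper74.FS3

set_option autoImplicit false

namespace Cfsg.Agent.Lib.Helper74

open Matrix
open scoped ComplexConjugate

section
variable {G : Type*} [Group G] [Fintype G] {n : ℕ} (ρ : Representation ℂ G (Fin n → ℂ))

/-- the Frobenius–Schur indicator of the character of `ρ` -/
noncomputable def fsInd : ℂ := (Nat.card G : ℂ)⁻¹ * ∑ s : G, ρ.character (s * s)

theorem finrank_invForms_of_real (hirr : ρ.IsIrreducible) (hreal : ∀ g : G, (ρ.character g).im = 0) :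
    Module.finrank ℂ (invForms ρ) = 1 := by
  have h1 := finrank_invForms ρ
  have h2 : Cfsg.classInner ρ.character ρ.character = 1 := by
    have hχ : Cfsg.IsIrrCharacter G ρ.character := ⟨n, ρ, hirr, rfl⟩
    rw [Cfsg.Agent.Lib.Helper3.classInner_irr hχ hχ, if_pos rfl]
  unfold Cfsg.classInner at h2
  have h3 : ∀ g : G, conj (ρ.character g) = ρ.character g := fun g =>
    Complex.conj_eq_iff_im.mpr (hreal g)
  simp only [h3] at h2
  rw [h2] at h1
  exact_mod_cast h1

theorem invForms_eq_bot_of_not_real (hirr : ρ.IsIrreducible)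
    (hnr : ∃ g : G, (ρ.character g).im ≠ 0) : invForms ρ = ⊥ := by
  rw [eq_bot_iff]
  intro M hM
  rw [Submodule.mem_bot]
  by_contra hM0
  obtain ⟨g, hg⟩ := hnr
  apply hg
  have h1 := char_inv_eq_of_mem_invForms ρ hirr hM hM0 g
  rw [Cfsg.Agent.Lib.Helper3.character_inv ρ g] at h1
  exact Complex.conj_eq_iff_im.mp h1

theorem fsInd_eq_zero_of_not_real (hirr : ρ.IsIrreducible)
    (hnr : ∃ g : G, (ρ.character g).im ≠ 0) : fsInd ρ = 0 := by
  unfold fsInd
  rw [← trace_transpose_avgForm]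
  have h0 : avgForm ρ = 0 := by
    apply LinearMap.ext
    intro M
    have := avgForm_mem ρ M
    rw [invForms_eq_bot_of_not_real ρ hirr hnr, Submodule.mem_bot] at this
    rw [this, LinearMap.zero_apply]
  rw [h0, LinearMap.comp_zero, map_zero]

/-- main structure theorem in the real case -/
theorem exists_form_of_real (hirr : ρ.IsIrreducible) (hreal : ∀ g : G, (ρ.character g).im = 0) :
    ∃ M₀ : Matrix (Fin n) (Fin n) ℂ, M₀ ≠ 0 ∧ M₀ ∈ invForms ρ ∧
      (∀ M ∈ invForms ρ, ∃ a : ℂ, M = a • M₀) ∧ M₀ᵀ = fsInd ρ • M₀ ∧ fsInd ρ * fsInd ρ = 1 := by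
  have hfr := finrank_invForms_of_real ρ hirr hreal
  obtain ⟨v, hv0, hv⟩ := finrank_eq_one_iff'.mp hfr
  set M₀ : Matrix (Fin n) (Fin n) ℂ := v.1 with hM₀
  have hM₀0 : M₀ ≠ 0 := by
    intro h
    apply hv0
    exact Subtype.ext h
  have hspan : ∀ M ∈ invForms ρ, ∃ a : ℂ, M = a • M₀ := by
    intro M hM
    obtain ⟨c, hc⟩ := hv ⟨M, hM⟩
    exact ⟨c, (congrArg Subtype.val hc).symm⟩
  obtain ⟨c, hc⟩ := hspan _ (transpose_mem_invForms ρ v.2)
  have hTP : transposeLin ∘ₗ avgForm ρ = c • avgForm ρ := by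
    apply LinearMap.ext
    intro M
    obtain ⟨a, ha⟩ := hspan _ (avgForm_mem ρ M)
    rw [LinearMap.comp_apply, transposeLin_apply, LinearMap.smul_apply, ha, Matrix.transpose_smul,
      hc, smul_comm]
  have htr : fsInd ρ = c := by
    unfold fsInd
    rw [← trace_transpose_avgForm, hTP, map_smul, (avgForm_isProj ρ).trace, hfr, Nat.cast_one,
      smul_eq_mul, mul_one]
  have hcc : c * c = 1 := by
    have h1 : M₀ = (c * c) • M₀ := by
      have : M₀ᵀᵀ = (c • M₀)ᵀ := by rw [hc]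
      rw [Matrix.transpose_transpose, Matrix.transpose_smul, hc, smul_smul] at this
      exact this
    have h2 : (c * c - 1) • M₀ = 0 := by
      rw [sub_smul, one_smul, ← h1, sub_self]
    rcases smul_eq_zero.mp h2 with h | h
    · exact sub_eq_zero.mp h
    · exact absurd h hM₀0
  refine ⟨M₀, hM₀0, v.2, hspan, ?_, ?_⟩
  · rw [htr]; exact hc
  · rw [htr]; exact hcc

theorem transpose_eq_fsInd_smul (hirr : ρ.IsIrreducible) (hreal : ∀ g : G, (ρ.character g).im = 0)
    {M : Matrix (Fin n) (Fin n) ℂ} (hM : M ∈ invForms ρ) : Mᵀ = fsInd ρ • M := by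
  obtain ⟨M₀, _, _, hspan, hT, _⟩ := exists_form_of_real ρ hirr hreal
  obtain ⟨a, rfl⟩ := hspan M hM
  rw [Matrix.transpose_smul, hT, smul_comm]

theorem fsInd_eq_one_or_neg_one (hirr : ρ.IsIrreducible) (hreal : ∀ g : G, (ρ.character g).im = 0) :
    fsInd ρ = 1 ∨ fsInd ρ = -1 := by
  obtain ⟨_, _, _, _, _, h⟩ := exists_form_of_real ρ hirr hreal
  exact mul_self_eq_one_iff.mp h

end

end Cfsg.Agent.Lib.Helper74
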