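import Cfsg.Agent.Lib.Helper74.FS5
import Cfsg.Agent.Lib.Helper3.Ortho

set_option autoImplicit false

namespace Cfsg.Agent.Lib.Helper74

open scoped ComplexConjugate

section
variable {G : Type*} [Group G] [Fintype G]

/-- the number of solutions of `s * s = 1` is `∑ ν(χ) χ(1)` -/
theorem card_sq_eq_one [Fintype (Cfsg.IrrCharacter G)] :
    (Nat.card {s : G // s * s = 1} : ℂ) =
      ∑ χ : Cfsg.IrrCharacter G, ((Nat.card G : ℂ)⁻¹ * ∑ s : G, (χ : G → ℂ) (s * s)) * (χ : G → ℂ) 1 := by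
  classical
  have hcard : (Nat.card G : ℂ) ≠ 0 := by exact_mod_cast Nat.card_pos.ne'
  have hreg : ∀ g : G, ∑ χ : Cfsg.IrrCharacter G, (χ : G → ℂ) 1 * (χ : G → ℂ) g =
      if g = 1 then (Nat.card G : ℂ) else 0 := by
    intro g
    have h := congrFun (Cfsg.Agent.Lib.Helper3.leftRegular_character_eq_sum (G := G)) g
    rw [Cfsg.Agent.Lib.Helper3.leftRegular_character] at h
    rw [h]
    simp only [Finset.sum_apply, Pi.smul_apply, smul_eq_mul]
  have h1 : ∑ χ : Cfsg.IrrCharacter G,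
      ((Nat.card G : ℂ)⁻¹ * ∑ s : G, (χ : G → ℂ) (s * s)) * (χ : G → ℂ) 1 =
      (Nat.card G : ℂ)⁻¹ * ∑ s : G, ∑ χ : Cfsg.IrrCharacter G, (χ : G → ℂ) 1 * (χ : G → ℂ) (s * s) := by
    rw [Finset.sum_comm, Finset.mul_sum]
    simp only [Finset.mul_sum, Finset.sum_mul]
    apply Finset.sum_congr rfl
    intro χ _
    apply Finset.sum_congr rfl
    intro s _
    ring
  rw [h1]
  simp only [hreg]
  rw [← Finset.sum_filter, Finset.sum_const, nsmul_eq_mul]
  rw [Nat.card_eq_fintype_card, Fintype.card_subtype]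
  field_simp

end

end Cfsg.Agent.Lib.Helper74
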