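import Mathlib
import Cfsg.Agent.Lib.Helper37.FusDefs
import Cfsg.Agent.Lib.Helper54.FusCDefs

/-!
# FUSC-DEC (FUS-C sub-hive of helper54, S2720/S2721): the decomposition `decomp`

All operator identities are proved in the commutative ring `L[X]` and transported along the ring
homomorphism `Φ : L[X] →+* End V`, `C x ↦ ρ x`, `X ↦ a` (whose kernel contains `X (C σ - X) - 1`).
-/

set_option autoImplicit false

namespace Cfsg.Agent.Lib.Helper37.Fus

open Polynomial

variable {F : Type*} [Field F] {V : Type*} [AddCommGroup V] [Module F V]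

section Min

variable {B : LinearMap.BilinForm F V} {a a' : V →ₗ[F] V}

theorem dec_adj (c : MinCtx B a a') (p q : V) :
    B (a p) q = B p (a' q) ∧ B (a' p) q = B p (a q) := by
  have h1 : ∀ q, a (a' q) = q := fun q => by
    have := LinearMap.congr_fun c.haa' q
    simpa using this
  constructor
  · have := c.ha p (a' q)
    rw [h1] at this
    exact this
  · have := c.ha (a' p) q
    rw [h1] at this
    exact this.symm

variable {L : Type*} [Field L] [Algebra F L] {ρ : L →ₐ[F] Module.End F V} {σ : L}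

/-- own copy of FUSC-RHO -/
theorem dec_rho_facts (c : MinCtx B a a') (k : FieldCtx a a' ρ σ) (x : L) :
    ρ x * a = a * ρ x ∧ ρ x * a' = a' * ρ x ∧ ∀ u v, B (ρ x u) v = B u (ρ x v) := by
  have hx : x ∈ Algebra.adjoin F ({σ} : Set L) := by
    rw [k.hgen]
    exact Algebra.mem_top
  induction hx using Algebra.adjoin_induction with
  | mem x hx =>
    have hx' : x = σ := by simpa using hx
    subst hx'
    rw [k.hσ]
    refine ⟨?_, ?_, ?_⟩
    · rw [add_mul, mul_add, c.haa', c.ha'a]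
    · rw [add_mul, mul_add, c.haa', c.ha'a]
    · intro u v
      rw [LinearMap.add_apply, LinearMap.add_apply, map_add, LinearMap.add_apply, map_add,
        (dec_adj c u v).1, (dec_adj c u v).2, add_comm]
  | algebraMap r =>
    rw [AlgHom.commutes]
    refine ⟨?_, ?_, ?_⟩
    · exact Algebra.commutes r a
    · exact Algebra.commutes r a'
    · intro u v
      rw [Module.algebraMap_end_apply, Module.algebraMap_end_apply, map_smul, map_smul,
        LinearMap.smul_apply]
  | add x y _ _ hx hy =>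
    rw [map_add]
    refine ⟨?_, ?_, ?_⟩
    · rw [add_mul, mul_add, hx.1, hy.1]
    · rw [add_mul, mul_add, hx.2.1, hy.2.1]
    · intro u v
      rw [LinearMap.add_apply, LinearMap.add_apply, map_add, LinearMap.add_apply, map_add,
        hx.2.2, hy.2.2]
  | mul x y _ _ hx hy =>
    rw [map_mul]
    refine ⟨?_, ?_, ?_⟩
    · rw [mul_assoc, hy.1, ← mul_assoc, hx.1, mul_assoc]
    · rw [mul_assoc, hy.2.1, ← mul_assoc, hx.2.1, mul_assoc]
    · intro u v
      rw [Module.End.mul_apply, Module.End.mul_apply, hx.2.2, hy.2.2]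
      congr 1
      have := LinearMap.congr_fun (show ρ x * ρ y = ρ y * ρ x by
        rw [← map_mul, ← map_mul, mul_comm]) v
      simpa using this.symm

theorem decomp (c : MinCtx B a a') (k : FieldCtx a a' ρ σ) (w : V) (n u v : L)
    (hn : n = u ^ 2 + σ * u * v + v ^ 2) (hn0 : n ≠ 0) :
    let y : V →ₗ[F] V := ρ u + ρ v * a
    let z : V →ₗ[F] V := y * y * ρ n⁻¹
    z * a = a * z ∧
    (∀ p q : V, B (y p) (y q) = B p (ρ n q)) ∧
    (∀ p ∈ N0 ρ w, ∃ u₀ ∈ N0 ρ w, ∃ u₁ ∈ N1 a a' ρ w, p = y u₀ + y u₁ ∧ z p = y u₀ - y u₁) ∧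
    (∀ p ∈ N1 a a' ρ w, ∃ u₀ ∈ N0 ρ w, ∃ u₁ ∈ N1 a a' ρ w, -p = y u₀ + y u₁ ∧ z p = y u₀ - y u₁) := by
  intro y z
  have hrho := dec_rho_facts c k
  have hcomm : ∀ x : L, Commute ((ρ : L →+* Module.End F V) x) a := fun x => (hrho x).1
  obtain ⟨Φ, hΦC, hΦX⟩ : ∃ Φ : L[X] →+* Module.End F V, (∀ x : L, Φ (C x) = ρ x) ∧ Φ X = a := by
    refine ⟨Polynomial.eval₂RingHom' (ρ : L →+* Module.End F V) a hcomm, ?_, ?_⟩
    · intro x
      simp
    · simp
  have hΦa' : Φ (C σ - X) = a' := by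
    rw [map_sub, hΦC, hΦX, k.hσ, add_sub_cancel_left]
  have hR : Φ (X * (C σ - X) - 1) = 0 := by
    rw [map_sub, map_mul, hΦa', hΦX, map_one, c.haa', sub_self]
  have hcn : Φ (C n⁻¹ * C n - 1) = 0 := by
    rw [← C_mul, inv_mul_cancel₀ hn0, C_1, sub_self, map_zero]
  have key : ∀ P Q G G₂ : L[X], P = Q + G * (X * (C σ - X) - 1) + G₂ * (C n⁻¹ * C n - 1) →
      Φ P = Φ Q := by
    intro P Q G G₂ h
    rw [h, map_add, map_add, map_mul, map_mul, hR, hcn, mul_zero, mul_zero, add_zero, add_zero]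
  have hCn : (C n : L[X]) = C u ^ 2 + C σ * C u * C v + C v ^ 2 := by
    rw [hn]
    simp only [map_add, map_mul, map_pow]
  have hy : y = Φ (C u + C v * X) := by
    rw [map_add, map_mul, hΦC, hΦC, hΦX]
  have hz : z = Φ ((C u + C v * X) * (C u + C v * X) * C n⁻¹) := by
    rw [map_mul, map_mul, ← hy, hΦC]
  have hE : a - a' = Φ (X - (C σ - X)) := by
    rw [map_sub, hΦa', hΦX]
  have h2L : (2 : L) ≠ 0 := by
    intro h
    apply c.h2
    apply (algebraMap F L).injective
    rw [map_ofNat, h, map_zero]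
  have hdiv : ∀ x : L, ∃ t' : L, x = n * (t' + t') := by
    intro x
    refine ⟨n⁻¹ * x * 2⁻¹, ?_⟩
    field_simp
    ring
  refine ⟨?_, ?_, ?_, ?_⟩
  · rw [hz, ← hΦX, ← map_mul, ← map_mul, mul_comm]
  · intro p q
    have h1 : ∀ r : V, B (y p) r = B p ((ρ u + a' * ρ v) r) := by
      intro r
      show B ((ρ u + ρ v * a) p) r = B p ((ρ u + a' * ρ v) r)
      rw [LinearMap.add_apply, map_add, LinearMap.add_apply, (hrho u).2.2, Module.End.mul_apply,
        (hrho v).2.2, (dec_adj c _ _).1, LinearMap.add_apply, map_add, Module.End.mul_apply]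
    have h2 : (ρ u + a' * ρ v) * y = ρ n := by
      rw [hy, ← hΦC u, ← hΦC v, ← hΦa', ← hΦC n, ← map_mul, ← map_add, ← map_mul]
      refine key _ _ (C v ^ 2) 0 ?_
      rw [hCn]
      ring
    rw [h1, ← Module.End.mul_apply, h2]
  · intro p hp
    obtain ⟨x, rfl⟩ := (mem_N0 ρ w p).1 hp
    obtain ⟨t', rfl⟩ := hdiv x
    refine ⟨ρ (u * (t' + t') + v * t' * σ) w, (mem_N0 ρ w _).2 ⟨_, Eq.refl _⟩,
      (a - a') (ρ (-(v * t')) w), (mem_N1 a a' ρ w _).2 ⟨_, Eq.refl _⟩, ?_, ?_⟩
    · have h : ρ (n * (t' + t')) =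
          y * ρ (u * (t' + t') + v * t' * σ) + y * ((a - a') * ρ (-(v * t'))) := by
        rw [hy, hE, ← hΦC, ← hΦC, ← hΦC, ← map_mul, ← map_mul, ← map_mul, ← map_add]
        symm
        refine key _ _ ((C t' + C t') * C v ^ 2) 0 ?_
        simp only [map_add, map_mul, map_neg, hCn]
        ring
      exact LinearMap.congr_fun h w
    · have h : z * ρ (n * (t' + t')) =
          y * ρ (u * (t' + t') + v * t' * σ) - y * ((a - a') * ρ (-(v * t'))) := by
        rw [hz, hy, hE, ← hΦC, ← hΦC, ← hΦC, ← map_mul, ← map_mul, ← map_mul, ← map_mul, ← map_sub]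
        refine key _ _ 0 ((C t' + C t') * (C u + C v * X) ^ 2) ?_
        simp only [map_add, map_mul, map_neg]
        ring
      exact LinearMap.congr_fun h w
  · intro p hp
    obtain ⟨x, rfl⟩ := (mem_N1 a a' ρ w p).1 hp
    obtain ⟨t', rfl⟩ := hdiv x
    refine ⟨ρ (v * t' * (σ ^ 2 - 4)) w, (mem_N0 ρ w _).2 ⟨_, Eq.refl _⟩,
      (a - a') (ρ (-(u * (t' + t') + v * t' * σ)) w), (mem_N1 a a' ρ w _).2 ⟨_, Eq.refl _⟩, ?_, ?_⟩
    · have h : -((a - a') * ρ (n * (t' + t'))) =
          y * ρ (v * t' * (σ ^ 2 - 4)) +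
            y * ((a - a') * ρ (-(u * (t' + t') + v * t' * σ))) := by
        rw [hy, hE, ← hΦC, ← hΦC, ← hΦC, ← map_mul, ← map_mul, ← map_mul, ← map_mul, ← map_add,
          ← map_neg]
        symm
        refine key _ _ ((C t' + C t') * (2 * C u * C v + C v ^ 2 * C σ)) 0 ?_
        simp only [map_add, map_mul, map_neg, map_sub, map_pow, map_ofNat, hCn]
        ring
      exact LinearMap.congr_fun h w
    · have h : z * ((a - a') * ρ (n * (t' + t'))) =
          y * ρ (v * t' * (σ ^ 2 - 4)) -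
            y * ((a - a') * ρ (-(u * (t' + t') + v * t' * σ))) := by
        rw [hz, hy, hE, ← hΦC, ← hΦC, ← hΦC, ← map_mul, ← map_mul, ← map_mul, ← map_mul, ← map_mul,
          ← map_sub]
        refine key _ _ (-(2 * C v * (C t' + C t') * (C u + C v * X)))
          ((C t' + C t') * (C u + C v * X) ^ 2 * (X - (C σ - X))) ?_
        simp only [map_add, map_mul, map_neg, map_sub, map_pow, map_ofNat]
        ring
      exact LinearMap.congr_fun h w

end Min

end Cfsg.Agent.Lib.Helper37.Fus
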