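import Mathlib
import Cfsg.Prelude.Def_Blocks
import Cfsg.Prelude.Def_Transfer
import Cfsg.Prelude.Def_CharExt
import Cfsg.Agent.Lib.Helper15.GlaubCyc
import Cfsg.Agent.Lib.Helper15.GlaubGal
import Cfsg.Agent.Lib.Helper15.Gallagher
import Cfsg.Agent.Lib.Helper79.KGV
import Cfsg.Agent.Lib.Helper75.Twist
import Cfsg.Agent.Lib.Helper2.PResidual2
import Cfsg.Agent.Lib.Helper81.Irr
import Cfsg.Agent.S0867

set_option autoImplicit false

/-!
# Galois-fixed characters of `p'`-degree over a cyclic `p`-quotient: group-theoretic preliminaries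
-/

namespace Cfsg.Agent.Lib.Helper74

open Cfsg Cfsg.Agent.Lib.Helper3 Cfsg.Agent.Lib.Helper15

universe u

section GM1

variable {G : Type u} [Group G] [Finite G]

/-- A power map which is `g ↦ g ^ (1 + p)` on `p`-elements and the identity on `p'`-elements has
exponent prime to the group order. -/
theorem gm_coprime_card (p : ℕ) [hp : Fact p.Prime] (k : ℕ)
    (hk₁ : ∀ g : G, (∃ j : ℕ, orderOf g = p ^ j) → g ^ k = g ^ (1 + p))
    (hk₂ : ∀ g : G, Nat.Coprime (orderOf g) p → g ^ k = g) :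
    Nat.Coprime k (Nat.card G) := by
  by_contra hnc
  obtain ⟨q, hq, hqk, hqG⟩ := Nat.Prime.not_coprime_iff_dvd.1 hnc
  have : Fact q.Prime := ⟨hq⟩
  obtain ⟨g, hg⟩ := exists_prime_orderOf_dvd_card' q hqG
  have hgk : g ^ k = 1 := by
    obtain ⟨c, rfl⟩ := hqk
    rw [pow_mul, ← hg, pow_orderOf_eq_one, one_pow]
  have hg1 : g ≠ 1 := by
    intro h
    rw [h, orderOf_one] at hg
    exact hq.one_lt.ne hg
  by_cases hqp : q = p
  · subst hqp
    have := hk₁ g ⟨1, by rw [hg, pow_one]⟩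
    rw [hgk, pow_add, pow_one] at this
    rw [← hg, pow_orderOf_eq_one, mul_one] at this
    exact hg1 this.symm
  · have hcop : Nat.Coprime (orderOf g) p := by
      rw [hg]
      exact (Nat.coprime_primes hq hp.out).2 hqp
    have := hk₂ g hcop
    rw [hgk] at this
    exact hg1 this.symm

/-- A cyclic `p`-quotient `G ⧸ N` is generated by the image of a `p`-element. -/
theorem gm_exists_generator (p : ℕ) [hp : Fact p.Prime] (N : Subgroup G) [N.Normal]
    (hcyc : IsCyclic (G ⧸ N)) (hpq : IsPGroup p (G ⧸ N)) :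
    ∃ x : G, (∃ b : ℕ, x ^ (p ^ b) = 1) ∧ ∀ y : G, ∃ i : ℕ, y * x ^ i ∈ N := by
  obtain ⟨g₀, hg₀⟩ := hcyc.exists_generator
  obtain ⟨g, rfl⟩ := QuotientGroup.mk_surjective g₀
  obtain ⟨b, m, hm, hgm⟩ :=
    Nat.exists_eq_pow_mul_and_not_dvd (orderOf_pos g).ne' p hp.out.ne_one
  obtain ⟨a, ha⟩ := hpq (g : G ⧸ N)
  have hcop : Nat.Coprime m (p ^ a) :=
    Nat.Coprime.pow_right a ((Nat.Prime.coprime_iff_not_dvd hp.out).2 hm).symm
  refine ⟨g ^ m, ⟨b, ?_⟩, ?_⟩
  · rw [← pow_mul, mul_comm, ← hgm, pow_orderOf_eq_one]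
  · intro y
    have hX : Nat.Coprime m (orderOf (g : G ⧸ N)) :=
      Nat.Coprime.coprime_dvd_right (orderOf_dvd_of_pow_eq_one ha) hcop
    obtain ⟨m', hm'⟩ := exists_pow_eq_self_of_coprime hX
    have hy : ((y : G ⧸ N))⁻¹ ∈ Subgroup.zpowers (g : G ⧸ N) := hg₀ _
    rw [← mem_powers_iff_mem_zpowers, Submonoid.mem_powers_iff] at hy
    obtain ⟨j, hj⟩ := hy
    refine ⟨m' * j, ?_⟩
    rw [← QuotientGroup.eq_one_iff, QuotientGroup.mk_mul, QuotientGroup.mk_pow,
      QuotientGroup.mk_pow, pow_mul, hm', hj, mul_inv_cancel]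

/-- A class function of `N = O^p(G)` invariant under a Sylow `p`-subgroup is `G`-invariant. -/
theorem gm_invariant (p : ℕ) [hp : Fact p.Prime] (P : Sylow p G) (N : Subgroup G) [hN : N.Normal]
    (hNres : N = Cfsg.pResidual p G) (θ : N → ℂ) (hθ : IsClassFunction N θ)
    (hP : ∀ x ∈ (P : Subgroup G), ∀ n : N, θ ⟨x * n * x⁻¹, hN.conj_mem n n.2 x⟩ = θ n)
    (g : G) (n : N) : θ ⟨g * n * g⁻¹, hN.conj_mem n n.2 g⟩ = θ n := by
  have hsup : (P : Subgroup G) ⊔ N = ⊤ := by
    rw [hNres]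
    exact Cfsg.Agent.Lib.Helper2.sylow_sup_pResidual P
  have hg : g ∈ (((P : Subgroup G) ⊔ N : Subgroup G) : Set G) := by
    rw [hsup]
    trivial
  rw [Subgroup.mul_normal] at hg
  obtain ⟨x, hx, m, hm, rfl⟩ := Set.mem_mul.1 hg
  have h1 := hP x hx ⟨m * n * m⁻¹, hN.conj_mem n n.2 m⟩
  have h2 : θ ⟨m * n * m⁻¹, hN.conj_mem n n.2 m⟩ = θ n := by
    exact hθ n ⟨m, hm⟩
  rw [← h2, ← h1]
  congr 1
  apply Subtype.ext
  simp [mul_assoc]

/-- The determinantal order of any function on `N = O^p(G)` is prime to `p`. -/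
theorem gm_detOrder (p : ℕ) [hp : Fact p.Prime] (N : Subgroup G)
    (hNres : N = Cfsg.pResidual p G) (θ : N → ℂ) : ¬ p ∣ Cfsg.detOrder θ := by
  have hlin := detChar_isLinear θ
  have hmul : ∀ a b : N, detChar θ (a * b) = detChar θ a * detChar θ b := detChar_mul θ
  have hone : detChar θ 1 = 1 := detChar_one θ
  let K : Subgroup G :=
    { carrier := {g | ∃ hg : g ∈ N, detChar θ ⟨g, hg⟩ ^ (ordCompl[p] (Nat.card G)) = 1}
      one_mem' := ⟨one_mem N, by
        have : (⟨1, one_mem N⟩ : N) = 1 := rfl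
        rw [this, hone, one_pow]⟩
      mul_mem' := by
        rintro a b ⟨ha, ha'⟩ ⟨hb, hb'⟩
        refine ⟨mul_mem ha hb, ?_⟩
        have : (⟨a * b, mul_mem ha hb⟩ : N) = ⟨a, ha⟩ * ⟨b, hb⟩ := rfl
        rw [this, hmul, mul_pow, ha', hb', one_mul]
      inv_mem' := by
        rintro a ⟨ha, ha'⟩
        refine ⟨inv_mem ha, ?_⟩
        have h1 : detChar θ (⟨a⁻¹, inv_mem ha⟩ : N) * detChar θ ⟨a, ha⟩ = 1 := by
          rw [← hmul]
          have : (⟨a⁻¹, inv_mem ha⟩ : N) * ⟨a, ha⟩ = 1 := by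
            apply Subtype.ext
            simp
          rw [this, hone]
        have h2 := congrArg (fun z => z ^ (ordCompl[p] (Nat.card G))) h1
        simp only [mul_pow, ha', mul_one, one_pow] at h2
        exact h2 }
  have hle : Cfsg.pResidual p G ≤ K := by
    unfold Cfsg.pResidual
    rw [Subgroup.closure_le]
    intro g hg
    have hgN : g ∈ N := by
      rw [hNres]
      exact Cfsg.Agent.Lib.Helper2.mem_pResidual_of_coprime hg
    refine ⟨hgN, ?_⟩
    have hdvd : orderOf g ∣ ordCompl[p] (Nat.card G) := by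
      have h1 : orderOf g ∣ Nat.card G := orderOf_dvd_natCard g
      rw [← Nat.ordProj_mul_ordCompl_eq_self (Nat.card G) p] at h1
      exact (Nat.Coprime.pow_right _ hg).dvd_of_dvd_mul_left h1
    have hpow : ∀ j : ℕ, detChar θ (⟨g, hgN⟩ : N) ^ j = detChar θ ((⟨g, hgN⟩ : N) ^ j) := by
      intro j
      induction j with
      | zero => rw [pow_zero, pow_zero, hone]
      | succ j ih => rw [pow_succ, pow_succ, hmul, ih]
    rw [hpow]
    have : (⟨g, hgN⟩ : N) ^ (ordCompl[p] (Nat.card G)) = 1 := by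
      apply Subtype.ext
      simp only [Subgroup.coe_pow, Subgroup.coe_one]
      exact orderOf_dvd_iff_pow_eq_one.1 hdvd
    rw [this, hone]
  have hall : ∀ n : N, (detChar θ n) ^ (ordCompl[p] (Nat.card G)) = 1 := by
    intro n
    have hn : (n : G) ∈ Cfsg.pResidual p G := by
      rw [← hNres]
      exact n.2
    obtain ⟨_, h⟩ := hle hn
    exact h
  unfold Cfsg.detOrder
  intro hdvd
  have h3 : orderOf (detChar θ) ∣ ordCompl[p] (Nat.card G) := by
    apply orderOf_dvd_of_pow_eq_one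
    funext n
    rw [Pi.pow_apply, hall n]
    rfl
  exact Nat.not_dvd_ordCompl hp.out (Nat.card_pos.ne') (hdvd.trans h3)

end GM1

section GM1F

variable {G : Type u} [Group G] [Fintype G]

/-- An irreducible character of degree prime to `p` restricts irreducibly to a normal subgroup
with cyclic quotient generated by a `p`-element. -/
theorem gm_restrict_irr (p : ℕ) [hp : Fact p.Prime] (N : Subgroup G) [N.Normal] [Fintype N]
    {x : G} {b : ℕ} (hx : x ^ (p ^ b) = 1) (hgen : ∀ y : G, ∃ i : ℕ, y * x ^ i ∈ N)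
    {χ : G → ℂ} (hχ : IsIrrCharacter G χ) (d : ℕ) (hd : χ 1 = d) (hpd : ¬ p ∣ d) :
    IsIrrCharacter N (fun n : N => χ n) := by
  have hne : χ (1 * x) ≠ 0 := by
    rw [one_mul]
    exact Cfsg.Agent.Lib.Helper79.character_ne_zero_of_pow_prime_pow_eq_one
      (IsIrrCharacter.isCharacter hχ) hp.out d hd hpd x b hx
  have : Fintype (fixSub N x) := Fintype.ofFinite _
  exact irr_restrict_of_ne_zero hgen hχ (one_mem N) hne

end GM1F

end Cfsg.Agent.Lib.Helper74
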