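import Mathlib
import Cfsg.Agent.Lib.Helper74.GM1

set_option autoImplicit false

/-!
# Galois-fixed extensions of an invariant character over a cyclic `p`-quotient
-/

namespace Cfsg.Agent.Lib.Helper74

open Cfsg Cfsg.Agent.Lib.Helper3 Cfsg.Agent.Lib.Helper15

universe u

section GM2

variable {G : Type u} [Group G] [Fintype G]

/-- The number of `k`-fixed extensions of a `k`-fixed invariant irreducible character of degree
and determinantal order prime to `p`, over a cyclic quotient of order `p ^ a` with `a > 0`. -/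
theorem gm_fiber (p : ℕ) [hp : Fact p.Prime] (N : Subgroup G) [hN : N.Normal] [Fintype N]
    {a : ℕ} (ha : 0 < a) (hidx : N.index = p ^ a)
    {x : G} {b : ℕ} (hx : x ^ (p ^ b) = 1) (hgen : ∀ y : G, ∃ i : ℕ, y * x ^ i ∈ N)
    (k : ℕ) (hkG : Nat.Coprime k (Nat.card G)) (hkx : x ^ k = x ^ (1 + p))
    (hk1 : k ≡ 1 [MOD p])
    (θ : N → ℂ) (hθ : IsIrrCharacter N θ)
    (hinv : ∀ (g : G) (n : N), θ ⟨g * n * g⁻¹, hN.conj_mem (n : G) n.2 g⟩ = θ n)
    (d : ℕ) (hd : θ 1 = d) (hpd : ¬ p ∣ d) (hdet : ¬ p ∣ detOrder θ)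
    (hθk : ∀ n : N, θ (n ^ k) = θ n) :
    Nat.card {χ : IrrCharacter G // (∀ n : N, (χ : G → ℂ) n = θ n) ∧
      ∀ g : G, (χ : G → ℂ) (g ^ k) = (χ : G → ℂ) g} = p := by
  classical
  have hd0 : (d : ℂ) ≠ 0 := by
    intro h
    apply hpd
    have : d = 0 := by exact_mod_cast h
    rw [this]
    exact dvd_zero p
  have hcop : Nat.Coprime N.index (detOrder θ * d) := by
    rw [hidx]
    apply Nat.Coprime.pow_left
    apply Nat.Coprime.mul_right
    · exact (Nat.Prime.coprime_iff_not_dvd hp.out).2 hdet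
    · exact (Nat.Prime.coprime_iff_not_dvd hp.out).2 hpd
  obtain ⟨χ₀, ⟨hχ₀, hχ₀N, hχ₀det⟩, huniq⟩ := Cfsg.Agent.S0867.result N θ hθ hinv d hd hcop
  have hχ₀c : IsCharacter G χ₀ := IsIrrCharacter.isCharacter hχ₀
  -- the canonical extension is `k`-fixed
  have hχ₀k : ∀ g : G, χ₀ (g ^ k) = χ₀ g := by
    obtain ⟨σ, hσ⟩ := Cfsg.Agent.Lib.Helper75.exists_ringEquiv_pow_rootsOfUnity (Nat.card G) k
      Nat.card_pos hkG
    have hval : ∀ y : G, σ (χ₀ y) = χ₀ (y ^ k) := by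
      obtain ⟨n, ρ, -, rfl⟩ := hχ₀
      intro y
      exact Cfsg.Agent.Lib.Helper75.ringEquiv_character_eq_pow ρ σ (Nat.card G) k hσ y
        pow_card_eq_one'
    have hψ : IsIrrCharacter G (fun y => σ (χ₀ y)) :=
      Cfsg.Agent.Lib.Helper75.isIrrCharacter_ringEquiv_comp σ hχ₀
    have hresψ : ∀ n : N, σ (χ₀ n) = θ n := by
      intro n
      rw [hval, ← hθk n, ← hχ₀N (n ^ k)]
      rfl
    have hdetψ : Nat.Coprime N.index (detOrder (fun y => σ (χ₀ y))) := by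
      rw [detOrder_ringEquiv_comp σ hχ₀c, hχ₀det, hidx]
      exact Nat.Coprime.pow_left _ ((Nat.Prime.coprime_iff_not_dvd hp.out).2 hdet)
    have e := huniq _ hψ hresψ hdetψ
    intro g
    rw [← hval]
    exact congrFun e g
  have hχ₀1 : χ₀ 1 = d := by
    have := hχ₀N 1
    rw [hd] at this
    exact this
  have hχ₀x : χ₀ x ≠ 0 :=
    Cfsg.Agent.Lib.Helper79.character_ne_zero_of_pow_prime_pow_eq_one hχ₀c hp.out d hχ₀1 hpd x b hx
  -- the quotient is generated by the image of `x`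
  have hXgen : ∀ y : G ⧸ N, y ∈ Subgroup.zpowers (x : G ⧸ N) := by
    intro y
    obtain ⟨g, rfl⟩ := QuotientGroup.mk_surjective y
    obtain ⟨i, hi⟩ := hgen g
    have : (g : G ⧸ N) = ((x : G ⧸ N) ^ i)⁻¹ := by
      rw [eq_inv_iff_mul_eq_one, ← QuotientGroup.mk_pow, ← QuotientGroup.mk_mul,
        QuotientGroup.eq_one_iff]
      exact hi
    rw [this]
    exact Subgroup.inv_mem _ (Subgroup.pow_mem _ (Subgroup.mem_zpowers _) i)
  have hXord : orderOf (x : G ⧸ N) = p ^ a := by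
    rw [orderOf_eq_card_of_forall_mem_zpowers hXgen, ← hidx, Subgroup.index_eq_card]
  have hζord : ∀ ζ : rootsOfUnity p ℂ, orderOf (ζ : ℂˣ) ∣ orderOf (x : G ⧸ N) := by
    intro ζ
    rw [hXord]
    have h1 : orderOf (ζ : ℂˣ) ∣ p := orderOf_dvd_of_pow_eq_one ((mem_rootsOfUnity _ _).1 ζ.2)
    exact h1.trans (dvd_pow_self p ha.ne')
  let lam : rootsOfUnity p ℂ → (G →* ℂˣ) := fun ζ =>
    (monoidHomOfForallMemZpowers hXgen (hζord ζ)).comp (QuotientGroup.mk' N)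
  have hlamx : ∀ ζ, lam ζ x = (ζ : ℂˣ) := fun ζ =>
    monoidHomOfForallMemZpowers_apply_gen hXgen (hζord ζ)
  have hlamN : ∀ ζ (n : N), lam ζ (n : G) = 1 := by
    intro ζ n
    show (monoidHomOfForallMemZpowers hXgen (hζord ζ)) (((n : G) : G ⧸ N)) = 1
    rw [(QuotientGroup.eq_one_iff _).2 n.2, map_one]
  -- a hom trivial on `N` is determined by its value at `x`
  have hdeterm : ∀ (u v : G →* ℂˣ), (∀ n : N, u (n : G) = 1) → (∀ n : N, v (n : G) = 1) →
      u x = v x → ∀ g, u g = v g := by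
    intro u v hu hv huv g
    obtain ⟨i, hi⟩ := hgen g
    have h1 : u (g * x ^ i) = v (g * x ^ i) := by
      rw [hu ⟨_, hi⟩, hv ⟨_, hi⟩]
    rw [map_mul, map_mul, map_pow, map_pow, huv] at h1
    exact mul_right_cancel h1
  have hpowp : ∀ (u : G →* ℂˣ), (∀ n : N, u (n : G) = 1) → (u x) ^ p = 1 → ∀ g, (u g) ^ p = 1 := by
    intro u hu hux g
    obtain ⟨i, hi⟩ := hgen g
    have h1 : u (g * x ^ i) = 1 := hu ⟨_, hi⟩
    rw [map_mul, map_pow] at h1
    have h2 : u g = ((u x) ^ i)⁻¹ := eq_inv_of_mul_eq_one_left h1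
    rw [h2, inv_pow, ← pow_mul, mul_comm, pow_mul, hux, one_pow, inv_one]
  have hpowk : ∀ z : ℂˣ, z ^ p = 1 → z ^ k = z := by
    intro z hz
    have h1 : orderOf z ∣ p := orderOf_dvd_of_pow_eq_one hz
    have h2 : k ≡ 1 [MOD orderOf z] := Nat.ModEq.of_dvd h1 hk1
    have := (pow_eq_pow_iff_modEq (x := z)).2 h2
    rwa [pow_one] at this
  let β : rootsOfUnity p ℂ → (G →* ℂ) := fun ζ => (Units.coeHom ℂ).comp (lam ζ)
  have hβ_apply : ∀ ζ g, β ζ g = ((lam ζ g : ℂˣ) : ℂ) := fun ζ g => rfl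
  have hFirr : ∀ ζ, IsIrrCharacter G (χ₀ * fun g => β ζ g) := fun ζ =>
    Cfsg.Agent.Lib.Helper75.isIrrCharacter_mul_of_linear (isCharacter_of_hom (β ζ)).1
      (isCharacter_of_hom (β ζ)).2 hχ₀
  have hFN : ∀ ζ (n : N), (χ₀ * fun g => β ζ g) (n : G) = θ n := by
    intro ζ n
    rw [Pi.mul_apply, hβ_apply, hlamN, hχ₀N, Units.val_one, mul_one]
  have hFk : ∀ ζ (g : G), (χ₀ * fun g => β ζ g) (g ^ k) = (χ₀ * fun g => β ζ g) g := by
    intro ζ g
    rw [Pi.mul_apply, Pi.mul_apply, hχ₀k, hβ_apply, hβ_apply, map_pow,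
      hpowk _ (hpowp (lam ζ) (hlamN ζ) (by rw [hlamx]; exact (mem_rootsOfUnity _ _).1 ζ.2) g)]
  let F : rootsOfUnity p ℂ → {χ : IrrCharacter G // (∀ n : N, (χ : G → ℂ) n = θ n) ∧
      ∀ g : G, (χ : G → ℂ) (g ^ k) = (χ : G → ℂ) g} := fun ζ =>
    ⟨⟨χ₀ * fun g => β ζ g, hFirr ζ⟩, hFN ζ, hFk ζ⟩
  have hFinj : Function.Injective F := by
    intro ζ ζ' h
    have h1 : (χ₀ * fun g => β ζ g) x = (χ₀ * fun g => β ζ' g) x :=
      congrFun (congrArg (fun s => ((s.1 : IrrCharacter G) : G → ℂ)) h) x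
    rw [Pi.mul_apply, Pi.mul_apply, hβ_apply, hβ_apply, hlamx, hlamx] at h1
    have h2 := mul_left_cancel₀ hχ₀x h1
    exact Subtype.ext (Units.ext h2)
  have hFsurj : Function.Surjective F := by
    rintro ⟨ψ, hψN, hψk⟩
    have hχ₀N' : IsIrrCharacter N (fun n : N => χ₀ n) := by
      have : (fun n : N => χ₀ n) = θ := funext hχ₀N
      rw [this]
      exact hθ
    have hne : classInner (fun n : N => (ψ : G → ℂ) n) (fun n : N => χ₀ n) ≠ 0 := by
      have e1 : (fun n : N => χ₀ n) = θ := funext hχ₀N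
      have e2 : (fun n : N => (ψ : G → ℂ) n) = θ := funext hψN
      rw [e1, e2, classInner_irr hθ hθ, if_pos rfl]
      exact one_ne_zero
    obtain ⟨φ, hφirr, hφN, hψeq, -⟩ := exists_mul_ext N hχ₀ hχ₀N' ψ.2 hne
    have hφ1 : φ 1 = 1 := by
      have h1 : (ψ : G → ℂ) 1 = d := by
        have := hψN 1
        rw [hd] at this
        exact this
      rw [hψeq, Pi.mul_apply, hχ₀1] at h1
      exact mul_right_cancel₀ hd0 (by rw [h1, one_mul])
    have hφlin : IsCharacter G φ ∧ φ 1 = 1 := ⟨IsIrrCharacter.isCharacter hφirr, hφ1⟩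
    let u : G →* ℂˣ := linCharUnitsHom hφlin
    have hu_apply : ∀ g, ((u g : ℂˣ) : ℂ) = φ g := fun g => rfl
    have huN : ∀ n : N, u (n : G) = 1 := by
      intro n
      apply Units.ext
      rw [hu_apply, Units.val_one]
      have := hφN n 1
      rw [mul_one] at this
      rw [this, hφ1]
    have hux : (u x) ^ p = 1 := by
      have h1 := hψk x
      rw [hψeq, Pi.mul_apply, Pi.mul_apply, hχ₀k] at h1
      have h2 : φ (x ^ k) = φ x := mul_right_cancel₀ hχ₀x h1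
      rw [hkx, ← hu_apply, ← hu_apply, map_pow] at h2
      have h3 : (u x) ^ (1 + p) = u x := Units.ext (by rw [Units.val_pow_eq_pow_val]; exact h2)
      rw [pow_add, pow_one] at h3
      exact mul_left_cancel (a := u x) (by rw [h3, mul_one])
    refine ⟨⟨u x, (mem_rootsOfUnity _ _).2 hux⟩, ?_⟩
    apply Subtype.ext
    apply Subtype.ext
    show (χ₀ * fun g => β _ g) = (ψ : G → ℂ)
    rw [hψeq]
    funext g
    rw [Pi.mul_apply, Pi.mul_apply, hβ_apply, mul_comm, ← hu_apply]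
    congr 2
    exact hdeterm _ _ (hlamN _) huN (hlamx _) g
  have : NeZero p := ⟨hp.out.ne_zero⟩
  rw [← Nat.card_congr (Equiv.ofBijective F ⟨hFinj, hFsurj⟩), Complex.card_rootsOfUnity]

end GM2

end Cfsg.Agent.Lib.Helper74
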