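import Mathlib
import Cfsg.Agent.Lib.Helper74.GM2
import Cfsg.Agent.Lib.Helper81.OneIrr
import Cfsg.Agent.Lib.Helper81.LocalRing
import Cfsg.Agent.S0966
import Cfsg.Agent.S4708

set_option autoImplicit false

/-!
# Galois-fixed characters of `p'`-degree in the principal block over a cyclic `p`-quotient
-/

namespace Cfsg.Agent.Lib.Helper74

open Cfsg Cfsg.Agent.Lib.Helper3 Cfsg.Agent.Lib.Helper15 Cfsg.Agent.Lib.Helper81

universe u

section GM3

variable {G : Type u} [Group G] [Fintype G]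

/-- Over a normal subgroup of `p`-power index, an irreducible character restricting to a member
of the principal block lies in the principal block. -/
theorem gm_mem_principal_of_restrict (p : ℕ) [Fact p.Prime] (M : Ideal AlgInt)
    (hM : IsPModular p M) (N : Subgroup G) [N.Normal] [Fintype N]
    (hidx : ∃ a : ℕ, N.index = p ^ a) (θ : IrrCharacter N) (hθ : θ ∈ principalBlock M N)
    (χ : IrrCharacter G) (hχN : ∀ n : N, (χ : G → ℂ) n = (θ : N → ℂ) n) :
    χ ∈ principalBlock M G := by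
  have hMp := isPrime_of_isPModular hM
  obtain ⟨B, hB, huniq⟩ := Cfsg.Agent.S0966.result p M hM N hidx (principalBlock M N)
    (isPBlock_principalBlock M)
  obtain ⟨χ', hχ', hne'⟩ := Cfsg.Agent.S4708.exists_over_principal N p M hM θ hθ
  have h1 : principalBlock M G = B :=
    huniq _ ⟨isPBlock_principalBlock M, χ', hχ', θ, hθ, hne'⟩
  have hne : classInner (fun n : N => (χ : G → ℂ) n) (θ : N → ℂ) ≠ 0 := by
    have : (fun n : N => (χ : G → ℂ) n) = (θ : N → ℂ) := funext hχN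
    rw [this, classInner_irr θ.2 θ.2, if_pos rfl]
    exact one_ne_zero
  have h2 : blockOf M (χ : G → ℂ) = B :=
    huniq _ ⟨⟨χ, rfl⟩, χ, sameBlock_refl hMp _, θ, hθ, hne⟩
  rw [h1, ← h2]
  exact sameBlock_refl hMp _

end GM3

section GM3Main

variable {G : Type u} [Group G] [Finite G]

theorem gm_main (p : ℕ) [Fact p.Prime] (M : Ideal AlgInt) (hM : IsPModular p M)
    (P : Sylow p G) (N : Subgroup G) [hN : N.Normal] (hNres : N = Cfsg.pResidual p G)
    (hcyc : IsCyclic (G ⧸ N)) (hnt : N ≠ ⊤) (k : ℕ)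
    (hk₁ : ∀ g : G, (∃ j : ℕ, orderOf g = p ^ j) → g ^ k = g ^ (1 + p))
    (hk₂ : ∀ g : G, Nat.Coprime (orderOf g) p → g ^ k = g) :
    Nat.card {χ : IrrCharacter G // χ ∈ principalBlock M G ∧
        ¬ p ∣ charDegree (χ : G → ℂ) ∧ ∀ g : G, (χ : G → ℂ) (g ^ k) = (χ : G → ℂ) g} =
      p * Nat.card {θ : IrrCharacter ↥N // θ ∈ principalBlock M ↥N ∧
        ¬ p ∣ charDegree (θ : ↥N → ℂ) ∧
        (∀ x ∈ (P : Subgroup G), ∀ n : ↥N,
          (θ : ↥N → ℂ) ⟨x * n * x⁻¹, hN.conj_mem n n.2 x⟩ = (θ : ↥N → ℂ) n) ∧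
        ∀ n : ↥N, (θ : ↥N → ℂ) (n ^ k) = (θ : ↥N → ℂ) n} := by
  classical
  have : Fintype G := Fintype.ofFinite G
  have : Fintype N := Fintype.ofFinite N
  have hp : p.Prime := Fact.out
  have hpq : IsPGroup p (G ⧸ N) :=
    Cfsg.Agent.Lib.Helper2.isPGroup_quotient_of_coprime_mem N (fun g hg => by
      rw [hNres]
      exact Cfsg.Agent.Lib.Helper2.mem_pResidual_of_coprime hg)
  obtain ⟨a, ha⟩ := IsPGroup.iff_card.1 hpq
  have hidx : N.index = p ^ a := by
    rw [Subgroup.index_eq_card]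
    exact ha
  have ha0 : 0 < a := by
    rcases Nat.eq_zero_or_pos a with h | h
    · exfalso
      apply hnt
      rw [h, pow_zero] at hidx
      exact Subgroup.index_eq_one.1 hidx
    · exact h
  obtain ⟨x, ⟨b, hx⟩, hgen⟩ := gm_exists_generator p N hcyc hpq
  have hkG := gm_coprime_card p k hk₁ hk₂
  have hxord : ∃ j, orderOf x = p ^ j := by
    obtain ⟨j, _, hj⟩ := (Nat.dvd_prime_pow hp).1 (orderOf_dvd_of_pow_eq_one hx)
    exact ⟨j, hj⟩
  have hkx : x ^ k = x ^ (1 + p) := hk₁ x hxord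
  have hxN : x ∉ N := by
    intro hxN
    apply hnt
    rw [eq_top_iff]
    intro y _
    obtain ⟨i, hi⟩ := hgen y
    have : y = (y * x ^ i) * (x ^ i)⁻¹ := by group
    rw [this]
    exact N.mul_mem hi (N.inv_mem (N.pow_mem hxN i))
  have hk1 : k ≡ 1 [MOD p] := by
    obtain ⟨j, hj⟩ := hxord
    have hj0 : j ≠ 0 := by
      rintro rfl
      rw [pow_zero, orderOf_eq_one_iff] at hj
      exact hxN (hj ▸ N.one_mem)
    have h1 : k ≡ 1 + p [MOD orderOf x] := (pow_eq_pow_iff_modEq).1 hkx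
    have h2 : k ≡ 1 + p [MOD p] := Nat.ModEq.of_dvd (by rw [hj]; exact dvd_pow_self p hj0) h1
    exact h2.trans (by simp [Nat.ModEq])
  -- the restriction map
  have hresirr : ∀ χ : IrrCharacter G, ¬ p ∣ charDegree (χ : G → ℂ) →
      IsIrrCharacter N (fun n : N => (χ : G → ℂ) n) := fun χ hχ =>
    gm_restrict_irr p N hx hgen χ.2 (charDegree (χ : G → ℂ)) (irr_apply_one_eq_charDegree χ) hχ
  let res : {χ : IrrCharacter G // χ ∈ principalBlock M G ∧
        ¬ p ∣ charDegree (χ : G → ℂ) ∧ ∀ g : G, (χ : G → ℂ) (g ^ k) = (χ : G → ℂ) g} →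
      {θ : IrrCharacter ↥N // θ ∈ principalBlock M ↥N ∧
        ¬ p ∣ charDegree (θ : ↥N → ℂ) ∧
        (∀ x ∈ (P : Subgroup G), ∀ n : ↥N,
          (θ : ↥N → ℂ) ⟨x * n * x⁻¹, hN.conj_mem n n.2 x⟩ = (θ : ↥N → ℂ) n) ∧
        ∀ n : ↥N, (θ : ↥N → ℂ) (n ^ k) = (θ : ↥N → ℂ) n} := fun χ =>
    ⟨⟨fun n : N => (χ.1 : G → ℂ) n, hresirr χ.1 χ.2.2.1⟩, by
      apply Cfsg.Agent.S4708.constituent_mem_principal N p M hM χ.1 χ.2.1
      show classInner (fun n : N => (χ.1 : G → ℂ) n) (fun n : N => (χ.1 : G → ℂ) n) ≠ 0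
      rw [classInner_irr (hresirr χ.1 χ.2.2.1) (hresirr χ.1 χ.2.2.1), if_pos rfl]
      exact one_ne_zero, χ.2.2.1, fun y _ n =>
        IsCharacter.isClassFunction (IsIrrCharacter.isCharacter χ.1.2) (n : G) y,
      fun n => χ.2.2.2 (n : G)⟩
  have hfib : ∀ θ, Nat.card {a // res a = θ} = p := by
    intro θ
    have hθinv := gm_invariant p P N hNres (θ.1 : N → ℂ)
      (IsCharacter.isClassFunction (IsIrrCharacter.isCharacter θ.1.2)) θ.2.2.2.1
    refine Eq.trans ?_ (gm_fiber p N ha0 hidx hx hgen k hkG hkx hk1 (θ.1 : N → ℂ) θ.1.2 hθinv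
      (charDegree (θ.1 : N → ℂ)) (irr_apply_one_eq_charDegree θ.1) θ.2.2.1
      (gm_detOrder p N hNres _) θ.2.2.2.2)
    apply Nat.card_congr
    refine
      { toFun := fun a => ⟨a.1.1, fun n => congrFun (congrArg (fun t => (t.1 : N → ℂ)) a.2) n,
          a.1.2.2.2⟩
        invFun := fun χ => ⟨⟨χ.1, gm_mem_principal_of_restrict p M hM N ⟨a, hidx⟩ θ.1 θ.2.1
            χ.1 χ.2.1, ?_, χ.2.2⟩, ?_⟩
        left_inv := fun a => rfl
        right_inv := fun χ => rfl }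
    · have h1 : (χ.1 : G → ℂ) 1 = (charDegree (θ.1 : N → ℂ) : ℂ) := by
        rw [← irr_apply_one_eq_charDegree θ.1]
        exact χ.2.1 1
      rw [charDegree_eq_of_apply_one h1]
      exact θ.2.2.1
    · apply Subtype.ext
      apply Subtype.ext
      exact funext χ.2.1
  have hfin : ∀ θ, Finite {a // res a = θ} := fun θ => inferInstance
  rw [← Nat.card_congr (Equiv.sigmaFiberEquiv res),
    Nat.card_congr (Equiv.sigmaCongrRight (fun θ => Finite.equivFinOfCardEq (hfib θ))),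
    Nat.card_congr (Equiv.sigmaEquivProd _ _), Nat.card_prod, Nat.card_fin, mul_comm]

end GM3Main

end Cfsg.Agent.Lib.Helper74
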