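import Cfsg.Agent.Lib.Helper75.GaloisNorm
import Cfsg.Agent.Lib.Helper75.PowMap
import Cfsg.Agent.Lib.Helper77.Fourier
import Cfsg.Agent.Lib.Helper81.LocalRing

set_option autoImplicit false

namespace Cfsg.Agent.Lib.Helper74

open Cfsg Cfsg.Agent.Lib.Helper77 Cfsg.Agent.Lib.Helper81 Polynomial

/-- A finite family of algebraic integers, permuted by every field automorphism of `ℂ`, all of
whose members lie in one maximal ideal over `p`, lies in every maximal ideal over `p`. -/
theorem mem_of_galois_stable_family {p : ℕ} {M M' : Ideal AlgInt} (hM : IsPModular p M)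
    (hM' : IsPModular p M') {ι : Type*} [Fintype ι] (r : ι → AlgInt)
    (hgal : ∀ τ : ℂ ≃+* ℂ, ∃ e : ι ≃ ι, ∀ i, τ (r i : ℂ) = (r (e i) : ℂ))
    (hmem : ∀ i, r i ∈ M) (i₀ : ι) : r i₀ ∈ M' := by
  classical
  have hMp := isPrime_of_isPModular hM
  have hMp' := isPrime_of_isPModular hM'
  set P₀ : AlgInt[X] := ∏ i, (X - C (r i)) with hP₀
  set m : ℕ := Fintype.card ι with hm
  have hdeg : P₀.natDegree = m := by
    rw [hP₀, natDegree_finsetProd_X_sub_C_eq_card, Finset.card_univ]
  have hmonic : P₀.Monic := monic_prod_of_monic _ _ (fun i _ => monic_X_sub_C (r i))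
  -- coefficients are rational integers
  have hint : ∀ k : ℕ, ∃ z : ℤ, P₀.coeff k = (z : AlgInt) := by
    intro k
    have hPc : P₀.map (algebraMap AlgInt ℂ) = ∏ i, (X - C (r i : ℂ)) := by
      rw [hP₀, Polynomial.map_prod]
      apply Finset.prod_congr rfl
      intro i _
      rw [Polynomial.map_sub, Polynomial.map_X, Polynomial.map_C]
      rfl
    have hfix : ∀ τ : ℂ ≃+* ℂ, τ ((P₀.coeff k : AlgInt) : ℂ) = ((P₀.coeff k : AlgInt) : ℂ) := by
      intro τ
      obtain ⟨e, he⟩ := hgal τ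
      have h1 : (P₀.map (algebraMap AlgInt ℂ)).map (τ : ℂ →+* ℂ) =
          P₀.map (algebraMap AlgInt ℂ) := by
        rw [hPc, Polynomial.map_prod]
        rw [← Equiv.prod_comp e (fun i => (X - C (r i : ℂ) : ℂ[X]))]
        apply Finset.prod_congr rfl
        intro i _
        rw [Polynomial.map_sub, Polynomial.map_X, Polynomial.map_C]
        congr 2
        exact he i
      have h2 := congrArg (fun q : ℂ[X] => q.coeff k) h1
      simp only [Polynomial.coeff_map] at h2
      exact h2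
    obtain ⟨z, hz⟩ := Cfsg.Agent.Lib.Helper75.exists_int_eq_of_forall_ringEquiv_eq
      ((P₀.coeff k : AlgInt) : ℂ) (P₀.coeff k).2 hfix
    refine ⟨z, ?_⟩
    apply Subtype.ext
    rw [← hz]
    simp
  -- lower coefficients lie in `M`
  have hlowM : ∀ k : ℕ, k < m → P₀.coeff k ∈ M := by
    intro k hk
    have h1 : P₀.map (Ideal.Quotient.mk M) = X ^ m := by
      rw [hP₀, Polynomial.map_prod]
      have : ∀ i ∈ (Finset.univ : Finset ι),
          (X - C (r i)).map (Ideal.Quotient.mk M) = (X : (AlgInt ⧸ M)[X]) := by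
        intro i _
        rw [Polynomial.map_sub, Polynomial.map_X, Polynomial.map_C,
          Ideal.Quotient.eq_zero_iff_mem.mpr (hmem i), map_zero, sub_zero]
      rw [Finset.prod_congr rfl this, Finset.prod_const, Finset.card_univ]
    have h2 := congrArg (fun q : (AlgInt ⧸ M)[X] => q.coeff k) h1
    simp only [Polynomial.coeff_map, Polynomial.coeff_X_pow] at h2
    rw [if_neg hk.ne] at h2
    exact Ideal.Quotient.eq_zero_iff_mem.mp h2
  have hlowM' : ∀ k : ℕ, k < m → P₀.coeff k ∈ M' := by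
    intro k hk
    obtain ⟨z, hz⟩ := hint k
    have h1 := hlowM k hk
    rw [hz] at h1 ⊢
    exact (intCast_mem_iff hM' z).mpr ((intCast_mem_iff hM z).mp h1)
  -- `r i₀` is a root
  have hroot : P₀.eval (r i₀) = 0 := by
    rw [hP₀, Polynomial.eval_prod]
    apply Finset.prod_eq_zero (Finset.mem_univ i₀)
    simp
  rw [Polynomial.eval_eq_sum_range, hdeg, Finset.sum_range_succ] at hroot
  have htop : P₀.coeff m = 1 := by
    have := hmonic.coeff_natDegree
    rwa [hdeg] at this
  rw [htop, one_mul] at hroot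
  have hpow : (r i₀) ^ m ∈ M' := by
    have h1 : (r i₀) ^ m = -∑ k ∈ Finset.range m, P₀.coeff k * (r i₀) ^ k := by
      rw [eq_neg_iff_add_eq_zero, add_comm]
      exact hroot
    rw [h1]
    apply M'.neg_mem
    apply Ideal.sum_mem
    intro k hk
    exact Ideal.mul_mem_right _ _ (hlowM' k (Finset.mem_range.mp hk))
  exact hMp'.mem_of_pow_mem m hpow

section
variable {G : Type*} [Group G] [Finite G]

/-- A field automorphism acting as the `j`-th power on `|G|`-th roots of unity sends the central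
character of `χ` at `y` to the central character at `y ^ j`. -/
theorem ringEquiv_centralChar_eq_pow (χ : IrrCharacter G) (τ : ℂ ≃+* ℂ) (j : ℕ)
    (hj : Nat.Coprime j (Nat.card G))
    (hτ : ∀ μ : ℂ, μ ^ Nat.card G = 1 → τ μ = μ ^ j) (y : G) :
    τ (centralChar (χ : G → ℂ) y) = centralChar (χ : G → ℂ) (y ^ j) := by
  obtain ⟨n, ρ, -, hρ⟩ := χ.2
  have h1 : ∀ x : G, τ ((χ : G → ℂ) x) = (χ : G → ℂ) (x ^ j) := by
    intro x
    rw [← hρ]
    exact Cfsg.Agent.Lib.Helper75.ringEquiv_character_eq_pow ρ τ (Nat.card G) j hτ x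
      pow_card_eq_one'
  have hjy : Nat.Coprime j (orderOf y) :=
    Nat.Coprime.coprime_dvd_right (orderOf_dvd_natCard y) hj
  unfold centralChar
  rw [Cfsg.Agent.Lib.Helper75.centralizer_pow_eq y j hjy, map_div₀, map_mul, map_natCast, h1 y,
    h1 1, one_pow]

/-- Being in the same block does not depend on the maximal ideal over `p`. -/
theorem exists_mem_of_sameBlock {p : ℕ} {M M' : Ideal AlgInt} (hM : IsPModular p M)
    (hM' : IsPModular p M') (χ ψ : IrrCharacter G)
    (h : SameBlock M (χ : G → ℂ) (ψ : G → ℂ)) (g : G) :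
    ∃ r : AlgInt, r ∈ M' ∧
      (r : ℂ) = centralChar (χ : G → ℂ) g - centralChar (ψ : G → ℂ) g := by
  have hMp := isPrime_of_isPModular hM
  have : NeZero (Nat.card G) := ⟨Nat.card_pos.ne'⟩
  haveI : Fintype G := Fintype.ofFinite G
  let x : (ZMod (Nat.card G))ˣ → ℂ := fun u =>
    centralChar (χ : G → ℂ) (g ^ (u : ZMod (Nat.card G)).val) -
      centralChar (ψ : G → ℂ) (g ^ (u : ZMod (Nat.card G)).val)
  have hxint : ∀ u, IsIntegral ℤ (x u) := fun u =>
    (isIntegral_centralChar_irr χ.2 _).sub (isIntegral_centralChar_irr ψ.2 _)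
  let r : (ZMod (Nat.card G))ˣ → AlgInt := fun u => ⟨x u, hxint u⟩
  have hmem : ∀ u, r u ∈ M := by
    intro u
    rw [← memLocalIdeal_algInt_iff hMp]
    exact h _
  have hgal : ∀ τ : ℂ ≃+* ℂ, ∃ e : (ZMod (Nat.card G))ˣ ≃ (ZMod (Nat.card G))ˣ,
      ∀ u, τ (r u : ℂ) = (r (e u) : ℂ) := by
    intro τ
    obtain ⟨j, hj, hτ⟩ := Cfsg.Agent.Lib.Helper75.exists_pow_of_ringEquiv τ (Nat.card G)
      Nat.card_pos
    let ju : (ZMod (Nat.card G))ˣ := ZMod.unitOfCoprime j hj
    have hju : ∀ y : G, y ^ ((ju : ZMod (Nat.card G))).val = y ^ j := by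
      intro y
      rw [pow_eq_pow_iff_modEq]
      apply Nat.ModEq.of_dvd (orderOf_dvd_natCard y)
      rw [ZMod.coe_unitOfCoprime, ZMod.val_natCast]
      exact Nat.mod_modEq _ _
    refine ⟨Equiv.mulRight ju, ?_⟩
    intro u
    show τ (x u) = x (u * ju)
    simp only [x]
    rw [map_sub, ringEquiv_centralChar_eq_pow χ τ j hj hτ, ringEquiv_centralChar_eq_pow ψ τ j hj hτ,
      Cfsg.Agent.Lib.Helper75.pow_val_mul, hju]
  have hres := mem_of_galois_stable_family hM hM' r hgal hmem 1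
  refine ⟨r 1, hres, ?_⟩
  show x 1 = _
  have h1 : g ^ ((1 : (ZMod (Nat.card G))ˣ) : ZMod (Nat.card G)).val = g := by
    conv_rhs => rw [← pow_one g]
    rw [pow_eq_pow_iff_modEq]
    apply Nat.ModEq.of_dvd (orderOf_dvd_natCard g)
    rw [Units.val_one, ZMod.val_one_eq_one_mod]
    exact Nat.mod_modEq _ _
  simp only [x]
  rw [h1]

end

end Cfsg.Agent.Lib.Helper74
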