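import Cfsg.Agent.Lib.Helper74.PQ1

set_option autoImplicit false

namespace Cfsg.Agent.Lib.Helper74

open Cfsg Cfsg.Agent.Lib.Helper77 Cfsg.Agent.Lib.Helper81 Representation
open scoped ComplexConjugate

universe u

section
variable {G : Type u} [Group G] [Fintype G]

/-- The sum of a character over a subgroup is a natural multiple of the order of the subgroup. -/
theorem sum_subgroup_char_eq (χ : IrrCharacter G) (Q : Subgroup G) [Fintype Q] :
    ∃ n : ℕ, ∑ u : Q, (χ : G → ℂ) (u : G) = (Nat.card Q : ℂ) * (n : ℂ) := by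
  obtain ⟨m, ρ, -, hρ⟩ := χ.2
  have hQ : (Nat.card Q : ℂ) ≠ 0 := Nat.cast_ne_zero.mpr Nat.card_pos.ne'
  have : Invertible (Nat.card Q : ℂ) := invertibleOfNonzero hQ
  let ρQ : Representation ℂ Q (Fin m → ℂ) := ρ.comp Q.subtype
  have h1 := card_inv_mul_sum_char_eq_finrank (ρ := ρQ)
  refine ⟨Module.finrank ℂ (invariants ρQ), ?_⟩
  rw [← h1, ← mul_assoc, mul_inv_cancel₀ hQ, one_mul, ← hρ]
  rfl

open Classical in
/-- The function `θ = ∑_{χ ∈ B_p ∩ B_q} χ(y) χ` vanishes on `q`-singular elements when `y` is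
`p`-singular and there are no elements of order `p q`. -/
theorem sum_inter_vanish [Fintype (IrrCharacter G)] {p q : ℕ} [Fact p.Prime]
    [Fact q.Prime] (hpq : p ≠ q) (hno : ∀ g : G, orderOf g ≠ p * q)
    {Mp Mq : Ideal AlgInt} (hMp : IsPModular p Mp) (hMq : IsPModular q Mq) (χp χq : IrrCharacter G)
    (y : G) (hy : p ∣ orderOf y) (h : G) (hh : q ∣ orderOf h) :
    ∑ χ ∈ Finset.univ.filter (fun χ : IrrCharacter G =>
        χ ∈ blockOf Mp (χp : G → ℂ) ∧ χ ∈ blockOf Mq (χq : G → ℂ)),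
      (χ : G → ℂ) y * (χ : G → ℂ) h = 0 := by
  have hpP : p.Prime := Fact.out
  have hqP : q.Prime := Fact.out
  set Bp : Finset (IrrCharacter G) :=
    Finset.univ.filter (fun χ : IrrCharacter G => χ ∈ blockOf Mp (χp : G → ℂ)) with hBp
  set Bq : Finset (IrrCharacter G) :=
    Finset.univ.filter (fun χ : IrrCharacter G => χ ∈ blockOf Mq (χq : G → ℂ)) with hBq
  let F : G → ℂ := fun g => ∑ ψ ∈ Bp, (ψ : G → ℂ) g * (ψ : G → ℂ) y
  have hF0 : ∀ g : G, ¬ p ∣ orderOf g → F g = 0 := by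
    intro g hg
    have hy' : p ∣ orderOf y⁻¹ := by rw [orderOf_inv]; exact hy
    have h3 := Cfsg.Agent.Lib.Helper16.weak_block_orthogonality_finset hMp χp hg hy'
    show ∑ ψ ∈ Bp, (ψ : G → ℂ) g * (ψ : G → ℂ) y = 0
    rw [← h3]
    apply Finset.sum_congr rfl
    intro ψ _
    rw [Cfsg.Agent.Lib.Helper80.irr_conj_inv, Complex.conj_conj]
  have hcoef : ∀ χ : IrrCharacter G, (Nat.card G : ℂ)⁻¹ * ∑ g : G, F g * conj ((χ : G → ℂ) g) =
      if χ ∈ Bp then (χ : G → ℂ) y else 0 := by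
    intro χ
    have h1 : (Nat.card G : ℂ)⁻¹ * ∑ g : G, F g * conj ((χ : G → ℂ) g) =
        ∑ ψ ∈ Bp, (ψ : G → ℂ) y * classInner (ψ : G → ℂ) (χ : G → ℂ) := by
      unfold classInner
      simp only [F, Finset.sum_mul, Finset.mul_sum]
      rw [Finset.sum_comm]
      apply Finset.sum_congr rfl
      intro ψ _
      apply Finset.sum_congr rfl
      intro h _
      ring
    rw [h1]
    simp_rw [Cfsg.Agent.Lib.Helper3.classInner_irr (Subtype.prop _) χ.2]
    by_cases hχ : χ ∈ Bp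
    · rw [if_pos hχ, Finset.sum_eq_single χ]
      · rw [if_pos rfl, mul_one]
      · intro ψ _ hne
        rw [if_neg (fun h => hne (Subtype.ext h)), mul_zero]
      · intro h; exact absurd hχ h
    · rw [if_neg hχ]
      apply Finset.sum_eq_zero
      intro ψ hψ
      rw [if_neg, mul_zero]
      intro h
      exact hχ ((Subtype.ext h : ψ = χ) ▸ hψ)
  have hS1 : ∑ χ ∈ Bq, ((Nat.card G : ℂ)⁻¹ * ∑ g : G, F g * conj ((χ : G → ℂ) g)) *
      (χ : G → ℂ) h = ∑ χ ∈ Finset.univ.filter (fun χ : IrrCharacter G =>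
        χ ∈ blockOf Mp (χp : G → ℂ) ∧ χ ∈ blockOf Mq (χq : G → ℂ)),
      (χ : G → ℂ) y * (χ : G → ℂ) h := by
    simp_rw [hcoef]
    rw [hBq, Finset.sum_filter, Finset.sum_filter]
    apply Finset.sum_congr rfl
    intro χ _
    have hmemBp : χ ∈ Bp ↔ χ ∈ blockOf Mp (χp : G → ℂ) := by
      rw [hBp, Finset.mem_filter]; simp
    simp only [hmemBp]
    by_cases h1 : χ ∈ blockOf Mq (χq : G → ℂ) <;> by_cases h2 : χ ∈ blockOf Mp (χp : G → ℂ) <;>
      simp [h1, h2]
  have hS2 : ∑ χ ∈ Bq, ((Nat.card G : ℂ)⁻¹ * ∑ g : G, F g * conj ((χ : G → ℂ) g)) *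
      (χ : G → ℂ) h = 0 := by
    have h1 : ∑ χ ∈ Bq, ((Nat.card G : ℂ)⁻¹ * ∑ g : G, F g * conj ((χ : G → ℂ) g)) *
        (χ : G → ℂ) h = (Nat.card G : ℂ)⁻¹ * ∑ g : G, F g *
          ∑ χ ∈ Bq, conj ((χ : G → ℂ) g) * (χ : G → ℂ) h := by
      simp only [Finset.sum_mul, Finset.mul_sum]
      rw [Finset.sum_comm]
      apply Finset.sum_congr rfl
      intro g _
      apply Finset.sum_congr rfl
      intro χ _
      ring
    rw [h1]
    have h2 : ∀ g : G, F g * ∑ χ ∈ Bq, conj ((χ : G → ℂ) g) * (χ : G → ℂ) h = 0 := by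
      intro g
      by_cases hpg : p ∣ orderOf g
      · have hqg : ¬ q ∣ orderOf g := not_dvd_of_no_orderOf_mul hpP hqP hpq hno g hpg
        have h3 := Cfsg.Agent.Lib.Helper16.weak_block_orthogonality_finset hMq χq hqg hh
        have h4 : ∑ χ ∈ Bq, conj ((χ : G → ℂ) g) * (χ : G → ℂ) h = 0 := by
          have := congrArg (starRingEnd ℂ) h3
          rw [map_sum, map_zero] at this
          rw [← this]
          apply Finset.sum_congr rfl
          intro χ _
          rw [map_mul, Complex.conj_conj]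
        rw [h4, mul_zero]
      · rw [hF0 g hpg, zero_mul]
    simp only [h2, Finset.sum_const_zero, mul_zero]
  rw [← hS1, hS2]


open Classical in
theorem sum_inter_degree_mul [Fintype (IrrCharacter G)] {p q : ℕ} [Fact p.Prime]
    [Fact q.Prime] (hpq : p ≠ q) (hno : ∀ g : G, orderOf g ≠ p * q)
    {Mp Mq : Ideal AlgInt} (hMp : IsPModular p Mp) (hMq : IsPModular q Mq) (χp χq : IrrCharacter G)
    (y : G) (hy : p ∣ orderOf y) :
    ∃ ω : AlgInt, ∑ χ ∈ Finset.univ.filter (fun χ : IrrCharacter G =>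
        χ ∈ blockOf Mp (χp : G → ℂ) ∧ χ ∈ blockOf Mq (χq : G → ℂ)),
      (charDegree (χ : G → ℂ) : ℂ) * (χ : G → ℂ) y =
        (q : ℂ) ^ (Nat.card G).factorization q * (ω : ℂ) := by
  have hqP : q.Prime := Fact.out
  set T := Finset.univ.filter (fun χ : IrrCharacter G =>
        χ ∈ blockOf Mp (χp : G → ℂ) ∧ χ ∈ blockOf Mq (χq : G → ℂ)) with hT
  obtain Q : Sylow q G := default
  have hQc : Nat.card Q = q ^ (Nat.card G).factorization q := Q.card_eq_multiplicity
  have hn : ∀ χ : IrrCharacter G, ∃ n : ℕ, ∑ u : (Q : Subgroup G), (χ : G → ℂ) (u : G) =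
      (Nat.card (Q : Subgroup G) : ℂ) * (n : ℂ) := fun χ => sum_subgroup_char_eq χ (Q : Subgroup G)
  choose n hn using hn
  -- sum of θ over Q
  have h1 : ∑ u : (Q : Subgroup G), ∑ χ ∈ T, (χ : G → ℂ) y * (χ : G → ℂ) (u : G) =
      ∑ χ ∈ T, (χ : G → ℂ) y * (χ : G → ℂ) 1 := by
    rw [Finset.sum_eq_single (1 : (Q : Subgroup G))]
    · rfl
    · intro u _ hu
      apply sum_inter_vanish hpq hno hMp hMq χp χq y hy
      obtain ⟨k, hk⟩ := (IsPGroup.iff_orderOf.mp Q.isPGroup') u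
      have hk' : orderOf (u : G) = q ^ k := by rw [← hk]; exact Subgroup.orderOf_coe u
      rw [hk']
      cases k with
      | zero =>
        rw [pow_zero, orderOf_eq_one_iff] at hk'
        exact absurd (Subtype.ext hk') hu
      | succ k => exact dvd_pow_self q (Nat.succ_ne_zero k)
    · intro h; exact absurd (Finset.mem_univ _) h
  have h2 : ∑ u : (Q : Subgroup G), ∑ χ ∈ T, (χ : G → ℂ) y * (χ : G → ℂ) (u : G) =
      (Nat.card (Q : Subgroup G) : ℂ) * ∑ χ ∈ T, (χ : G → ℂ) y * (n χ : ℂ) := by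
    rw [Finset.sum_comm, Finset.mul_sum]
    apply Finset.sum_congr rfl
    intro χ _
    rw [← Finset.mul_sum, hn χ]
    ring
  have hint : IsIntegral ℤ (∑ χ ∈ T, (χ : G → ℂ) y * (n χ : ℂ)) := by
    apply IsIntegral.sum
    intro χ _
    exact (Cfsg.Agent.Lib.Helper80.irr_isIntegral χ y).mul (isIntegral_natCast (n χ))
  refine ⟨⟨_, hint⟩, ?_⟩
  have h3 : ∑ χ ∈ T, (charDegree (χ : G → ℂ) : ℂ) * (χ : G → ℂ) y =
      ∑ χ ∈ T, (χ : G → ℂ) y * (χ : G → ℂ) 1 := by
    apply Finset.sum_congr rfl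
    intro χ _
    rw [← irr_apply_one_eq_charDegree χ, mul_comm]
  rw [h3, ← h1, h2]
  have : (Nat.card (Q : Subgroup G) : ℂ) = (q : ℂ) ^ (Nat.card G).factorization q := by
    have := hQc
    rw [show Nat.card Q = Nat.card (Q : Subgroup G) from rfl] at this
    rw [this]; push_cast; rfl
  rw [this]

end

end Cfsg.Agent.Lib.Helper74
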