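import Cfsg.Agent.Lib.Helper74.PReg2
import Cfsg.Agent.Lib.Helper81.Irr

/-!
# Height zero and the integers `[χ̃, ξ]` (helper74)
-/

set_option autoImplicit false

namespace Cfsg.Agent.Lib.Helper74

open Cfsg Cfsg.Agent.Lib.Helper81
open scoped ComplexConjugate

universe u

variable {G : Type u} [Group G] [Fintype G]

/-- For an integer `t` divisible by the `p`-part `p ^ b` of a nonzero natural number `n`:
`t / n` lies in the local ideal iff `p ^ (b + 1)` divides `t`. -/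
theorem memLocalIdeal_div_iff {p : ℕ} [Fact p.Prime] {M : Ideal AlgInt} (hM : IsPModular p M)
    (n : ℕ) (hn : n ≠ 0) (t : ℤ) (ht : ((p ^ n.factorization p : ℕ) : ℤ) ∣ t) :
    MemLocalIdeal M ((t : ℂ) / (n : ℂ)) ↔ ((p ^ (n.factorization p + 1) : ℕ) : ℤ) ∣ t := by
  have hp : p.Prime := Fact.out
  have hMp : M.IsPrime := isPrime_of_isPModular hM
  set b := n.factorization p with hb
  set u := n / p ^ b with hu
  have hnu : n = p ^ b * u := (Nat.ordProj_mul_ordCompl_eq_self n p).symm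
  have hndvd : ¬ p ∣ u := Nat.not_dvd_ordCompl hp hn
  obtain ⟨z, hz⟩ := ht
  have hpb : ((p ^ b : ℕ) : ℂ) ≠ 0 := by exact_mod_cast (pow_pos hp.pos _).ne'
  have huC : (u : ℂ) ≠ 0 := by
    intro h0
    have h0' : u = 0 := by exact_mod_cast h0
    rw [h0'] at hndvd
    exact hndvd (dvd_zero p)
  have hquot : (t : ℂ) / (n : ℂ) = (z : ℂ) * (u : ℂ)⁻¹ := by
    have hnC : (n : ℂ) = ((p ^ b : ℕ) : ℂ) * (u : ℂ) := by
      rw [← Nat.cast_mul, ← hnu]
    rw [hz, hnC]
    push_cast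
    have hpC : (p : ℂ) ^ b ≠ 0 := pow_ne_zero _ (by exact_mod_cast hp.ne_zero)
    field_simp
  rw [hquot]
  have hiff : ((p ^ (b + 1) : ℕ) : ℤ) ∣ t ↔ (p : ℤ) ∣ z := by
    rw [hz, pow_succ]
    push_cast
    have hpbZ : ((p : ℤ) ^ b) ≠ 0 := pow_ne_zero _ (by exact_mod_cast hp.ne_zero)
    exact mul_dvd_mul_iff_left hpbZ
  rw [hiff, ← memLocalIdeal_intCast_iff hM z]
  constructor
  · intro h
    have h1 := memLocalIdeal_mul_right hMp h (memLocalRing_natCast hMp u)
    rwa [mul_assoc, inv_mul_cancel₀ huC, mul_one] at h1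
  · intro h
    exact memLocalIdeal_mul_right hMp h (memLocalRing_inv_natCast hM hndvd)

/-- For every irreducible `θ` there is an irreducible `ξ` such that `[θ̃, ξ]` is not divisible
by `p ^ (b + 1)`, where `p ^ b` is the `p`-part of `θ(1)`. -/
theorem exists_pTilde_not_dvd (p : ℕ) [Fact p.Prime] (θ : IrrCharacter G) :
    ∃ ξ : IrrCharacter G, ∃ t : ℤ, classInner (pTilde p (θ : G → ℂ)) (ξ : G → ℂ) = (t : ℂ) ∧
      ¬ ((p ^ ((charDegree (θ : G → ℂ)).factorization p + 1) : ℕ) : ℤ) ∣ t := by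
  have hp : p.Prime := Fact.out
  by_contra hcon
  push Not at hcon
  set b := (charDegree (θ : G → ℂ)).factorization p with hb
  apply (Cfsg.Agent.S4425.result p θ).2
  set f : G → ℂ := fun x : G => if p ∣ orderOf x then (0 : ℂ)
    else ((p ^ (Nat.card G).factorization p : ℕ) : ℂ) / ((p ^ (b + 1) : ℕ) : ℂ) *
      (θ : G → ℂ) x with hf
  have hpb : ((p ^ (b + 1) : ℕ) : ℂ) ≠ 0 := by exact_mod_cast (pow_pos hp.pos _).ne'
  have hfeq : f = ((p ^ (b + 1) : ℕ) : ℂ)⁻¹ • pTilde p (θ : G → ℂ) := by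
    funext x
    simp only [hf, Pi.smul_apply, smul_eq_mul, pTilde_apply]
    split_ifs
    · simp
    · field_simp
  have hθcl : IsClassFunction G (θ : G → ℂ) := fun g h => Cfsg.Agent.Lib.Helper80.irr_class θ g h
  have hfcl : IsClassFunction G f := by
    intro g h
    rw [hfeq]
    simp only [Pi.smul_apply, pTilde_isClassFunction p hθcl g h]
  show IsGeneralizedCharacter G f
  apply isGeneralizedCharacter_of_classInner_int hfcl
  intro ξ
  obtain ⟨t, ht⟩ := pTilde_int p θ ξ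
  obtain ⟨z, hz⟩ := hcon ξ t ht
  refine ⟨z, ?_⟩
  rw [hfeq, Cfsg.Agent.Lib.Helper25.classInner_smul_left, ht, hz]
  push_cast
  have hpC : (p : ℂ) ^ (b + 1) ≠ 0 := pow_ne_zero _ (by exact_mod_cast hp.ne_zero)
  field_simp

end Cfsg.Agent.Lib.Helper74
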