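import Cfsg.Agent.Lib.Helper74.PConj1
import Cfsg.Agent.Lib.Helper74.PReg3
import Cfsg.Agent.Lib.Helper74.PQ2
import Cfsg.Agent.Lib.Helper80.Zeros

/-!
# A character of degree divisible by `p ^ (a - 1)` forces defect at most one (helper74)

If `χ ∈ B` has `p ^ (a - 1) ∣ χ(1)` then every member of `B` has degree divisible by `p ^ (a - 1)`.
-/

set_option autoImplicit false

namespace Cfsg.Agent.Lib.Helper74

open Cfsg Cfsg.Agent.Lib.Helper81
open scoped ComplexConjugate

universe u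

variable {G : Type u} [Group G] [Fintype G]

open Classical in
/-- `[χ̃, χ]` is positive, at most `p ^ a`, and equals `p ^ a` only if `χ` vanishes on the
`p`-singular elements. -/
theorem pTilde_self_bounds (p : ℕ) [Fact p.Prime] (χ : IrrCharacter G) (t : ℤ)
    (ht : classInner (pTilde p (χ : G → ℂ)) (χ : G → ℂ) = (t : ℂ)) :
    0 < t ∧ t ≤ (p : ℤ) ^ (Nat.card G).factorization p ∧
      (t = (p : ℤ) ^ (Nat.card G).factorization p →
        ∀ x : G, p ∣ orderOf x → (χ : G → ℂ) x = 0) := by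
  have hp : p.Prime := Fact.out
  set a := (Nat.card G).factorization p with ha
  set R := Finset.univ.filter (fun x : G => ¬ p ∣ orderOf x) with hR
  set Sr : ℝ := ∑ x ∈ R, ‖(χ : G → ℂ) x‖ ^ 2 with hSr
  set Ss : ℝ := ∑ x ∈ Finset.univ.filter (fun x : G => ¬ ¬ p ∣ orderOf x),
    ‖(χ : G → ℂ) x‖ ^ 2 with hSs
  have hsum : Sr + Ss = (Nat.card G : ℝ) := by
    rw [← Cfsg.Agent.Lib.Helper80.irr_sum_norm_sq χ, hSr, hSs, hR]
    exact Finset.sum_filter_add_sum_filter_not _ _ _
  have hG : (0 : ℝ) < (Nat.card G : ℝ) := by exact_mod_cast Nat.card_pos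
  have hpa : (0 : ℝ) < ((p ^ a : ℕ) : ℝ) := by exact_mod_cast pow_pos hp.pos a
  have hSs0 : 0 ≤ Ss := Finset.sum_nonneg (fun x _ => sq_nonneg _)
  have h1R : (1 : G) ∈ R := by
    rw [hR, Finset.mem_filter]
    refine ⟨Finset.mem_univ _, ?_⟩
    rw [orderOf_one]
    exact fun h => hp.one_lt.ne' (Nat.dvd_one.mp h)
  have hSrpos : 0 < Sr := by
    have h1 : ‖(χ : G → ℂ) 1‖ ^ 2 ≤ Sr :=
      Finset.single_le_sum (f := fun x => ‖(χ : G → ℂ) x‖ ^ 2) (fun x _ => sq_nonneg _) h1R
    have h2 : 0 < ‖(χ : G → ℂ) 1‖ ^ 2 := by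
      have : (χ : G → ℂ) 1 ≠ 0 := by
        rw [irr_apply_one_eq_charDegree χ]
        exact_mod_cast irr_charDegree_ne_zero χ
      positivity
    linarith
  have hval : (t : ℝ) = ((p ^ a : ℕ) : ℝ) * Sr / (Nat.card G : ℝ) := by
    have e : ((t : ℤ) : ℂ) = ((((p ^ a : ℕ) : ℝ) * Sr / (Nat.card G : ℝ) : ℝ) : ℂ) := by
      rw [← ht]
      unfold classInner
      have hterm : ∀ g : G, pTilde p (χ : G → ℂ) g * conj ((χ : G → ℂ) g) =
          (((if ¬ p ∣ orderOf g then ((p ^ a : ℕ) : ℝ) * ‖(χ : G → ℂ) g‖ ^ 2 else 0 : ℝ)) : ℂ) := by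
        intro g
        rw [pTilde_apply, ← ha]
        split_ifs with hg
        · simp
        · rw [mul_assoc, Complex.mul_conj, Complex.normSq_eq_norm_sq]
          push_cast
          ring
      rw [Finset.sum_congr rfl (fun g _ => hterm g), ← Complex.ofReal_sum, ← Finset.sum_filter,
        ← Finset.mul_sum, ← hR, ← hSr]
      push_cast
      ring
    exact_mod_cast e
  have hle : (t : ℝ) ≤ ((p ^ a : ℕ) : ℝ) := by
    rw [hval, div_le_iff₀ hG]
    have : Sr ≤ (Nat.card G : ℝ) := by linarith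
    exact mul_le_mul_of_nonneg_left this hpa.le
  have hpos : (0 : ℝ) < (t : ℝ) := by
    rw [hval]
    positivity
  refine ⟨by exact_mod_cast hpos, by exact_mod_cast hle, ?_⟩
  intro heq x hx
  have heq' : (t : ℝ) = ((p ^ a : ℕ) : ℝ) := by
    rw [heq]
    push_cast
    rfl
  rw [hval, div_eq_iff hG.ne'] at heq'
  have hSr' : Sr = (Nat.card G : ℝ) := mul_left_cancel₀ hpa.ne' heq'
  have hSs' : Ss = 0 := by linarith
  have hx' : x ∈ Finset.univ.filter (fun x : G => ¬ ¬ p ∣ orderOf x) := by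
    rw [Finset.mem_filter]
    exact ⟨Finset.mem_univ _, not_not.mpr hx⟩
  have := (Finset.sum_eq_zero_iff_of_nonneg (fun x _ => sq_nonneg (‖(χ : G → ℂ) x‖))).mp hSs' x hx'
  exact norm_eq_zero.mp (pow_eq_zero_iff two_ne_zero |>.mp this)

/-- A character vanishing on the `p`-singular elements has degree divisible by the full power
of `p`. -/
theorem pow_dvd_charDegree_of_vanish (p : ℕ) [Fact p.Prime] (χ : IrrCharacter G)
    (h : ∀ x : G, p ∣ orderOf x → (χ : G → ℂ) x = 0) :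
    p ^ (Nat.card G).factorization p ∣ charDegree (χ : G → ℂ) := by
  classical
  obtain P : Sylow p G := default
  have hPcard : Nat.card (P : Subgroup G) = p ^ (Nat.card G).factorization p :=
    Sylow.card_eq_multiplicity P
  obtain ⟨n, hn⟩ := sum_subgroup_char_eq χ (P : Subgroup G)
  rw [Finset.sum_eq_single (1 : (P : Subgroup G))] at hn
  · rw [Subgroup.coe_one, irr_apply_one_eq_charDegree, hPcard] at hn
    have : charDegree (χ : G → ℂ) = p ^ (Nat.card G).factorization p * n := by exact_mod_cast hn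
    exact ⟨n, this⟩
  · intro s _ hs
    apply h
    rw [Subgroup.orderOf_coe]
    exact P.2.dvd_orderOf hs
  · intro h'
    exact absurd (Finset.mem_univ _) h'

end Cfsg.Agent.Lib.Helper74

namespace Cfsg.Agent.Lib.Helper74

open Cfsg Cfsg.Agent.Lib.Helper81
open scoped ComplexConjugate

universe u

variable {G : Type u} [Group G] [Fintype G]

/-- If `p ^ (a - 1)` divides the degree of one character of a block, it divides the degree of
every character of the block. -/
theorem pow_pred_dvd_of_sameBlock (p : ℕ) [Fact p.Prime] (M : Ideal AlgInt) (hM : IsPModular p M)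
    (χ ψ : IrrCharacter G) (hs : SameBlock M (χ : G → ℂ) (ψ : G → ℂ))
    (hdiv : p ^ ((Nat.card G).factorization p - 1) ∣ charDegree (χ : G → ℂ)) :
    p ^ ((Nat.card G).factorization p - 1) ∣ charDegree (ψ : G → ℂ) := by
  have hp : p.Prime := Fact.out
  have hMp : M.IsPrime := isPrime_of_isPModular hM
  set a := (Nat.card G).factorization p with ha
  set v := (charDegree (χ : G → ℂ)).factorization p with hv
  set e := (charDegree (ψ : G → ℂ)).factorization p with he
  have hχ0 : charDegree (χ : G → ℂ) ≠ 0 := irr_charDegree_ne_zero χ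
  have hψ0 : charDegree (ψ : G → ℂ) ≠ 0 := irr_charDegree_ne_zero ψ
  by_contra hnd
  have hva : a - 1 ≤ v := (hp.pow_dvd_iff_le_factorization hχ0).mp hdiv
  have hea : e < a - 1 := by
    by_contra h
    push Not at h
    exact hnd ((hp.pow_dvd_iff_le_factorization hψ0).mpr h)
  obtain ⟨tψ, htψ⟩ := pTilde_int p χ ψ
  obtain ⟨t, ht⟩ := pTilde_int p χ χ
  have hdψ : ((p ^ v : ℕ) : ℤ) ∣ tψ := pTilde_dvd_left p χ ψ tψ htψ
  have hdχ : ((p ^ v : ℕ) : ℤ) ∣ t := pTilde_dvd_left p χ χ t ht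
  have hpow : ∀ i j : ℕ, i ≤ j → ((p ^ i : ℕ) : ℤ) ∣ ((p ^ j : ℕ) : ℤ) := by
    intro i j hij
    exact_mod_cast pow_dvd_pow p hij
  -- `[χ̃, ψ] / ψ(1)` lies in the ideal
  have h1 : MemLocalIdeal M ((tψ : ℂ) / ((charDegree (ψ : G → ℂ) : ℕ) : ℂ)) := by
    rw [memLocalIdeal_div_iff hM _ hψ0 tψ ((hpow e v (by omega)).trans hdψ)]
    exact (hpow (e + 1) v (by omega)).trans hdψ
  have hcong := pTilde_cong p M hM χ ψ χ (sameBlock_symm hs)
  rw [htψ, ht, irr_apply_one_eq_charDegree ψ, irr_apply_one_eq_charDegree χ] at hcong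
  have h2 : MemLocalIdeal M ((t : ℂ) / ((charDegree (χ : G → ℂ) : ℕ) : ℂ)) := by
    have := memLocalIdeal_sub hMp h1 hcong
    rwa [sub_sub_cancel] at this
  rw [memLocalIdeal_div_iff hM _ hχ0 t hdχ] at h2
  obtain ⟨ht0, htle, htvan⟩ := pTilde_self_bounds p χ t ht
  have h3 : ((p ^ (v + 1) : ℕ) : ℤ) ≤ t := Int.le_of_dvd ht0 h2
  have h4 : p ^ (v + 1) ≤ p ^ a := by
    have : ((p ^ (v + 1) : ℕ) : ℤ) ≤ ((p ^ a : ℕ) : ℤ) := by
      push_cast
      exact h3.trans htle
    exact_mod_cast this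
  have h5 : v + 1 ≤ a := (Nat.pow_le_pow_iff_right hp.one_lt).mp h4
  have h6 : v + 1 = a := by omega
  have h7 : t = (p : ℤ) ^ a := by
    apply le_antisymm htle
    have : ((p ^ (v + 1) : ℕ) : ℤ) = (p : ℤ) ^ a := by
      rw [h6]
      push_cast
      rfl
    rw [← this]
    exact h3
  have h8 := pow_dvd_charDegree_of_vanish p χ (htvan h7)
  have h9 : a ≤ v := (hp.pow_dvd_iff_le_factorization hχ0).mp h8
  omega

end Cfsg.Agent.Lib.Helper74
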