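import Cfsg.Agent.Lib.Helper64.MiKIDefs
import Cfsg.Agent.Lib.Helper43.MiTV1
import Cfsg.Agent.Lib.Helper69.MiQV
import Cfsg.Agent.Lib.Helper13.MiTRANS
import Cfsg.Agent.Lib.Helper78.MiGEN

/-! Mi hive (S2140, helper81), sub-hive MI-KI (helper64): leaf KI-S1 `no_tv`. -/

set_option autoImplicit false

namespace Cfsg.Agent.Lib.Helper81.Mi

open Matrix

section concreteKI

variable {F : Type*} [Field F] {n k : ℕ}

/-- KI-S1 (Step 1): no conjugate of `H` contains a transvection `≠ 1`. -/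
theorem no_tv (hn : 3 ≤ n) (H : Subgroup (SLn n F)) (hH : H ≠ ⊤)
    (h1 : ∀ v : Fin n → F, v ≠ 0 → CaseI H v) (h2 : ∀ φ : Fin n → F, φ ≠ 0 → CaseI' H φ)
    (g : SLn n F) (v φ : Fin n → F) (hφv : φ ⬝ᵥ v = 0) (hmem : tv v φ ∈ cj g H) : tv v φ = 1 := by
  by_contra hne
  have hvφ : ¬ (v = 0 ∨ φ = 0) := fun hh => hne ((tv_eq_one_iff v φ hφv).2 hh)
  push Not at hvφ
  obtain ⟨hv, hφ⟩ := hvφ
  -- `Qv v ≤ cj g H`
  have hQv : Qv v ≤ cj g H :=
    (h1 v hv).1 g (tv v φ) ((mem_Qv_iff v _).2 ⟨φ, hφv, rfl⟩) hne hmem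
  -- every `Qv v''` lies in `cj g H`
  have hall : ∀ v'' : Fin n → F, v'' ≠ 0 → Qv v'' ≤ cj g H := by
    intro v'' hv''
    obtain ⟨φ'', hφ'', hφv1, hφv2⟩ := exists_covector hn v v''
    have ht1 : tv v φ'' ∈ cj g H := hQv ((mem_Qv_iff v _).2 ⟨φ'', hφv1, rfl⟩)
    have hne1 : tv v φ'' ≠ 1 := by
      intro hh
      rcases (tv_eq_one_iff v φ'' hφv1).1 hh with h | h
      · exact hv h
      · exact hφ'' h
    have hR : Rphi φ'' ≤ cj g H :=
      h2 φ'' hφ'' g (tv v φ'') ((mem_Rphi_iff φ'' _).2 ⟨v, hφv1, rfl⟩) hne1 ht1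
    have ht2 : tv v'' φ'' ∈ cj g H := hR ((mem_Rphi_iff φ'' _).2 ⟨v'', hφv2, rfl⟩)
    have hne2 : tv v'' φ'' ≠ 1 := by
      intro hh
      rcases (tv_eq_one_iff v'' φ'' hφv2).1 hh with h | h
      · exact hv'' h
      · exact hφ'' h
    exact (h1 v'' hv'').1 g (tv v'' φ'') ((mem_Qv_iff v'' _).2 ⟨φ'', hφv2, rfl⟩) hne2 ht2
  -- every transvection lies in `cj g H`
  have htop : cj g H = ⊤ := by
    rw [eq_top_iff, ← closure_tv_eq_top (F := F) (n := n), Subgroup.closure_le]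
    rintro x ⟨v'', ψ, rfl⟩
    by_cases hv'' : v'' = 0
    · subst hv''
      rw [tv_zero_left]
      exact Subgroup.one_mem _
    · by_cases hψ : ψ ⬝ᵥ v'' = 0
      · exact hall v'' hv'' ((mem_Qv_iff v'' _).2 ⟨ψ, hψ, rfl⟩)
      · rw [tv_of_ne _ _ hψ]
        exact Subgroup.one_mem _
  apply hH
  rw [eq_top_iff]
  intro x _
  have hx : g * x * g⁻¹ ∈ cj g H := by rw [htop]; exact Subgroup.mem_top _
  rw [mem_cj] at hx
  simpa [mul_assoc] using hx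

end concreteKI

end Cfsg.Agent.Lib.Helper81.Mi
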