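import Mathlib

set_option autoImplicit false

namespace Cfsg.Agent.Lib.Helper74

section
variable {R : Type*} [CommRing R] {ι : Type*} [Fintype ι] [DecidableEq ι]

/-- A matrix congruent to the identity modulo a proper ideal has nonzero determinant. -/
theorem det_ne_zero_of_map_eq_one (m : Ideal R) (hm : m ≠ ⊤) (D : Matrix ι ι R)
    (h : D.map (Ideal.Quotient.mk m) = 1) : D.det ≠ 0 := by
  intro h0
  have h1 : (Ideal.Quotient.mk m) D.det = 1 := by
    rw [RingHom.map_det, RingHom.mapMatrix_apply, h, Matrix.det_one]
  rw [h0, map_zero] at h1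
  have : Nontrivial (R ⧸ m) := Ideal.Quotient.nontrivial_iff.mpr hm
  exact zero_ne_one h1

/-- Two idempotent matrices over a domain that are congruent modulo a proper ideal have the same
trace. -/
theorem trace_eq_of_idem_congr [IsDomain R] (m : Ideal R) (hm : m ≠ ⊤) (E E' : Matrix ι ι R)
    (hE : E * E = E) (hE' : E' * E' = E') (hcong : ∀ i j, E' i j - E i j ∈ m) :
    E.trace = E'.trace := by
  set D : Matrix ι ι R := E * E' + (1 - E) * (1 - E') with hD
  have hmap : E'.map (Ideal.Quotient.mk m) = E.map (Ideal.Quotient.mk m) := by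
    ext i j
    simp only [Matrix.map_apply]
    have := hcong i j
    rw [← Ideal.Quotient.eq] at this
    exact this
  have hEm : E.map (Ideal.Quotient.mk m) * E.map (Ideal.Quotient.mk m) = E.map (Ideal.Quotient.mk m) := by
    rw [← Matrix.map_mul, hE]
  have hD1 : D.map (Ideal.Quotient.mk m) = 1 := by
    rw [hD, Matrix.map_add _ (by intros; simp), Matrix.map_mul, Matrix.map_mul,
      Matrix.map_sub _ (by intros; simp), Matrix.map_sub _ (by intros; simp),
      Matrix.map_one _ (map_zero _) (map_one _), hmap]
    rw [sub_mul, mul_sub, mul_sub, hEm]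
    simp
  have hdet := det_ne_zero_of_map_eq_one m hm D hD1
  have hED : E * D = D * E' := by
    rw [hD, mul_add, add_mul, ← mul_assoc, hE, mul_assoc, hE', ← mul_assoc, mul_assoc (1 - E)]
    have h1 : E * (1 - E) = 0 := by rw [mul_sub, mul_one, hE, sub_self]
    have h2 : (1 - E') * E' = 0 := by rw [sub_mul, one_mul, hE', sub_self]
    rw [h1, h2, zero_mul, mul_zero]
  have h3 : D.det * E.trace = D.det * E'.trace := by
    have ha : (D.adjugate * (E * D)).trace = D.det * E.trace := by
      rw [← mul_assoc, Matrix.trace_mul_comm, ← mul_assoc, Matrix.mul_adjugate, Matrix.smul_mul,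
        one_mul, Matrix.trace_smul, smul_eq_mul]
    have hb : (D.adjugate * (D * E')).trace = D.det * E'.trace := by
      rw [← mul_assoc, Matrix.adjugate_mul, Matrix.smul_mul, one_mul, Matrix.trace_smul, smul_eq_mul]
    rw [← ha, ← hb, hED]
  exact mul_left_cancel₀ hdet h3

end

end Cfsg.Agent.Lib.Helper74
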