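import Cfsg.Agent.Lib.Helper74.Osima1

set_option autoImplicit false

namespace Cfsg.Agent.Lib.Helper74

section
variable {R : Type*} [CommRing R]
variable {G : Type*} [Group G] [Fintype G]

/-- shifted form of convolution idempotency -/
theorem conv_idem_shift (e : G → R) (hidem : ∀ g : G, ∑ h : G, e (g * h⁻¹) * e h = e g) (a b : G) :
    ∑ h : G, e (a * h⁻¹) * e (h * b) = e (a * b) := by
  rw [← hidem (a * b)]
  refine Fintype.sum_equiv (Equiv.mulRight b) _ _ ?_
  intro h
  simp only [Equiv.coe_mulRight, mul_inv_rev]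
  congr 2
  group

theorem idem_twist_sum_eq [IsDomain R] [CharZero R] (m : Ideal R) (hm : m ≠ ⊤) (e : G → R)
    (hcl : ∀ g h : G, e (h * g * h⁻¹) = e g)
    (hidem : ∀ g : G, ∑ h : G, e (g * h⁻¹) * e h = e g)
    (C : Subgroup G) [Fintype C] (lam lam' : C →* R) (hcong : ∀ c : C, lam' c - lam c ∈ m) :
    ∑ c : C, e (c : G) * lam c = ∑ c : C, e (c : G) * lam' c := by
  classical
  obtain ⟨T, hT, -⟩ := Subgroup.exists_isComplement_left C (1 : G)
  have : Fintype T := Fintype.ofFinite T
  let φ : T × C ≃ G := Equiv.ofBijective _ hT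
  let ψ : T × C ≃ G := (Equiv.prodCongr (Equiv.refl T) (Equiv.inv C)).trans φ
  have hψ : ∀ x : T × C, ψ x = (x.1 : G) * ((x.2 : G))⁻¹ := by
    intro x
    rfl
  let E : (C →* R) → Matrix T T R := fun l =>
    Matrix.of fun t t' => ∑ c : C, e ((t : G) * (c : G) * (t' : G)⁻¹) * l c
  have hshift := conv_idem_shift e hidem
  have hidemE : ∀ l : C →* R, E l * E l = E l := by
    intro l
    ext t t''
    simp only [E, Matrix.mul_apply, Matrix.of_apply]
    symm
    calc ∑ d : C, e ((t : G) * (d : G) * (t'' : G)⁻¹) * l d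
        = ∑ d : C, (∑ h : G, e ((t : G) * h⁻¹) * e (h * ((d : G) * (t'' : G)⁻¹))) * l d := by
          apply Finset.sum_congr rfl
          intro d _
          rw [hshift, mul_assoc]
      _ = ∑ d : C, (∑ x : T × C, e ((t : G) * (ψ x)⁻¹) * e (ψ x * ((d : G) * (t'' : G)⁻¹))) * l d := by
          apply Finset.sum_congr rfl
          intro d _
          congr 1
          exact (Fintype.sum_equiv ψ _ _ (fun x => rfl)).symm
      _ = ∑ t' : T, ∑ c : C, ∑ d : C, e ((t : G) * (c : G) * (t' : G)⁻¹) *
            e ((t' : G) * ((c⁻¹ * d : C) : G) * (t'' : G)⁻¹) * l d := by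
          simp only [Fintype.sum_prod_type, Finset.sum_mul]
          rw [Finset.sum_comm]
          apply Finset.sum_congr rfl
          intro t' _
          rw [Finset.sum_comm]
          apply Finset.sum_congr rfl
          intro c _
          apply Finset.sum_congr rfl
          intro d _
          rw [hψ]
          simp only [mul_inv_rev, inv_inv, Subgroup.coe_mul, Subgroup.coe_inv, mul_assoc]
      _ = ∑ t' : T, ∑ c : C, ∑ c' : C, e ((t : G) * (c : G) * (t' : G)⁻¹) *
            e ((t' : G) * (c' : G) * (t'' : G)⁻¹) * (l c * l c') := by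
          apply Finset.sum_congr rfl
          intro t' _
          apply Finset.sum_congr rfl
          intro c _
          refine Fintype.sum_equiv (Equiv.mulLeft c⁻¹) _ _ ?_
          intro d
          simp only [Equiv.coe_mulLeft]
          rw [← map_mul, mul_inv_cancel_left]
      _ = ∑ t' : T, (∑ c : C, e ((t : G) * (c : G) * (t' : G)⁻¹) * l c) *
            (∑ c' : C, e ((t' : G) * (c' : G) * (t'' : G)⁻¹) * l c') := by
          apply Finset.sum_congr rfl
          intro t' _
          rw [Finset.sum_mul_sum]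
          apply Finset.sum_congr rfl
          intro c _
          apply Finset.sum_congr rfl
          intro c' _
          ring
  have htr : ∀ l : C →* R, (E l).trace = (Nat.card T : R) * ∑ c : C, e (c : G) * l c := by
    intro l
    simp only [Matrix.trace, Matrix.diag_apply, E, Matrix.of_apply, hcl]
    rw [Finset.sum_const, Finset.card_univ, nsmul_eq_mul, Nat.card_eq_fintype_card]
  have hc : ∀ i j, E lam' i j - E lam i j ∈ m := by
    intro i j
    simp only [E, Matrix.of_apply]
    rw [← Finset.sum_sub_distrib]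
    apply Ideal.sum_mem
    intro c _
    rw [← mul_sub]
    exact Ideal.mul_mem_left _ _ (hcong c)
  have hmain := trace_eq_of_idem_congr m hm (E lam) (E lam') (hidemE lam) (hidemE lam') hc
  rw [htr, htr] at hmain
  have hT0 : (Nat.card T : R) ≠ 0 := by
    have : Nonempty T := ⟨(φ.symm 1).1⟩
    exact Nat.cast_ne_zero.mpr Nat.card_pos.ne'
  exact mul_left_cancel₀ hT0 hmain

end

end Cfsg.Agent.Lib.Helper74
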