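import Cfsg.Agent.Lib.Helper74.Osima2

set_option autoImplicit false

namespace Cfsg.Agent.Lib.Helper74

section
variable {G : Type*} [Group G] [Fintype G]

/-- Lemma A over a subring of `ℂ`. -/
theorem idem_twist_sum_eq_complex (S : Subring ℂ) (m : Ideal S) (hm : m ≠ ⊤) (e : G → ℂ)
    (heS : ∀ g, e g ∈ S) (hcl : ∀ g h : G, e (h * g * h⁻¹) = e g)
    (hidem : ∀ g : G, ∑ h : G, e (g * h⁻¹) * e h = e g)
    (C : Subgroup G) [Fintype C] (lam lam' : C →* ℂ) (hlam : ∀ c, lam c ∈ S)
    (hlam' : ∀ c, lam' c ∈ S)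
    (hcong : ∀ c : C, ∃ s : S, s ∈ m ∧ (s : ℂ) = lam' c - lam c) :
    ∑ c : C, e (c : G) * lam c = ∑ c : C, e (c : G) * lam' c := by
  let eS : G → S := fun g => ⟨e g, heS g⟩
  let lS : C →* S :=
    { toFun := fun c => ⟨lam c, hlam c⟩
      map_one' := Subtype.ext (map_one lam)
      map_mul' := fun a b => Subtype.ext (map_mul lam a b) }
  let lS' : C →* S :=
    { toFun := fun c => ⟨lam' c, hlam' c⟩
      map_one' := Subtype.ext (map_one lam')
      map_mul' := fun a b => Subtype.ext (map_mul lam' a b) }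
  have h1 : ∀ g h : G, eS (h * g * h⁻¹) = eS g := fun g h => Subtype.ext (hcl g h)
  have h2 : ∀ g : G, ∑ h : G, eS (g * h⁻¹) * eS h = eS g := by
    intro g
    apply Subtype.ext
    rw [AddSubmonoidClass.coe_finsetSum]
    exact hidem g
  have h3 : ∀ c : C, lS' c - lS c ∈ m := by
    intro c
    obtain ⟨s, hs, hsc⟩ := hcong c
    have : lS' c - lS c = s := Subtype.ext hsc.symm
    rw [this]; exact hs
  have := idem_twist_sum_eq m hm eS h1 h2 C lS lS' h3
  have h4 := congrArg (Subtype.val) this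
  rw [AddSubmonoidClass.coe_finsetSum, AddSubmonoidClass.coe_finsetSum] at h4
  exact h4


open scoped IsMulCommutative in
open Classical in
/-- Lemma B1: for a commutative subgroup `C` and a character `μ` of `C` with `μ ^ p = 1`, a
conv-idempotent `S`-valued class function vanishes at the elements of `C` where `μ ≠ 1`. -/
theorem idem_mul_one_sub_eq_zero (S : Subring ℂ) (m : Ideal S) (hm : m ≠ ⊤) (p : ℕ)
    (hroot : ∀ z : ℂ, ∀ k : ℕ, 0 < k → z ^ k = 1 → z ∈ S)
    (hpr : ∀ z : ℂ, z ^ p = 1 → ∃ s : S, s ∈ m ∧ (s : ℂ) = z - 1)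
    (e : G → ℂ) (heS : ∀ g, e g ∈ S) (hcl : ∀ g h : G, e (h * g * h⁻¹) = e g)
    (hidem : ∀ g : G, ∑ h : G, e (g * h⁻¹) * e h = e g)
    (C : Subgroup G) [IsMulCommutative C] (μ : C →* ℂ) (hμp : ∀ c : C, μ c ^ p = 1) (hp : 0 < p)
    (g0 : C) : e (g0 : G) * (1 - μ g0) = 0 := by
  have hμS : ∀ c : C, μ c ∈ S := fun c => hroot _ p hp (hμp c)
  -- every additive character gives a relation
  have hrel : ∀ ψ : AddChar (Additive C) ℂ,
      ∑ c : C, (e (c : G) * (1 - μ c)) * ψ (Additive.ofMul c) = 0 := by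
    intro ψ
    let lam : C →* ℂ :=
      { toFun := fun c => ψ (Additive.ofMul c)
        map_one' := ψ.map_zero_eq_one
        map_mul' := fun a b => ψ.map_add_eq_mul _ _ }
    have hlamS : ∀ c : C, lam c ∈ S := by
      intro c
      apply hroot _ (Fintype.card C) Fintype.card_pos
      show ψ (Additive.ofMul c) ^ (Fintype.card C) = 1
      rw [← AddChar.map_nsmul_eq_pow, ← ofMul_pow, pow_card_eq_one, ofMul_one, AddChar.map_zero_eq_one]
    have hlam'S : ∀ c : C, (lam * μ) c ∈ S := by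
      intro c
      rw [MonoidHom.mul_apply]
      exact S.mul_mem (hlamS c) (hμS c)
    have hcong : ∀ c : C, ∃ s : S, s ∈ m ∧ (s : ℂ) = (lam * μ) c - lam c := by
      intro c
      obtain ⟨s, hs, hsc⟩ := hpr (μ c) (hμp c)
      refine ⟨⟨lam c, hlamS c⟩ * s, Ideal.mul_mem_left _ _ hs, ?_⟩
      rw [MonoidHom.mul_apply, Subring.coe_mul, hsc]
      ring
    have := idem_twist_sum_eq_complex S m hm e heS hcl hidem C lam (lam * μ) hlamS hlam'S hcong
    have h0 : ∑ c : C, (e (c : G) * lam c - e (c : G) * (lam * μ) c) = 0 := by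
      rw [Finset.sum_sub_distrib, this, sub_self]
    rw [← h0]
    apply Finset.sum_congr rfl
    intro c _
    rw [MonoidHom.mul_apply]
    show e (c : G) * (1 - μ c) * lam c = _
    ring
  -- Fourier inversion
  have hinv : (Fintype.card (Additive C) : ℂ) * (e (g0 : G) * (1 - μ g0)) = 0 := by
    have h1 : ∑ ψ : AddChar (Additive C) ℂ, ψ (- Additive.ofMul g0) *
        ∑ c : C, (e (c : G) * (1 - μ c)) * ψ (Additive.ofMul c) = 0 := by
      apply Finset.sum_eq_zero
      intro ψ _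
      rw [hrel ψ, mul_zero]
    rw [← h1]
    simp only [Finset.mul_sum]
    rw [Finset.sum_comm]
    have h2 : ∀ c : C, ∑ ψ : AddChar (Additive C) ℂ,
        ψ (- Additive.ofMul g0) * ((e (c : G) * (1 - μ c)) * ψ (Additive.ofMul c)) =
        (e (c : G) * (1 - μ c)) *
          (if Additive.ofMul c - Additive.ofMul g0 = 0 then (Fintype.card (Additive C) : ℂ) else 0) := by
      intro c
      rw [← AddChar.sum_apply_eq_ite, Finset.mul_sum]
      apply Finset.sum_congr rfl
      intro ψ _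
      rw [show Additive.ofMul c - Additive.ofMul g0 = Additive.ofMul c + (- Additive.ofMul g0) from
        sub_eq_add_neg _ _, AddChar.map_add_eq_mul]
      ring
    simp only [h2]
    rw [Finset.sum_eq_single g0]
    · rw [sub_self, if_pos rfl]
      ring
    · intro c _ hc
      rw [if_neg, mul_zero]
      intro h
      apply hc
      have := sub_eq_zero.mp h
      exact Additive.ofMul.injective this
    · intro h; exact absurd (Finset.mem_univ _) h
  have hcard : (Fintype.card (Additive C) : ℂ) ≠ 0 := by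
    exact Nat.cast_ne_zero.mpr Fintype.card_ne_zero
  rcases mul_eq_zero.mp hinv with h | h
  · exact absurd h hcard
  · exact h

open Classical in
/-- Lemma B: a conv-idempotent `S`-valued class function vanishes on `p`-singular elements. -/
theorem idem_vanish_of_dvd_orderOf (S : Subring ℂ) (m : Ideal S) (hm : m ≠ ⊤) (p : ℕ)
    (hp : p.Prime)
    (hroot : ∀ z : ℂ, ∀ k : ℕ, 0 < k → z ^ k = 1 → z ∈ S)
    (hpr : ∀ z : ℂ, z ^ p = 1 → ∃ s : S, s ∈ m ∧ (s : ℂ) = z - 1)
    (e : G → ℂ) (heS : ∀ g, e g ∈ S) (hcl : ∀ g h : G, e (h * g * h⁻¹) = e g)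
    (hidem : ∀ g : G, ∑ h : G, e (g * h⁻¹) * e h = e g) (y : G) (hy : p ∣ orderOf y) :
    e y = 0 := by
  -- a primitive `p`-th root of unity as a unit
  have hprim : IsPrimitiveRoot (Complex.exp (2 * Real.pi * Complex.I / p)) p :=
    Complex.isPrimitiveRoot_exp p hp.ne_zero
  set ξ : ℂˣ := (hprim.isUnit hp.ne_zero).unit with hξ
  have hξprim : IsPrimitiveRoot ξ p := by
    rw [← IsPrimitiveRoot.coe_units_iff]
    exact hprim
  have hξord : orderOf ξ = p := hξprim.eq_orderOf.symm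
  let g0 : Subgroup.zpowers y := ⟨y, Subgroup.mem_zpowers y⟩
  have hg0 : ∀ x : Subgroup.zpowers y, x ∈ Subgroup.zpowers g0 := by
    intro x
    obtain ⟨k, hk⟩ := Subgroup.mem_zpowers_iff.mp x.2
    rw [Subgroup.mem_zpowers_iff]
    exact ⟨k, Subtype.ext (by rw [Subgroup.coe_zpow]; exact hk)⟩
  have hg0ord : orderOf g0 = orderOf y := Subgroup.orderOf_mk y _
  have hdvd : orderOf ξ ∣ orderOf g0 := by rw [hξord, hg0ord]; exact hy
  let μ' : Subgroup.zpowers y →* ℂˣ := monoidHomOfForallMemZpowers hg0 hdvd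
  have hμ'g0 : μ' g0 = ξ := monoidHomOfForallMemZpowers_apply_gen hg0 hdvd
  let μ : Subgroup.zpowers y →* ℂ := (Units.coeHom ℂ).comp μ'
  have hμp : ∀ c : Subgroup.zpowers y, μ c ^ p = 1 := by
    intro c
    obtain ⟨k, hk⟩ := Subgroup.mem_zpowers_iff.mp (hg0 c)
    have h1 : μ' c ^ p = 1 := by
      rw [← hk, map_zpow, hμ'g0, ← zpow_natCast, ← zpow_mul, mul_comm, zpow_mul, zpow_natCast,
        ← hξord, pow_orderOf_eq_one, one_zpow]
    have : (μ c) ^ p = ((μ' c ^ p : ℂˣ) : ℂ) := by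
      simp only [μ, MonoidHom.coe_comp, Function.comp_apply, Units.coeHom_apply, Units.val_pow_eq_pow_val]
    rw [this, h1, Units.val_one]
  have hmain := idem_mul_one_sub_eq_zero S m hm p hroot hpr e heS hcl hidem (Subgroup.zpowers y) μ hμp
    hp.pos g0
  have hμg0 : (1 - μ g0) ≠ 0 := by
    intro h
    have h1 : μ g0 = 1 := (sub_eq_zero.mp h).symm
    have h2 : (ξ : ℂ) = 1 := by
      have : μ g0 = (ξ : ℂ) := by
        simp only [μ, MonoidHom.coe_comp, Function.comp_apply, Units.coeHom_apply, hμ'g0]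
      rw [← this, h1]
    have h3 : ξ = 1 := Units.ext h2
    have h4 : orderOf ξ = 1 := by rw [h3, orderOf_one]
    rw [hξord] at h4
    exact hp.one_lt.ne' h4
  rcases mul_eq_zero.mp hmain with h | h
  · exact h
  · exact absurd h hμg0

end

end Cfsg.Agent.Lib.Helper74
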