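import Cfsg.Agent.Lib.Helper77.ThirdMain
import Cfsg.Agent.Lib.Helper74.FR1
import Cfsg.Agent.Lib.Helper25.CharUtil
import Cfsg.Agent.Lib.Helper3.Complete
import Cfsg.Agent.Lib.Helper79.Basic

set_option autoImplicit false

namespace Cfsg.Agent.Lib.Helper74

open Cfsg Cfsg.Agent.Lib.Helper77 Cfsg.Agent.Lib.Helper25 Cfsg.Agent.Lib.Helper81
open scoped ComplexConjugate

universe u

section
variable {G : Type u} [Group G]

/-- A `p`-regular element of `N P` (`N` normal, `P` a `p`-subgroup) lies in `N`. -/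
theorem mem_of_pRegular_of_mem_sup [Finite G] {p : ℕ} [Fact p.Prime] (N : Subgroup G) [N.Normal]
    (P : Sylow p G) {h : G} (hh : h ∈ N ⊔ (P : Subgroup G)) (hreg : ¬ p ∣ orderOf h) : h ∈ N := by
  have hp : p.Prime := Fact.out
  have h1 : h ^ N.relIndex (N ⊔ (P : Subgroup G)) ∈ N := Subgroup.pow_relIndex_mem N hh
  rw [Subgroup.relIndex_sup_left] at h1
  have h2 : N.relIndex (P : Subgroup G) ∣ Nat.card (P : Subgroup G) :=
    Subgroup.relIndex_dvd_card N (P : Subgroup G)
  obtain ⟨k, hk⟩ : ∃ k, N.relIndex (P : Subgroup G) = p ^ k := by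
    rw [Sylow.card_eq_multiplicity] at h2
    obtain ⟨k, -, hk⟩ := (Nat.dvd_prime_pow hp).mp h2
    exact ⟨k, hk⟩
  rw [hk] at h1
  have hcop : (p ^ k).Coprime (orderOf h) :=
    Nat.Coprime.pow_left k ((Nat.Prime.coprime_iff_not_dvd hp).mpr hreg)
  obtain ⟨m, hm⟩ := exists_pow_eq_self_of_coprime hcop
  rw [← hm]
  exact N.pow_mem h1 m

/-- If `η` is a constituent of `χ` restricted to `H` and `η` restricts to the irreducible
character `θ` of `N ≤ H`, then `θ` is a constituent of `χ` restricted to `N`. -/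
theorem classInner_res_ne_zero_of_ext [Fintype G] (N H : Subgroup G) (hNH : N ≤ H) [Fintype N]
    [Fintype H] {χ : G → ℂ} (hχ : IsCharacter G χ) (η : IrrCharacter H) (θ : IrrCharacter N)
    (hη : ∀ n : N, (η : H → ℂ) (Subgroup.inclusion hNH n) = (θ : N → ℂ) n)
    (hne : classInner (fun h : H => χ h) (η : H → ℂ) ≠ 0) :
    classInner (fun n : N => χ n) (θ : N → ℂ) ≠ 0 := by
  classical
  have : Fintype (IrrCharacter H) := Fintype.ofFinite _
  have hψ : IsCharacter H (fun h : H => χ h) := Cfsg.Agent.Lib.Helper3.IsCharacter.restrict hχ H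
  have hdec := Cfsg.Agent.Lib.Helper3.classFunction_eq_sum
    (Cfsg.Agent.Lib.Helper3.IsCharacter.isClassFunction hψ)
  choose k hk using fun ξ : IrrCharacter H => classInner_char_nat hψ
    (Cfsg.Agent.Lib.Helper3.IsIrrCharacter.isCharacter ξ.2)
  choose l hl using fun ξ : IrrCharacter H => classInner_char_nat
    (Cfsg.Agent.Lib.Helper79.isCharacter_comp
      (Cfsg.Agent.Lib.Helper3.IsIrrCharacter.isCharacter ξ.2) (Subgroup.inclusion hNH))
    (Cfsg.Agent.Lib.Helper3.IsIrrCharacter.isCharacter θ.2)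
  have hres : (fun n : N => χ n) = ∑ ξ : IrrCharacter H,
      ((k ξ : ℂ)) • (fun n : N => (ξ : H → ℂ) (Subgroup.inclusion hNH n)) := by
    funext n
    have h1 := congrFun hdec (Subgroup.inclusion hNH n)
    simp only [Finset.sum_apply, Pi.smul_apply, smul_eq_mul] at h1 ⊢
    simp only [hk] at h1
    exact h1
  rw [hres, Cfsg.Agent.Lib.Helper3.classInner_sum_left]
  have h2 : ∀ ξ : IrrCharacter H, classInner ((k ξ : ℂ) •
      (fun n : N => (ξ : H → ℂ) (Subgroup.inclusion hNH n))) (θ : N → ℂ) = ((k ξ * l ξ : ℕ) : ℂ) := by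
    intro ξ
    rw [Cfsg.Agent.Lib.Helper3.classInner_smul_left, hl ξ]
    push_cast
    ring
  rw [Finset.sum_congr rfl (fun ξ _ => h2 ξ), ← Nat.cast_sum]
  rw [Nat.cast_ne_zero]
  have hkη : k η ≠ 0 := by
    intro h0
    apply hne
    rw [hk η, h0, Nat.cast_zero]
  have hlη : l η = 1 := by
    have h3 : (fun n : N => (η : H → ℂ) (Subgroup.inclusion hNH n)) = (θ : N → ℂ) := funext hη
    have h4 := hl η
    rw [h3, Cfsg.Agent.Lib.Helper3.classInner_irr θ.2 θ.2, if_pos rfl] at h4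
    exact_mod_cast h4.symm
  have h5 : k η * l η ≤ ∑ ξ : IrrCharacter H, k ξ * l ξ :=
    Finset.single_le_sum (f := fun ξ => k ξ * l ξ) (fun ξ _ => Nat.zero_le _) (Finset.mem_univ η)
  rw [hlη, mul_one] at h5
  omega

end

end Cfsg.Agent.Lib.Helper74
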