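import Cfsg.Agent.Lib.Helper74.PB1

set_option autoImplicit false

namespace Cfsg.Agent.Lib.Helper74

open Cfsg Cfsg.Agent.Lib.Helper77 Cfsg.Agent.Lib.Helper25 Cfsg.Agent.Lib.Helper81
open scoped ComplexConjugate

universe u

section
variable {G : Type u} [Group G] [Fintype G]

/-- Auxiliary form with a general intermediate subgroup `H`. -/
theorem exists_principal_over_ext_aux (N H : Subgroup G) [Fintype N] [Fintype H] (hNH : N ≤ H)
    (p : ℕ) [Fact p.Prime]
    (M : Ideal AlgInt) (hM : IsPModular p M) (P : Sylow p G) (hPH : (P : Subgroup G) ≤ H)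
    (hregH : ∀ h : G, h ∈ H → ¬ p ∣ orderOf h → h ∈ N)
    (θ : IrrCharacter N) (hθ : θ ∈ principalBlock M N)
    (hdeg : ¬ p ∣ charDegree (θ : N → ℂ))
    (η : IrrCharacter H)
    (hη : ∀ n : N, (η : H → ℂ) (Subgroup.inclusion hNH n) = (θ : N → ℂ) n) :
    ∃ χ : IrrCharacter G, χ ∈ principalBlock M G ∧ ¬ p ∣ charDegree (χ : G → ℂ) ∧
      classInner (fun n : N => (χ : G → ℂ) n) (θ : N → ℂ) ≠ 0 := by
  classical
  have hp : p.Prime := Fact.out
  have hMp : M.IsPrime := isPrime_of_isPModular hM
  have : Fintype (IrrCharacter G) := Fintype.ofFinite _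
  set φ : G → ℂ := indFun H (η : H → ℂ) with hφ
  have hφc : IsCharacter G φ := Cfsg.Agent.Lib.Helper3.isCharacter_indFun H
    (Cfsg.Agent.Lib.Helper3.IsIrrCharacter.isCharacter η.2)
  have hdec := Cfsg.Agent.Lib.Helper3.classFunction_eq_sum
    (Cfsg.Agent.Lib.Helper3.IsCharacter.isClassFunction hφc)
  choose m hm using fun χ : IrrCharacter G => classInner_char_nat hφc
    (Cfsg.Agent.Lib.Helper3.IsIrrCharacter.isCharacter χ.2)
  -- (A)
  have hA : ∑ g : G, regInd p g * φ g = (Nat.card H : ℂ)⁻¹ * (Nat.card G : ℂ) *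
      ∑ t : H, regInd p (t : G) * (η : H → ℂ) t :=
    sum_mul_indFun H (η : H → ℂ) (regInd_isClassFunction p)
  -- (B)
  have hB : ∑ t : H, regInd p (t : G) * (η : H → ℂ) t =
      ∑ n : N, regInd p (n : G) * (θ : N → ℂ) n := by
    have hinj : Function.Injective (Subgroup.inclusion hNH) :=
      Subgroup.inclusion_injective _
    rw [← Finset.sum_subset (Finset.subset_univ (Finset.univ.image
      (Subgroup.inclusion hNH)))]
    · rw [Finset.sum_image (fun a _ b _ hab => hinj hab)]
      apply Finset.sum_congr rfl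
      intro n _
      rw [hη n]
      rfl
    · intro t _ ht
      have htN : (t : G) ∉ N := by
        intro hmem
        apply ht
        rw [Finset.mem_image]
        exact ⟨⟨(t : G), hmem⟩, Finset.mem_univ _, Subtype.ext rfl⟩
      have hdiv : p ∣ orderOf (t : G) := by
        by_contra hreg
        exact htN (hregH (t : G) t.2 hreg)
      have : regInd p (t : G) = 0 := by
        unfold regInd
        rw [if_pos hdiv]
      rw [this, zero_mul]
  -- (C)
  have hθ1 : (θ : N → ℂ) 1 ≠ 0 := by
    rw [irr_apply_one_eq_charDegree]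
    exact_mod_cast irr_charDegree_ne_zero θ
  have hC : ∑ n : N, regInd p (n : G) * (θ : N → ℂ) n =
      (θ : N → ℂ) 1 * omega (θ : N → ℂ) (regInd p) := by
    unfold omega
    rw [mul_div_cancel₀ _ hθ1]
    apply Finset.sum_congr rfl
    intro n _
    rw [regInd_coe]
  -- (D)
  have hD : ∑ g : G, regInd p g * φ g = ∑ χ : IrrCharacter G,
      (m χ : ℂ) * ((χ : G → ℂ) 1 * omega (χ : G → ℂ) (regInd p)) := by
    have h1 : ∀ g : G, φ g = ∑ χ : IrrCharacter G, (m χ : ℂ) * (χ : G → ℂ) g := by
      intro g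
      have h2 := congrFun hdec g
      simp only [Finset.sum_apply, Pi.smul_apply, smul_eq_mul, hm] at h2
      exact h2
    simp_rw [h1, Finset.mul_sum]
    rw [Finset.sum_comm]
    apply Finset.sum_congr rfl
    intro χ _
    have hχ1 : (χ : G → ℂ) 1 ≠ 0 := by
      rw [irr_apply_one_eq_charDegree]
      exact_mod_cast irr_charDegree_ne_zero χ
    unfold omega
    rw [mul_div_cancel₀ _ hχ1, Finset.mul_sum]
    apply Finset.sum_congr rfl
    intro g _
    ring
  -- the left side is a unit
  have hidx : (Nat.card H : ℂ)⁻¹ * (Nat.card G : ℂ) = (H.index : ℂ) := by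
    have h1 : (Nat.card H : ℂ) ≠ 0 := Nat.cast_ne_zero.mpr Nat.card_pos.ne'
    have h2 : (Nat.card H : ℂ) * (H.index : ℂ) = (Nat.card G : ℂ) := by
      exact_mod_cast H.card_mul_index
    rw [← h2]
    field_simp
  have hHidx : ¬ p ∣ H.index := by
    intro hdvd
    exact (Sylow.not_dvd_index P) (dvd_trans hdvd
      (Subgroup.index_dvd_of_le hPH))
  have hωθ : ¬ MemLocalIdeal M (omega (θ : N → ℂ) (regInd p)) := by
    intro h
    have h1 := memLocalIdeal_omega_regInd_sub hMp p θ hθ
    have h2 : MemLocalIdeal M ((regCount p N : ℕ) : ℂ) := by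
      have : ((regCount p N : ℕ) : ℂ) = omega (θ : N → ℂ) (regInd p) -
          (omega (θ : N → ℂ) (regInd p) - (regCount p N : ℂ)) := by ring
      rw [this]
      exact memLocalIdeal_sub hMp h h1
    exact not_dvd_regCount (G := N) hM ((memLocalIdeal_natCast_iff hM _).mp h2)
  have hLHS : ¬ MemLocalIdeal M (∑ g : G, regInd p g * φ g) := by
    rw [hA, hB, hC, hidx, irr_apply_one_eq_charDegree]
    intro h
    have h1 := memLocalIdeal_of_mul_of_not_memLocalIdeal hMp (memLocalRing_natCast hMp _)
      (fun h' => hHidx ((memLocalIdeal_natCast_iff hM _).mp h')) h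
    have h2 := memLocalIdeal_of_mul_of_not_memLocalIdeal hMp (memLocalRing_natCast hMp _)
      (fun h' => hdeg ((memLocalIdeal_natCast_iff hM _).mp h')) h1
    exact hωθ h2
  by_contra hcon
  push Not at hcon
  apply hLHS
  rw [hD]
  apply memLocalIdeal_sum hMp
  intro χ _
  have hωS : MemLocalRing M (omega (χ : G → ℂ) (regInd p)) := (regInd_ZS hMp p).omega hMp χ
  by_cases hχB : χ ∈ principalBlock M G
  · by_cases hχp : p ∣ charDegree (χ : G → ℂ)
    · rw [irr_apply_one_eq_charDegree]
      exact memLocalIdeal_mul_left hMp (memLocalRing_natCast hMp _)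
        (memLocalIdeal_mul_right hMp ((memLocalIdeal_natCast_iff hM _).mpr hχp) hωS)
    · have h0 := hcon χ hχB hχp
      have hm0 : m χ = 0 := by
        by_contra hne
        apply classInner_res_ne_zero_of_ext N H hNH
          (Cfsg.Agent.Lib.Helper3.IsIrrCharacter.isCharacter χ.2) η θ hη _ h0
        have h1 := frobenius_reciprocity' H (η : H → ℂ) (χ : G → ℂ)
          (Cfsg.Agent.Lib.Helper3.IsCharacter.isClassFunction
            (Cfsg.Agent.Lib.Helper3.IsIrrCharacter.isCharacter χ.2))
        rw [← h1, ← classInner_conj_symm, hm χ]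
        simpa using hne
      rw [hm0, Nat.cast_zero, zero_mul]
      exact memLocalIdeal_zero hMp
  · rw [omega_regInd_of_not_mem hM χ hχB, mul_zero, mul_zero]
    exact memLocalIdeal_zero hMp

/-- A `p'`-degree character `θ` of the principal block of `N ⊴ G` which extends to `N P`
(`P` a Sylow `p`-subgroup of `G`) lies under a `p'`-degree character of the principal block
of `G`. -/
theorem exists_principal_over_ext (N : Subgroup G) [N.Normal] [Fintype N] (p : ℕ) [Fact p.Prime]
    (M : Ideal AlgInt) (hM : IsPModular p M) (P : Sylow p G)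
    (θ : IrrCharacter N) (hθ : θ ∈ principalBlock M N)
    (hdeg : ¬ p ∣ charDegree (θ : N → ℂ))
    (η : IrrCharacter ↥(N ⊔ (P : Subgroup G)))
    (hη : ∀ n : N, (η : ↥(N ⊔ (P : Subgroup G)) → ℂ) (Subgroup.inclusion le_sup_left n) =
      (θ : N → ℂ) n) :
    ∃ χ : IrrCharacter G, χ ∈ principalBlock M G ∧ ¬ p ∣ charDegree (χ : G → ℂ) ∧
      classInner (fun n : N => (χ : G → ℂ) n) (θ : N → ℂ) ≠ 0 := by
  have : Fintype ↥(N ⊔ (P : Subgroup G)) := Fintype.ofFinite _
  exact exists_principal_over_ext_aux N (N ⊔ (P : Subgroup G)) le_sup_left p M hM P le_sup_right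
    (fun h hh hreg => mem_of_pRegular_of_mem_sup N P hh hreg) θ hθ hdeg η hη

end

end Cfsg.Agent.Lib.Helper74
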