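import Cfsg.Agent.Lib.Helper74.PReg4
import Cfsg.Agent.Lib.Helper74.PQ2
import Cfsg.Agent.Lib.Helper75.GaloisTwist
import Cfsg.Agent.Lib.Helper80.Orthogonality

/-!
# `p`-conjugate characters (helper74)

If `S` is a set of irreducible characters all agreeing with `χ` on `p`-regular elements and having
the same sums over subgroups as `χ`, then `|S| · p ^ ν(χ(1)) ≤ p ^ a`, with equality only if
`p ^ a ∣ χ(1)`.
-/

set_option autoImplicit false

namespace Cfsg.Agent.Lib.Helper74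

open Cfsg Cfsg.Agent.Lib.Helper81
open scoped ComplexConjugate

universe u

/-- A field automorphism fixing `exp(2πi/m)` fixes all `m`-th roots of unity. -/
theorem ringEquiv_fix_roots (σ : ℂ ≃+* ℂ) (m : ℕ) (hm : m ≠ 0)
    (hσ : σ (Complex.exp (2 * Real.pi * Complex.I / (m : ℂ))) =
      Complex.exp (2 * Real.pi * Complex.I / (m : ℂ)))
    (μ : ℂ) (hμ : μ ^ m = 1) : σ μ = μ := by
  have hprim := Complex.isPrimitiveRoot_exp m hm
  have : NeZero m := ⟨hm⟩
  obtain ⟨i, _, hi⟩ := hprim.eq_pow_of_pow_eq_one hμ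
  rw [← hi, map_pow, hσ]

variable {G : Type u} [Group G]

/-- A field automorphism fixing the `|G|_{p'}`-th roots of unity fixes the values of irreducible
characters at `p`-regular elements. -/
theorem ringEquiv_irr_eq_of_pRegular [Finite G] {p : ℕ} (hp : p.Prime) (σ : ℂ ≃+* ℂ)
    (hσ : σ (Complex.exp (2 * Real.pi * Complex.I /
        ((Nat.card G / p ^ (Nat.card G).factorization p : ℕ) : ℂ))) =
      Complex.exp (2 * Real.pi * Complex.I /
        ((Nat.card G / p ^ (Nat.card G).factorization p : ℕ) : ℂ)))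
    (χ : IrrCharacter G) (g : G) (hg : ¬ p ∣ orderOf g) :
    σ ((χ : G → ℂ) g) = (χ : G → ℂ) g := by
  set m := Nat.card G / p ^ (Nat.card G).factorization p with hm
  have hcard : Nat.card G = p ^ (Nat.card G).factorization p * m :=
    (Nat.ordProj_mul_ordCompl_eq_self (Nat.card G) p).symm
  have hm0 : m ≠ 0 := by
    intro h0
    rw [h0, mul_zero] at hcard
    exact Nat.card_pos.ne' hcard
  have hgm : g ^ m = 1 := by
    apply orderOf_dvd_iff_pow_eq_one.mp
    have h1 : orderOf g ∣ p ^ (Nat.card G).factorization p * m := by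
      rw [← hcard]
      exact orderOf_dvd_natCard g
    have hcop : Nat.Coprime (orderOf g) (p ^ (Nat.card G).factorization p) :=
      Nat.Coprime.pow_right _ ((Nat.Prime.coprime_iff_not_dvd hp).mpr hg).symm
    exact hcop.dvd_of_dvd_mul_left h1
  obtain ⟨n, ρ, -, hρχ⟩ := χ.2
  rw [← hρχ]
  have := Cfsg.Agent.Lib.Helper75.ringEquiv_character_eq_pow ρ σ m 1
    (fun μ hμ => by rw [pow_one]; exact ringEquiv_fix_roots σ m hm0 hσ μ hμ) g hgm
  rwa [pow_one] at this

variable [Fintype G]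

omit [Fintype G] in
theorem pTilde_pTilde (p : ℕ) (θ : G → ℂ) :
    pTilde p (pTilde p θ) = ((p ^ (Nat.card G).factorization p : ℕ) : ℂ) • pTilde p θ := by
  funext x
  simp only [pTilde_apply, Pi.smul_apply, smul_eq_mul]
  split_ifs <;> simp

open Classical in
/-- Main estimate. -/
theorem pconj_bound [Fintype (IrrCharacter G)] (p : ℕ) [Fact p.Prime] (χ : IrrCharacter G)
    (S : Finset (IrrCharacter G))
    (h1 : ∀ ψ ∈ S, ∀ g : G, ¬ p ∣ orderOf g → (ψ : G → ℂ) g = (χ : G → ℂ) g)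
    (h2 : ∀ ψ ∈ S, ∀ P : Sylow p G, ∑ u : (P : Subgroup G), (ψ : G → ℂ) (u : G) =
      ∑ u : (P : Subgroup G), (χ : G → ℂ) (u : G)) :
    S.card * p ^ (charDegree (χ : G → ℂ)).factorization p ≤ p ^ (Nat.card G).factorization p ∧
    (p ^ (Nat.card G).factorization p ≤ S.card * p ^ (charDegree (χ : G → ℂ)).factorization p →
      p ^ (Nat.card G).factorization p ∣ charDegree (χ : G → ℂ)) := by
  have hp : p.Prime := Fact.out
  set a := (Nat.card G).factorization p with ha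
  set b := (charDegree (χ : G → ℂ)).factorization p with hb
  have hint : ∀ ξ : IrrCharacter G, ∃ t : ℤ,
      classInner (pTilde p (χ : G → ℂ)) (ξ : G → ℂ) = (t : ℂ) := fun ξ => pTilde_int p χ ξ
  choose T hT using hint
  set t := T χ with ht
  have hχcl : IsClassFunction G (χ : G → ℂ) := fun g h => Cfsg.Agent.Lib.Helper80.irr_class χ g h
  -- expansion of `χ̃`
  have hexp : ∀ x : G, pTilde p (χ : G → ℂ) x = ∑ ξ : IrrCharacter G, (T ξ : ℂ) * (ξ : G → ℂ) x := by
    intro x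
    rw [Cfsg.Agent.Lib.Helper80.classFun_expansion _ (pTilde_isClassFunction p hχcl) x]
    apply Finset.sum_congr rfl
    intro ξ _
    rw [← hT ξ]
    rfl
  have hexpf : pTilde p (χ : G → ℂ) = ∑ ξ : IrrCharacter G, (T ξ : ℂ) • (ξ : G → ℂ) := by
    funext x
    rw [hexp x, Finset.sum_apply]
    rfl
  -- sum of squares
  have hsq : ∑ ξ : IrrCharacter G, T ξ ^ 2 = (p : ℤ) ^ a * t := by
    have e1 : classInner (pTilde p (χ : G → ℂ)) (pTilde p (χ : G → ℂ)) =
        ((p ^ a : ℕ) : ℂ) * (t : ℂ) := by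
      rw [classInner_pTilde_right, pTilde_pTilde, Cfsg.Agent.Lib.Helper25.classInner_smul_left, hT χ]
    have e2 : classInner (pTilde p (χ : G → ℂ)) (pTilde p (χ : G → ℂ)) =
        ∑ ξ : IrrCharacter G, ((T ξ : ℂ)) ^ 2 := by
      conv_lhs => rw [hexpf]
      rw [Cfsg.Agent.Lib.Helper25.classInner_sum_left]
      apply Finset.sum_congr rfl
      intro ξ _
      rw [Cfsg.Agent.Lib.Helper25.classInner_smul_left, ← hexpf,
        ← Cfsg.Agent.Lib.Helper25.classInner_conj_symm, hT ξ]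
      simp [sq]
    have e3 : ((∑ ξ : IrrCharacter G, T ξ ^ 2 : ℤ) : ℂ) = (((p : ℤ) ^ a * t : ℤ) : ℂ) := by
      push_cast
      rw [← e2, e1]
      push_cast
      rfl
    exact_mod_cast e3
  -- members of `S` have coefficient `t`
  have hTS : ∀ ψ ∈ S, T ψ = t := by
    intro ψ hψ
    have : classInner (pTilde p (χ : G → ℂ)) (ψ : G → ℂ) =
        classInner (pTilde p (χ : G → ℂ)) (χ : G → ℂ) := by
      unfold classInner
      congr 1
      apply Finset.sum_congr rfl
      intro g _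
      rw [pTilde_apply]
      split_ifs with hg
      · simp
      · rw [h1 ψ hψ g hg]
    rw [hT ψ, hT χ] at this
    exact_mod_cast this
  have hpa : (0 : ℤ) < (p : ℤ) ^ a := pow_pos (by exact_mod_cast hp.pos) a
  -- `t > 0`
  have ht0 : 0 < t := by
    have hnonneg : 0 ≤ (p : ℤ) ^ a * t := by
      rw [← hsq]
      exact Finset.sum_nonneg (fun ξ _ => sq_nonneg _)
    have htn : 0 ≤ t := by
      by_contra hneg
      push Not at hneg
      have := mul_neg_of_pos_of_neg hpa hneg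
      omega
    rcases htn.lt_or_eq with h | h
    · exact h
    · exfalso
      have hall : ∀ ξ : IrrCharacter G, T ξ = 0 := by
        intro ξ
        have hz : ∑ ξ : IrrCharacter G, T ξ ^ 2 = 0 := by rw [hsq, ← h, mul_zero]
        have := (Finset.sum_eq_zero_iff_of_nonneg (fun ξ _ => sq_nonneg (T ξ))).mp hz ξ
          (Finset.mem_univ ξ)
        exact pow_eq_zero_iff (two_ne_zero) |>.mp this
      have h1' := hexp 1
      rw [pTilde_apply] at h1'
      have hone : ¬ p ∣ orderOf (1 : G) := by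
        rw [orderOf_one]
        exact fun h => hp.one_lt.ne' (Nat.dvd_one.mp h)
      rw [if_neg hone] at h1'
      simp only [hall, Int.cast_zero, zero_mul, Finset.sum_const_zero] at h1'
      have hχ1 : (χ : G → ℂ) 1 ≠ 0 := by
        rw [irr_apply_one_eq_charDegree χ]
        exact_mod_cast irr_charDegree_ne_zero χ
      have hpaC : ((p ^ a : ℕ) : ℂ) ≠ 0 := by exact_mod_cast (pow_pos hp.pos a).ne'
      exact (mul_ne_zero hpaC hχ1) h1'
  -- `p ^ b ∣ t`
  have hdvd : ((p ^ b : ℕ) : ℤ) ∣ t := pTilde_dvd_left p χ χ t (hT χ)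
  have htb : ((p ^ b : ℕ) : ℤ) ≤ t := Int.le_of_dvd ht0 hdvd
  -- `|S| t ^ 2 ≤ p ^ a t`
  have hle : (S.card : ℤ) * t ^ 2 ≤ (p : ℤ) ^ a * t := by
    rw [← hsq]
    calc (S.card : ℤ) * t ^ 2 = ∑ ψ ∈ S, T ψ ^ 2 := by
          rw [Finset.sum_congr rfl (fun ψ hψ => by rw [hTS ψ hψ]), Finset.sum_const, nsmul_eq_mul]
      _ ≤ ∑ ξ : IrrCharacter G, T ξ ^ 2 :=
          Finset.sum_le_sum_of_subset_of_nonneg (Finset.subset_univ S) (fun ξ _ _ => sq_nonneg _)
  have hle2 : (S.card : ℤ) * t ≤ (p : ℤ) ^ a := by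
    have : ((S.card : ℤ) * t) * t ≤ (p : ℤ) ^ a * t := by
      calc ((S.card : ℤ) * t) * t = (S.card : ℤ) * t ^ 2 := by ring
        _ ≤ _ := hle
    exact le_of_mul_le_mul_right this ht0
  have hc1 : (S.card : ℤ) * ((p ^ b : ℕ) : ℤ) ≤ (p : ℤ) ^ a :=
    le_trans (mul_le_mul_of_nonneg_left htb (by positivity)) hle2
  have hc1' : S.card * p ^ b ≤ p ^ a := by exact_mod_cast hc1
  refine ⟨hc1', ?_⟩
  intro hge
  have heq : S.card * p ^ b = p ^ a := le_antisymm hc1' hge
  have heqZ : (S.card : ℤ) * ((p ^ b : ℕ) : ℤ) = (p : ℤ) ^ a := by exact_mod_cast heq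
  have hSpos : 0 < (S.card : ℤ) := by
    rcases Nat.eq_zero_or_pos S.card with h | h
    · rw [h, zero_mul] at heq
      exact absurd heq.symm (pow_pos hp.pos a).ne'
    · exact_mod_cast h
  -- `t = p ^ b`
  have htle : t ≤ ((p ^ b : ℕ) : ℤ) := by
    have : (S.card : ℤ) * t ≤ (S.card : ℤ) * ((p ^ b : ℕ) : ℤ) := by rw [heqZ]; exact hle2
    exact le_of_mul_le_mul_left this hSpos
  have hteq : t = ((p ^ b : ℕ) : ℤ) := le_antisymm htle htb
  -- the coefficients outside `S` vanish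
  have hsumS : ∑ ψ ∈ S, T ψ ^ 2 = ∑ ξ : IrrCharacter G, T ξ ^ 2 := by
    rw [hsq, Finset.sum_congr rfl (fun ψ hψ => by rw [hTS ψ hψ]), Finset.sum_const, nsmul_eq_mul,
      ← heqZ, hteq]
    ring
  have hout : ∀ ξ : IrrCharacter G, ξ ∉ S → T ξ = 0 := by
    intro ξ hξ
    have hsplit := Finset.sum_add_sum_compl S (fun ξ : IrrCharacter G => T ξ ^ 2)
    have hz : ∑ ξ ∈ Sᶜ, T ξ ^ 2 = 0 := by
      have := hsplit
      rw [hsumS] at this
      linarith
    have := (Finset.sum_eq_zero_iff_of_nonneg (fun ξ _ => sq_nonneg (T ξ))).mp hz ξ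
      (Finset.mem_compl.mpr hξ)
    exact pow_eq_zero_iff (two_ne_zero) |>.mp this
  -- `χ̃ = t ∑_{ψ ∈ S} ψ`
  have hexpS : ∀ x : G, pTilde p (χ : G → ℂ) x = (t : ℂ) * ∑ ψ ∈ S, (ψ : G → ℂ) x := by
    intro x
    rw [hexp x, Finset.mul_sum, ← Finset.sum_subset (Finset.subset_univ S)]
    · apply Finset.sum_congr rfl
      intro ψ hψ
      rw [hTS ψ hψ]
    · intro ξ _ hξ
      rw [hout ξ hξ]
      simp
  -- sum over a Sylow subgroup
  obtain P : Sylow p G := default
  have hPcard : Nat.card (P : Subgroup G) = p ^ a := Sylow.card_eq_multiplicity P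
  obtain ⟨n, hn⟩ := sum_subgroup_char_eq χ (P : Subgroup G)
  have hsumP : ∑ u : (P : Subgroup G), pTilde p (χ : G → ℂ) (u : G) =
      ((p ^ a : ℕ) : ℂ) * (χ : G → ℂ) 1 := by
    rw [Finset.sum_eq_single (1 : (P : Subgroup G))]
    · have hone : ¬ p ∣ orderOf (1 : G) := by
        rw [orderOf_one]
        exact fun h => hp.one_lt.ne' (Nat.dvd_one.mp h)
      simp only [Subgroup.coe_one, pTilde_apply, if_neg hone]
      rfl
    · intro s _ hs
      have h1 : p ∣ orderOf (s : G) := by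
        rw [Subgroup.orderOf_coe]
        exact P.2.dvd_orderOf hs
      simp only [pTilde_apply, if_pos h1]
    · intro h
      exact absurd (Finset.mem_univ _) h
  have hsumP2 : ∑ u : (P : Subgroup G), pTilde p (χ : G → ℂ) (u : G) =
      (t : ℂ) * ((S.card : ℂ) * ((p ^ a : ℕ) : ℂ) * (n : ℂ)) := by
    simp_rw [hexpS]
    rw [← Finset.mul_sum, Finset.sum_comm]
    congr 1
    rw [Finset.sum_congr rfl (fun ψ hψ => h2 ψ hψ P), Finset.sum_const, nsmul_eq_mul, hn, hPcard]
    ring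
  rw [hsumP] at hsumP2
  have hpaC : ((p ^ a : ℕ) : ℂ) ≠ 0 := by exact_mod_cast (pow_pos hp.pos a).ne'
  have hdeg : (χ : G → ℂ) 1 = (t : ℂ) * (S.card : ℂ) * (n : ℂ) := by
    have : ((p ^ a : ℕ) : ℂ) * (χ : G → ℂ) 1 =
        ((p ^ a : ℕ) : ℂ) * ((t : ℂ) * (S.card : ℂ) * (n : ℂ)) := by
      rw [hsumP2]; ring
    exact mul_left_cancel₀ hpaC this
  rw [irr_apply_one_eq_charDegree χ] at hdeg
  have hdegZ : (charDegree (χ : G → ℂ) : ℤ) = t * (S.card : ℤ) * (n : ℤ) := by exact_mod_cast hdeg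
  rw [hteq, mul_comm ((p ^ b : ℕ) : ℤ), heqZ] at hdegZ
  have : (charDegree (χ : G → ℂ) : ℤ) = ((p ^ a * n : ℕ) : ℤ) := by
    rw [hdegZ]; push_cast; ring
  have hnat : charDegree (χ : G → ℂ) = p ^ a * n := by exact_mod_cast this
  exact ⟨n, hnat⟩

end Cfsg.Agent.Lib.Helper74
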