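import Cfsg.Agent.Lib.Helper16.WBO
import Cfsg.Agent.Lib.Helper74.BF2

set_option autoImplicit false

namespace Cfsg.Agent.Lib.Helper74

open Cfsg Cfsg.Agent.Lib.Helper77 Cfsg.Agent.Lib.Helper81
open scoped ComplexConjugate

universe u

section
variable {G : Type u} [Group G] [Fintype G]

/-- no element of order `p * q` means no element has order divisible by both -/
theorem not_dvd_of_no_orderOf_mul {p q : ℕ} (hp : p.Prime) (hq : q.Prime) (hpq : p ≠ q)
    (hno : ∀ g : G, orderOf g ≠ p * q) (h : G) (h1 : p ∣ orderOf h) : ¬ q ∣ orderOf h := by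
  intro h2
  have hco : Nat.Coprime p q := (Nat.coprime_primes hp hq).mpr hpq
  have h3 : p * q ∣ orderOf h := hco.mul_dvd_of_dvd_of_dvd h1 h2
  exact hno _ (orderOf_pow_orderOf_div (orderOf_pos h).ne' h3)

open Classical in
/-- Two blocks (for different primes) of a group without elements of order `p q`, both containing
`χ₁`, have another common member. -/
theorem exists_common_of_no_orderOf_mul [Fintype (IrrCharacter G)] {p q : ℕ} [Fact p.Prime]
    [Fact q.Prime] (hpq : p ≠ q)
    (hp : p ∣ Nat.card G) (hq : q ∣ Nat.card G) (hno : ∀ g : G, orderOf g ≠ p * q)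
    {Mp Mq : Ideal AlgInt} (hMp : IsPModular p Mp) (hMq : IsPModular q Mq) (χ₁ : IrrCharacter G)
    (hone : ∀ g, (χ₁ : G → ℂ) g = 1) :
    ∃ χ : IrrCharacter G, χ ≠ χ₁ ∧ χ ∈ blockOf Mp (χ₁ : G → ℂ) ∧ χ ∈ blockOf Mq (χ₁ : G → ℂ) := by
  by_contra hcon
  push Not at hcon
  have hpP : p.Prime := Fact.out
  have hqP : q.Prime := Fact.out
  obtain ⟨y, hy⟩ := exists_prime_orderOf_dvd_card' p hp
  obtain ⟨x, hx⟩ := exists_prime_orderOf_dvd_card' q hq
  set Bp : Finset (IrrCharacter G) :=
    Finset.univ.filter (fun χ : IrrCharacter G => χ ∈ blockOf Mp (χ₁ : G → ℂ)) with hBp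
  set Bq : Finset (IrrCharacter G) :=
    Finset.univ.filter (fun χ : IrrCharacter G => χ ∈ blockOf Mq (χ₁ : G → ℂ)) with hBq
  let F : G → ℂ := fun h => ∑ ψ ∈ Bp, (ψ : G → ℂ) h * conj ((ψ : G → ℂ) y)
  -- the coefficient of `χ` in `F`
  have hcoef : ∀ χ : IrrCharacter G, (Nat.card G : ℂ)⁻¹ * ∑ h : G, F h * conj ((χ : G → ℂ) h) =
      if χ ∈ Bp then conj ((χ : G → ℂ) y) else 0 := by
    intro χ
    have h1 : (Nat.card G : ℂ)⁻¹ * ∑ h : G, F h * conj ((χ : G → ℂ) h) =
        ∑ ψ ∈ Bp, conj ((ψ : G → ℂ) y) * classInner (ψ : G → ℂ) (χ : G → ℂ) := by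
      unfold classInner
      simp only [F, Finset.sum_mul, Finset.mul_sum]
      rw [Finset.sum_comm]
      apply Finset.sum_congr rfl
      intro ψ _
      apply Finset.sum_congr rfl
      intro h _
      ring
    rw [h1]
    simp_rw [Cfsg.Agent.Lib.Helper3.classInner_irr (Subtype.prop _) χ.2]
    by_cases hχ : χ ∈ Bp
    · rw [if_pos hχ, Finset.sum_eq_single χ]
      · rw [if_pos rfl, mul_one]
      · intro ψ _ hne
        rw [if_neg (fun h => hne (Subtype.ext h)), mul_zero]
      · intro h; exact absurd hχ h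
    · rw [if_neg hχ]
      apply Finset.sum_eq_zero
      intro ψ hψ
      rw [if_neg, mul_zero]
      intro h
      exact hχ ((Subtype.ext h : ψ = χ) ▸ hψ)
  -- S computed in two ways
  have hS1 : ∑ χ ∈ Bq, ((Nat.card G : ℂ)⁻¹ * ∑ h : G, F h * conj ((χ : G → ℂ) h)) *
      (χ : G → ℂ) x = 1 := by
    simp_rw [hcoef]
    have hmem1p : χ₁ ∈ Bp := by
      rw [hBp, Finset.mem_filter]
      exact ⟨Finset.mem_univ _, sameBlock_refl (isPrime_of_isPModular hMp) _⟩
    have hmem1q : χ₁ ∈ Bq := by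
      rw [hBq, Finset.mem_filter]
      exact ⟨Finset.mem_univ _, sameBlock_refl (isPrime_of_isPModular hMq) _⟩
    rw [Finset.sum_eq_single χ₁]
    · rw [if_pos hmem1p, hone, hone, map_one, mul_one]
    · intro χ hχq hne
      rw [if_neg, zero_mul]
      intro hχp
      rw [hBp, Finset.mem_filter] at hχp
      rw [hBq, Finset.mem_filter] at hχq
      exact hcon χ hne hχp.2 hχq.2
    · intro h; exact absurd hmem1q h
  have hS2 : ∑ χ ∈ Bq, ((Nat.card G : ℂ)⁻¹ * ∑ h : G, F h * conj ((χ : G → ℂ) h)) *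
      (χ : G → ℂ) x = 0 := by
    have h1 : ∑ χ ∈ Bq, ((Nat.card G : ℂ)⁻¹ * ∑ h : G, F h * conj ((χ : G → ℂ) h)) *
        (χ : G → ℂ) x = (Nat.card G : ℂ)⁻¹ * ∑ h : G, F h *
          ∑ χ ∈ Bq, conj ((χ : G → ℂ) h) * (χ : G → ℂ) x := by
      simp only [Finset.sum_mul, Finset.mul_sum]
      rw [Finset.sum_comm]
      apply Finset.sum_congr rfl
      intro h _
      apply Finset.sum_congr rfl
      intro χ _
      ring
    rw [h1]
    have h2 : ∀ h : G, F h * ∑ χ ∈ Bq, conj ((χ : G → ℂ) h) * (χ : G → ℂ) x = 0 := by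
      intro h
      by_cases hph : p ∣ orderOf h
      · have hqh : ¬ q ∣ orderOf h := not_dvd_of_no_orderOf_mul hpP hqP hpq hno h hph
        have h3 := Cfsg.Agent.Lib.Helper16.weak_block_orthogonality_finset hMq χ₁ hqh
          (y := x) (by rw [hx])
        have h4 : ∑ χ ∈ Bq, conj ((χ : G → ℂ) h) * (χ : G → ℂ) x = 0 := by
          have := congrArg (starRingEnd ℂ) h3
          rw [map_sum, map_zero] at this
          rw [← this]
          apply Finset.sum_congr rfl
          intro χ _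
          rw [map_mul, Complex.conj_conj]
        rw [h4, mul_zero]
      · have h3 := Cfsg.Agent.Lib.Helper16.weak_block_orthogonality_finset hMp χ₁ hph
          (y := y) (by rw [hy])
        have : F h = 0 := h3
        rw [this, zero_mul]
    simp only [h2, Finset.sum_const_zero, mul_zero]
  rw [hS1] at hS2
  exact one_ne_zero hS2

end

end Cfsg.Agent.Lib.Helper74
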