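import Cfsg.Agent.S4425
import Cfsg.Agent.S0952
import Cfsg.Agent.Lib.Helper74.PReg1
import Cfsg.Agent.Lib.Helper77.Fourier
import Cfsg.Agent.Lib.Helper81.LocalRing
import Cfsg.Agent.Lib.Helper80.IrrApi

/-!
# The integers `[χ̃, ξ]` (helper74)

For an irreducible character `θ`, `θ̃ = p ^ a θ` on `p`-regular elements and `0` elsewhere.
The inner products `[θ̃, ξ]` are integers, symmetric in `θ, ξ`, divisible by the `p`-parts of both
degrees, vanish for `θ, ξ` in different blocks, and `[θ̃, ξ] / ξ(1)` is constant modulo the local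
ideal for `ξ` running over a block.
-/

set_option autoImplicit false

namespace Cfsg.Agent.Lib.Helper74

open Cfsg Cfsg.Agent.Lib.Helper81
open scoped ComplexConjugate

universe u

variable {G : Type u} [Group G]

/-- `θ̃`: `p ^ a * θ` on `p`-regular elements and `0` elsewhere. -/
noncomputable def pTilde (p : ℕ) (θ : G → ℂ) : G → ℂ :=
  fun x => if p ∣ orderOf x then (0 : ℂ)
    else ((p ^ (Nat.card G).factorization p : ℕ) : ℂ) * θ x

theorem pTilde_apply (p : ℕ) (θ : G → ℂ) (x : G) :
    pTilde p θ x = if p ∣ orderOf x then (0 : ℂ)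
      else ((p ^ (Nat.card G).factorization p : ℕ) : ℂ) * θ x := rfl

theorem pTilde_isClassFunction (p : ℕ) {θ : G → ℂ} (hθ : IsClassFunction G θ) :
    IsClassFunction G (pTilde p θ) := by
  intro g h
  have hord : orderOf (h * g * h⁻¹) = orderOf g :=
    orderOf_injective (MulAut.conj h).toMonoidHom (MulAut.conj h).injective g
  simp only [pTilde_apply, hord, hθ g h]

variable [Fintype G]

theorem pTilde_int (p : ℕ) [Fact p.Prime] (θ ξ : IrrCharacter G) :
    ∃ t : ℤ, classInner (pTilde p (θ : G → ℂ)) (ξ : G → ℂ) = (t : ℂ) := by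
  have hθgen : IsGeneralizedCharacter G (pTilde p (θ : G → ℂ)) := Cfsg.Agent.S0961.result p θ
  have hξc : IsCharacter G ξ.1 := Cfsg.Agent.Lib.Helper3.IsIrrCharacter.isCharacter ξ.2
  have hξgen : IsGeneralizedCharacter G ξ.1 :=
    ⟨ξ.1, 0, hξc, Cfsg.Agent.Lib.Helper3.IsCharacter.zero, by simp⟩
  exact Cfsg.Agent.Lib.Helper25.classInner_genChar_int hθgen hξgen

theorem classInner_pTilde_right (p : ℕ) (θ ξ : G → ℂ) :
    classInner θ (pTilde p ξ) = classInner (pTilde p θ) ξ := by
  unfold classInner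
  congr 1
  apply Finset.sum_congr rfl
  intro g _
  simp only [pTilde_apply]
  split_ifs
  · simp
  · rw [map_mul, Complex.conj_natCast]
    ring

theorem pTilde_symm (p : ℕ) [Fact p.Prime] (θ ξ : IrrCharacter G) :
    classInner (pTilde p (θ : G → ℂ)) (ξ : G → ℂ) =
      classInner (pTilde p (ξ : G → ℂ)) (θ : G → ℂ) := by
  obtain ⟨t, ht⟩ := pTilde_int p ξ θ
  rw [← Cfsg.Agent.Lib.Helper25.classInner_conj_symm, classInner_pTilde_right, ht]
  simp

theorem pTilde_dvd_left (p : ℕ) [Fact p.Prime] (θ ξ : IrrCharacter G) (t : ℤ)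
    (ht : classInner (pTilde p (θ : G → ℂ)) (ξ : G → ℂ) = (t : ℂ)) :
    ((p ^ (charDegree (θ : G → ℂ)).factorization p : ℕ) : ℤ) ∣ t :=
  pow_factorization_dvd_classInner p θ.2
    (Cfsg.Agent.Lib.Helper3.IsIrrCharacter.isCharacter ξ.2) t ht

theorem pTilde_dvd_right (p : ℕ) [Fact p.Prime] (θ ξ : IrrCharacter G) (t : ℤ)
    (ht : classInner (pTilde p (θ : G → ℂ)) (ξ : G → ℂ) = (t : ℂ)) :
    ((p ^ (charDegree (ξ : G → ℂ)).factorization p : ℕ) : ℤ) ∣ t := by
  rw [pTilde_symm] at ht
  exact pTilde_dvd_left p ξ θ t ht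

open Classical in
/-- `[θ̃, ξ] = 0` when `θ` and `ξ` lie in different blocks. -/
theorem pTilde_eq_zero_of_not_sameBlock [Fintype (IrrCharacter G)] (p : ℕ) [Fact p.Prime]
    (M : Ideal AlgInt) (hM : IsPModular p M) (θ ξ : IrrCharacter G)
    (h : ¬ SameBlock M (θ : G → ℂ) (ξ : G → ℂ)) :
    classInner (pTilde p (θ : G → ℂ)) (ξ : G → ℂ) = 0 := by
  have h0 := Cfsg.Agent.S0952.orth_regular p M hM θ ξ h
  unfold classInner
  have h1 : ∑ g : G, pTilde p (θ : G → ℂ) g * conj ((ξ : G → ℂ) g) =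
      ((p ^ (Nat.card G).factorization p : ℕ) : ℂ) *
        ∑ x ∈ Finset.univ.filter (fun x : G => ¬ p ∣ orderOf x),
          (θ : G → ℂ) x * conj ((ξ : G → ℂ) x) := by
    rw [Finset.sum_filter, Finset.mul_sum]
    apply Finset.sum_congr rfl
    intro g _
    simp only [pTilde_apply]
    split_ifs
    · simp
    · ring
  rw [h1, h0, mul_zero, mul_zero]

/-- `[θ̃, ξ] / ξ(1)` is constant modulo the local ideal as `ξ` runs over a block. -/
theorem pTilde_cong (p : ℕ) [Fact p.Prime] (M : Ideal AlgInt) (hM : IsPModular p M)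
    (θ ξ ψ : IrrCharacter G) (hs : SameBlock M (ξ : G → ℂ) (ψ : G → ℂ)) :
    MemLocalIdeal M (classInner (pTilde p (θ : G → ℂ)) (ξ : G → ℂ) / (ξ : G → ℂ) 1 -
      classInner (pTilde p (θ : G → ℂ)) (ψ : G → ℂ) / (ψ : G → ℂ) 1) := by
  have hp : p.Prime := Fact.out
  have hMp : M.IsPrime := isPrime_of_isPModular hM
  set a : G → ℂ := fun g => (Nat.card G : ℂ)⁻¹ * conj (pTilde p (θ : G → ℂ) g) with ha
  have hθcl : IsClassFunction G (θ : G → ℂ) := fun g h => Cfsg.Agent.Lib.Helper80.irr_class θ g h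
  have hacl : IsClassFunction G a := by
    intro g h
    simp only [ha, pTilde_isClassFunction p hθcl g h]
  have homega : ∀ φ : IrrCharacter G, Cfsg.Agent.Lib.Helper77.omega (φ : G → ℂ) a =
      classInner (pTilde p (θ : G → ℂ)) (φ : G → ℂ) / (φ : G → ℂ) 1 := by
    intro φ
    obtain ⟨t, ht⟩ := pTilde_int p θ φ
    unfold Cfsg.Agent.Lib.Helper77.omega
    congr 1
    have h1 : ∑ g : G, a g * (φ : G → ℂ) g =
        conj (classInner (pTilde p (θ : G → ℂ)) (φ : G → ℂ)) := by
      unfold classInner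
      rw [map_mul, map_inv₀, Complex.conj_natCast, map_sum, Finset.mul_sum]
      apply Finset.sum_congr rfl
      intro g _
      simp only [ha, map_mul, Complex.conj_conj]
      ring
    rw [h1, ht]
    simp
  -- the coefficients are local integers
  have hcard : Nat.card G = p ^ (Nat.card G).factorization p *
      (Nat.card G / p ^ (Nat.card G).factorization p) :=
    (Nat.ordProj_mul_ordCompl_eq_self (Nat.card G) p).symm
  have hndvd : ¬ p ∣ Nat.card G / p ^ (Nat.card G).factorization p :=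
    Nat.not_dvd_ordCompl hp Nat.card_pos.ne'
  have haS : ∀ g, MemLocalRing M (a g) := by
    intro g
    simp only [ha, pTilde_apply]
    split_ifs
    · simp only [map_zero, mul_zero]
      exact memLocalRing_zero hMp
    · have h2 : (Nat.card G : ℂ)⁻¹ * conj (((p ^ (Nat.card G).factorization p : ℕ) : ℂ) *
          (θ : G → ℂ) g) =
          ((Nat.card G / p ^ (Nat.card G).factorization p : ℕ) : ℂ)⁻¹ *
            (θ : G → ℂ) g⁻¹ := by
        rw [map_mul, Complex.conj_natCast, Cfsg.Agent.Lib.Helper80.irr_conj_inv]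
        have hpa : ((p ^ (Nat.card G).factorization p : ℕ) : ℂ) ≠ 0 := by
          exact_mod_cast (pow_pos hp.pos _).ne'
        have hc : ((Nat.card G / p ^ (Nat.card G).factorization p : ℕ) : ℂ) ≠ 0 := by
          intro h0
          have h0' : Nat.card G / p ^ (Nat.card G).factorization p = 0 := by exact_mod_cast h0
          rw [h0'] at hndvd
          exact hndvd (dvd_zero p)
        have hcardC : (Nat.card G : ℂ) = ((p ^ (Nat.card G).factorization p : ℕ) : ℂ) *
            ((Nat.card G / p ^ (Nat.card G).factorization p : ℕ) : ℂ) := by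
          rw [← Nat.cast_mul, ← hcard]
        rw [hcardC]
        field_simp
      rw [h2]
      apply memLocalRing_mul hMp (memLocalRing_inv_natCast hM hndvd)
      exact memLocalRing_algInt hMp ⟨_, Cfsg.Agent.Lib.Helper80.irr_isIntegral θ g⁻¹⟩
  have hξcl : IsClassFunction G (ξ : G → ℂ) := fun g h => Cfsg.Agent.Lib.Helper80.irr_class ξ g h
  have hψcl : IsClassFunction G (ψ : G → ℂ) := fun g h => Cfsg.Agent.Lib.Helper80.irr_class ψ g h
  have := Cfsg.Agent.Lib.Helper77.memLocalIdeal_omega_sub hMp hξcl hψcl hs hacl haS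
  rwa [homega ξ, homega ψ] at this

end Cfsg.Agent.Lib.Helper74
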