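import Cfsg.Agent.Lib.Helper74.PReg4
import Cfsg.Agent.Lib.Helper77.InducedOmega

/-!
# `[η, ψ] / ψ(1)` for `η = (χ_H)~` and induced blocks (helper74)
-/

set_option autoImplicit false

namespace Cfsg.Agent.Lib.Helper74

open Cfsg Cfsg.Agent.Lib.Helper81 Cfsg.Agent.Lib.Helper77
open scoped ComplexConjugate

universe u

variable {G : Type u} [Group G]

/-- The coefficient function `g ↦ (n_{p'})⁻¹ χ(g⁻¹)` on `p`-regular `g`, `0` elsewhere. -/
noncomputable def regCoeff (p n : ℕ) (χ : G → ℂ) : G → ℂ :=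
  fun g => if p ∣ orderOf g then (0 : ℂ)
    else ((n / p ^ n.factorization p : ℕ) : ℂ)⁻¹ * χ g⁻¹

theorem regCoeff_apply (p n : ℕ) (χ : G → ℂ) (g : G) :
    regCoeff p n χ g = if p ∣ orderOf g then (0 : ℂ)
      else ((n / p ^ n.factorization p : ℕ) : ℂ)⁻¹ * χ g⁻¹ := rfl

theorem regCoeff_isClassFunction (p n : ℕ) {χ : G → ℂ} (hχ : IsClassFunction G χ) :
    IsClassFunction G (regCoeff p n χ) := by
  intro g h
  have hord : orderOf (h * g * h⁻¹) = orderOf g :=
    orderOf_injective (MulAut.conj h).toMonoidHom (MulAut.conj h).injective g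
  have hinv : (h * g * h⁻¹)⁻¹ = h * g⁻¹ * h⁻¹ := by group
  simp only [regCoeff_apply, hord, hinv, hχ g⁻¹ h]

theorem card_inv_mul_pow {p : ℕ} (hp : p.Prime) (n : ℕ) (hn : n ≠ 0) :
    (n : ℂ)⁻¹ * ((p ^ n.factorization p : ℕ) : ℂ) =
      ((n / p ^ n.factorization p : ℕ) : ℂ)⁻¹ := by
  have hnu : n = p ^ n.factorization p * (n / p ^ n.factorization p) :=
    (Nat.ordProj_mul_ordCompl_eq_self n p).symm
  have hpa : ((p ^ n.factorization p : ℕ) : ℂ) ≠ 0 := by
    exact_mod_cast (pow_pos hp.pos _).ne'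
  have hu : ((n / p ^ n.factorization p : ℕ) : ℂ) ≠ 0 := by
    intro h0
    have h0' : n / p ^ n.factorization p = 0 := by exact_mod_cast h0
    rw [h0', mul_zero] at hnu
    exact hn hnu
  have hnC : (n : ℂ) = ((p ^ n.factorization p : ℕ) : ℂ) *
      ((n / p ^ n.factorization p : ℕ) : ℂ) := by
    rw [← Nat.cast_mul, ← hnu]
  rw [hnC]
  field_simp

variable [Fintype G]

theorem regCoeff_zs {p : ℕ} [Fact p.Prime] {M : Ideal AlgInt} (hM : IsPModular p M) (n : ℕ)
    (hn : n ≠ 0) (χ : IrrCharacter G) : ZS M (regCoeff p n (χ : G → ℂ)) := by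
  have hp : p.Prime := Fact.out
  have hMp : M.IsPrime := isPrime_of_isPModular hM
  refine ⟨regCoeff_isClassFunction p n (fun g h => Cfsg.Agent.Lib.Helper80.irr_class χ g h), ?_⟩
  intro g
  rw [regCoeff_apply]
  split_ifs
  · exact memLocalRing_zero hMp
  · apply memLocalRing_mul hMp (memLocalRing_inv_natCast hM (Nat.not_dvd_ordCompl hp hn))
    exact memLocalRing_algInt hMp ⟨_, Cfsg.Agent.Lib.Helper80.irr_isIntegral χ g⁻¹⟩

/-- The central character of `ψ ∈ Irr(H)` at the restriction of `regCoeff` is `[η, ψ] / ψ(1)`. -/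
theorem omega_restrict_regCoeff {p : ℕ} [Fact p.Prime] (H : Subgroup G) [Fintype H]
    (χ : G → ℂ) (ψ : IrrCharacter H) :
    omega (ψ : H → ℂ) (fun h : H => regCoeff p (Nat.card H) χ (h : G)) =
      classInner (fun h : H => if p ∣ orderOf h then (0 : ℂ)
        else ((p ^ (Nat.card H).factorization p : ℕ) : ℂ) * χ h) (ψ : H → ℂ) /
        (ψ : H → ℂ) 1 := by
  have hp : p.Prime := Fact.out
  unfold omega classInner
  congr 1
  rw [Finset.mul_sum]
  refine Fintype.sum_equiv (Equiv.inv H) _ _ ?_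
  intro h
  simp only [Equiv.inv_apply, regCoeff_apply, Subgroup.orderOf_coe, orderOf_inv]
  split_ifs
  · simp
  · rw [Cfsg.Agent.Lib.Helper80.irr_conj_inv, Complex.conj_conj, Subgroup.coe_inv,
      ← card_inv_mul_pow hp (Nat.card H) Nat.card_pos.ne']
    ring

/-- The central character of `χ' ∈ Irr(G)` at `regCoeff`. -/
theorem omega_regCoeff {p : ℕ} [Fact p.Prime] (n : ℕ) (χ χ' : IrrCharacter G) :
    omega (χ' : G → ℂ) (regCoeff p n (χ : G → ℂ)) =
      ((n / p ^ n.factorization p : ℕ) : ℂ)⁻¹ *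
        ((Nat.card G / p ^ (Nat.card G).factorization p : ℕ) : ℂ) *
        (classInner (pTilde p (χ : G → ℂ)) (χ' : G → ℂ) / (χ' : G → ℂ) 1) := by
  have hp : p.Prime := Fact.out
  unfold omega
  rw [mul_div_assoc']
  congr 1
  have hu : ((Nat.card G / p ^ (Nat.card G).factorization p : ℕ) : ℂ) ≠ 0 := by
    have := card_inv_mul_pow hp (Nat.card G) Nat.card_pos.ne'
    intro h0
    rw [h0, inv_zero] at this
    have hG : (Nat.card G : ℂ) ≠ 0 := Nat.cast_ne_zero.mpr Nat.card_pos.ne'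
    have hpa : ((p ^ (Nat.card G).factorization p : ℕ) : ℂ) ≠ 0 := by
      exact_mod_cast (pow_pos hp.pos _).ne'
    exact (mul_ne_zero (inv_ne_zero hG) hpa) this
  have h1 : classInner (pTilde p (χ : G → ℂ)) (χ' : G → ℂ) =
      ((Nat.card G / p ^ (Nat.card G).factorization p : ℕ) : ℂ)⁻¹ *
        ∑ g : G, (if p ∣ orderOf g then (0 : ℂ) else (χ : G → ℂ) g * conj ((χ' : G → ℂ) g)) := by
    unfold classInner
    rw [← card_inv_mul_pow hp (Nat.card G) Nat.card_pos.ne', mul_assoc]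
    congr 1
    rw [Finset.mul_sum]
    apply Finset.sum_congr rfl
    intro g _
    rw [pTilde_apply]
    split_ifs
    · simp
    · ring
  rw [h1, mul_assoc, mul_inv_cancel_left₀ hu, Finset.mul_sum]
  refine Fintype.sum_equiv (Equiv.inv G) _ _ ?_
  intro g
  simp only [Equiv.inv_apply, regCoeff_apply, orderOf_inv]
  split_ifs
  · simp
  · rw [Cfsg.Agent.Lib.Helper80.irr_conj_inv, Cfsg.Agent.Lib.Helper80.irr_conj_inv,
      Complex.conj_conj]
    ring

end Cfsg.Agent.Lib.Helper74
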