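import Cfsg.Agent.Lib.Helper52.FoD

/-!
# Central characters at a class function supported on a normal `p'`-subgroup
-/

set_option autoImplicit false
set_option linter.unusedSectionVars false

universe u

namespace Cfsg.Agent.Lib.Helper74

open Cfsg
open Cfsg.Agent.Lib.Helper77 Cfsg.Agent.Lib.Helper80 Cfsg.Agent.Lib.Helper81
open Cfsg.Agent.Lib.Helper16 Cfsg.Agent.Lib.Helper1
open scoped ComplexConjugate

theorem pt_isIntegral_conj {z : ℂ} (hz : IsIntegral ℤ z) : IsIntegral ℤ (conj z) := by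
  have h := hz.map ((starRingEnd ℂ).toIntAlgHom)
  exact h

variable {G : Type u} [Group G] [Fintype G]

theorem pt_extend_mem (N : Subgroup G) (f : N → ℂ) {g : G} (hg : g ∈ N) :
    extendByZero N f g = f ⟨g, hg⟩ := by
  unfold extendByZero
  exact Subtype.val_injective.extend_apply f 0 ⟨g, hg⟩

theorem pt_extend_not_mem (N : Subgroup G) (f : N → ℂ) {g : G} (hg : g ∉ N) :
    extendByZero N f g = 0 := by
  unfold extendByZero
  rw [Function.extend_apply']
  · rfl
  · rintro ⟨n, rfl⟩
    exact hg n.2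

theorem pt_ginv_singleton (N : Subgroup G) [hN : N.Normal] [Fintype N] (φ : IrrCharacter N)
    (hφ : ∀ (g : G) (n : N),
      (φ : N → ℂ) ⟨g * n * g⁻¹, hN.conj_mem n n.2 g⟩ = (φ : N → ℂ) n) : GInv N {φ} := by
  intro g θ hθ θ' h
  rw [Set.mem_singleton_iff] at hθ ⊢
  subst hθ
  apply Subtype.ext
  funext n
  rw [h n]
  exact hφ g n

theorem pt_extend_isClassFunction (N : Subgroup G) [hN : N.Normal] (f : N → ℂ)
    (hf : ∀ (g : G) (n : N), f ⟨g * n * g⁻¹, hN.conj_mem n n.2 g⟩ = f n) :
    IsClassFunction G (extendByZero N f) := by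
  intro g h
  by_cases hg : g ∈ N
  · have hg' : h * g * h⁻¹ ∈ N := hN.conj_mem g hg h
    rw [pt_extend_mem N _ hg, pt_extend_mem N _ hg']
    exact hf h ⟨g, hg⟩
  · have hg' : h * g * h⁻¹ ∉ N := by
      intro hc
      apply hg
      have := hN.conj_mem _ hc h⁻¹
      simpa [mul_assoc] using this
    rw [pt_extend_not_mem N _ hg, pt_extend_not_mem N _ hg']

theorem pt_blockCoeff_singleton {H : Type u} [Group H] [Fintype H] (φ : IrrCharacter H) (x : H) :
    blockCoeff ({φ} : Set (IrrCharacter H)) x =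
      (Nat.card H : ℂ)⁻¹ * ((φ : H → ℂ) 1 * conj ((φ : H → ℂ) x)) := by
  unfold blockCoeff
  rw [finsum_mem_singleton]

open Classical in
/-- **Key congruence.** Let `N ⊴ G` be a `p'`-subgroup, `ϑ` a `G`-invariant class function of `N`
all of whose multiplicities are natural numbers divisible by `p`, except at one `G`-invariant
irreducible character `φs`.  Then the central character of `ξ ∈ Irr(G)` at `a * conj ϑ`
(extended by zero) is, modulo the local ideal, a fixed multiple of the indicator of `ξ` lying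
over `φs`. -/
theorem pt_omega_cong {p : ℕ} [Fact p.Prime] {M : Ideal AlgInt} (hpM : IsPModular p M)
    (N : Subgroup G) [hN : N.Normal] [Fintype N]
    (ϑ : N → ℂ) (hϑ : IsClassFunction N ϑ)
    (hϑinv : ∀ (g : G) (n : N), ϑ ⟨g * n * g⁻¹, hN.conj_mem n n.2 g⟩ = ϑ n)
    (φs : IrrCharacter N)
    (hφinv : ∀ (g : G) (n : N),
      (φs : N → ℂ) ⟨g * n * g⁻¹, hN.conj_mem n n.2 g⟩ = (φs : N → ℂ) n)
    (ms : ℕ) (hms : classInner ϑ (φs : N → ℂ) = (ms : ℂ))
    (hmult : ∀ φ : IrrCharacter N, φ ≠ φs →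
      ∃ k : ℕ, classInner ϑ (φ : N → ℂ) = ((p * k : ℕ) : ℂ))
    (a : ℂ) (ha : MemLocalRing M a) (ξ : IrrCharacter G) :
    MemLocalIdeal M (omega (ξ : G → ℂ) (extendByZero N (fun n => a * conj (ϑ n))) -
      a * (ms : ℂ) * (Nat.card N : ℂ) / (φs : N → ℂ) 1 *
        (if Over N {φs} ξ then 1 else 0)) := by
  have hM : M.IsPrime := isPrime_of_isPModular hpM
  have hp : p.Prime := Fact.out
  have := Fintype.ofFinite (IrrCharacter N)
  have hginv : GInv N ({φs} : Set (IrrCharacter N)) := pt_ginv_singleton N φs hφinv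
  have hE := omega_extend_blockCoeff N hginv ξ
  have hφ1 : (φs : N → ℂ) 1 ≠ 0 := irr_one_ne_zero φs.2
  have hcard : (Nat.card N : ℂ) ≠ 0 := by
    have : Nat.card N ≠ 0 := Nat.card_pos.ne'
    exact_mod_cast this
  have hpC : (p : ℂ) ≠ 0 := by exact_mod_cast hp.ne_zero
  -- the multiplicities
  let k : IrrCharacter N → ℕ := fun φ =>
    if h : φ = φs then 0 else Classical.choose (hmult φ h)
  have hk : ∀ φ : IrrCharacter N, φ ≠ φs →
      classInner ϑ (φ : N → ℂ) = (p : ℂ) * (k φ : ℂ) := by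
    intro φ h
    have := Classical.choose_spec (hmult φ h)
    simp only [k, dif_neg h]
    refine this.trans ?_
    push_cast
    ring
  have hks : k φs = 0 := by simp only [k, dif_pos rfl]
  let r : N → ℂ := fun n => ∑ φ : IrrCharacter N, (k φ : ℂ) * (φ : N → ℂ) n
  -- expansion of `ϑ`
  have hexp : ∀ n : N, ϑ n = (ms : ℂ) * (φs : N → ℂ) n + (p : ℂ) * r n := by
    intro n
    have h1 := classFun_expansion ϑ hϑ n
    have h2 : ∀ φ : IrrCharacter N,
        ((Nat.card N : ℂ)⁻¹ * ∑ g : N, ϑ g * conj ((φ : N → ℂ) g)) * (φ : N → ℂ) n =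
        (if φ = φs then (ms : ℂ) * (φs : N → ℂ) n else 0) +
          (p : ℂ) * ((k φ : ℂ) * (φ : N → ℂ) n) := by
      intro φ
      have h3 : (Nat.card N : ℂ)⁻¹ * ∑ g : N, ϑ g * conj ((φ : N → ℂ) g) =
          classInner ϑ (φ : N → ℂ) := rfl
      rw [h3]
      by_cases h : φ = φs
      · subst h
        rw [if_pos rfl, hms, hks]
        push_cast
        ring
      · rw [if_neg h, hk φ h]
        ring
    rw [h1]
    simp_rw [h2]
    rw [Finset.sum_add_distrib, Finset.sum_ite_eq' Finset.univ φs, if_pos (Finset.mem_univ _),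
      ← Finset.mul_sum]
  -- integrality of `r`
  have hrint : ∀ n : N, IsIntegral ℤ (r n) := by
    intro n
    apply IsIntegral.sum
    intro φ _
    apply IsIntegral.mul
    · exact isIntegral_algebraMap (R := ℤ) (A := ℂ) (x := (k φ : ℤ)) |> fun h => by
        simpa using h
    · exact Cfsg.Agent.Lib.Helper3.IsCharacter.isIntegral
        (Cfsg.Agent.Lib.Helper79.isCharacter_of_isIrrCharacter φ.2) n
  -- invariance of `r`
  have hrinv : ∀ (g : G) (n : N), r ⟨g * n * g⁻¹, hN.conj_mem n n.2 g⟩ = r n := by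
    intro g n
    have h1 := hexp ⟨g * n * g⁻¹, hN.conj_mem n n.2 g⟩
    have h2 := hexp n
    rw [hϑinv g n, hφinv g n, h2] at h1
    have h3 : (p : ℂ) * r n = (p : ℂ) * r ⟨g * n * g⁻¹, hN.conj_mem n n.2 g⟩ := by
      linear_combination h1
    exact (mul_left_cancel₀ hpC h3).symm
  set z : G → ℂ := extendByZero N (fun n => a * conj (ϑ n)) with hz
  set E : G → ℂ := extendByZero N (blockCoeff ({φs} : Set (IrrCharacter N))) with hEdef
  set w : G → ℂ := extendByZero N (fun n => a * conj (r n)) with hw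
  set c : ℂ := a * (ms : ℂ) * (Nat.card N : ℂ) / (φs : N → ℂ) 1 with hc
  have hdecomp : ∀ g : G, z g = c * E g + (p : ℂ) * w g := by
    intro g
    by_cases hg : g ∈ N
    · rw [hz, hEdef, hw, pt_extend_mem N _ hg, pt_extend_mem N _ hg, pt_extend_mem N _ hg,
        pt_blockCoeff_singleton, hexp ⟨g, hg⟩, hc]
      simp only [map_add, map_mul, map_natCast]
      field_simp
    · rw [hz, hEdef, hw, pt_extend_not_mem N _ hg, pt_extend_not_mem N _ hg,
        pt_extend_not_mem N _ hg]
      ring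
  have hwZS : IsClassFunction G w ∧ ∀ g, MemLocalRing M (w g) := by
    constructor
    · apply pt_extend_isClassFunction N
      intro g n
      show a * conj (r ⟨g * n * g⁻¹, hN.conj_mem n n.2 g⟩) = a * conj (r n)
      rw [hrinv g n]
    · intro g
      by_cases hg : g ∈ N
      · rw [hw, pt_extend_mem N _ hg]
        apply memLocalRing_mul hM ha
        exact memLocalRing_algInt hM ⟨_, pt_isIntegral_conj (hrint ⟨g, hg⟩)⟩
      · rw [hw, pt_extend_not_mem N _ hg]
        exact memLocalRing_zero hM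
  have homega : omega (ξ : G → ℂ) z =
      c * omega (ξ : G → ℂ) E + (p : ℂ) * omega (ξ : G → ℂ) w := by
    unfold omega
    have : ∀ g, z g * (ξ : G → ℂ) g =
        c * (E g * (ξ : G → ℂ) g) + (p : ℂ) * (w g * (ξ : G → ℂ) g) := by
      intro g
      rw [hdecomp g]
      ring
    simp_rw [this]
    rw [Finset.sum_add_distrib, ← Finset.mul_sum, ← Finset.mul_sum, add_div, mul_div_assoc,
      mul_div_assoc]
  rw [homega, hE]
  have h4 : c * (if Over N {φs} ξ then (1 : ℂ) else 0) + (p : ℂ) * omega (ξ : G → ℂ) w -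
      c * (if Over N {φs} ξ then 1 else 0) = (p : ℂ) * omega (ξ : G → ℂ) w := by ring
  rw [h4]
  apply memLocalIdeal_mul_right hM
  · exact (memLocalIdeal_natCast_iff hpM p).mpr dvd_rfl
  · exact memLocalRing_omega hM ξ.2 hwZS.1 hwZS.2

end Cfsg.Agent.Lib.Helper74
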