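import Cfsg.Agent.Lib.Helper22.CharP2
import Cfsg.Agent.Lib.Helper22.PConstrained
import Cfsg.Agent.Lib.Helper19.Bar
import Cfsg.Agent.Lib.Helper52.FoB

/-!
# `p`-constraint passes to centralizers of `p`-subgroups (data for Fong's theorem there)
-/

set_option autoImplicit false

universe u

namespace Cfsg.Agent.Lib.Helper74

open Cfsg
open scoped Pointwise

/-- Centralizers of supplements of the kernel in the preimage of `O_p`. -/
theorem pt_centralizer_le_comap {H Y : Type*} [Group H] [Group Y] (p : ℕ) (π : H →* Y)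
    (hπ : Function.Surjective π)
    (hY : Subgroup.centralizer (pCore p Y : Set Y) ≤ pCore p Y)
    (D : Subgroup H) (hD : D ⊔ π.ker = (pCore p Y).comap π) :
    Subgroup.centralizer (D : Set H) ≤ (pCore p Y).comap π := by
  intro x hx
  rw [Subgroup.mem_comap]
  apply hY
  rw [Subgroup.mem_centralizer_iff]
  intro ybar hybar
  obtain ⟨y, rfl⟩ := hπ ybar
  have hy : y ∈ (pCore p Y).comap π := hybar
  rw [← hD] at hy
  have hy' : y ∈ ((D : Set H) * (π.ker : Set H)) := by
    rw [← Subgroup.mul_normal]
    exact hy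
  obtain ⟨d, hd, n, hn, rfl⟩ := hy'
  have hn1 : π n = 1 := hn
  have hdx : d * x = x * d := hx d hd
  rw [map_mul, hn1, mul_one, ← map_mul, ← map_mul, hdx]

theorem pt_relIndex_ker_comap {H Y : Type*} [Group H] [Group Y] [Finite Y] (p : ℕ)
    [Fact p.Prime] (π : H →* Y) (hπ : Function.Surjective π) :
    ∃ k : ℕ, π.ker.relIndex ((pCore p Y).comap π) = p ^ k := by
  have h2 := Subgroup.relIndex_ker ((pCore p Y).comap π) π
  rw [h2, Subgroup.map_comap_eq_self_of_surjective hπ]
  exact (Cfsg.Agent.Lib.Helper22.pCore_isPGroup' p Y).exists_card_eq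

/-- One Sylow `p`-subgroup of `O_{p',p}(G)` with centralizer inside `O_{p',p}(G)` makes `G`
`p`-constrained. -/
theorem pt_isPConstrained {G : Type*} [Group G] [Finite G] (p : ℕ) [Fact p.Prime]
    (Q : Subgroup G) (hQL : Q ≤ pPrimePCore p G) (hQp : IsPGroup p Q)
    (hQS : ¬ p ∣ Q.relIndex (pPrimePCore p G))
    (hCQ : Subgroup.centralizer (Q : Set G) ≤ pPrimePCore p G) : IsPConstrained p G := by
  intro P
  have hQ' : IsPGroup p (Q.subgroupOf (pPrimePCore p G)) :=
    hQp.comap_of_injective _ (Subgroup.subtype_injective _)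
  let S : Sylow p (pPrimePCore p G) := hQ'.toSylow hQS
  obtain ⟨g, hg⟩ := MulAction.exists_smul_eq (pPrimePCore p G) P S
  intro x hx
  rw [Subgroup.mem_centralizer_iff] at hx
  have hmem : (g : G) * x * (g : G)⁻¹ ∈ Subgroup.centralizer (Q : Set G) := by
    rw [Subgroup.mem_centralizer_iff]
    intro q hq
    have hqS : (⟨q, hQL hq⟩ : pPrimePCore p G) ∈ (S : Subgroup (pPrimePCore p G)) := hq
    rw [← hg, Sylow.coe_subgroup_smul, Subgroup.mem_smul_pointwise_iff_exists] at hqS
    obtain ⟨y, hy, hyq⟩ := hqS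
    have hyq' : (g : G) * (y : G) * (g : G)⁻¹ = q := by
      have := congrArg Subtype.val hyq
      simpa [MulAut.smul_def, MulAut.conj_apply] using this
    have hyx : (y : G) * x = x * (y : G) :=
      hx (y : G) ⟨y, hy, rfl⟩
    rw [← hyq']
    calc (g : G) * (y : G) * (g : G)⁻¹ * ((g : G) * x * (g : G)⁻¹)
        = (g : G) * ((y : G) * x) * (g : G)⁻¹ := by group
      _ = (g : G) * (x * (y : G)) * (g : G)⁻¹ := by rw [hyx]
      _ = (g : G) * x * (g : G)⁻¹ * ((g : G) * (y : G) * (g : G)⁻¹) := by group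
  have h2 := hCQ hmem
  have h3 : x = (g : G)⁻¹ * ((g : G) * x * (g : G)⁻¹) * (g : G) := by group
  rw [h3]
  exact Subgroup.mul_mem _ (Subgroup.mul_mem _ (Subgroup.inv_mem _ g.2) h2) g.2

/-- If `C_X(O_p(X)) ≤ O_p(X)` then the same holds in the centralizer of every `p`-subgroup. -/
theorem pt_centralizer_pCore_le_of_centralizer {X : Type u} [Group X] [Finite X] (p : ℕ)
    [Fact p.Prime] (h : Subgroup.centralizer (pCore p X : Set X) ≤ pCore p X) (U : Subgroup X)
    (hU : IsPGroup p U) (S : Subgroup X) (hS : S = Subgroup.centralizer (U : Set X)) :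
    Subgroup.centralizer (pCore p ↥S : Set ↥S) ≤ pCore p ↥S := by
  subst hS
  have h2 := (Cfsg.Agent.Lib.Helper22.generalizedFitting_eq_pCore_iff p).mpr h
  have h3 := (Cfsg.Agent.Lib.Helper22.isPGroup_generalizedFitting_iff p).mpr h2
  have h4 := Cfsg.Agent.Lib.Helper22.isPGroup_generalizedFitting_centralizer p h3 U hU
  have h5 := (Cfsg.Agent.Lib.Helper22.isPGroup_generalizedFitting_iff p).mp h4
  exact (Cfsg.Agent.Lib.Helper22.generalizedFitting_eq_pCore_iff p).mp h5

/-- **Local data.**  In a `p`-constrained group `G`, for a `p`-subgroup `R` with `C = C_G(R)`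
and `N = O_{p'}(G) ∩ C`, there is a normal subgroup `K' ≥ N` of `C` with `K'/N` a `p`-group
such that every supplement of `N` in `K'` has its centralizer (in `C`) inside `K'`. -/
theorem pt_local_data {G : Type u} [Group G] [Finite G] (p : ℕ) [Fact p.Prime]
    (hcon : IsPConstrained p G) (R : Subgroup G) (hR : IsPGroup p R) :
    ∃ K' : Subgroup ↥(Subgroup.centralizer (R : Set G)), K'.Normal ∧
      (pPrimeCore p G).subgroupOf (Subgroup.centralizer (R : Set G)) ≤ K' ∧
      (∃ k : ℕ, ((pPrimeCore p G).subgroupOf (Subgroup.centralizer (R : Set G))).relIndex K'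
        = p ^ k) ∧
      ∀ D : Subgroup ↥(Subgroup.centralizer (R : Set G)),
        D ⊔ (pPrimeCore p G).subgroupOf (Subgroup.centralizer (R : Set G)) = K' →
        Subgroup.centralizer (D : Set ↥(Subgroup.centralizer (R : Set G))) ≤ K' := by
  set K := pPrimeCore p G with hKdef
  set C := Subgroup.centralizer (R : Set G) with hCdef
  have hX := (Cfsg.Agent.Lib.Helper22.isPConstrained_iff_centralizer_le p).mp hcon
  have hcop : (Nat.card K).Coprime p := Cfsg.Agent.Lib.Helper30.pPrimeCore_card_coprime p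
  have hmap := Cfsg.Agent.Lib.Helper19.map_centralizer_of_coprime K hcop R hR
  have hU : IsPGroup p (R.map (QuotientGroup.mk' K)) := hR.map _
  have hY := pt_centralizer_pCore_le_of_centralizer p hX (R.map (QuotientGroup.mk' K)) hU
    (C.map (QuotientGroup.mk' K)) hmap
  let π : ↥C →* ↥(C.map (QuotientGroup.mk' K)) := (QuotientGroup.mk' K).subgroupMap C
  have hπ : Function.Surjective π := MonoidHom.subgroupMap_surjective _ _
  have hker : π.ker = K.subgroupOf C := by
    ext x
    rw [MonoidHom.mem_ker, Subgroup.mem_subgroupOf]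
    constructor
    · intro h
      have h1 : (QuotientGroup.mk' K) (x : G) = 1 := by
        have := congrArg Subtype.val h
        simpa [π] using this
      exact (QuotientGroup.eq_one_iff _).mp h1
    · intro h
      apply Subtype.ext
      have h1 : (QuotientGroup.mk' K) (x : G) = 1 := (QuotientGroup.eq_one_iff _).mpr h
      simpa [π] using h1
  refine ⟨(pCore p ↥(C.map (QuotientGroup.mk' K))).comap π, ?_, ?_, ?_, ?_⟩
  · exact Subgroup.Normal.comap (Cfsg.pCore_normal p _) _
  · rw [← hker]
    intro x hx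
    rw [Subgroup.mem_comap, MonoidHom.mem_ker.mp hx]
    exact Subgroup.one_mem _
  · rw [← hker]
    exact pt_relIndex_ker_comap p π hπ
  · intro D hD
    rw [← hker] at hD
    exact pt_centralizer_le_comap p π hπ hY D hD

/-- The same for the whole group. -/
theorem pt_global_data {G : Type u} [Group G] [Finite G] (p : ℕ) [Fact p.Prime]
    (hcon : IsPConstrained p G) (D : Subgroup G)
    (hD : D ⊔ pPrimeCore p G = pPrimePCore p G) :
    Subgroup.centralizer (D : Set G) ≤ pPrimePCore p G := by
  have hX := (Cfsg.Agent.Lib.Helper22.isPConstrained_iff_centralizer_le p).mp hcon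
  have hπ : Function.Surjective (QuotientGroup.mk' (pPrimeCore p G)) :=
    QuotientGroup.mk'_surjective _
  have hD' : D ⊔ (QuotientGroup.mk' (pPrimeCore p G)).ker =
      (pCore p (G ⧸ pPrimeCore p G)).comap (QuotientGroup.mk' (pPrimeCore p G)) := by
    rw [QuotientGroup.ker_mk']
    exact hD
  exact pt_centralizer_le_comap p (QuotientGroup.mk' (pPrimeCore p G)) hπ hX D hD'

end Cfsg.Agent.Lib.Helper74
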