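import Cfsg.Agent.Lib.Helper74.PT1
import Cfsg.Agent.S4444

/-!
# The Glauberman correspondent of an invariant character, inside the centralizer of a `p`-subgroup
-/

set_option autoImplicit false
set_option linter.unusedSectionVars false

universe u

namespace Cfsg.Agent.Lib.Helper74

open Cfsg
open Cfsg.Agent.Lib.Helper77 Cfsg.Agent.Lib.Helper80 Cfsg.Agent.Lib.Helper81
open Cfsg.Agent.Lib.Helper16 Cfsg.Agent.Lib.Helper1
open scoped ComplexConjugate

/-- `K ∩ C` seen inside `C`, and as a subgroup of the ambient group. -/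
def ptEquiv {G : Type u} [Group G] (K C : Subgroup G) : ↥(K.subgroupOf C) ≃* ↥(K ⊓ C) where
  toFun x := ⟨((x : C) : G), ⟨Subgroup.mem_subgroupOf.mp x.2, x.1.2⟩⟩
  invFun y := ⟨⟨(y : G), y.2.2⟩, Subgroup.mem_subgroupOf.mpr y.2.1⟩
  left_inv _ := rfl
  right_inv _ := rfl
  map_mul' _ _ := rfl

theorem ptEquiv_coe {G : Type u} [Group G] (K C : Subgroup G) (x : ↥(K.subgroupOf C)) :
    ((ptEquiv K C x : ↥(K ⊓ C)) : G) = ((x : C) : G) := rfl

variable {G : Type u} [Group G] [Fintype G]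

/-- **Glauberman data.**  For a normal `p'`-subgroup `K`, a `p`-subgroup `R` with `C = C_G(R)`
and a `G`-invariant `θ ∈ Irr(K)`: the restriction of `θ` to `K ∩ C` has exactly one irreducible
constituent of multiplicity prime to `p`. -/
theorem pt_glauberman_data {p : ℕ} [Fact p.Prime] (K : Subgroup G) [hKn : K.Normal] [Fintype K]
    (hcop : (Nat.card K).Coprime p) (R : Subgroup G) (hR : IsPGroup p R)
    (C : Subgroup G) (hC : C = Subgroup.centralizer (R : Set G))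
    [Fintype ↥(K.subgroupOf C)]
    (θ : IrrCharacter K)
    (hθ : ∀ g : G, IsConjCharOf K g (θ : K → ℂ) (θ : K → ℂ)) :
    ∃ (θs : IrrCharacter ↥(K.subgroupOf C)) (m : ℕ), ¬ p ∣ m ∧
      classInner (fun n : ↥(K.subgroupOf C) =>
        (θ : K → ℂ) ⟨((n : C) : G), Subgroup.mem_subgroupOf.mp n.2⟩) (θs : _ → ℂ) = (m : ℂ) ∧
      ∀ φ : IrrCharacter ↥(K.subgroupOf C), φ ≠ θs →
        ∃ k : ℕ, classInner (fun n : ↥(K.subgroupOf C) =>
          (θ : K → ℂ) ⟨((n : C) : G), Subgroup.mem_subgroupOf.mp n.2⟩) (φ : _ → ℂ)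
            = ((p * k : ℕ) : ℂ) := by
  classical
  have hp : p.Prime := Fact.out
  have : Fintype ↥(K ⊓ C) := Fintype.ofFinite _
  have hKC : K ⊓ C ≤ K := inf_le_left
  have hcopS : (Nat.card K).Coprime (Nat.card R) := by
    obtain ⟨n, hn⟩ := IsPGroup.iff_card.mp hR
    rw [hn]
    exact Nat.Coprime.pow_right n hcop
  obtain ⟨h1, -, -, -⟩ := Cfsg.Agent.S4444.result K R (fun s _ g hg => hKn.conj_mem g hg s)
    hcopS p hp hR (K ⊓ C) (by rw [hC]) hKC
  have hinvR : ∀ s ∈ R, ∀ g g' : K, (g' : G) = s * g * s⁻¹ →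
      (θ : K → ℂ) g' = (θ : K → ℂ) g := fun s _ g g' h => hθ s g g' h
  obtain ⟨β, ⟨m, hm, hpm⟩, huniq⟩ := h1 θ hinvR
  set e := ptEquiv K C with he
  refine ⟨irrMap e β, m, hpm, ?_, ?_⟩
  · have h2 := Cfsg.Agent.Lib.Helper79.classInner_comp_mulEquiv e
      (fun c : ↥(K ⊓ C) => (θ : K → ℂ) ⟨c, hKC c.2⟩) (β : ↥(K ⊓ C) → ℂ)
    rw [← hm, ← h2]
    rfl
  · intro φ hφ
    set β' := irrMap e.symm φ with hβ'
    have hφe : φ = irrMap e β' := (irrMap_irrMap_symm e φ).symm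
    have hchar : IsCharacter ↥(K ⊓ C) (fun c : ↥(K ⊓ C) => (θ : K → ℂ) ⟨c, hKC c.2⟩) :=
      Cfsg.Agent.Lib.Helper79.isCharacter_comp
        (Cfsg.Agent.Lib.Helper79.isCharacter_of_isIrrCharacter θ.2)
        (Subgroup.inclusion hKC)
    obtain ⟨m', hm'⟩ := Cfsg.Agent.Lib.Helper15.exists_nat_classInner hchar
      (Cfsg.Agent.Lib.Helper79.isCharacter_of_isIrrCharacter β'.2)
    have hdvd : p ∣ m' := by
      by_contra hnd
      have h3 : β' = β := huniq β' ⟨m', hm', hnd⟩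
      apply hφ
      rw [hφe, h3]
    obtain ⟨k, rfl⟩ := hdvd
    refine ⟨k, ?_⟩
    have h2 := Cfsg.Agent.Lib.Helper79.classInner_comp_mulEquiv e
      (fun c : ↥(K ⊓ C) => (θ : K → ℂ) ⟨c, hKC c.2⟩) (β' : ↥(K ⊓ C) → ℂ)
    rw [← hm', ← h2, hφe]
    rfl

/-- A character singled out by multiplicities of an invariant class function is invariant. -/
theorem pt_invariant_of_unique {H : Type u} [Group H] [Fintype H] {p : ℕ} (N : Subgroup H)
    [hN : N.Normal] [Fintype N] (ϑ : N → ℂ)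
    (hϑinv : ∀ (g : H) (n : N), ϑ ⟨g * n * g⁻¹, hN.conj_mem n n.2 g⟩ = ϑ n)
    (φs : IrrCharacter N) (ms : ℕ) (hpm : ¬ p ∣ ms) (hms : classInner ϑ (φs : N → ℂ) = (ms : ℂ))
    (hmult : ∀ φ : IrrCharacter N, φ ≠ φs →
      ∃ k : ℕ, classInner ϑ (φ : N → ℂ) = ((p * k : ℕ) : ℂ)) :
    ∀ (g : H) (n : N),
      (φs : N → ℂ) ⟨g * n * g⁻¹, hN.conj_mem n n.2 g⟩ = (φs : N → ℂ) n := by
  intro g n
  set φ' := irrMap (MulAut.conjNormal g : N ≃* N) φs with hφ'
  have hconj : ∀ a : N, (MulAut.conjNormal g : N ≃* N) a = ⟨g * a * g⁻¹, hN.conj_mem a a.2 g⟩ := by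
    intro a
    apply Subtype.ext
    rw [MulAut.conjNormal_apply]
  have h1 : classInner ϑ (φ' : N → ℂ) = (ms : ℂ) := by
    have h2 := Cfsg.Agent.Lib.Helper79.classInner_comp_mulEquiv (MulAut.conjNormal g : N ≃* N)
      ϑ (φs : N → ℂ)
    have hϑ' : (fun a : N => ϑ ((MulAut.conjNormal g : N ≃* N) a)) = ϑ := by
      funext a
      rw [hconj a]
      exact hϑinv g a
    rw [hϑ'] at h2
    rw [← hms, ← h2]
    rfl
  have h3 : φ' = φs := by
    by_contra hne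
    obtain ⟨k, hk⟩ := hmult φ' hne
    rw [h1] at hk
    have h4 : ms = p * k := by exact_mod_cast hk
    exact hpm ⟨k, h4⟩
  have h5 : (φ' : N → ℂ) n = (φs : N → ℂ) n := by rw [h3]
  rw [hφ', irrMap_apply, hconj n] at h5
  exact h5

end Cfsg.Agent.Lib.Helper74
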