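import Cfsg.Agent.Lib.Helper74.PT2
import Cfsg.Agent.Lib.Helper74.PT3
import Cfsg.Agent.Lib.Helper77.BPairG
import Cfsg.Agent.Lib.Helper77.ExtFirstMain

/-!
# Blocks of principal type over an invariant character of `O_{p'}(G)` in a `p`-constrained group
-/

set_option autoImplicit false
set_option linter.unusedSectionVars false
set_option maxHeartbeats 1000000

universe u

namespace Cfsg.Agent.Lib.Helper74

open Cfsg
open Cfsg.Agent.Lib.Helper77 Cfsg.Agent.Lib.Helper80 Cfsg.Agent.Lib.Helper81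
open Cfsg.Agent.Lib.Helper16 Cfsg.Agent.Lib.Helper1
open scoped ComplexConjugate

variable {G : Type u} [Group G] [Fintype G] {p : ℕ} [Fact p.Prime] {M : Ideal AlgInt}

/-- Converse of Lemma IB: a block of `C_G(R)` inducing `B` gives a Brauer pair of `B`. -/
theorem pt_isBrauerPairOf_of_isInducedBlock (hpM : IsPModular p M) {B : Set (IrrCharacter G)}
    {R : Subgroup G} (hR : IsPGroup p R)
    {f : Set (IrrCharacter (Subgroup.centralizer (R : Set G)))}
    (h : IsInducedBlock M (Subgroup.centralizer (R : Set G)) f B) :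
    IsBrauerPairOf p M B R f := by
  have hM : M.IsPrime := isPrime_of_isPModular hpM
  have hpair : IsBrauerPair p M R f := ⟨hR, h.1⟩
  obtain ⟨B', hB', -⟩ := existsUnique_isBrauerPairOf hpM hpair
  have h2 := isInducedBlock_of_isBrauerPairOf hpM hB'
  have h3 : B = B' := isInducedBlock_unique hM h h2
  subst h3
  exact hB'

/-- Parts (1) and (2): Fong's theorem in a `p`-constrained group. -/
theorem pt_global (hpM : IsPModular p M) [Fintype (pPrimeCore p G)]
    (hcon : IsPConstrained p G) (θ : IrrCharacter (pPrimeCore p G))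
    (hθ : ∀ g : G, IsConjCharOf (pPrimeCore p G) g (θ : pPrimeCore p G → ℂ)
      (θ : pPrimeCore p G → ℂ))
    (B : Set (IrrCharacter G))
    (hBdef : ∀ χ : IrrCharacter G, χ ∈ B ↔
      classInner (fun k : pPrimeCore p G => (χ : G → ℂ) k) (θ : pPrimeCore p G → ℂ) ≠ 0) :
    IsPBlock M B ∧ ∀ S : Sylow p G, IsDefectGroup p M B S := by
  have : (pPrimePCore p G).Normal := Cfsg.Agent.Lib.Helper52.FoB.pPrimePCore_normal p
  have : Fintype (pPrimePCore p G) := Fintype.ofFinite _
  obtain ⟨B', hB', hiff, hsyl, -⟩ := Cfsg.Agent.Lib.Helper52.FoD.fong_abstract (pPrimeCore p G)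
    (pPrimePCore p G) hpM (Cfsg.Agent.Lib.Helper52.FoB.pPrimeCore_le_pPrimePCore p)
    (Cfsg.Agent.Lib.Helper52.FoB.relIndex_pPrimeCore_pPrimePCore p)
    (Cfsg.Agent.Lib.Helper30.pPrimeCore_card_coprime p)
    (fun D hD => pt_global_data p hcon D hD) θ
    (fun g n => hθ g n ⟨g * n * g⁻¹, (pPrimeCore_normal p G).conj_mem n n.2 g⟩ rfl)
  have hBB : B = B' := by
    ext χ
    rw [hBdef, hiff]
  subst hBB
  exact ⟨hB', hsyl⟩

/-- Part (3), in the language of Brauer pairs. -/
theorem pt_local (hpM : IsPModular p M) [Fintype (pPrimeCore p G)]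
    (hcon : IsPConstrained p G) (θ : IrrCharacter (pPrimeCore p G))
    (hθ : ∀ g : G, IsConjCharOf (pPrimeCore p G) g (θ : pPrimeCore p G → ℂ)
      (θ : pPrimeCore p G → ℂ))
    (B : Set (IrrCharacter G))
    (hBdef : ∀ χ : IrrCharacter G, χ ∈ B ↔
      classInner (fun k : pPrimeCore p G => (χ : G → ℂ) k) (θ : pPrimeCore p G → ℂ) ≠ 0)
    (hB : IsPBlock M B) (R : Subgroup G) (hR : IsPGroup p R) :
    ∃! f : Set (IrrCharacter (Subgroup.centralizer (R : Set G))), IsBrauerPairOf p M B R f := by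
  classical
  have hM : M.IsPrime := isPrime_of_isPModular hpM
  have hp : p.Prime := Fact.out
  have hcop : (Nat.card (pPrimeCore p G)).Coprime p :=
    Cfsg.Agent.Lib.Helper30.pPrimeCore_card_coprime p
  have hndK : ¬ p ∣ Nat.card (pPrimeCore p G) :=
    fun h => hp.one_lt.ne' (Nat.Coprime.eq_one_of_dvd hcop.symm h)
  have : Fintype ↥(Subgroup.centralizer (R : Set G)) := Fintype.ofFinite _
  have : Fintype ↥((pPrimeCore p G).subgroupOf (Subgroup.centralizer (R : Set G))) :=
    Fintype.ofFinite _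
  have hNn : ((pPrimeCore p G).subgroupOf (Subgroup.centralizer (R : Set G))).Normal :=
    inferInstance
  -- Glauberman data
  obtain ⟨θs, m, hpm, hms, hmult⟩ := pt_glauberman_data (pPrimeCore p G) hcop R hR
    (Subgroup.centralizer (R : Set G)) rfl θ hθ
  -- invariance
  have hϑinv : ∀ (g : Subgroup.centralizer (R : Set G))
      (n : ↥((pPrimeCore p G).subgroupOf (Subgroup.centralizer (R : Set G)))),
      (fun n : ↥((pPrimeCore p G).subgroupOf (Subgroup.centralizer (R : Set G))) =>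
        (θ : pPrimeCore p G → ℂ) ⟨((n : Subgroup.centralizer (R : Set G)) : G),
          Subgroup.mem_subgroupOf.mp n.2⟩) ⟨g * n * g⁻¹, hNn.conj_mem n n.2 g⟩ =
      (fun n : ↥((pPrimeCore p G).subgroupOf (Subgroup.centralizer (R : Set G))) =>
        (θ : pPrimeCore p G → ℂ) ⟨((n : Subgroup.centralizer (R : Set G)) : G),
          Subgroup.mem_subgroupOf.mp n.2⟩) n := by
    intro g n
    exact hθ (g : G) ⟨((n : Subgroup.centralizer (R : Set G)) : G),
      Subgroup.mem_subgroupOf.mp n.2⟩ _ rfl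
  have hϑcf : IsClassFunction ↥((pPrimeCore p G).subgroupOf (Subgroup.centralizer (R : Set G)))
      (fun n : ↥((pPrimeCore p G).subgroupOf (Subgroup.centralizer (R : Set G))) =>
        (θ : pPrimeCore p G → ℂ) ⟨((n : Subgroup.centralizer (R : Set G)) : G),
          Subgroup.mem_subgroupOf.mp n.2⟩) := by
    intro n h
    exact hθ ((h : Subgroup.centralizer (R : Set G)) : G)
      ⟨((n : Subgroup.centralizer (R : Set G)) : G), Subgroup.mem_subgroupOf.mp n.2⟩ _ rfl
  have hφinv := pt_invariant_of_unique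
    ((pPrimeCore p G).subgroupOf (Subgroup.centralizer (R : Set G))) _ hϑinv θs m hpm hms hmult
  -- local data and Fong's theorem in the centralizer
  obtain ⟨K', hK'n, hNK', hidx, hHH⟩ := pt_local_data p hcon R hR
  have := hK'n
  have : Fintype ↥K' := Fintype.ofFinite _
  have hcopN : (Nat.card ↥((pPrimeCore p G).subgroupOf
      (Subgroup.centralizer (R : Set G)))).Coprime p := by
    have hdvd : Nat.card ↥((pPrimeCore p G).subgroupOf (Subgroup.centralizer (R : Set G))) ∣
        Nat.card (pPrimeCore p G) := by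
      apply Subgroup.card_dvd_of_injective
        ((Subgroup.inclusion (inf_le_left : pPrimeCore p G ⊓ Subgroup.centralizer (R : Set G) ≤
          pPrimeCore p G)).comp
          (ptEquiv (pPrimeCore p G) (Subgroup.centralizer (R : Set G))).toMonoidHom)
      intro x y hxy
      have h1 := congrArg (fun z : ↥(pPrimeCore p G) => (z : G)) hxy
      exact Subtype.ext (Subtype.ext h1)
    exact Nat.Coprime.coprime_dvd_left hdvd hcop
  have hndN : ¬ p ∣ Nat.card ↥((pPrimeCore p G).subgroupOf (Subgroup.centralizer (R : Set G))) :=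
    fun h => hp.one_lt.ne' (Nat.Coprime.eq_one_of_dvd hcopN.symm h)
  obtain ⟨F, hF, hFiff, -, -⟩ := Cfsg.Agent.Lib.Helper52.FoD.fong_abstract
    ((pPrimeCore p G).subgroupOf (Subgroup.centralizer (R : Set G))) K' hpM hNK' hidx hcopN hHH
    θs hφinv
  -- the constants
  obtain ⟨d, hd0, hd1, -, hddvd⟩ := irr_degree_spec θ
  obtain ⟨ds, hds0, hds1, -, hdsdvd⟩ := irr_degree_spec θs
  have hndd : ¬ p ∣ d := fun h => hndK (h.trans hddvd)
  have ha : MemLocalRing M ((Nat.card (pPrimeCore p G) : ℂ)⁻¹ * (θ : pPrimeCore p G → ℂ) 1) := by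
    apply memLocalRing_mul hM (memLocalRing_inv_natCast hpM hndK)
    rw [hd1]
    exact memLocalRing_natCast hM d
  have hcong := pt_omega_cong hpM
    ((pPrimeCore p G).subgroupOf (Subgroup.centralizer (R : Set G))) _ hϑcf hϑinv θs hφinv m hms
    hmult _ ha
  -- the Brauer-map central character of `e_B`
  have hGInv : GInv (pPrimeCore p G) ({θ} : Set (IrrCharacter (pPrimeCore p G))) :=
    pt_ginv_singleton (pPrimeCore p G) θ
      (fun g n => hθ g n ⟨g * n * g⁻¹, (pPrimeCore_normal p G).conj_mem n n.2 g⟩ rfl)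
  have hBeq : blockCoeff B = extendByZero (pPrimeCore p G)
      (blockCoeff ({θ} : Set (IrrCharacter (pPrimeCore p G)))) := by
    rw [extend_blockCoeff_eq (pPrimeCore p G) hGInv]
    congr 1
    ext χ
    rw [hBdef]
    constructor
    · intro h
      exact ⟨θ, rfl, h⟩
    · rintro ⟨θ', hθ', hne⟩
      rw [Set.mem_singleton_iff] at hθ'
      subst hθ'
      exact hne
  have hbr : ∀ ξ : IrrCharacter (Subgroup.centralizer (R : Set G)),
      brauerOmega R (blockCoeff B) (ξ : Subgroup.centralizer (R : Set G) → ℂ) =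
      omega (ξ : Subgroup.centralizer (R : Set G) → ℂ)
        (extendByZero ((pPrimeCore p G).subgroupOf (Subgroup.centralizer (R : Set G)))
          (fun n => ((Nat.card (pPrimeCore p G) : ℂ)⁻¹ * (θ : pPrimeCore p G → ℂ) 1) *
            conj ((θ : pPrimeCore p G → ℂ) ⟨((n : Subgroup.centralizer (R : Set G)) : G),
              Subgroup.mem_subgroupOf.mp n.2⟩))) := by
    intro ξ
    rw [brauerOmega_eq_omega]
    congr 1
    funext x
    rw [brRes_pos _ x.2, hBeq]
    by_cases hx : (x : G) ∈ pPrimeCore p G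
    · have hxN : x ∈ (pPrimeCore p G).subgroupOf (Subgroup.centralizer (R : Set G)) :=
        Subgroup.mem_subgroupOf.mpr hx
      rw [pt_extend_mem (pPrimeCore p G) _ hx, pt_extend_mem _ _ hxN, pt_blockCoeff_singleton]
      ring
    · have hxN : x ∉ (pPrimeCore p G).subgroupOf (Subgroup.centralizer (R : Set G)) :=
        fun h => hx (Subgroup.mem_subgroupOf.mp h)
      rw [pt_extend_not_mem (pPrimeCore p G) _ hx, pt_extend_not_mem _ _ hxN]
  have hOver : ∀ ξ : IrrCharacter (Subgroup.centralizer (R : Set G)),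
      Over ((pPrimeCore p G).subgroupOf (Subgroup.centralizer (R : Set G))) {θs} ξ ↔ ξ ∈ F := by
    intro ξ
    rw [hFiff]
    constructor
    · rintro ⟨θ', hθ', hne⟩
      rw [Set.mem_singleton_iff] at hθ'
      subst hθ'
      exact hne
    · intro h
      exact ⟨θs, rfl, h⟩
  have hcunit : ¬ MemLocalIdeal M
      (((Nat.card (pPrimeCore p G) : ℂ)⁻¹ * (θ : pPrimeCore p G → ℂ) 1) * (m : ℂ) *
        (Nat.card ↥((pPrimeCore p G).subgroupOf (Subgroup.centralizer (R : Set G))) : ℂ) /
        (θs : ↥((pPrimeCore p G).subgroupOf (Subgroup.centralizer (R : Set G))) → ℂ) 1) := by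
    intro hc
    have h1 := memLocalIdeal_mul_right hM hc
      (memLocalRing_mul hM (memLocalRing_natCast hM ds)
        (memLocalRing_natCast hM (Nat.card (pPrimeCore p G))))
    have hKne : (Nat.card (pPrimeCore p G) : ℂ) ≠ 0 := by
      have : Nat.card (pPrimeCore p G) ≠ 0 := Nat.card_pos.ne'
      exact_mod_cast this
    have hdsne : (ds : ℂ) ≠ 0 := by
      have : ds ≠ 0 := hds0.ne'
      exact_mod_cast this
    have h2 : ((Nat.card (pPrimeCore p G) : ℂ)⁻¹ * (θ : pPrimeCore p G → ℂ) 1) * (m : ℂ) *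
        (Nat.card ↥((pPrimeCore p G).subgroupOf (Subgroup.centralizer (R : Set G))) : ℂ) /
        (θs : ↥((pPrimeCore p G).subgroupOf (Subgroup.centralizer (R : Set G))) → ℂ) 1 * ((ds : ℂ) * (Nat.card (pPrimeCore p G) : ℂ)) =
        ((d * m * Nat.card ↥((pPrimeCore p G).subgroupOf
          (Subgroup.centralizer (R : Set G))) : ℕ) : ℂ) := by
      rw [hds1, hd1]
      push_cast
      field_simp
    rw [h2, memLocalIdeal_natCast_iff hpM] at h1
    rcases (Nat.Prime.dvd_mul hp).mp h1 with h | h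
    · rcases (Nat.Prime.dvd_mul hp).mp h with h | h
      · exact hndd h
      · exact hpm h
    · exact hndN h
  -- existence
  have hexist : IsBrauerPairOf p M B R F := by
    obtain ⟨ξ₀, hξ₀⟩ := Cfsg.Agent.S0966.exists_over
      ((pPrimeCore p G).subgroupOf (Subgroup.centralizer (R : Set G))) θs
    have hξ₀F : ξ₀ ∈ F := (hFiff ξ₀).mpr hξ₀
    have hFeq : F = blockOf M (ξ₀ : Subgroup.centralizer (R : Set G) → ℂ) :=
      eq_blockOf_of_mem hM hF hξ₀F
    obtain ⟨χ, hχ⟩ := exists_irr_of_isBrauerPair hpM hR ξ₀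
    obtain ⟨χ₀, hBχ₀⟩ := hB
    have hZS : ZS M (blockCoeff B) := by
      rw [hBχ₀]
      exact ZS.blockCoeff hpM χ₀
    have h1 := hχ (blockCoeff B) hZS ξ₀ (self_mem_blockOf hM ξ₀)
    rw [omega_blockCoeff] at h1
    have h2 := hcong ξ₀
    rw [if_pos ((hOver ξ₀).mpr hξ₀F), mul_one, ← hbr ξ₀] at h2
    have hχB : χ ∈ B := by
      by_contra hn
      rw [if_neg hn, sub_zero] at h1
      have h3 := memLocalIdeal_sub hM h1 h2
      rw [sub_sub_cancel] at h3
      exact hcunit h3
    refine ⟨⟨hR, hF⟩, ⟨χ₀, hBχ₀⟩, ?_⟩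
    intro ξ hξ
    rw [hFeq] at hξ
    have h4 := hχ (blockCoeff B) hZS ξ hξ
    rw [omega_blockCoeff, if_pos hχB] at h4
    exact h4
  -- uniqueness
  refine ⟨F, hexist, ?_⟩
  rintro f ⟨⟨-, hfblock⟩, -, hfcong⟩
  obtain ⟨ξ₁, hξ₁⟩ := isPBlock_nonempty hM hfblock
  have h1 := hfcong ξ₁ hξ₁
  rw [hbr ξ₁] at h1
  have h2 := hcong ξ₁
  have hξF : ξ₁ ∈ F := by
    by_contra hnF
    have hnO : ¬ Over ((pPrimeCore p G).subgroupOf (Subgroup.centralizer (R : Set G))) {θs} ξ₁ :=
      fun h => hnF ((hOver ξ₁).mp h)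
    rw [if_neg hnO, mul_zero, sub_zero] at h2
    have h3 := memLocalIdeal_sub hM h2 h1
    rw [sub_sub_cancel] at h3
    exact not_memLocalIdeal_one hM h3
  rw [eq_blockOf_of_mem hM hfblock hξ₁, eq_blockOf_of_mem hM hF hξF]

/-- **Main theorem.** -/
theorem pt_main (p : ℕ) [Fact p.Prime] (M : Ideal AlgInt) (hM : IsPModular p M)
    (K : Subgroup G) (hK : K = pPrimeCore p G) [Fintype K] (L : Subgroup G)
    (hL : L = pPrimePCore p G) (Q : Subgroup G) (hQL : Q ≤ L) (hQp : IsPGroup p Q)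
    (hQS : ¬ p ∣ Q.relIndex L) (hCQ : Subgroup.centralizer (Q : Set G) ≤ L)
    (θ : IrrCharacter K) (hθ : ∀ g : G, IsConjCharOf K g (θ : K → ℂ) (θ : K → ℂ))
    (B : Set (IrrCharacter G))
    (hBdef : ∀ χ : IrrCharacter G, χ ∈ B ↔
      classInner (fun k : K => (χ : G → ℂ) k) (θ : K → ℂ) ≠ 0) :
    IsPBlock M B ∧ (∀ S : Sylow p G, IsDefectGroup p M B S) ∧
      ∀ R : Subgroup G, IsPGroup p R →
        ∃! f : Set (IrrCharacter (Subgroup.centralizer (R : Set G))),
          IsInducedBlock M (Subgroup.centralizer (R : Set G)) f B := by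
  subst hK hL
  have hcon := pt_isPConstrained p Q hQL hQp hQS hCQ
  obtain ⟨hB, hsyl⟩ := pt_global hM hcon θ hθ B hBdef
  refine ⟨hB, hsyl, fun R hR => ?_⟩
  obtain ⟨f, hf, huniq⟩ := pt_local hM hcon θ hθ B hBdef hB R hR
  exact ⟨f, isInducedBlock_of_isBrauerPairOf hM hf,
    fun f' hf' => huniq f' (pt_isBrauerPairOf_of_isInducedBlock hM hR hf')⟩

end Cfsg.Agent.Lib.Helper74
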