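import Mathlib
import Cfsg.Agent.Lib.Helper90.PsuDefs

set_option autoImplicit false

/-! # Psu hive (helper90, S2412), leaf PSU-BR (helper74): from two generators of a subgroup of `GL` containing all unitary
transvections to two generators of `PSU`. -/

namespace Cfsg.Agent.Lib.Helper90.Psu

open Matrix Cfsg.Agent.Lib.Helper99 Cfsg.Agent.Lib.Helper13

variable {F : Type*} [Field F] [Fintype F] {q n : ℕ}

local notation "hh" => Cfsg.hermForm n F q

omit [Fintype F] in
theorem br_mem_SU_iff (A : Matrix.SpecialLinearGroup (Fin n) F) :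
    A ∈ Cfsg.SU n F q ↔ ∀ u v : Fin n → F,
      Cfsg.hermForm n F q ((A : Matrix (Fin n) (Fin n) F) *ᵥ u)
        ((A : Matrix (Fin n) (Fin n) F) *ᵥ v) = Cfsg.hermForm n F q u v := Iff.rfl

/-- PSU-BR -/
theorem bridge {F : Type*} [Field F] [Fintype F] {q : ℕ} (hF : Fintype.card F = q ^ 2) (n : ℕ)
    (hn : 3 ≤ n) (h32 : ¬ (n = 3 ∧ q = 2))
    (h : ∃ x y : GL (Fin n) F, x ∈ suGL (F := F) n q ∧ y ∈ suGL (F := F) n q ∧
      utvGroup n q F ≤ Subgroup.closure ({x, y} : Set (GL (Fin n) F))) :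
    ∃ a b : Cfsg.PSU n F q, Subgroup.closure ({a, b} : Set (Cfsg.PSU n F q)) = ⊤ := by
  obtain ⟨x, y, hx, hy, hxy⟩ := h
  have hclaim := suGL_le_utvGroup hF n hn h32
  let ψ : ↥(Cfsg.SU n F q) →* GL (Fin n) F :=
    (Matrix.SpecialLinearGroup.toGL).comp (Cfsg.SU n F q).subtype
  have hψval : ∀ A : ↥(Cfsg.SU n F q), ((ψ A : GL (Fin n) F) : Matrix (Fin n) (Fin n) F)
      = ((A : Matrix.SpecialLinearGroup (Fin n) F) : Matrix (Fin n) (Fin n) F) := fun A => rfl
  have hψinj : Function.Injective ψ := by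
    intro A B hAB
    apply Subtype.ext
    apply Matrix.SpecialLinearGroup.toGL_injective
    exact hAB
  have hψmem : ∀ A : ↥(Cfsg.SU n F q), ψ A ∈ suGL (F := F) n q := by
    intro A
    have hGU : ψ A ∈ Cfsg.GU n F q := by
      rw [Cfsg.Agent.Lib.Helper13.mem_GU_iff]
      intro u v
      rw [hψval]
      exact (br_mem_SU_iff (A : Matrix.SpecialLinearGroup (Fin n) F)).1 A.2 u v
    have hSL : ψ A ∈ Cfsg.Geo.specialLinear (Fin n) F := by
      rw [mem_specialLinear_iff, hψval]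
      exact (A : Matrix.SpecialLinearGroup (Fin n) F).2
    exact ⟨hGU, hSL⟩
  have hψsurj : ∀ g : GL (Fin n) F, g ∈ suGL (F := F) n q → ∃ A : ↥(Cfsg.SU n F q), ψ A = g := by
    intro g hg
    have hdet : (g : Matrix (Fin n) (Fin n) F).det = 1 := (mem_specialLinear_iff _).1 hg.2
    let As : Matrix.SpecialLinearGroup (Fin n) F := ⟨(g : Matrix (Fin n) (Fin n) F), hdet⟩
    have hAs : As ∈ Cfsg.SU n F q := by
      rw [br_mem_SU_iff]
      exact (Cfsg.Agent.Lib.Helper13.mem_GU_iff n q _).1 hg.1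
    refine ⟨⟨As, hAs⟩, ?_⟩
    apply Units.ext
    rfl
  obtain ⟨xs, hxs⟩ := hψsurj x hx
  obtain ⟨ys, hys⟩ := hψsurj y hy
  have htop : Subgroup.closure ({xs, ys} : Set ↥(Cfsg.SU n F q)) = ⊤ := by
    rw [eq_top_iff]
    intro A _
    have h1 : ψ A ∈ Subgroup.closure ({x, y} : Set (GL (Fin n) F)) := hxy (hclaim (hψmem A))
    have h2 : Subgroup.closure ({x, y} : Set (GL (Fin n) F)) =
        (Subgroup.closure ({xs, ys} : Set ↥(Cfsg.SU n F q))).map ψ := by
      rw [MonoidHom.map_closure, Set.image_pair, hxs, hys]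
    rw [h2] at h1
    obtain ⟨B, hB, hBA⟩ := h1
    rw [← hψinj hBA]
    exact hB
  let π : ↥(Cfsg.SU n F q) →* Cfsg.PSU n F q := QuotientGroup.mk' (Subgroup.center (Cfsg.SU n F q))
  refine ⟨π xs, π ys, ?_⟩
  have h3 : Subgroup.closure ({π xs, π ys} : Set (Cfsg.PSU n F q)) =
      (Subgroup.closure ({xs, ys} : Set ↥(Cfsg.SU n F q))).map π := by
    rw [MonoidHom.map_closure, Set.image_pair]
  rw [h3, htop]
  exact Subgroup.map_top_of_surjective π (QuotientGroup.mk'_surjective _)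

end Cfsg.Agent.Lib.Helper90.Psu
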