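import Cfsg.Agent.Lib.Helper74.BrFeit3
import Cfsg.Agent.Lib.Helper74.BR2
import Cfsg.Agent.Lib.Helper77.DefectGroup

/-!
# Blocks of `p`-regular rank one (helper74)
-/

set_option autoImplicit false

namespace Cfsg.Agent.Lib.Helper74

open Cfsg Cfsg.Agent.Lib.Helper81 Cfsg.Agent.Lib.Helper16
open scoped ComplexConjugate

universe u

/-- Bezout for the gcd of a finite family of natural numbers. -/
theorem exists_int_comb_gcd {ι : Type*} [DecidableEq ι] (s : Finset ι) (f : ι → ℕ) :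
    ∃ n : ι → ℤ, ((s.gcd f : ℕ) : ℤ) = ∑ i ∈ s, n i * (f i : ℤ) := by
  induction s using Finset.induction_on with
  | empty => exact ⟨fun _ => 0, by simp⟩
  | insert a s ha ih =>
    obtain ⟨n, hn⟩ := ih
    refine ⟨fun i => if i = a then Nat.gcdA (f a) (s.gcd f)
      else Nat.gcdB (f a) (s.gcd f) * n i, ?_⟩
    rw [Finset.gcd_insert, Finset.sum_insert ha]
    beta_reduce
    rw [if_pos rfl]
    have h1 : ∑ i ∈ s, (if i = a then Nat.gcdA (f a) (s.gcd f)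
        else Nat.gcdB (f a) (s.gcd f) * n i) * (f i : ℤ) =
        Nat.gcdB (f a) (s.gcd f) * ∑ i ∈ s, n i * (f i : ℤ) := by
      rw [Finset.mul_sum]
      apply Finset.sum_congr rfl
      intro i hi
      rw [if_neg (ne_of_mem_of_not_mem hi ha)]
      ring
    rw [h1, ← hn]
    have := Nat.gcd_eq_gcd_ab (f a) (s.gcd f)
    rw [gcd_eq_nat_gcd, this]
    ring

variable {G : Type u} [Group G] [Fintype G]

/-- In a set of irreducible characters of `p`-regular rank one, any two members are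
proportional on the `p`-regular elements. -/
theorem prop_of_blockRank_one (p : ℕ) [Fact p.Prime] (B : Set (IrrCharacter G))
    (hl : blockRank p B = 1) (χ ψ : IrrCharacter G) (hχ : χ ∈ B) (hψ : ψ ∈ B) (x : G)
    (hx : ¬ p ∣ orderOf x) :
    (ψ : G → ℂ) 1 * (χ : G → ℂ) x = (χ : G → ℂ) 1 * (ψ : G → ℂ) x := by
  classical
  have hp : p.Prime := Fact.out
  unfold blockRank at hl
  set V := Submodule.span ℂ ((fun χ : IrrCharacter G => pRegularPart p (χ : G → ℂ)) '' B) with hV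
  let vχ : V := ⟨pRegularPart p (χ : G → ℂ), Submodule.subset_span ⟨χ, hχ, rfl⟩⟩
  let vψ : V := ⟨pRegularPart p (ψ : G → ℂ), Submodule.subset_span ⟨ψ, hψ, rfl⟩⟩
  have h1reg : ¬ p ∣ orderOf (1 : G) := by
    rw [orderOf_one]
    exact hp.not_dvd_one
  have hψ1 : (ψ : G → ℂ) 1 ≠ 0 := by
    rw [irr_apply_one_eq_charDegree]
    exact_mod_cast irr_charDegree_ne_zero ψ
  have hvψ : vψ ≠ 0 := by
    intro h
    have h2 : pRegularPart p (ψ : G → ℂ) = 0 := congrArg Subtype.val h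
    have h3 := congrFun h2 1
    rw [pRegularPart_apply, if_pos h1reg] at h3
    exact hψ1 h3
  obtain ⟨c, hc⟩ := exists_smul_eq_of_finrank_eq_one hl hvψ vχ
  have hc' : ∀ y : G, c * pRegularPart p (ψ : G → ℂ) y = pRegularPart p (χ : G → ℂ) y := by
    intro y
    have h2 : c • pRegularPart p (ψ : G → ℂ) = pRegularPart p (χ : G → ℂ) :=
      congrArg Subtype.val hc
    exact congrFun h2 y
  have e1 := hc' 1
  have ex := hc' x
  rw [pRegularPart_apply, pRegularPart_apply, if_pos h1reg, if_pos h1reg] at e1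
  rw [pRegularPart_apply, pRegularPart_apply, if_pos hx, if_pos hx] at ex
  rw [← e1, ← ex]
  ring

open Classical in
/-- Structure of a block of `p`-regular rank one. -/
theorem rank_one_structure [Fintype (IrrCharacter G)] (p : ℕ) [Fact p.Prime]
    (M : Ideal AlgInt) (hM : IsPModular p M) (χ₀ : IrrCharacter G)
    (hl : blockRank p (blockOf M (χ₀ : G → ℂ)) = 1) :
    ∃ (n : IrrCharacter G → ℤ) (d : IrrCharacter G → ℕ),
      (∀ χ ∈ blockOf M (χ₀ : G → ℂ), ∀ x : G, ¬ p ∣ orderOf x →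
        (χ : G → ℂ) x = (d χ : ℂ) *
          ∑ ψ ∈ Finset.univ.filter (fun ψ : IrrCharacter G => ψ ∈ blockOf M (χ₀ : G → ℂ)),
            (n ψ : ℂ) * (ψ : G → ℂ) x) ∧
      ∑ χ ∈ Finset.univ.filter (fun ψ : IrrCharacter G => ψ ∈ blockOf M (χ₀ : G → ℂ)), d χ ^ 2 =
        p ^ blockDefect p (blockOf M (χ₀ : G → ℂ)) := by
  have hp : p.Prime := Fact.out
  have hMp : M.IsPrime := isPrime_of_isPModular hM
  set B := blockOf M (χ₀ : G → ℂ) with hB
  set Bf := Finset.univ.filter (fun ψ : IrrCharacter G => ψ ∈ B) with hBf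
  set a := (Nat.card G).factorization p with ha
  set m := minDegVal p B with hm
  have hχ₀B : χ₀ ∈ B := sameBlock_refl hMp _
  have hmemBf : ∀ ψ : IrrCharacter G, ψ ∈ Bf ↔ ψ ∈ B := fun ψ => by
    rw [hBf, Finset.mem_filter]; simp
  have hma : m ≤ a := minDegVal_le_card p ⟨χ₀, hχ₀B⟩
  -- degrees
  let D : IrrCharacter G → ℕ := fun χ => charDegree (χ : G → ℂ)
  have hD : ∀ χ : IrrCharacter G, (χ : G → ℂ) 1 = (D χ : ℂ) := fun χ =>
    irr_apply_one_eq_charDegree χ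
  have hD0 : ∀ χ : IrrCharacter G, D χ ≠ 0 := fun χ => irr_charDegree_ne_zero χ
  set g := Bf.gcd D with hg
  have hg0 : g ≠ 0 := by
    intro h
    rw [hg, Finset.gcd_eq_zero_iff] at h
    exact hD0 χ₀ (h χ₀ ((hmemBf χ₀).mpr hχ₀B))
  obtain ⟨n, hn⟩ := exists_int_comb_gcd Bf D
  let d : IrrCharacter G → ℕ := fun χ => D χ / g
  have hgd : ∀ χ ∈ Bf, D χ = g * d χ := fun χ hχ =>
    (Nat.mul_div_cancel' (Finset.gcd_dvd hχ)).symm
  have hd0 : ∀ χ ∈ Bf, d χ ≠ 0 := by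
    intro χ hχ h
    have := hgd χ hχ
    rw [h, mul_zero] at this
    exact hD0 χ this
  let φ : G → ℂ := fun x => ∑ ψ ∈ Bf, (n ψ : ℂ) * (ψ : G → ℂ) x
  have hgC : (g : ℂ) ≠ 0 := Nat.cast_ne_zero.mpr hg0
  -- χ = d χ φ on p-regular elements
  have hprop : ∀ χ ∈ B, ∀ x : G, ¬ p ∣ orderOf x → (χ : G → ℂ) x = (d χ : ℂ) * φ x := by
    intro χ hχ x hx
    have hχBf := (hmemBf χ).mpr hχ
    have h1 : (D χ : ℂ) * φ x = (g : ℂ) * (χ : G → ℂ) x := by
      show (D χ : ℂ) * ∑ ψ ∈ Bf, (n ψ : ℂ) * (ψ : G → ℂ) x = _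
      rw [Finset.mul_sum]
      have h2 : ∀ ψ ∈ Bf, (D χ : ℂ) * ((n ψ : ℂ) * (ψ : G → ℂ) x) =
          ((n ψ : ℂ) * (D ψ : ℂ)) * (χ : G → ℂ) x := by
        intro ψ hψ
        have := prop_of_blockRank_one p B hl χ ψ hχ ((hmemBf ψ).mp hψ) x hx
        rw [hD, hD] at this
        linear_combination (-(n ψ : ℂ)) * this
      rw [Finset.sum_congr rfl h2, ← Finset.sum_mul]
      congr 1
      have h3 : ((g : ℤ) : ℂ) = ((∑ i ∈ Bf, n i * (D i : ℤ) : ℤ) : ℂ) := by rw [hn]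
      push_cast at h3
      exact h3.symm
    have h4 : (D χ : ℂ) = (g : ℂ) * (d χ : ℂ) := by exact_mod_cast hgd χ hχBf
    rw [h4, mul_assoc] at h1
    exact (mul_left_cancel₀ hgC h1).symm
  refine ⟨n, d, hprop, ?_⟩
  -- the Cartan invariant
  set c : ℕ := ∑ χ ∈ Bf, d χ ^ 2 with hc
  -- the integers `t χ ξ`
  have hint : ∀ χ ξ : IrrCharacter G, ∃ t : ℤ,
      classInner (pTilde p (χ : G → ℂ)) (ξ : G → ℂ) = (t : ℂ) := fun χ ξ => pTilde_int p χ ξ
  choose t ht using hint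
  let S : ℂ := (Nat.card G : ℂ)⁻¹ * ∑ x : G,
    (if p ∣ orderOf x then (0 : ℂ) else ((p ^ a : ℕ) : ℂ) * (φ x * conj (φ x)))
  have htS : ∀ χ ∈ B, ∀ ξ ∈ B, (t χ ξ : ℂ) = (d χ : ℂ) * (d ξ : ℂ) * S := by
    intro χ hχ ξ hξ
    rw [← ht χ ξ]
    unfold classInner
    have hterm : ∀ x : G, pTilde p (χ : G → ℂ) x * conj ((ξ : G → ℂ) x) =
        (d χ : ℂ) * (d ξ : ℂ) *
          (if p ∣ orderOf x then (0 : ℂ) else ((p ^ a : ℕ) : ℂ) * (φ x * conj (φ x))) := by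
      intro x
      rw [pTilde_apply]
      split_ifs with hx
      · simp
      · rw [hprop χ hχ x hx, hprop ξ hξ x hx, map_mul, Complex.conj_natCast]
        ring
    rw [Finset.sum_congr rfl (fun x _ => hterm x), ← Finset.mul_sum]
    show _ = (d χ : ℂ) * (d ξ : ℂ) * ((Nat.card G : ℂ)⁻¹ * ∑ x : G,
      (if p ∣ orderOf x then (0 : ℂ) else ((p ^ a : ℕ) : ℂ) * (φ x * conj (φ x))))
    ring
  -- expansion at the identity
  have hχcl : ∀ χ : IrrCharacter G, IsClassFunction G (χ : G → ℂ) := fun χ g h =>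
    Cfsg.Agent.Lib.Helper80.irr_class χ g h
  have h1reg : ¬ p ∣ orderOf (1 : G) := by
    rw [orderOf_one]
    exact hp.not_dvd_one
  have hexp1 : ∀ χ ∈ B, ((p ^ a : ℕ) : ℂ) * (D χ : ℂ) =
      ∑ ξ ∈ Bf, (t χ ξ : ℂ) * (D ξ : ℂ) := by
    intro χ hχ
    have h1 := Cfsg.Agent.Lib.Helper80.classFun_expansion _ (pTilde_isClassFunction p (hχcl χ)) 1
    rw [pTilde_apply, if_neg h1reg, hD] at h1
    rw [h1, hBf, Finset.sum_filter]
    apply Finset.sum_congr rfl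
    intro ξ _
    split_ifs with hξ
    · rw [← ht χ ξ, hD]
      rfl
    · have hns : ¬ SameBlock M (χ : G → ℂ) (ξ : G → ℂ) := by
        intro hs
        exact hξ (sameBlock_trans hMp hχ hs)
      have := pTilde_eq_zero_of_not_sameBlock p M hM χ ξ hns
      show classInner (pTilde p (χ : G → ℂ)) (ξ : G → ℂ) * _ = 0
      rw [this, zero_mul]
  have hSc : S * (c : ℂ) = ((p ^ a : ℕ) : ℂ) := by
    have h1 := hexp1 χ₀ hχ₀B
    have h2 : ∑ ξ ∈ Bf, (t χ₀ ξ : ℂ) * (D ξ : ℂ) =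
        (d χ₀ : ℂ) * (g : ℂ) * S * (c : ℂ) := by
      rw [hc]
      push_cast
      rw [Finset.mul_sum]
      apply Finset.sum_congr rfl
      intro ξ hξ
      have h4 : (D ξ : ℂ) = (g : ℂ) * (d ξ : ℂ) := by exact_mod_cast hgd ξ hξ
      rw [htS χ₀ hχ₀B ξ ((hmemBf ξ).mp hξ), h4]
      ring
    have h4 : (D χ₀ : ℂ) = (g : ℂ) * (d χ₀ : ℂ) := by
      exact_mod_cast hgd χ₀ ((hmemBf χ₀).mpr hχ₀B)
    rw [h2, h4] at h1
    have hd0' : (d χ₀ : ℂ) ≠ 0 := Nat.cast_ne_zero.mpr (hd0 χ₀ ((hmemBf χ₀).mpr hχ₀B))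
    have h5 : ((g : ℂ) * (d χ₀ : ℂ)) * (S * (c : ℂ)) = ((g : ℂ) * (d χ₀ : ℂ)) * ((p ^ a : ℕ) : ℂ) := by
      linear_combination (-1 : ℂ) * h1
    exact mul_left_cancel₀ (mul_ne_zero hgC hd0') h5
  -- (E1): c * t = p ^ a * d d
  have hE1 : ∀ χ ∈ B, ∀ ξ ∈ B, (c : ℤ) * t χ ξ = (p : ℤ) ^ a * ((d χ : ℤ) * (d ξ : ℤ)) := by
    intro χ hχ ξ hξ
    have h1 : (((c : ℤ) * t χ ξ : ℤ) : ℂ) = (((p : ℤ) ^ a * ((d χ : ℤ) * (d ξ : ℤ)) : ℤ) : ℂ) := by
      push_cast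
      rw [htS χ hχ ξ hξ]
      have := hSc
      push_cast at this
      linear_combination ((d χ : ℂ) * (d ξ : ℂ)) * this
    exact_mod_cast h1
  -- gcd of the `d χ` is one: Bezout
  have hbez : (1 : ℤ) = ∑ ψ ∈ Bf, n ψ * (d ψ : ℤ) := by
    have h1 : (g : ℤ) * 1 = (g : ℤ) * ∑ ψ ∈ Bf, n ψ * (d ψ : ℤ) := by
      rw [mul_one, Finset.mul_sum]
      have hn' : (g : ℤ) = ∑ i ∈ Bf, n i * (D i : ℤ) := hn
      conv_lhs => rw [hn']
      apply Finset.sum_congr rfl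
      intro ψ hψ
      have : (D ψ : ℤ) = (g : ℤ) * (d ψ : ℤ) := by exact_mod_cast hgd ψ hψ
      rw [this]
      ring
    exact mul_left_cancel₀ (by exact_mod_cast hg0) h1
  have hcdvd : (c : ℤ) ∣ (p : ℤ) ^ a := by
    have h1 : (p : ℤ) ^ a = (c : ℤ) * ∑ χ ∈ Bf, ∑ ξ ∈ Bf, n χ * n ξ * t χ ξ := by
      have h2 : (p : ℤ) ^ a = (p : ℤ) ^ a * ((∑ ψ ∈ Bf, n ψ * (d ψ : ℤ)) *
          (∑ ψ ∈ Bf, n ψ * (d ψ : ℤ))) := by
        rw [← hbez]; ring
      rw [h2, Finset.sum_mul_sum, Finset.mul_sum, Finset.mul_sum]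
      apply Finset.sum_congr rfl
      intro χ hχ
      rw [Finset.mul_sum, Finset.mul_sum]
      apply Finset.sum_congr rfl
      intro ξ hξ
      have := hE1 χ ((hmemBf χ).mp hχ) ξ ((hmemBf ξ).mp hξ)
      linear_combination (-(n χ * n ξ)) * this
    exact ⟨_, h1⟩
  have hcdvd' : c ∣ p ^ a := by exact_mod_cast hcdvd
  obtain ⟨e, hea, hce⟩ := (Nat.dvd_prime_pow hp).mp hcdvd'
  -- a height zero character
  obtain ⟨ψ, hψB, hψm⟩ := exists_minDegVal p (B := B) ⟨χ₀, hχ₀B⟩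
  have hψBf := (hmemBf ψ).mpr hψB
  have hht : blockHeight p B (ψ : G → ℂ) = 0 := by
    rw [blockHeight_eq, hψm]
    exact Nat.sub_self _
  -- p does not divide d ψ: since m = ν(g)
  have hνg : ∀ χ ∈ Bf, (D χ).factorization p = g.factorization p + (d χ).factorization p := by
    intro χ hχ
    rw [hgd χ hχ, Nat.factorization_mul hg0 (hd0 χ hχ)]
    rfl
  have hmg : m = g.factorization p := by
    -- some χ has p ∤ d χ
    by_contra hne
    have hall : ∀ χ ∈ Bf, p ∣ d χ := by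
      intro χ hχ
      have h1 : m ≤ (D χ).factorization p := minDegVal_le p ((hmemBf χ).mp hχ)
      have h2 := hνg ψ hψBf
      have h3 : (D ψ).factorization p = m := hψm
      have h4 : g.factorization p < m := by
        rcases Nat.lt_or_ge (g.factorization p) m with h | h
        · exact h
        · exfalso
          have : g.factorization p ≤ m := by omega
          exact hne (le_antisymm h this)
      have h5 := hνg χ hχ
      have h6 : 1 ≤ (d χ).factorization p := by omega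
      exact (hp.dvd_iff_one_le_factorization (hd0 χ hχ)).mpr h6
    have : (p : ℤ) ∣ 1 := by
      rw [hbez]
      apply Finset.dvd_sum
      intro χ hχ
      exact Dvd.dvd.mul_left (by exact_mod_cast hall χ hχ) _
    have h7 : p ∣ 1 := by exact_mod_cast this
    exact hp.not_dvd_one h7
  have hdψ : ¬ p ∣ d ψ := by
    intro h
    have h1 := hνg ψ hψBf
    have h2 : (D ψ).factorization p = m := hψm
    have h3 : 1 ≤ (d ψ).factorization p :=
      (hp.dvd_iff_one_le_factorization (hd0 ψ hψBf)).mp h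
    omega
  -- t ψ ψ = p ^ (a - e) * d ψ ^ 2
  have htψ : t ψ ψ = (p : ℤ) ^ (a - e) * (d ψ : ℤ) ^ 2 := by
    have h1 := hE1 ψ hψB ψ hψB
    rw [hce] at h1
    have h2 : (p : ℤ) ^ a = (p : ℤ) ^ e * (p : ℤ) ^ (a - e) := by
      rw [← pow_add]; congr 1; omega
    have h3 : ((p ^ e : ℕ) : ℤ) ≠ 0 := by exact_mod_cast (pow_pos hp.pos e).ne'
    have h4 : ((p ^ e : ℕ) : ℤ) * t ψ ψ = ((p ^ e : ℕ) : ℤ) * ((p : ℤ) ^ (a - e) * (d ψ : ℤ) ^ 2) := by
      rw [h1, h2]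
      push_cast
      ring
    exact mul_left_cancel₀ h3 h4
  -- valuation of `t ψ ψ`
  have hndvd : ∀ k : ℕ, ((p ^ k : ℕ) : ℤ) ∣ t ψ ψ → k ≤ a - e := by
    intro k hk
    rw [htψ] at hk
    have h1 : (p ^ k : ℕ) ∣ p ^ (a - e) * d ψ ^ 2 := by exact_mod_cast hk
    have h2 : Nat.Coprime (p ^ k) (d ψ ^ 2) :=
      Nat.Coprime.pow _ _ ((Nat.Prime.coprime_iff_not_dvd hp).mpr hdψ)
    have h3 : p ^ k ∣ p ^ (a - e) := h2.dvd_of_dvd_mul_right h1
    exact (Nat.pow_dvd_pow_iff_le_right hp.one_lt).mp h3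
  have hle1 : m ≤ a - e := by
    apply hndvd
    have := pTilde_dvd_left p ψ ψ (t ψ ψ) (ht ψ ψ)
    rwa [hψm] at this
  have hle2 : a - e ≤ m := by
    have hu := pTilde_unit_of_height_zero hM χ₀ ψ hψB hht ψ hψB
    rw [pTilde_unit_iff hM ψ ψ (t ψ ψ) (ht ψ ψ)] at hu
    by_contra hlt
    push_neg at hlt
    apply hu
    rw [htψ]
    have h3 : (charDegree (ψ : G → ℂ)).factorization p = m := hψm
    rw [h3]
    have h4 : (p : ℤ) ^ (a - e) = (p : ℤ) ^ (m + 1) * (p : ℤ) ^ (a - e - (m + 1)) := by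
      rw [← pow_add]; congr 1; omega
    rw [h4]
    push_cast
    exact dvd_mul_of_dvd_left (dvd_mul_right _ _) _
  rw [hce, blockDefect_eq]
  congr 1
  omega

end Cfsg.Agent.Lib.Helper74
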