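import Mathlib

set_option autoImplicit false

namespace Cfsg.Agent.Lib.Helper74

open Matrix

/-- The rank normal form has the expected rank over any field. -/
theorem rank_normal_form_eq {K : Type*} [Field K] {n : Type*} [Fintype n] [DecidableEq n]
    (r s : ℕ) (e : n ≃ Fin r ⊕ Fin s) :
    ((Matrix.fromBlocks (1 : Matrix (Fin r) (Fin r) K) 0 0 (0 : Matrix (Fin s) (Fin s) K)).submatrix
      e e).rank = r := by
  classical
  rw [Matrix.rank_submatrix]
  have h : (Matrix.fromBlocks (1 : Matrix (Fin r) (Fin r) K) 0 0 (0 : Matrix (Fin s) (Fin s) K)) =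
      Matrix.diagonal (Sum.elim (fun _ => (1 : K)) (fun _ => (0 : K))) := by
    rw [← Matrix.diagonal_one, ← Matrix.diagonal_zero, Matrix.fromBlocks_diagonal]
  rw [h, Matrix.rank_diagonal]
  have : Fintype.card {i : Fin r ⊕ Fin s // Sum.elim (fun _ => (1 : K)) (fun _ => (0 : K)) i ≠ 0} =
      Fintype.card (Fin r) := by
    apply Fintype.card_congr
    refine ⟨fun i => match i with
      | ⟨Sum.inl a, _⟩ => a
      | ⟨Sum.inr b, hb⟩ => absurd rfl hb, fun a => ⟨Sum.inl a, by simp⟩, ?_, ?_⟩
    · rintro ⟨a | b, hb⟩
      · rfl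
      · exact absurd rfl hb
    · intro a
      rfl
  rw [this, Fintype.card_fin]

/-- The rank of a square matrix over a field is invariant under a field extension. -/
theorem rank_map_field {F K : Type*} [Field F] [Field K] (f : F →+* K) {n : Type*} [Fintype n]
    [DecidableEq n] (A : Matrix n n F) : (A.map f).rank = A.rank := by
  classical
  obtain ⟨V, U, e, hV, hU, hVU⟩ := Matrix.exists_rank_normal_form A
  have hV' : IsUnit (V.map f) := by
    have := hV.map (RingHom.mapMatrix f : Matrix n n F →+* Matrix n n K)
    simpa using this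
  have hU' : IsUnit (U.map f) := by
    have := hU.map (RingHom.mapMatrix f : Matrix n n F →+* Matrix n n K)
    simpa using this
  have hmap : V.map f * A.map f * U.map f =
      (Matrix.fromBlocks (1 : Matrix (Fin A.rank) (Fin A.rank) K) 0 0
        (0 : Matrix (Fin (Fintype.card n - A.rank)) (Fin (Fintype.card n - A.rank)) K)).submatrix
      e e := by
    have h1 := congrArg (fun X : Matrix n n F => X.map f) hVU
    simp only [Matrix.map_mul] at h1
    rw [h1]
    ext i j
    simp only [Matrix.map_apply, Matrix.submatrix_apply]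
    rcases e i with a | a <;> rcases e j with b | b <;>
      simp [Matrix.fromBlocks, Matrix.one_apply, apply_ite f]
  have h2 : (V.map f * A.map f * U.map f).rank = (A.map f).rank := by
    rw [Matrix.rank_mul_eq_left_of_isUnit_det _ _ ((Matrix.isUnit_iff_isUnit_det _).mp hU'),
      Matrix.rank_mul_eq_right_of_isUnit_det _ _ ((Matrix.isUnit_iff_isUnit_det _).mp hV')]
  rw [← h2, hmap, rank_normal_form_eq]

end Cfsg.Agent.Lib.Helper74
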