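import Cfsg.Agent.Lib.Helper74.SP4
import Cfsg.Agent.Lib.Helper16.WBO

set_option autoImplicit false

namespace Cfsg.Agent.Lib.Helper74

open Cfsg Cfsg.Agent.Lib.Helper77 Cfsg.Agent.Lib.Helper81 Cfsg.Agent.Lib.Helper16
open scoped ComplexConjugate

universe u

section
variable {G : Type u} [Group G] [Fintype G]

open Classical in
/-- The fibre of `u ↦ u x u⁻¹` over a conjugate of `x` has `|C(x)|` elements. -/
theorem card_fiber_conj (x v : G) :
    (Finset.univ.filter (fun u : G => u * x * u⁻¹ = v * x * v⁻¹)).card =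
      Nat.card (Subgroup.centralizer ({x} : Set G)) := by
  rw [Nat.card_eq_fintype_card, ← Finset.card_univ]
  symm
  apply Finset.card_bij (fun (c : Subgroup.centralizer ({x} : Set G)) _ => v * (c : G))
  · intro c _
    simp only [Finset.mem_filter, Finset.mem_univ, true_and]
    have hc := Subgroup.mem_centralizer_singleton_iff.mp c.2
    have h1 : (c : G) * x * (c : G)⁻¹ = x := by rw [hc]; group
    calc v * (c : G) * x * (v * (c : G))⁻¹ = v * ((c : G) * x * (c : G)⁻¹) * v⁻¹ := by group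
      _ = v * x * v⁻¹ := by rw [h1]
  · intro c _ c' _ h
    exact Subtype.ext (mul_left_cancel h)
  · intro u hu
    simp only [Finset.mem_filter, Finset.mem_univ, true_and] at hu
    refine ⟨⟨v⁻¹ * u, ?_⟩, Finset.mem_univ _, by simp⟩
    rw [Subgroup.mem_centralizer_singleton_iff]
    have h1 : u * x = v * x * v⁻¹ * u := by rw [← hu]; group
    calc v⁻¹ * u * x = v⁻¹ * (u * x) := by group
      _ = v⁻¹ * (v * x * v⁻¹ * u) := by rw [h1]
      _ = x * (v⁻¹ * u) := by group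

open Classical in
/-- Summing over conjugating elements versus summing over the class. -/
theorem sum_conj_eq_card_centralizer_mul (x : G) (F : G → ℂ) :
    ∑ u : G, F (u * x * u⁻¹) =
      (Nat.card (Subgroup.centralizer ({x} : Set G)) : ℂ) *
        ∑ g : G, (if IsConj x g then F g else 0) := by
  rw [← Finset.sum_fiberwise Finset.univ (fun u : G => u * x * u⁻¹) (fun u => F (u * x * u⁻¹))]
  rw [Finset.mul_sum]
  apply Finset.sum_congr rfl
  intro g _
  by_cases hg : IsConj x g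
  · rw [if_pos hg]
    obtain ⟨v, hv⟩ := isConj_iff.mp hg
    have h1 : ∀ u ∈ Finset.univ.filter (fun u : G => u * x * u⁻¹ = g),
        F (u * x * u⁻¹) = F g := by
      intro u hu
      rw [(Finset.mem_filter.mp hu).2]
    rw [Finset.sum_congr rfl h1, Finset.sum_const, nsmul_eq_mul, ← hv, card_fiber_conj]
  · rw [if_neg hg, mul_zero]
    apply Finset.sum_eq_zero
    intro u hu
    exfalso
    exact hg (isConj_iff.mpr ⟨u, (Finset.mem_filter.mp hu).2⟩)

open Classical in
/-- Counting the pairs `(y, z)` of two classes with `z y⁻¹` in a subgroup. -/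
theorem sum_pairs_eq_card (S : Subgroup G) [Fintype S] (Ki Kj : ConjClasses G) :
    ∑ y : S, ∑ g : G, (if g ∈ Ki.carrier ∧ (y : G) * g ∈ Kj.carrier then (1 : ℂ) else 0) =
      (Nat.card {yz : G × G // yz.1 ∈ Ki.carrier ∧ yz.2 ∈ Kj.carrier ∧
        yz.2 * yz.1⁻¹ ∈ S} : ℂ) := by
  have h1 : Nat.card {yz : G × G // yz.1 ∈ Ki.carrier ∧ yz.2 ∈ Kj.carrier ∧
        yz.2 * yz.1⁻¹ ∈ S} =
      Nat.card {yg : S × G // yg.2 ∈ Ki.carrier ∧ (yg.1 : G) * yg.2 ∈ Kj.carrier} := by
    apply Nat.card_congr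
    refine ⟨fun a => ⟨(⟨a.1.2 * a.1.1⁻¹, a.2.2.2⟩, a.1.1), a.2.1, ?_⟩,
      fun b => ⟨(b.1.2, (b.1.1 : G) * b.1.2), b.2.1, b.2.2, ?_⟩, ?_, ?_⟩
    · have : a.1.2 * a.1.1⁻¹ * a.1.1 = a.1.2 := by group
      show a.1.2 * a.1.1⁻¹ * a.1.1 ∈ Kj.carrier
      rw [this]
      exact a.2.2.1
    · have : (b.1.1 : G) * b.1.2 * b.1.2⁻¹ = (b.1.1 : G) := by group
      show (b.1.1 : G) * b.1.2 * b.1.2⁻¹ ∈ S
      rw [this]
      exact b.1.1.2
    · rintro ⟨⟨y, z⟩, h⟩
      apply Subtype.ext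
      show (y, z * y⁻¹ * y) = (y, z)
      congr 1
      group
    · rintro ⟨⟨y, g⟩, h⟩
      apply Subtype.ext
      show ((⟨(y : G) * g * g⁻¹, _⟩ : S), g) = (y, g)
      congr 1
      apply Subtype.ext
      show (y : G) * g * g⁻¹ = y
      group
  rw [h1, Nat.card_eq_fintype_card, Fintype.card_subtype, ← Finset.sum_boole,
    ← Fintype.sum_prod_type']

open Classical in
/-- The counting formula for Robinson's numbers `ω(i, j)`. -/
theorem robinson_count [Fintype (IrrCharacter G)] (S : Subgroup G) [Fintype S]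
    (Ki Kj : ConjClasses G) (xi xj : G) (hi : xi ∈ Ki.carrier) (hj : xj ∈ Kj.carrier)
    (n : IrrCharacter G → ℕ)
    (hn : ∀ χ : IrrCharacter G, ∑ u : S, (χ : G → ℂ) (u : G) = (Nat.card S : ℂ) * (n χ : ℂ)) :
    (Nat.card {yz : G × G // yz.1 ∈ Ki.carrier ∧ yz.2 ∈ Kj.carrier ∧
        yz.2 * yz.1⁻¹ ∈ S} : ℂ) *
      (Nat.card (Subgroup.centralizer ({xi} : Set G)) : ℂ) *
      (Nat.card (Subgroup.centralizer ({xj} : Set G)) : ℂ) =
      (Nat.card G : ℂ) * (Nat.card S : ℂ) *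
        ∑ χ : IrrCharacter G, (χ : G → ℂ) xj * conj ((χ : G → ℂ) xi) * (n χ : ℂ) /
          (χ : G → ℂ) 1 := by
  rw [← sum_isConj_indicator₂ S xj xi n hn, ← sum_pairs_eq_card S Ki Kj]
  rw [Finset.sum_mul, Finset.sum_mul]
  apply Finset.sum_congr rfl
  intro y _
  rw [sum_conj_eq_card_centralizer_mul xi
    (fun g => if IsConj xj ((y : G) * g) then
      (Nat.card (Subgroup.centralizer ({xj} : Set G)) : ℂ) else 0)]
  rw [Finset.sum_mul, Finset.sum_mul, Finset.mul_sum]
  apply Finset.sum_congr rfl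
  intro g _
  have hi' : g ∈ Ki.carrier ↔ IsConj xi g := by
    rw [ConjClasses.mem_carrier_iff_mk_eq, ← ConjClasses.mem_carrier_iff_mk_eq.mp hi,
      ConjClasses.mk_eq_mk_iff_isConj, isConj_comm]
  have hj' : (y : G) * g ∈ Kj.carrier ↔ IsConj xj ((y : G) * g) := by
    rw [ConjClasses.mem_carrier_iff_mk_eq, ← ConjClasses.mem_carrier_iff_mk_eq.mp hj,
      ConjClasses.mk_eq_mk_iff_isConj, isConj_comm]
  by_cases h1 : IsConj xi g
  · by_cases h2 : IsConj xj ((y : G) * g)
    · rw [if_pos (by rw [hi', hj']; exact ⟨h1, h2⟩), if_pos h1, if_pos h2]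
      ring
    · rw [if_neg (by rw [hi', hj']; exact fun h => h2 h.2), if_pos h1, if_neg h2]
      ring
  · rw [if_neg (by rw [hi', hj']; exact fun h => h1 h.1), if_neg h1]
    ring

end

end Cfsg.Agent.Lib.Helper74
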