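import Cfsg.Agent.Lib.Helper74.RB2

set_option autoImplicit false

namespace Cfsg.Agent.Lib.Helper74

open Cfsg Cfsg.Agent.Lib.Helper77 Cfsg.Agent.Lib.Helper81 Cfsg.Agent.Lib.Helper16
open Cfsg.Agent.Lib.Helper75
open scoped ComplexConjugate Pointwise

universe u

section
variable {G : Type u} [Group G] [Fintype G]

open Classical in
/-- The multiplicities of the trivial character of a Sylow subgroup, summed over a block against
a `p`-regular column, give the block idempotent. -/
theorem sum_block_mult_eq [Fintype (IrrCharacter G)] {p : ℕ} [Fact p.Prime] {M : Ideal AlgInt}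
    (hM : IsPModular p M) (S : Sylow p G) [Fintype (S : Subgroup G)]
    (n : IrrCharacter G → ℕ)
    (hn : ∀ χ : IrrCharacter G, ∑ u : (S : Subgroup G), (χ : G → ℂ) (u : G) =
      (Nat.card (S : Subgroup G) : ℂ) * (n χ : ℂ))
    (χ₀ : IrrCharacter G) {x : G} (hx : ¬ p ∣ orderOf x) :
    ∑ χ ∈ Finset.univ.filter (fun χ : IrrCharacter G => χ ∈ blockOf M (χ₀ : G → ℂ)),
      (n χ : ℂ) * conj ((χ : G → ℂ) x) =
      ((S : Subgroup G).index : ℂ) * blockCoeff (blockOf M (χ₀ : G → ℂ)) x := by
  have hp : p.Prime := Fact.out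
  have hS0 : (Nat.card (S : Subgroup G) : ℂ) ≠ 0 := Nat.cast_ne_zero.mpr Nat.card_pos.ne'
  have hG0 : (Nat.card G : ℂ) ≠ 0 := Nat.cast_ne_zero.mpr Nat.card_pos.ne'
  have hidx : (Nat.card (S : Subgroup G) : ℂ) * ((S : Subgroup G).index : ℂ) = (Nat.card G : ℂ) := by
    exact_mod_cast (S : Subgroup G).card_mul_index
  have h1 : (Nat.card (S : Subgroup G) : ℂ) *
      ∑ χ ∈ Finset.univ.filter (fun χ : IrrCharacter G => χ ∈ blockOf M (χ₀ : G → ℂ)),
        (n χ : ℂ) * conj ((χ : G → ℂ) x) =
      ∑ u : (S : Subgroup G),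
        ∑ χ ∈ Finset.univ.filter (fun χ : IrrCharacter G => χ ∈ blockOf M (χ₀ : G → ℂ)),
          (χ : G → ℂ) (u : G) * conj ((χ : G → ℂ) x) := by
    rw [Finset.sum_comm, Finset.mul_sum]
    apply Finset.sum_congr rfl
    intro χ _
    rw [← Finset.sum_mul, hn χ]
    ring
  have h2 : ∑ u : (S : Subgroup G),
        ∑ χ ∈ Finset.univ.filter (fun χ : IrrCharacter G => χ ∈ blockOf M (χ₀ : G → ℂ)),
          (χ : G → ℂ) (u : G) * conj ((χ : G → ℂ) x) =
      ∑ χ ∈ Finset.univ.filter (fun χ : IrrCharacter G => χ ∈ blockOf M (χ₀ : G → ℂ)),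
          (χ : G → ℂ) 1 * conj ((χ : G → ℂ) x) := by
    rw [Finset.sum_eq_single (1 : (S : Subgroup G))]
    · rw [Subgroup.coe_one]
    · intro u _ hu1
      obtain ⟨k, hk⟩ := (IsPGroup.iff_orderOf.mp S.isPGroup') u
      have hk' : orderOf (u : G) = p ^ k := by
        rw [← hk]
        exact (Subgroup.orderOf_coe u)
      have hk0 : k ≠ 0 := by
        intro h0
        rw [h0, pow_zero, orderOf_eq_one_iff] at hk
        exact hu1 hk
      have hdvd : p ∣ orderOf (u : G) := by
        rw [hk']
        exact dvd_pow_self p hk0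
      have h3 := weak_block_orthogonality_finset hM χ₀ hx hdvd
      have h4 := congrArg conj h3
      rw [map_sum, map_zero] at h4
      rw [← h4]
      apply Finset.sum_congr rfl
      intro χ _
      rw [map_mul, Complex.conj_conj, mul_comm]
    · intro h
      exact absurd (Finset.mem_univ _) h
  have h3 : ∑ χ ∈ Finset.univ.filter (fun χ : IrrCharacter G => χ ∈ blockOf M (χ₀ : G → ℂ)),
          (χ : G → ℂ) 1 * conj ((χ : G → ℂ) x) =
      (Nat.card G : ℂ) * blockCoeff (blockOf M (χ₀ : G → ℂ)) x := by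
    rw [blockCoeff_eq_sum, ← mul_assoc, mul_inv_cancel₀ hG0, one_mul]
  apply mul_left_cancel₀ hS0
  rw [h1, h2, h3, ← mul_assoc, hidx]

/-- The contribution of a character outside the blocks with defect group `D` vanishes modulo the
local ideal. -/
theorem memLocalIdeal_bad_term {p : ℕ} [Fact p.Prime] {M : Ideal AlgInt}
    (hM : IsPModular p M) (D : Subgroup G) (χ : IrrCharacter G)
    (hχ : ¬ IsDefectGroup p M (blockOf M (χ : G → ℂ)) D) (x y : G)
    (hx : ∃ S : Sylow p ↥(Subgroup.centralizer ({x} : Set G)),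
      (S : Subgroup ↥(Subgroup.centralizer ({x} : Set G))).map
        (Subgroup.centralizer ({x} : Set G)).subtype = D)
    (hy : ∃ S : Sylow p ↥(Subgroup.centralizer ({y} : Set G)),
      (S : Subgroup ↥(Subgroup.centralizer ({y} : Set G))).map
        (Subgroup.centralizer ({y} : Set G)).subtype = D) (n : ℕ) :
    MemLocalIdeal M (centralChar (χ : G → ℂ) x * (n : ℂ) * conj ((χ : G → ℂ) y)) := by
  have hp : p.Prime := Fact.out
  have hMp : M.IsPrime := isPrime_of_isPModular hM
  have hval : ∀ z : G, (∃ S : Sylow p ↥(Subgroup.centralizer ({z} : Set G)),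
      (S : Subgroup ↥(Subgroup.centralizer ({z} : Set G))).map
        (Subgroup.centralizer ({z} : Set G)).subtype = D) → Nat.card D =
      p ^ (Nat.card (Subgroup.centralizer ({z} : Set G))).factorization p := by
    intro z hz
    obtain ⟨S, hS⟩ := hz
    rw [← hS, Subgroup.card_map_of_injective (Subgroup.subtype_injective _),
      Sylow.card_eq_multiplicity S]
  have hvaleq : (Nat.card (Subgroup.centralizer ({x} : Set G))).factorization p =
      (Nat.card (Subgroup.centralizer ({y} : Set G))).factorization p :=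
    Nat.pow_right_injective hp.two_le ((hval x hx).symm.trans (hval y hy))
  have hconjS : MemLocalRing M (conj ((χ : G → ℂ) y)) := by
    rw [← Cfsg.Agent.Lib.Helper80.irr_conj_inv]
    exact memLocalRing_algInt hMp ⟨_, Cfsg.Agent.Lib.Helper80.irr_isIntegral χ y⁻¹⟩
  by_cases hω : MemLocalIdeal M (centralChar (χ : G → ℂ) x)
  · exact memLocalIdeal_mul_right hMp
      (memLocalIdeal_mul_right hMp hω (memLocalRing_natCast hMp _)) hconjS
  · have h2 : blockDefect p (blockOf M (χ : G → ℂ)) <
        (Nat.card (Subgroup.centralizer ({x} : Set G))).factorization p := by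
      by_contra hcon
      push Not at hcon
      obtain ⟨S, hS⟩ := hx
      apply hχ
      rw [← hS]
      exact isDefectGroup_of_centralChar hM χ x hω hcon S
    have h3 : MemLocalIdeal M ((χ : G → ℂ) y⁻¹) := by
      apply irr_memLocalIdeal_of_defect_lt hM
      rw [centralizer_singleton_inv, ← hvaleq]
      exact h2
    rw [← Cfsg.Agent.Lib.Helper80.irr_conj_inv]
    exact memLocalIdeal_mul_left hMp (memLocalRing_mul hMp
      (memLocalRing_centralChar hMp χ.2 _) (memLocalRing_natCast hMp _)) h3

end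

end Cfsg.Agent.Lib.Helper74
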