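import Cfsg.Agent.Lib.Helper74.RB3
import Cfsg.Agent.Lib.Helper77.InducedBlock2

set_option autoImplicit false

namespace Cfsg.Agent.Lib.Helper74

open Cfsg Cfsg.Agent.Lib.Helper77 Cfsg.Agent.Lib.Helper81 Cfsg.Agent.Lib.Helper16
open Cfsg.Agent.Lib.Helper75
open scoped ComplexConjugate Pointwise

universe u v

section
variable {G : Type u} [Group G] [Fintype G]

open Classical in
/-- Regrouping a sum over the characters in the blocks with defect group `D` by blocks. -/
theorem sum_good_eq_sum_blocks [Fintype (IrrCharacter G)] {p : ℕ} [Fact p.Prime]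
    {M : Ideal AlgInt} (hM : IsPModular p M) (D : Subgroup G)
    {β : Type v} [Fintype β] (rep : β → IrrCharacter G)
    (hgood : ∀ b, IsDefectGroup p M (blockOf M (rep b : G → ℂ)) D)
    (hinj : ∀ b b', rep b' ∈ blockOf M (rep b : G → ℂ) → b = b')
    (hsurj : ∀ χ : IrrCharacter G, IsDefectGroup p M (blockOf M (χ : G → ℂ)) D →
      ∃ b, χ ∈ blockOf M (rep b : G → ℂ)) (t : IrrCharacter G → ℂ) :
    ∑ χ : IrrCharacter G, (if IsDefectGroup p M (blockOf M (χ : G → ℂ)) D then t χ else 0) =
      ∑ b : β, ∑ χ ∈ Finset.univ.filter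
        (fun χ : IrrCharacter G => χ ∈ blockOf M (rep b : G → ℂ)), t χ := by
  have hMp : M.IsPrime := isPrime_of_isPModular hM
  simp_rw [Finset.sum_filter]
  rw [Finset.sum_comm]
  apply Finset.sum_congr rfl
  intro χ _
  by_cases hχ : IsDefectGroup p M (blockOf M (χ : G → ℂ)) D
  · rw [if_pos hχ]
    obtain ⟨b₀, hb₀⟩ := hsurj χ hχ
    rw [Finset.sum_eq_single b₀]
    · rw [if_pos hb₀]
    · intro b _ hb
      rw [if_neg]
      intro hmem
      apply hb
      have h1 := blockOf_eq_of_mem hMp hmem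
      have h2 := blockOf_eq_of_mem hMp hb₀
      have h3 : rep b₀ ∈ blockOf M (rep b : G → ℂ) := by
        rw [← h1, h2]
        exact self_mem_blockOf hMp (rep b₀)
      exact hinj b b₀ h3
    · intro h
      exact absurd (Finset.mem_univ _) h
  · rw [if_neg hχ]
    symm
    apply Finset.sum_eq_zero
    intro b _
    rw [if_neg]
    intro hmem
    apply hχ
    rw [blockOf_eq_of_mem hMp hmem]
    exact hgood b

open Classical in
/-- The main congruence: Robinson's sum is congruent to `|G : S|` times the sum over the blocks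
with defect group `D` of idempotent coefficient times central character. -/
theorem robinson_congr [Fintype (IrrCharacter G)] {p : ℕ} [Fact p.Prime]
    {M : Ideal AlgInt} (hM : IsPModular p M) (D : Subgroup G)
    (S : Sylow p G) [Fintype (S : Subgroup G)] (n : IrrCharacter G → ℕ)
    (hn : ∀ χ : IrrCharacter G, ∑ u : (S : Subgroup G), (χ : G → ℂ) (u : G) =
      (Nat.card (S : Subgroup G) : ℂ) * (n χ : ℂ))
    {β : Type v} [Fintype β] (rep : β → IrrCharacter G)
    (hgood : ∀ b, IsDefectGroup p M (blockOf M (rep b : G → ℂ)) D)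
    (hinj : ∀ b b', rep b' ∈ blockOf M (rep b : G → ℂ) → b = b')
    (hsurj : ∀ χ : IrrCharacter G, IsDefectGroup p M (blockOf M (χ : G → ℂ)) D →
      ∃ b, χ ∈ blockOf M (rep b : G → ℂ))
    (x y : G) (hxreg : ¬ p ∣ orderOf x)
    (hx : ∃ Q : Sylow p ↥(Subgroup.centralizer ({x} : Set G)),
      (Q : Subgroup ↥(Subgroup.centralizer ({x} : Set G))).map
        (Subgroup.centralizer ({x} : Set G)).subtype = D)
    (hy : ∃ Q : Sylow p ↥(Subgroup.centralizer ({y} : Set G)),
      (Q : Subgroup ↥(Subgroup.centralizer ({y} : Set G))).map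
        (Subgroup.centralizer ({y} : Set G)).subtype = D) :
    MemLocalIdeal M
      (∑ χ : IrrCharacter G, centralChar (χ : G → ℂ) y * (n χ : ℂ) * conj ((χ : G → ℂ) x) -
        ((S : Subgroup G).index : ℂ) * ∑ b : β,
          blockCoeff (blockOf M (rep b : G → ℂ)) x * centralChar (rep b : G → ℂ) y) := by
  have hMp : M.IsPrime := isPrime_of_isPModular hM
  set t : IrrCharacter G → ℂ :=
    fun χ => centralChar (χ : G → ℂ) y * (n χ : ℂ) * conj ((χ : G → ℂ) x) with ht
  have hconjS : ∀ χ : IrrCharacter G, MemLocalRing M (conj ((χ : G → ℂ) x)) := by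
    intro χ
    rw [← Cfsg.Agent.Lib.Helper80.irr_conj_inv]
    exact memLocalRing_algInt hMp ⟨_, Cfsg.Agent.Lib.Helper80.irr_isIntegral χ x⁻¹⟩
  have hsplit : ∑ χ : IrrCharacter G, t χ =
      ∑ χ : IrrCharacter G, (if IsDefectGroup p M (blockOf M (χ : G → ℂ)) D then t χ else 0) +
      ∑ χ : IrrCharacter G, (if IsDefectGroup p M (blockOf M (χ : G → ℂ)) D then 0 else t χ) := by
    rw [← Finset.sum_add_distrib]
    apply Finset.sum_congr rfl
    intro χ _
    split_ifs <;> simp
  have hbadsum : MemLocalIdeal M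
      (∑ χ : IrrCharacter G, (if IsDefectGroup p M (blockOf M (χ : G → ℂ)) D then 0 else t χ)) := by
    apply memLocalIdeal_sum hMp
    intro χ _
    by_cases h : IsDefectGroup p M (blockOf M (χ : G → ℂ)) D
    · rw [if_pos h]
      exact memLocalIdeal_zero hMp
    · rw [if_neg h]
      exact memLocalIdeal_bad_term hM D χ h y x hy hx (n χ)
  have hblock : ∀ b : β, MemLocalIdeal M
      (∑ χ ∈ Finset.univ.filter (fun χ : IrrCharacter G => χ ∈ blockOf M (rep b : G → ℂ)), t χ -
        ((S : Subgroup G).index : ℂ) *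
          (blockCoeff (blockOf M (rep b : G → ℂ)) x * centralChar (rep b : G → ℂ) y)) := by
    intro b
    have h1 := sum_block_mult_eq hM S n hn (rep b) hxreg
    have h2 : ((S : Subgroup G).index : ℂ) *
          (blockCoeff (blockOf M (rep b : G → ℂ)) x * centralChar (rep b : G → ℂ) y) =
        ∑ χ ∈ Finset.univ.filter (fun χ : IrrCharacter G => χ ∈ blockOf M (rep b : G → ℂ)),
          centralChar (rep b : G → ℂ) y * ((n χ : ℂ) * conj ((χ : G → ℂ) x)) := by
      rw [← Finset.mul_sum, h1]
      ring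
    rw [h2, ← Finset.sum_sub_distrib]
    apply memLocalIdeal_sum hMp
    intro χ hχ
    have hmem : χ ∈ blockOf M (rep b : G → ℂ) := (Finset.mem_filter.mp hχ).2
    have h3 : t χ - centralChar (rep b : G → ℂ) y * ((n χ : ℂ) * conj ((χ : G → ℂ) x)) =
        (centralChar (χ : G → ℂ) y - centralChar (rep b : G → ℂ) y) *
          ((n χ : ℂ) * conj ((χ : G → ℂ) x)) := by
      simp only [ht]
      ring
    rw [h3]
    apply memLocalIdeal_mul_right hMp _ (memLocalRing_mul hMp (memLocalRing_natCast hMp _) (hconjS χ))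
    have h4 := hmem y
    have h5 := memLocalIdeal_neg h4
    rwa [neg_sub] at h5
  rw [hsplit, sum_good_eq_sum_blocks hM D rep hgood hinj hsurj t]
  have h6 : ∑ b : β, ∑ χ ∈ Finset.univ.filter
        (fun χ : IrrCharacter G => χ ∈ blockOf M (rep b : G → ℂ)), t χ +
      ∑ χ : IrrCharacter G, (if IsDefectGroup p M (blockOf M (χ : G → ℂ)) D then 0 else t χ) -
      ((S : Subgroup G).index : ℂ) * ∑ b : β,
          blockCoeff (blockOf M (rep b : G → ℂ)) x * centralChar (rep b : G → ℂ) y =
      ∑ b : β, (∑ χ ∈ Finset.univ.filter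
        (fun χ : IrrCharacter G => χ ∈ blockOf M (rep b : G → ℂ)), t χ -
        ((S : Subgroup G).index : ℂ) *
          (blockCoeff (blockOf M (rep b : G → ℂ)) x * centralChar (rep b : G → ℂ) y)) +
      ∑ χ : IrrCharacter G, (if IsDefectGroup p M (blockOf M (χ : G → ℂ)) D then 0 else t χ) := by
    rw [Finset.sum_sub_distrib, Finset.mul_sum]
    ring
  rw [h6]
  exact memLocalIdeal_add hMp (memLocalIdeal_sum hMp _ _ (fun b _ => hblock b)) hbadsum

end

end Cfsg.Agent.Lib.Helper74
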