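import Cfsg.Agent.Lib.Helper74.RB4

set_option autoImplicit false

namespace Cfsg.Agent.Lib.Helper74

open Cfsg Cfsg.Agent.Lib.Helper77 Cfsg.Agent.Lib.Helper81 Cfsg.Agent.Lib.Helper16
open Cfsg.Agent.Lib.Helper75
open scoped ComplexConjugate Pointwise

universe u v

section
variable {G : Type u} [Group G] [Fintype G]

/-- A class on which the idempotent of one block and the central character of another block,
both with the normal defect group `D`, do not vanish modulo the local ideal, is a `p`-regular
class with defect group `D`. -/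
theorem class_of_not_memLocalIdeal {p : ℕ} [Fact p.Prime] {M : Ideal AlgInt}
    (hM : IsPModular p M) (D : Subgroup G) [D.Normal] (χ χ' : IrrCharacter G)
    (hχ : IsDefectGroup p M (blockOf M (χ : G → ℂ)) D)
    (hχ' : IsDefectGroup p M (blockOf M (χ' : G → ℂ)) D) (g : G)
    (ha : ¬ MemLocalIdeal M (blockCoeff (blockOf M (χ : G → ℂ)) g))
    (hω : ¬ MemLocalIdeal M (centralChar (χ' : G → ℂ) g)) :
    ¬ p ∣ orderOf g ∧ ∃ Q : Sylow p ↥(Subgroup.centralizer ({g} : Set G)),
      (Q : Subgroup ↥(Subgroup.centralizer ({g} : Set G))).map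
        (Subgroup.centralizer ({g} : Set G)).subtype = D := by
  have hp : p.Prime := Fact.out
  have hMp : M.IsPrime := isPrime_of_isPModular hM
  constructor
  · intro hdvd
    apply ha
    rw [blockCoeff_eq_zero_of_singular hM χ hdvd]
    exact memLocalIdeal_zero hMp
  · have h1 := factorization_le_blockDefect_of_blockCoeff hM χ g ha
    have h2 := card_eq_pow_blockDefect_of_isDefectGroup hM χ hχ
    have h3 := card_eq_pow_blockDefect_of_isDefectGroup hM χ' hχ'
    have h4 : blockDefect p (blockOf M (χ : G → ℂ)) = blockDefect p (blockOf M (χ' : G → ℂ)) :=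
      Nat.pow_right_injective hp.two_le (h2.symm.trans h3)
    rw [h4] at h1
    let Q : Sylow p ↥(Subgroup.centralizer ({g} : Set G)) := default
    have h5 := isDefectGroup_of_centralChar hM χ' g hω h1 Q
    obtain ⟨y, hy⟩ := exists_conj_le_of_isDefectGroup hM χ' h5 hχ'
    rw [Subgroup.Normal.conj_smul_eq_self] at hy
    exact ⟨Q, (eq_of_le_of_isDefectGroup hM χ' hχ' h5 hy).symm⟩

open Classical in
/-- Orthogonality of idempotent coefficients and central characters, restricted to the classes with
defect group `D`. -/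
theorem robinson_orth {p : ℕ} [Fact p.Prime] {M : Ideal AlgInt}
    (hM : IsPModular p M) (D : Subgroup G) [D.Normal]
    {ι : Type v} [Fintype ι] (K : ι → ConjClasses G) (hKinj : Function.Injective K)
    (hK : ∀ C : ConjClasses G, (∃ i, K i = C) ↔ ∃ x ∈ C.carrier, ¬ p ∣ orderOf x ∧
      ∃ Q : Sylow p (Subgroup.centralizer ({x} : Set G)),
        (Q : Subgroup (Subgroup.centralizer ({x} : Set G))).map
          (Subgroup.centralizer ({x} : Set G)).subtype = D)
    (x : ι → G) (hxmem : ∀ i, x i ∈ (K i).carrier)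
    (χ χ' : IrrCharacter G)
    (hχ : IsDefectGroup p M (blockOf M (χ : G → ℂ)) D)
    (hχ' : IsDefectGroup p M (blockOf M (χ' : G → ℂ)) D) :
    MemLocalIdeal M
      (∑ j : ι, blockCoeff (blockOf M (χ : G → ℂ)) (x j) * centralChar (χ' : G → ℂ) (x j) -
        (if χ' ∈ blockOf M (χ : G → ℂ) then 1 else 0)) := by
  have hMp : M.IsPrime := isPrime_of_isPModular hM
  have hcl : IsClassFunction G (χ' : G → ℂ) := isClassFunction_of_isCharacter χ'.2
  have hbcl := blockCoeff_isClassFunction (blockOf M (χ : G → ℂ))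
  have h1 := omega_blockCoeff (blockOf M (χ : G → ℂ)) χ'
  rw [omega_eq_sum_conjClasses hcl hbcl] at h1
  rw [← h1]
  set f : ConjClasses G → ℂ := fun c => blockCoeff (blockOf M (χ : G → ℂ)) (Quotient.out c) *
      centralChar (χ' : G → ℂ) (Quotient.out c) with hf
  have h2 : ∑ j : ι, blockCoeff (blockOf M (χ : G → ℂ)) (x j) * centralChar (χ' : G → ℂ) (x j) =
      ∑ c ∈ Finset.univ.image K, f c := by
    rw [Finset.sum_image (fun a _ b _ h => hKinj h)]
    apply Finset.sum_congr rfl
    intro j _
    have hconj : IsConj (x j) (Quotient.out (K j)) := by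
      rw [← ConjClasses.mk_eq_mk_iff_isConj, ConjClasses.mem_carrier_iff_mk_eq.mp (hxmem j)]
      exact (Quotient.out_eq (K j)).symm
    simp only [hf]
    rw [isClassFunction_of_isConj hbcl hconj]
    obtain ⟨c, hc⟩ := isConj_iff.mp hconj
    rw [← hc, centralChar_conj hcl]
  rw [h2, ← Finset.sum_add_sum_compl (Finset.univ.image K) f]
  have h3 : ∑ c ∈ Finset.univ.image K, f c - (∑ c ∈ Finset.univ.image K, f c +
      ∑ c ∈ (Finset.univ.image K)ᶜ, f c) = - ∑ c ∈ (Finset.univ.image K)ᶜ, f c := by ring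
  rw [h3]
  apply memLocalIdeal_neg
  apply memLocalIdeal_sum hMp
  intro c hc
  have hS1 : MemLocalRing M (blockCoeff (blockOf M (χ : G → ℂ)) (Quotient.out c)) :=
    memLocalRing_blockCoeff hM χ _
  have hS2 : MemLocalRing M (centralChar (χ' : G → ℂ) (Quotient.out c)) :=
    memLocalRing_centralChar hMp χ'.2 _
  by_cases ha : MemLocalIdeal M (blockCoeff (blockOf M (χ : G → ℂ)) (Quotient.out c))
  · exact memLocalIdeal_mul_right hMp ha hS2
  · by_cases hω : MemLocalIdeal M (centralChar (χ' : G → ℂ) (Quotient.out c))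
    · exact memLocalIdeal_mul_left hMp hS1 hω
    · exfalso
      obtain ⟨hreg, Q, hQ⟩ := class_of_not_memLocalIdeal hM D χ χ' hχ hχ' _ ha hω
      have hmem : Quotient.out c ∈ c.carrier :=
        ConjClasses.mem_carrier_iff_mk_eq.mpr (Quotient.out_eq c)
      obtain ⟨i, hi⟩ := (hK c).mpr ⟨Quotient.out c, hmem, hreg, Q, hQ⟩
      rw [Finset.mem_compl, Finset.mem_image] at hc
      exact hc ⟨i, Finset.mem_univ _, hi⟩

end

end Cfsg.Agent.Lib.Helper74
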