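import Cfsg.Agent.Lib.Helper74.RB5
import Cfsg.Agent.Lib.Helper77.Valuation

set_option autoImplicit false

namespace Cfsg.Agent.Lib.Helper74

open Cfsg Cfsg.Agent.Lib.Helper77 Cfsg.Agent.Lib.Helper81 Cfsg.Agent.Lib.Helper16
open Cfsg.Agent.Lib.Helper75
open scoped ComplexConjugate Pointwise

universe u v

section
variable {G : Type u} [Group G] [Fintype G]

open Classical in
/-- One entry of Robinson's matrix: divisibility by `p ^ (a - d)` and the congruence for the
quotient. -/
theorem robinson_entry [Fintype (IrrCharacter G)] {p : ℕ} [Fact p.Prime]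
    {M : Ideal AlgInt} (hM : IsPModular p M) (D : Subgroup G)
    (S : Sylow p G) [Fintype (S : Subgroup G)] (n : IrrCharacter G → ℕ)
    (hn : ∀ χ : IrrCharacter G, ∑ u : (S : Subgroup G), (χ : G → ℂ) (u : G) =
      (Nat.card (S : Subgroup G) : ℂ) * (n χ : ℂ))
    {β : Type v} [Fintype β] (rep : β → IrrCharacter G)
    (hgood : ∀ b, IsDefectGroup p M (blockOf M (rep b : G → ℂ)) D)
    (hinj : ∀ b b', rep b' ∈ blockOf M (rep b : G → ℂ) → b = b')
    (hsurj : ∀ χ : IrrCharacter G, IsDefectGroup p M (blockOf M (χ : G → ℂ)) D →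
      ∃ b, χ ∈ blockOf M (rep b : G → ℂ))
    (Ki Kj : ConjClasses G) (xi xj : G) (hi : xi ∈ Ki.carrier) (hj : xj ∈ Kj.carrier)
    (hxreg : ¬ p ∣ orderOf xi)
    (hx : ∃ Q : Sylow p ↥(Subgroup.centralizer ({xi} : Set G)),
      (Q : Subgroup ↥(Subgroup.centralizer ({xi} : Set G))).map
        (Subgroup.centralizer ({xi} : Set G)).subtype = D)
    (hy : ∃ Q : Sylow p ↥(Subgroup.centralizer ({xj} : Set G)),
      (Q : Subgroup ↥(Subgroup.centralizer ({xj} : Set G))).map
        (Subgroup.centralizer ({xj} : Set G)).subtype = D) :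
    p ^ ((Nat.card G).factorization p - (Nat.card D).factorization p) ∣
      Nat.card {yz : G × G // yz.1 ∈ Ki.carrier ∧ yz.2 ∈ Kj.carrier ∧
        yz.2 * yz.1⁻¹ ∈ (S : Subgroup G)} ∧
    MemLocalIdeal M
      (((Nat.card {yz : G × G // yz.1 ∈ Ki.carrier ∧ yz.2 ∈ Kj.carrier ∧
          yz.2 * yz.1⁻¹ ∈ (S : Subgroup G)} /
          p ^ ((Nat.card G).factorization p - (Nat.card D).factorization p) : ℕ) : ℂ) *
        ((Nat.card (Subgroup.centralizer ({xi} : Set G)) /
          p ^ (Nat.card (Subgroup.centralizer ({xi} : Set G))).factorization p : ℕ) : ℂ) -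
        ((S : Subgroup G).index : ℂ) * ∑ b : β,
          blockCoeff (blockOf M (rep b : G → ℂ)) xi * centralChar (rep b : G → ℂ) xj) := by
  have hp : p.Prime := Fact.out
  have hMp : M.IsPrime := isPrime_of_isPModular hM
  have hda0 : (Nat.card (Subgroup.centralizer ({xi} : Set G))).factorization p ≤
      (Nat.card G).factorization p := by
    have := factorization_index_centralizer p xi
    omega
  set Ω : ℕ := Nat.card {yz : G × G // yz.1 ∈ Ki.carrier ∧ yz.2 ∈ Kj.carrier ∧
        yz.2 * yz.1⁻¹ ∈ (S : Subgroup G)} with hΩ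
  set Ci : ℕ := Nat.card (Subgroup.centralizer ({xi} : Set G)) with hCi
  set Cj : ℕ := Nat.card (Subgroup.centralizer ({xj} : Set G)) with hCj
  set a : ℕ := (Nat.card G).factorization p with ha
  set c : ℕ := Ci / p ^ Ci.factorization p with hc
  have hCi0 : Ci ≠ 0 := Nat.card_pos.ne'
  have hcardD : Nat.card D = p ^ Ci.factorization p := by
    obtain ⟨Q, hQ⟩ := hx
    rw [← hQ, Subgroup.card_map_of_injective (Subgroup.subtype_injective _),
      Sylow.card_eq_multiplicity Q]
  have hd : (Nat.card D).factorization p = Ci.factorization p := by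
    rw [hcardD, hp.factorization_pow]
    simp
  rw [hd]
  set d : ℕ := Ci.factorization p with hdd
  have hda : d ≤ a := hda0
  have hcard_S : Nat.card (S : Subgroup G) = p ^ a := Sylow.card_eq_multiplicity S
  have hCi_eq : Ci = p ^ d * c := (Nat.ordProj_mul_ordCompl_eq_self Ci p).symm
  have hc_ndvd : ¬ p ∣ c := Nat.not_dvd_ordCompl hp hCi0
  have hcount := robinson_count (S : Subgroup G) Ki Kj xi xj hi hj n hn
  set S0 : ℂ := ∑ χ : IrrCharacter G, (χ : G → ℂ) xj * conj ((χ : G → ℂ) xi) * (n χ : ℂ) /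
          (χ : G → ℂ) 1 with hS0
  set T : ℂ := ∑ χ : IrrCharacter G,
    centralChar (χ : G → ℂ) xj * (n χ : ℂ) * conj ((χ : G → ℂ) xi) with hT
  have hT_eq : T = ((Subgroup.centralizer ({xj} : Set G)).index : ℂ) * S0 := by
    rw [hT, hS0, Finset.mul_sum]
    apply Finset.sum_congr rfl
    intro χ _
    unfold centralChar
    ring
  have hidx : ((Subgroup.centralizer ({xj} : Set G)).index : ℂ) * (Cj : ℂ) = (Nat.card G : ℂ) := by
    have := (Subgroup.centralizer ({xj} : Set G)).card_mul_index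
    rw [mul_comm] at this
    exact_mod_cast this
  have hG0 : (Nat.card G : ℂ) ≠ 0 := Nat.cast_ne_zero.mpr Nat.card_pos.ne'
  have hkey : (Ω : ℂ) * (Ci : ℂ) = (Nat.card (S : Subgroup G) : ℂ) * T := by
    have h1 : (Ω : ℂ) * (Ci : ℂ) * (Nat.card G : ℂ) =
        (Nat.card (S : Subgroup G) : ℂ) * T * (Nat.card G : ℂ) := by
      rw [hT_eq]
      linear_combination (-((Ω : ℂ) * (Ci : ℂ))) * hidx +
        ((Subgroup.centralizer ({xj} : Set G)).index : ℂ) * hcount
    exact mul_right_cancel₀ hG0 h1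
  have hpd0 : ((p : ℂ) ^ d) ≠ 0 := pow_ne_zero _ (Nat.cast_ne_zero.mpr hp.ne_zero)
  have hkey2 : ((Ω * c : ℕ) : ℂ) = ((p ^ (a - d) : ℕ) : ℂ) * T := by
    have h1 : (p : ℂ) ^ d * ((Ω : ℂ) * (c : ℂ)) = (p : ℂ) ^ d * ((p : ℂ) ^ (a - d) * T) := by
      have h2 : (Ci : ℂ) = (p : ℂ) ^ d * (c : ℂ) := by
        rw [hCi_eq]
        push_cast
        ring
      have h3 : (Nat.card (S : Subgroup G) : ℂ) = (p : ℂ) ^ d * (p : ℂ) ^ (a - d) := by
        rw [hcard_S, ← pow_add, Nat.add_sub_cancel' hda]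
        push_cast
        ring
      rw [h2, h3] at hkey
      linear_combination hkey
    have h4 := mul_left_cancel₀ hpd0 h1
    push_cast
    exact h4
  have hTS : MemLocalRing M T := by
    rw [hT]
    apply memLocalRing_sum hMp
    intro χ _
    apply memLocalRing_mul hMp (memLocalRing_mul hMp (memLocalRing_centralChar hMp χ.2 _)
      (memLocalRing_natCast hMp _))
    rw [← Cfsg.Agent.Lib.Helper80.irr_conj_inv]
    exact memLocalRing_algInt hMp ⟨_, Cfsg.Agent.Lib.Helper80.irr_isIntegral χ xi⁻¹⟩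
  have hdvd : p ^ (a - d) ∣ Ω := by
    have h1 : p ^ (a - d) ∣ Ω * c := by
      by_cases h0 : Ω * c = 0
      · rw [h0]
        exact dvd_zero _
      · have h2 := factorization_le_of_eq_mul hM hTS hkey2 h0
        rw [hp.factorization_pow] at h2
        simp only [Finsupp.single_eq_same] at h2
        exact (hp.pow_dvd_iff_le_factorization h0).mpr h2
    have hcop : Nat.Coprime (p ^ (a - d)) c :=
      Nat.Coprime.pow_left _ ((Nat.Prime.coprime_iff_not_dvd hp).mpr hc_ndvd)
    exact hcop.dvd_of_dvd_mul_right h1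
  refine ⟨hdvd, ?_⟩
  have hW : ((Ω / p ^ (a - d) : ℕ) : ℂ) * (c : ℂ) = T := by
    have hpad0 : ((p ^ (a - d) : ℕ) : ℂ) ≠ 0 :=
      Nat.cast_ne_zero.mpr (pow_ne_zero _ hp.ne_zero)
    apply mul_left_cancel₀ hpad0
    rw [← hkey2, ← mul_assoc, ← Nat.cast_mul, Nat.mul_div_cancel' hdvd, Nat.cast_mul]
  rw [hW]
  exact robinson_congr hM D S n hn rep hgood hinj hsurj xi xj hxreg hx hy

end

end Cfsg.Agent.Lib.Helper74
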