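import Cfsg.Agent.Lib.Helper74.RB1
import Cfsg.Agent.Lib.Helper77.LocalTrace
import Cfsg.Agent.Lib.Helper74.PReg3

set_option autoImplicit false

namespace Cfsg.Agent.Lib.Helper74

open Cfsg Cfsg.Agent.Lib.Helper77 Cfsg.Agent.Lib.Helper81
open Cfsg.Agent.Lib.Helper77.IdemTrace
open scoped Matrix

universe v w

/-- Linear algebra over the residue field of the local ring: a square matrix of natural numbers
which, up to unit row factors, is congruent to `Aᵀ Λ` with `A Λᵀ ≡ 1` has rank `|β|` modulo `p`. -/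
theorem rank_of_local_factorization {p : ℕ} [Fact p.Prime] {M : Ideal AlgInt}
    (hM : IsPModular p M) {ι : Type v} [Fintype ι] [DecidableEq ι] {β : Type w} [Fintype β] [DecidableEq β]
    (W : ι → ι → ℕ) (c : ι → ℕ) (hc : ∀ i, ¬ p ∣ c i) (g' : ℕ) (hg' : ¬ p ∣ g')
    (aC ωC : β → ι → ℂ) (haS : ∀ b i, MemLocalRing M (aC b i))
    (hωS : ∀ b i, MemLocalRing M (ωC b i))
    (hE1 : ∀ i j, MemLocalIdeal M ((W i j : ℂ) * (c i : ℂ) -
      (g' : ℂ) * ∑ b : β, aC b i * ωC b j))
    (hE2 : ∀ b b' : β, MemLocalIdeal M (∑ j : ι, aC b j * ωC b' j -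
      (if b = b' then 1 else 0))) :
    (Matrix.of fun i j : ι => ((W i j : ℕ) : ZMod p)).rank = Fintype.card β := by
  have hp : p.Prime := Fact.out
  have hMp : M.IsPrime := isPrime_of_isPModular hM
  let R := localSubring M hMp
  let k := IsLocalRing.ResidueField R
  let red : R →+* k := IsLocalRing.residue R
  have hred0 : ∀ r : R, red r = 0 ↔ MemLocalIdeal M (r : ℂ) := by
    intro r
    rw [IsLocalRing.residue_eq_zero_iff, mem_maximalIdeal_iff]
  have hnat : ∀ m : ℕ, ((m : k) = 0) ↔ p ∣ m := by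
    intro m
    have h1 : (m : k) = red (m : R) := (map_natCast red m).symm
    rw [h1, hred0]
    have h2 : (((m : R) : R) : ℂ) = (m : ℂ) := by push_cast; rfl
    rw [h2]
    exact memLocalIdeal_natCast_iff hM m
  have hpk : ((p : ℕ) : k) = 0 := (hnat p).mpr dvd_rfl
  have : CharP k p := (CharP.charP_iff_prime_eq_zero hp).mpr hpk
  let f : ZMod p →+* k := ZMod.castHom (dvd_refl p) k
  let aR : β → ι → R := fun b i => ⟨aC b i, (mem_localSubring hMp _).mpr (haS b i)⟩
  let ωR : β → ι → R := fun b i => ⟨ωC b i, (mem_localSubring hMp _).mpr (hωS b i)⟩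
  let A' : Matrix β ι k := Matrix.of fun b i => red (aR b i)
  let Λ' : Matrix β ι k := Matrix.of fun b i => red (ωR b i)
  let U : Matrix ι ι k := Matrix.diagonal fun i => (g' : k) * ((c i : k))⁻¹
  have hck : ∀ i, (c i : k) ≠ 0 := fun i h => hc i ((hnat _).mp h)
  have hgk : (g' : k) ≠ 0 := fun h => hg' ((hnat _).mp h)
  have hE1' : ∀ i j, (W i j : k) * (c i : k) = (g' : k) * ∑ b : β, A' b i * Λ' b j := by
    intro i j
    have h1 : red ((W i j : R) * (c i : R) - (g' : R) * ∑ b : β, aR b i * ωR b j) = 0 := by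
      rw [hred0]
      have h2 : (((W i j : R) * (c i : R) - (g' : R) * ∑ b : β, aR b i * ωR b j : R) : ℂ) =
          (W i j : ℂ) * (c i : ℂ) - (g' : ℂ) * ∑ b : β, aC b i * ωC b j := by
        push_cast
        rfl
      rw [h2]
      exact hE1 i j
    rw [map_sub, map_mul, map_mul, map_natCast, map_natCast, map_natCast, map_sum, sub_eq_zero]
      at h1
    rw [h1]
    congr 1
  have hE2' : ∀ b b' : β, ∑ j : ι, A' b j * Λ' b' j = if b = b' then 1 else 0 := by
    intro b b'
    have h1 : red (∑ j : ι, aR b j * ωR b' j - (if b = b' then 1 else 0)) = 0 := by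
      rw [hred0]
      have h2 : ((∑ j : ι, aR b j * ωR b' j - (if b = b' then 1 else 0) : R) : ℂ) =
          ∑ j : ι, aC b j * ωC b' j - (if b = b' then 1 else 0) := by
        push_cast
        split_ifs <;> simp [aR, ωR]
      rw [h2]
      exact hE2 b b'
    rw [map_sub, map_sum, sub_eq_zero] at h1
    have h3 : red (if b = b' then 1 else 0) = if b = b' then 1 else 0 := by
      split_ifs <;> simp
    rw [h3] at h1
    rw [← h1]
    apply Finset.sum_congr rfl
    intro j _
    rw [map_mul]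
    rfl
  have hWk : (Matrix.of fun i j : ι => ((W i j : ℕ) : ZMod p)).map f = U * (A'ᵀ * Λ') := by
    ext i j
    rw [Matrix.map_apply, Matrix.of_apply, map_natCast, Matrix.diagonal_mul, Matrix.mul_apply]
    simp only [Matrix.transpose_apply]
    have h1 := hE1' i j
    rw [mul_assoc, mul_comm ((c i : k))⁻¹, ← mul_assoc, ← h1, mul_assoc, mul_inv_cancel₀ (hck i),
      mul_one]
  have hAL : A' * Λ'ᵀ = 1 := by
    ext b b'
    rw [Matrix.mul_apply, Matrix.one_apply]
    simp only [Matrix.transpose_apply]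
    exact hE2' b b'
  have hLA : Λ' * A'ᵀ = 1 := by
    have := congrArg Matrix.transpose hAL
    rwa [Matrix.transpose_mul, Matrix.transpose_transpose, Matrix.transpose_one] at this
  have hUdet : IsUnit U.det := by
    rw [Matrix.det_diagonal, isUnit_iff_ne_zero]
    exact Finset.prod_ne_zero_iff.mpr (fun i _ => mul_ne_zero hgk (inv_ne_zero (hck i)))
  have hrank1 : (U * (A'ᵀ * Λ')).rank = (A'ᵀ * Λ').rank :=
    Matrix.rank_mul_eq_right_of_isUnit_det U _ hUdet
  have hupper : (A'ᵀ * Λ').rank ≤ Fintype.card β :=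
    (Matrix.rank_mul_le_left _ _).trans (Matrix.rank_le_card_width _)
  have hlower : Fintype.card β ≤ (A'ᵀ * Λ').rank := by
    have h1 : Λ' * (A'ᵀ * Λ') * A'ᵀ = 1 := by
      rw [← Matrix.mul_assoc, hLA, Matrix.one_mul, hLA]
    have h2 : (Λ' * (A'ᵀ * Λ') * A'ᵀ).rank = Fintype.card β := by
      rw [h1, Matrix.rank_one]
    rw [← h2]
    exact (Matrix.rank_mul_le_left _ _).trans (Matrix.rank_mul_le_right _ _)
  rw [← rank_map_field f, hWk, hrank1]
  exact le_antisymm hupper hlower

end Cfsg.Agent.Lib.Helper74
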