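import Cfsg.Agent.Lib.Helper74.RB6
import Cfsg.Agent.Lib.Helper74.RB7

set_option autoImplicit false

namespace Cfsg.Agent.Lib.Helper74

open Cfsg Cfsg.Agent.Lib.Helper77 Cfsg.Agent.Lib.Helper81 Cfsg.Agent.Lib.Helper16
open Cfsg.Agent.Lib.Helper75
open scoped ComplexConjugate Pointwise

universe u v

/-- **Robinson's theorem** on the number of blocks with a given normal defect group. -/
theorem robinson_main {G : Type u} [Group G] [Finite G] (p : ℕ) [Fact p.Prime]
    (M : Ideal AlgInt) (hM : IsPModular p M) (D : Subgroup G) [D.Normal] (S : Sylow p G)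
    {ι : Type v} [Fintype ι] [DecidableEq ι] (K : ι → ConjClasses G)
    (hKinj : Function.Injective K)
    (hK : ∀ C : ConjClasses G, (∃ i, K i = C) ↔ ∃ x ∈ C.carrier, ¬ p ∣ orderOf x ∧
      ∃ Q : Sylow p (Subgroup.centralizer ({x} : Set G)),
        (Q : Subgroup (Subgroup.centralizer ({x} : Set G))).map
          (Subgroup.centralizer ({x} : Set G)).subtype = D) :
    Nat.card {B : Set (IrrCharacter G) // IsPBlock M B ∧ IsDefectGroup p M B D} =
      (Matrix.of fun i j : ι => ((Nat.card {yz : G × G // yz.1 ∈ (K i).carrier ∧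
        yz.2 ∈ (K j).carrier ∧ yz.2 * yz.1⁻¹ ∈ (S : Subgroup G)} /
        p ^ ((Nat.card G).factorization p - (Nat.card D).factorization p) : ℕ) : ZMod p)).rank := by
  classical
  have hp : p.Prime := Fact.out
  have hMp : M.IsPrime := isPrime_of_isPModular hM
  have : Fintype G := Fintype.ofFinite G
  have : Fintype (IrrCharacter G) := Fintype.ofFinite _
  have : Fintype (S : Subgroup G) := Fintype.ofFinite _
  have hx0 : ∀ i, ∃ x ∈ (K i).carrier, ¬ p ∣ orderOf x ∧
      ∃ Q : Sylow p (Subgroup.centralizer ({x} : Set G)),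
        (Q : Subgroup (Subgroup.centralizer ({x} : Set G))).map
          (Subgroup.centralizer ({x} : Set G)).subtype = D := fun i => (hK (K i)).mp ⟨i, rfl⟩
  choose x hxmem hxreg hxQ using hx0
  have : Fintype {B : Set (IrrCharacter G) // IsPBlock M B ∧ IsDefectGroup p M B D} :=
    Fintype.ofFinite _
  have hrep0 : ∀ b : {B : Set (IrrCharacter G) // IsPBlock M B ∧ IsDefectGroup p M B D},
      ∃ χ : IrrCharacter G, b.1 = blockOf M (χ : G → ℂ) := fun b => b.2.1
  choose rep hrep using hrep0
  have hgood : ∀ b, IsDefectGroup p M (blockOf M (rep b : G → ℂ)) D := by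
    intro b
    rw [← hrep b]
    exact b.2.2
  have hinj : ∀ b b', rep b' ∈ blockOf M (rep b : G → ℂ) → b = b' := by
    intro b b' h
    apply Subtype.ext
    rw [hrep b, hrep b', blockOf_eq_of_mem hMp h]
  have hsurj : ∀ χ : IrrCharacter G, IsDefectGroup p M (blockOf M (χ : G → ℂ)) D →
      ∃ b, χ ∈ blockOf M (rep b : G → ℂ) := by
    intro χ h
    refine ⟨⟨blockOf M (χ : G → ℂ), ⟨χ, rfl⟩, h⟩, ?_⟩
    rw [← hrep]
    exact self_mem_blockOf hMp χ
  choose n hn using fun χ : IrrCharacter G => sum_subgroup_char_eq χ (S : Subgroup G)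
  have hentry := fun i j => robinson_entry hM D S n hn rep hgood hinj hsurj (K i) (K j)
    (x i) (x j) (hxmem i) (hxmem j) (hxreg i) (hxQ i) (hxQ j)
  rw [Nat.card_eq_fintype_card]
  symm
  apply rank_of_local_factorization hM
    (fun i j => Nat.card {yz : G × G // yz.1 ∈ (K i).carrier ∧
        yz.2 ∈ (K j).carrier ∧ yz.2 * yz.1⁻¹ ∈ (S : Subgroup G)} /
        p ^ ((Nat.card G).factorization p - (Nat.card D).factorization p))
    (fun i => Nat.card (Subgroup.centralizer ({x i} : Set G)) /
          p ^ (Nat.card (Subgroup.centralizer ({x i} : Set G))).factorization p)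
    (fun i => Nat.not_dvd_ordCompl hp Nat.card_pos.ne')
    ((S : Subgroup G).index) (Sylow.not_dvd_index S)
    (fun b i => blockCoeff (blockOf M (rep b : G → ℂ)) (x i))
    (fun b i => centralChar (rep b : G → ℂ) (x i))
    (fun b i => memLocalRing_blockCoeff hM (rep b) _)
    (fun b i => memLocalRing_centralChar hMp (rep b).2 _)
    (fun i j => (hentry i j).2)
  intro b b'
  have h1 := robinson_orth hM D K hKinj hK x hxmem (rep b) (rep b') (hgood b) (hgood b')
  have h2 : (rep b' ∈ blockOf M (rep b : G → ℂ)) ↔ b = b' := by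
    constructor
    · exact hinj b b'
    · intro h
      subst h
      exact self_mem_blockOf hMp (rep b)
  rw [if_congr h2 rfl rfl] at h1
  exact h1

end Cfsg.Agent.Lib.Helper74
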