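import Cfsg.Agent.Lib.Helper74.PConj1
import Cfsg.Agent.Lib.Helper81.OneIrr

/-!
# Real-valued irreducible characters of odd degree (helper74)

The sum of such a character over the elements of odd order is not zero; hence it lies in the
principal `2`-block, and there are at most `2 ^ (2 n)` of them.
-/

set_option autoImplicit false

namespace Cfsg.Agent.Lib.Helper74

open Cfsg Cfsg.Agent.Lib.Helper81
open scoped ComplexConjugate

universe u

variable {G : Type u} [Group G] [Fintype G]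

open Classical in
/-- A real-valued irreducible character of odd degree has non-zero sum over the elements of odd
order. -/
theorem sum_regular_ne_zero_of_real_odd (M : Ideal AlgInt) (hM : IsPModular 2 M)
    (χ : IrrCharacter G) (hreal : ∀ g : G, ((χ : G → ℂ) g).im = 0)
    (hodd : Odd (charDegree (χ : G → ℂ))) :
    ∑ x ∈ Finset.univ.filter (fun x : G => ¬ 2 ∣ orderOf x), (χ : G → ℂ) x ≠ 0 := by
  have hMp : M.IsPrime := isPrime_of_isPModular hM
  set R := Finset.univ.filter (fun x : G => ¬ 2 ∣ orderOf x) with hR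
  set a : G → AlgInt := fun x => ⟨(χ : G → ℂ) x, Cfsg.Agent.Lib.Helper80.irr_isIntegral χ x⟩ with ha
  have h1R : (1 : G) ∈ R := by
    rw [hR, Finset.mem_filter]
    refine ⟨Finset.mem_univ _, ?_⟩
    rw [orderOf_one]
    norm_num
  have hinv : ∀ x : G, a x⁻¹ = a x := by
    intro x
    apply Subtype.ext
    simp only [ha]
    rw [Cfsg.Agent.Lib.Helper80.irr_conj_inv]
    exact Complex.conj_eq_iff_im.mpr (hreal x)
  have h2M : (2 : AlgInt) ∈ M := by
    have := hM.2.2
    exact_mod_cast this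
  have hq : ∑ x ∈ R.erase 1, Ideal.Quotient.mk M (a x) = 0 := by
    refine Finset.sum_involution (fun x _ => x⁻¹) ?_ ?_ ?_ ?_
    · intro x _
      rw [hinv x, ← map_add, Ideal.Quotient.eq_zero_iff_mem, ← two_mul]
      exact M.mul_mem_right _ h2M
    · intro x hx _ hxx
      rw [Finset.mem_erase, hR, Finset.mem_filter] at hx
      have h2 : x ^ 2 = 1 := by
        rw [sq]
        nth_rewrite 1 [← hxx]
        exact inv_mul_cancel x
      have h3 : orderOf x ∣ 2 := orderOf_dvd_of_pow_eq_one h2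
      rcases (Nat.dvd_prime Nat.prime_two).mp h3 with h4 | h4
      · exact hx.1 (orderOf_eq_one_iff.mp h4)
      · exact hx.2.2 (h4 ▸ dvd_rfl)
    · intro x hx
      rw [Finset.mem_erase, hR, Finset.mem_filter] at hx ⊢
      refine ⟨?_, Finset.mem_univ _, ?_⟩
      · intro h
        exact hx.1 (inv_eq_one.mp h)
      · rw [orderOf_inv]
        exact hx.2.2
    · intro x _
      exact inv_inv x
  have hmem : ∑ x ∈ R.erase 1, a x ∈ M := by
    rw [← Ideal.Quotient.eq_zero_iff_mem, map_sum]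
    exact hq
  intro h0
  rw [← Finset.add_sum_erase R _ h1R] at h0
  have h1 : ((charDegree (χ : G → ℂ) : ℕ) : ℂ) = ((-(∑ x ∈ R.erase 1, a x) : AlgInt) : ℂ) := by
    rw [← irr_apply_one_eq_charDegree]
    push_cast
    have : ∑ x ∈ R.erase 1, ((a x : AlgInt) : ℂ) = ∑ x ∈ R.erase 1, (χ : G → ℂ) x := rfl
    rw [this]
    linear_combination h0
  have h2 : MemLocalIdeal M ((charDegree (χ : G → ℂ) : ℕ) : ℂ) := by
    rw [h1]
    exact memLocalIdeal_of_mem hMp (M.neg_mem hmem)
  rw [memLocalIdeal_natCast_iff hM] at h2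
  exact (Nat.not_even_iff_odd.mpr hodd) (even_iff_two_dvd.mpr h2)

end Cfsg.Agent.Lib.Helper74

namespace Cfsg.Agent.Lib.Helper74

open Cfsg Cfsg.Agent.Lib.Helper81
open scoped ComplexConjugate

universe u

variable {G : Type u} [Group G] [Fintype G]

/-- A real-valued irreducible character of odd degree lies in the principal `2`-block. -/
theorem mem_principalBlock_of_real_odd (M : Ideal AlgInt) (hM : IsPModular 2 M)
    (χ : IrrCharacter G) (hreal : ∀ g : G, ((χ : G → ℂ) g).im = 0)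
    (hodd : Odd (charDegree (χ : G → ℂ))) : χ ∈ principalBlock M G := by
  classical
  have := Fintype.ofFinite (IrrCharacter G)
  have : Fact (Nat.Prime 2) := ⟨Nat.prime_two⟩
  by_contra h
  have hns : ¬ SameBlock M (χ : G → ℂ) ((oneIrr G : IrrCharacter G) : G → ℂ) :=
    fun hs => h (sameBlock_symm hs)
  have h0 := Cfsg.Agent.S0952.orth_regular 2 M hM χ (oneIrr G) hns
  apply sum_regular_ne_zero_of_real_odd M hM χ hreal hodd
  rw [← h0]
  apply Finset.sum_congr rfl
  intro g _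
  rw [oneIrr_apply, map_one, mul_one]

open Classical in
/-- There are at most `2 ^ (2 n)` real-valued irreducible characters of odd degree. -/
theorem card_real_odd_le [Fintype (IrrCharacter G)] (M : Ideal AlgInt) (hM : IsPModular 2 M)
    (S : Finset (IrrCharacter G))
    (hS : ∀ χ ∈ S, (∀ g : G, ((χ : G → ℂ) g).im = 0) ∧ Odd (charDegree (χ : G → ℂ))) :
    S.card ≤ 2 ^ (2 * (Nat.card G).factorization 2) := by
  have : Fact (Nat.Prime 2) := ⟨Nat.prime_two⟩
  set a := (Nat.card G).factorization 2 with ha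
  set χ : IrrCharacter G := oneIrr G with hχ
  have hint : ∀ ξ : IrrCharacter G, ∃ t : ℤ,
      classInner (pTilde 2 (χ : G → ℂ)) (ξ : G → ℂ) = (t : ℂ) := fun ξ => pTilde_int 2 χ ξ
  choose T hT using hint
  set t := T χ with ht
  have hχcl : IsClassFunction G (χ : G → ℂ) := fun g h => Cfsg.Agent.Lib.Helper80.irr_class χ g h
  have hexp : ∀ x : G, pTilde 2 (χ : G → ℂ) x = ∑ ξ : IrrCharacter G, (T ξ : ℂ) * (ξ : G → ℂ) x := by
    intro x
    rw [Cfsg.Agent.Lib.Helper80.classFun_expansion _ (pTilde_isClassFunction 2 hχcl) x]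
    apply Finset.sum_congr rfl
    intro ξ _
    rw [← hT ξ]
    rfl
  have hexpf : pTilde 2 (χ : G → ℂ) = ∑ ξ : IrrCharacter G, (T ξ : ℂ) • (ξ : G → ℂ) := by
    funext x
    rw [hexp x, Finset.sum_apply]
    rfl
  have hsq : ∑ ξ : IrrCharacter G, T ξ ^ 2 = (2 : ℤ) ^ a * t := by
    have e1 : classInner (pTilde 2 (χ : G → ℂ)) (pTilde 2 (χ : G → ℂ)) =
        ((2 ^ a : ℕ) : ℂ) * (t : ℂ) := by
      rw [classInner_pTilde_right, pTilde_pTilde, Cfsg.Agent.Lib.Helper25.classInner_smul_left, hT χ]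
    have e2 : classInner (pTilde 2 (χ : G → ℂ)) (pTilde 2 (χ : G → ℂ)) =
        ∑ ξ : IrrCharacter G, ((T ξ : ℂ)) ^ 2 := by
      conv_lhs => rw [hexpf]
      rw [Cfsg.Agent.Lib.Helper25.classInner_sum_left]
      apply Finset.sum_congr rfl
      intro ξ _
      rw [Cfsg.Agent.Lib.Helper25.classInner_smul_left, ← hexpf,
        ← Cfsg.Agent.Lib.Helper25.classInner_conj_symm, hT ξ]
      simp [sq]
    have e3 : ((∑ ξ : IrrCharacter G, T ξ ^ 2 : ℤ) : ℂ) = (((2 : ℤ) ^ a * t : ℤ) : ℂ) := by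
      push_cast
      rw [← e2, e1]
      push_cast
      rfl
    exact_mod_cast e3
  -- `t ≤ 2 ^ a`
  have hG : (0 : ℝ) < (Nat.card G : ℝ) := by exact_mod_cast Nat.card_pos
  have htle : t ≤ (2 : ℤ) ^ a := by
    have e : ((t : ℤ) : ℂ) = (((Nat.card G : ℝ)⁻¹ *
        ∑ g : G, (if 2 ∣ orderOf g then (0 : ℝ) else ((2 ^ a : ℕ) : ℝ)) : ℝ) : ℂ) := by
      rw [← hT χ]
      unfold classInner
      push_cast
      congr 1
      apply Finset.sum_congr rfl
      intro g _
      rw [pTilde_apply, hχ, oneIrr_apply, ← ha]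
      split_ifs
      · simp
      · rw [map_one, mul_one, mul_one]
        push_cast
        rfl
    have e' : (t : ℝ) = (Nat.card G : ℝ)⁻¹ *
        ∑ g : G, (if 2 ∣ orderOf g then (0 : ℝ) else ((2 ^ a : ℕ) : ℝ)) := by
      exact_mod_cast e
    have hle : ∑ g : G, (if 2 ∣ orderOf g then (0 : ℝ) else ((2 ^ a : ℕ) : ℝ)) ≤
        ∑ _g : G, ((2 ^ a : ℕ) : ℝ) := by
      apply Finset.sum_le_sum
      intro g _
      split_ifs
      · positivity
      · exact le_rfl
    rw [Finset.sum_const, Finset.card_univ, nsmul_eq_mul, ← Nat.card_eq_fintype_card] at hle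
    have : (t : ℝ) ≤ ((2 ^ a : ℕ) : ℝ) := by
      rw [e']
      calc (Nat.card G : ℝ)⁻¹ * ∑ g : G, (if 2 ∣ orderOf g then (0 : ℝ) else ((2 ^ a : ℕ) : ℝ))
          ≤ (Nat.card G : ℝ)⁻¹ * ((Nat.card G : ℝ) * ((2 ^ a : ℕ) : ℝ)) :=
            mul_le_mul_of_nonneg_left hle (inv_nonneg.mpr hG.le)
        _ = ((2 ^ a : ℕ) : ℝ) := by
            field_simp
    exact_mod_cast this
  -- the members of `S` have non-zero coefficient
  have hTS : ∀ ψ ∈ S, T ψ ≠ 0 := by
    intro ψ hψ h0
    obtain ⟨hreal, hodd⟩ := hS ψ hψ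
    have h1 := hT ψ
    rw [h0, Int.cast_zero] at h1
    apply sum_regular_ne_zero_of_real_odd M hM ψ hreal hodd
    unfold classInner at h1
    have hGc : (Nat.card G : ℂ)⁻¹ ≠ 0 := by
      apply inv_ne_zero
      exact_mod_cast Nat.card_pos.ne'
    have h2 := (mul_eq_zero.mp h1).resolve_left hGc
    have h3 : ∑ g : G, pTilde 2 (χ : G → ℂ) g * conj ((ψ : G → ℂ) g) =
        ((2 ^ a : ℕ) : ℂ) * ∑ x ∈ Finset.univ.filter (fun x : G => ¬ 2 ∣ orderOf x),
          (ψ : G → ℂ) x := by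
      rw [Finset.sum_filter, Finset.mul_sum]
      apply Finset.sum_congr rfl
      intro g _
      rw [pTilde_apply, hχ, oneIrr_apply, Complex.conj_eq_iff_im.mpr (hreal g), ← ha]
      split_ifs
      · simp
      · rw [mul_one]
    rw [h3] at h2
    have h4 : ((2 ^ a : ℕ) : ℂ) ≠ 0 := by
      exact_mod_cast (pow_pos (by norm_num : 0 < 2) a).ne'
    exact (mul_eq_zero.mp h2).resolve_left h4
  have h1 : (S.card : ℤ) ≤ ∑ ξ ∈ S, T ξ ^ 2 := by
    rw [Finset.card_eq_sum_ones]
    push_cast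
    apply Finset.sum_le_sum
    intro ξ hξ
    have := hTS ξ hξ
    have h2 : 0 < T ξ ^ 2 := by positivity
    omega
  have h2 : ∑ ξ ∈ S, T ξ ^ 2 ≤ ∑ ξ : IrrCharacter G, T ξ ^ 2 := by
    apply Finset.sum_le_sum_of_subset_of_nonneg (Finset.subset_univ S)
    intro ξ _ _
    positivity
  have h3 : (S.card : ℤ) ≤ (2 : ℤ) ^ (2 * a) := by
    calc (S.card : ℤ) ≤ ∑ ξ : IrrCharacter G, T ξ ^ 2 := h1.trans h2
      _ = (2 : ℤ) ^ a * t := hsq
      _ ≤ (2 : ℤ) ^ a * (2 : ℤ) ^ a := by
          apply mul_le_mul_of_nonneg_left htle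
          positivity
      _ = (2 : ℤ) ^ (2 * a) := by ring
  exact_mod_cast h3

end Cfsg.Agent.Lib.Helper74
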