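import Cfsg.Agent.Lib.Helper74.RealOdd
import Cfsg.Agent.Lib.Helper15.Gallagher
import Cfsg.Agent.Lib.Helper15.LinearChar
import Cfsg.Agent.Lib.Helper75.Twist
import Cfsg.Agent.Lib.Helper38.SL2PS
import Cfsg.Agent.Lib.Helper3.OddOrder

/-!
# Characters of odd degree that are real on the elements of odd order (helper74)

Such a character lies in the principal `2`-block.  A real-valued irreducible character of odd
degree of a normal subgroup that extends to the group has an extension in the principal
`2`-block.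
-/

set_option autoImplicit false

namespace Cfsg.Agent.Lib.Helper74

open Cfsg Cfsg.Agent.Lib.Helper81
open scoped ComplexConjugate

universe u

variable {G : Type u} [Group G] [Fintype G]

open Classical in
/-- An irreducible character of odd degree, real on the elements of odd order, has non-zero sum
over the elements of odd order. -/
theorem sum_regular_ne_zero_of_real_odd' (M : Ideal AlgInt) (hM : IsPModular 2 M)
    (χ : IrrCharacter G) (hreal : ∀ g : G, ¬ 2 ∣ orderOf g → ((χ : G → ℂ) g).im = 0)
    (hodd : Odd (charDegree (χ : G → ℂ))) :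
    ∑ x ∈ Finset.univ.filter (fun x : G => ¬ 2 ∣ orderOf x), (χ : G → ℂ) x ≠ 0 := by
  have hMp : M.IsPrime := isPrime_of_isPModular hM
  set R := Finset.univ.filter (fun x : G => ¬ 2 ∣ orderOf x) with hR
  set a : G → AlgInt := fun x => ⟨(χ : G → ℂ) x, Cfsg.Agent.Lib.Helper80.irr_isIntegral χ x⟩ with ha
  have h1R : (1 : G) ∈ R := by
    rw [hR, Finset.mem_filter]
    refine ⟨Finset.mem_univ _, ?_⟩
    rw [orderOf_one]
    norm_num
  have hinv : ∀ x : G, ¬ 2 ∣ orderOf x → a x⁻¹ = a x := by
    intro x hx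
    apply Subtype.ext
    simp only [ha]
    rw [Cfsg.Agent.Lib.Helper80.irr_conj_inv]
    exact Complex.conj_eq_iff_im.mpr (hreal x hx)
  have h2M : (2 : AlgInt) ∈ M := by
    have := hM.2.2
    exact_mod_cast this
  have hq : ∑ x ∈ R.erase 1, Ideal.Quotient.mk M (a x) = 0 := by
    refine Finset.sum_involution (fun x _ => x⁻¹) ?_ ?_ ?_ ?_
    · intro x hx
      rw [Finset.mem_erase, hR, Finset.mem_filter] at hx
      rw [hinv x hx.2.2, ← map_add, Ideal.Quotient.eq_zero_iff_mem, ← two_mul]
      exact M.mul_mem_right _ h2M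
    · intro x hx _ hxx
      rw [Finset.mem_erase, hR, Finset.mem_filter] at hx
      have h2 : x ^ 2 = 1 := by
        rw [sq]
        nth_rewrite 1 [← hxx]
        exact inv_mul_cancel x
      have h3 : orderOf x ∣ 2 := orderOf_dvd_of_pow_eq_one h2
      rcases (Nat.dvd_prime Nat.prime_two).mp h3 with h4 | h4
      · exact hx.1 (orderOf_eq_one_iff.mp h4)
      · exact hx.2.2 (h4 ▸ dvd_rfl)
    · intro x hx
      rw [Finset.mem_erase, hR, Finset.mem_filter] at hx ⊢
      refine ⟨?_, Finset.mem_univ _, ?_⟩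
      · intro h
        exact hx.1 (inv_eq_one.mp h)
      · rw [orderOf_inv]
        exact hx.2.2
    · intro x _
      exact inv_inv x
  have hmem : ∑ x ∈ R.erase 1, a x ∈ M := by
    rw [← Ideal.Quotient.eq_zero_iff_mem, map_sum]
    exact hq
  intro h0
  rw [← Finset.add_sum_erase R _ h1R] at h0
  have h1 : ((charDegree (χ : G → ℂ) : ℕ) : ℂ) = ((-(∑ x ∈ R.erase 1, a x) : AlgInt) : ℂ) := by
    rw [← irr_apply_one_eq_charDegree]
    push_cast
    have : ∑ x ∈ R.erase 1, ((a x : AlgInt) : ℂ) = ∑ x ∈ R.erase 1, (χ : G → ℂ) x := rfl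
    rw [this]
    linear_combination h0
  have h2 : MemLocalIdeal M ((charDegree (χ : G → ℂ) : ℕ) : ℂ) := by
    rw [h1]
    exact memLocalIdeal_of_mem hMp (M.neg_mem hmem)
  rw [memLocalIdeal_natCast_iff hM] at h2
  exact (Nat.not_even_iff_odd.mpr hodd) (even_iff_two_dvd.mpr h2)

/-- An irreducible character of odd degree that is real on the elements of odd order lies in the
principal `2`-block. -/
theorem mem_principalBlock_of_real_odd' (M : Ideal AlgInt) (hM : IsPModular 2 M)
    (χ : IrrCharacter G) (hreal : ∀ g : G, ¬ 2 ∣ orderOf g → ((χ : G → ℂ) g).im = 0)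
    (hodd : Odd (charDegree (χ : G → ℂ))) : χ ∈ principalBlock M G := by
  classical
  have := Fintype.ofFinite (IrrCharacter G)
  have : Fact (Nat.Prime 2) := ⟨Nat.prime_two⟩
  by_contra h
  have hns : ¬ SameBlock M (χ : G → ℂ) ((oneIrr G : IrrCharacter G) : G → ℂ) :=
    fun hs => h (sameBlock_symm hs)
  have h0 := Cfsg.Agent.S0952.orth_regular 2 M hM χ (oneIrr G) hns
  apply sum_regular_ne_zero_of_real_odd' M hM χ hreal hodd
  rw [← h0]
  apply Finset.sum_congr rfl
  intro g _
  rw [oneIrr_apply, map_one, mul_one]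

end Cfsg.Agent.Lib.Helper74

namespace Cfsg.Agent.Lib.Helper74

open Cfsg Cfsg.Agent.Lib.Helper81
open scoped ComplexConjugate

universe u

variable {G : Type u} [Group G] [Fintype G]

/-- A real-valued irreducible character of odd degree of a normal subgroup that extends to the
group has an extension in the principal `2`-block. -/
theorem exists_ext_mem_principalBlock (N : Subgroup G) [N.Normal] [Fintype N]
    (M : Ideal AlgInt) (hM : IsPModular 2 M) (θ : IrrCharacter N)
    (hreal : ∀ n : N, ((θ : N → ℂ) n).im = 0) (hodd : Odd (charDegree (θ : N → ℂ)))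
    (η : IrrCharacter G) (hη : ∀ n : N, (η : G → ℂ) n = (θ : N → ℂ) n) :
    ∃ η' : IrrCharacter G, (∀ n : N, (η' : G → ℂ) n = (θ : N → ℂ) n) ∧
      η' ∈ principalBlock M G := by
  classical
  have hηN : IsIrrCharacter N (fun n : N => (η : G → ℂ) n) := by
    have : (fun n : N => (η : G → ℂ) n) = (θ : N → ℂ) := funext hη
    rw [this]
    exact θ.2
  have hηbar : IsIrrCharacter G (fun g => conj ((η : G → ℂ) g)) :=
    Cfsg.Agent.Lib.Helper3.IsIrrCharacter.conj η.2
  have hne : classInner (fun n : N => (fun g => conj ((η : G → ℂ) g)) (n : G))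
      (fun n : N => (η : G → ℂ) n) ≠ 0 := by
    have e : (fun n : N => (fun g => conj ((η : G → ℂ) g)) (n : G)) = (θ : N → ℂ) := by
      funext n
      simp only [hη n]
      exact Complex.conj_eq_iff_im.mpr (hreal n)
    have e2 : (fun n : N => (η : G → ℂ) n) = (θ : N → ℂ) := funext hη
    rw [e, e2, Cfsg.Agent.Lib.Helper3.classInner_irr θ.2 θ.2, if_pos rfl]
    exact one_ne_zero
  obtain ⟨φ, hφirr, hφN, hφeq, -⟩ :=
    Cfsg.Agent.Lib.Helper15.exists_mul_ext N η.2 hηN hηbar hne
  have hη1 : (η : G → ℂ) 1 ≠ 0 := by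
    rw [irr_apply_one_eq_charDegree η]
    exact_mod_cast irr_charDegree_ne_zero η
  have hφ1 : φ 1 = 1 := by
    have h1 := congrFun hφeq 1
    simp only [Pi.mul_apply] at h1
    rw [irr_apply_one_eq_charDegree η, Complex.conj_natCast] at h1
    have h2 : ((charDegree (η : G → ℂ) : ℕ) : ℂ) ≠ 0 := by
      exact_mod_cast irr_charDegree_ne_zero η
    have h3 : (1 : ℂ) * ((charDegree (η : G → ℂ) : ℕ) : ℂ) = φ 1 * ((charDegree (η : G → ℂ) : ℕ) : ℂ) := by
      rw [one_mul]
      exact h1
    exact (mul_right_cancel₀ h2 h3).symm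
  have hφchar : IsCharacter G φ := Cfsg.Agent.Lib.Helper3.IsIrrCharacter.isCharacter hφirr
  have hφmul : ∀ a b : G, φ (a * b) = φ a * φ b :=
    Cfsg.Agent.Lib.Helper15.linChar_mul ⟨hφchar, hφ1⟩
  have hφpow : ∀ (x : G) (k : ℕ), φ (x ^ k) = φ x ^ k := by
    intro x k
    induction k with
    | zero => rw [pow_zero, pow_zero, hφ1]
    | succ k ih => rw [pow_succ, hφmul, ih, pow_succ]
  -- the odd part of the order
  set e := Nat.card G / 2 ^ (Nat.card G).factorization 2 with he
  have hcard : 2 ^ (Nat.card G).factorization 2 * e = Nat.card G :=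
    Nat.ordProj_mul_ordCompl_eq_self (Nat.card G) 2
  have heodd : Odd e := by
    rw [← Nat.not_even_iff_odd, even_iff_two_dvd]
    exact Nat.not_dvd_ordCompl Nat.prime_two Nat.card_pos.ne'
  obtain ⟨k, hk⟩ := heodd
  -- `k + 1 = (e + 1) / 2`
  set μ : G → ℂ := fun g => φ g ^ (k + 1) with hμ
  have hμmul : ∀ a b : G, μ (a * b) = μ a * μ b := by
    intro a b
    simp only [hμ, hφmul, mul_pow]
  have hμ1 : μ 1 = 1 := by simp only [hμ, hφ1, one_pow]
  have hμchar : IsCharacter G μ := Cfsg.Agent.Lib.Helper38.isCharacter_of_mul μ hμmul hμ1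
  have hirr' : IsIrrCharacter G ((η : G → ℂ) * μ) :=
    Cfsg.Agent.Lib.Helper75.isIrrCharacter_mul_of_linear hμchar hμ1 η.2
  refine ⟨⟨(η : G → ℂ) * μ, hirr'⟩, ?_, ?_⟩
  · intro n
    have h1 : φ (n : G) = 1 := by
      have := hφN n 1
      rw [mul_one, hφ1] at this
      exact this
    simp only [Pi.mul_apply, hμ, h1, one_pow, mul_one]
    exact hη n
  · apply mem_principalBlock_of_real_odd' M hM
    · intro x hx
      apply Complex.conj_eq_iff_im.mp
      simp only [Pi.mul_apply]
      -- `orderOf x ∣ e`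
      have hxe : orderOf x ∣ e := by
        have h1 : orderOf x ∣ 2 ^ (Nat.card G).factorization 2 * e := by
          rw [hcard]
          exact orderOf_dvd_natCard x
        have hcop : Nat.Coprime (orderOf x) (2 ^ (Nat.card G).factorization 2) := by
          apply Nat.Coprime.pow_right
          rw [Nat.coprime_comm]
          exact (Nat.Prime.coprime_iff_not_dvd Nat.prime_two).mpr hx
        exact hcop.dvd_of_dvd_mul_left h1
      have hφe : φ x ^ e = 1 := by
        rw [← hφpow]
        obtain ⟨c, hc⟩ := hxe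
        rw [hc, pow_mul, pow_orderOf_eq_one, one_pow, hφ1]
      have hφne : φ x ≠ 0 := by
        intro h
        rw [h, zero_pow (by omega)] at hφe
        exact zero_ne_one hφe
      -- `μ x ^ 2 = φ x`
      have hμsq : μ x ^ 2 = φ x := by
        simp only [hμ]
        rw [← pow_mul]
        have : (k + 1) * 2 = e + 1 := by omega
        rw [this, pow_succ, hφe, one_mul]
      have hμne : μ x ≠ 0 := by
        intro h
        rw [h] at hμsq
        apply hφne
        rw [← hμsq]
        ring
      -- `|μ x| = 1`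
      have hμe : μ x ^ e = 1 := by
        simp only [hμ]
        rw [← pow_mul, mul_comm, pow_mul, hφe, one_pow]
      have hnorm : ‖μ x‖ = 1 := by
        have h1 : ‖μ x‖ ^ e = 1 := by rw [← norm_pow, hμe, norm_one]
        exact (pow_eq_one_iff_of_nonneg (norm_nonneg _) (by omega)).mp h1
      have hconjμ : conj (μ x) = (μ x)⁻¹ := by
        have h2 : μ x * conj (μ x) = 1 := by
          rw [Complex.mul_conj, Complex.normSq_eq_norm_sq, hnorm]
          norm_num
        exact eq_inv_of_mul_eq_one_right h2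
      have hconjη : conj ((η : G → ℂ) x) = φ x * (η : G → ℂ) x := congrFun hφeq x
      rw [map_mul, hconjη, hconjμ, ← hμsq]
      field_simp
    · have : charDegree (((⟨(η : G → ℂ) * μ, hirr'⟩ : IrrCharacter G)) : G → ℂ) =
          charDegree (θ : N → ℂ) := by
        have h1 : ((η : G → ℂ) * μ) 1 = (θ : N → ℂ) 1 := by
          simp only [Pi.mul_apply, hμ1, mul_one]
          exact hη 1
        unfold charDegree
        exact congrArg (fun z : ℂ => ⌊z.re⌋₊) h1
      rw [this]
      exact hodd

end Cfsg.Agent.Lib.Helper74
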