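import Cfsg.Agent.Lib.Helper74.CZ2

set_option autoImplicit false

namespace Cfsg.Agent.Lib.Helper74

open Cfsg Cfsg.Agent.Lib.Helper77 Cfsg.Agent.Lib.Helper81 Representation
open scoped ComplexConjugate

universe u

section
variable {G : Type u} [Group G] [Fintype G]

open Classical in
/-- Counting formula for two elements: for a subgroup `P` and elements `z`, `w`, the number of
pairs `(y, u)`, `y ∈ P`, with `y * (u w u⁻¹)` conjugate to `z`, times `|C(z)|`. -/
theorem sum_isConj_indicator₂ [Fintype (IrrCharacter G)] (P : Subgroup G) [Fintype P] (z w : G)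
    (n : IrrCharacter G → ℕ)
    (hn : ∀ χ : IrrCharacter G, ∑ u : P, (χ : G → ℂ) (u : G) = (Nat.card P : ℂ) * (n χ : ℂ)) :
    ∑ y : P, ∑ u : G, (if IsConj z ((y : G) * (u * w * u⁻¹))
        then (Nat.card (Subgroup.centralizer ({z} : Set G)) : ℂ) else 0) =
      (Nat.card G : ℂ) * (Nat.card P : ℂ) *
        ∑ χ : IrrCharacter G, (χ : G → ℂ) z * conj ((χ : G → ℂ) w) * (n χ : ℂ) / (χ : G → ℂ) 1 := by
  have h1 : ∀ (y : P) (u : G), (if IsConj z ((y : G) * (u * w * u⁻¹))
        then (Nat.card (Subgroup.centralizer ({z} : Set G)) : ℂ) else 0) =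
      ∑ χ : IrrCharacter G, (χ : G → ℂ) z * conj ((χ : G → ℂ) ((y : G) * (u * w * u⁻¹))) := by
    intro y u
    rw [Cfsg.Agent.Lib.Helper3.column_orthogonality]
  simp_rw [h1]
  have h2 : ∀ y : P, ∑ u : G, ∑ χ : IrrCharacter G,
      (χ : G → ℂ) z * conj ((χ : G → ℂ) ((y : G) * (u * w * u⁻¹))) =
      ∑ χ : IrrCharacter G, (χ : G → ℂ) z *
        conj ((Nat.card G : ℂ) * ((χ : G → ℂ) (y : G) * (χ : G → ℂ) w) / (χ : G → ℂ) 1) := by
    intro y
    rw [Finset.sum_comm]
    apply Finset.sum_congr rfl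
    intro χ _
    rw [← Finset.mul_sum, ← map_sum]
    congr 2
    have h3 := irr_sum_conj_mul χ (y : G) w
    have h4 : (χ : G → ℂ) 1 ≠ 0 := by
      rw [irr_apply_one_eq_charDegree]
      exact_mod_cast irr_charDegree_ne_zero χ
    rw [eq_div_iff h4, mul_comm]
    exact h3
  simp_rw [h2]
  rw [Finset.sum_comm]
  rw [Finset.mul_sum]
  apply Finset.sum_congr rfl
  intro χ _
  have h4 : (χ : G → ℂ) 1 ≠ 0 := by
    rw [irr_apply_one_eq_charDegree]
    exact_mod_cast irr_charDegree_ne_zero χ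
  have h5 : conj ((χ : G → ℂ) 1) = (χ : G → ℂ) 1 := by
    rw [irr_apply_one_eq_charDegree]
    exact Complex.conj_natCast _
  have h6 : ∑ y : P, (χ : G → ℂ) z *
      conj ((Nat.card G : ℂ) * ((χ : G → ℂ) (y : G) * (χ : G → ℂ) w) / (χ : G → ℂ) 1) =
      (χ : G → ℂ) z * conj ((χ : G → ℂ) w) * (Nat.card G : ℂ) / (χ : G → ℂ) 1 *
        conj (∑ y : P, (χ : G → ℂ) (y : G)) := by
    rw [map_sum, Finset.mul_sum]
    apply Finset.sum_congr rfl
    intro y _
    rw [map_div₀, map_mul, map_mul, h5, Complex.conj_natCast]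
    field_simp
  rw [h6, hn χ, map_mul, Complex.conj_natCast, Complex.conj_natCast]
  field_simp

open Classical in
/-- The separation identity: if no `g h⁻¹` (`g ~ x i`, `h ~ x j`) is a nonidentity `p`-element and
the `x i` are pairwise non-conjugate, then `∑_χ ω_χ(x i) n_χ conj(χ (x j)) = δ_ij |G : P|`. -/
theorem sep_identity [Fintype (IrrCharacter G)] (p : ℕ) [Fact p.Prime] (P : Sylow p G)
    {r : ℕ} (x : Fin r → G) (hx : ∀ i j : Fin r, IsConj (x i) (x j) → i = j)
    (hsep : ∀ i j : Fin r, ∀ g h : G, IsConj (x i) g → IsConj (x j) h → ∀ k : ℕ, 0 < k →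
      orderOf (g * h⁻¹) ≠ p ^ k)
    (n : IrrCharacter G → ℕ)
    (hn : ∀ χ : IrrCharacter G, ∑ u : (P : Subgroup G), (χ : G → ℂ) (u : G) =
      (Nat.card (P : Subgroup G) : ℂ) * (n χ : ℂ)) (i j : Fin r) :
    ∑ χ : IrrCharacter G, centralChar (χ : G → ℂ) (x i) * (n χ : ℂ) * conj ((χ : G → ℂ) (x j)) =
      if i = j then ((P : Subgroup G).index : ℂ) else 0 := by
  have hcount := sum_isConj_indicator₂ (P : Subgroup G) (x i) (x j) n hn
  set c : ℕ := Nat.card (Subgroup.centralizer ({x i} : Set G)) with hc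
  have hLHS : ∑ y : (P : Subgroup G), ∑ u : G, (if IsConj (x i) ((y : G) * (u * x j * u⁻¹))
        then (c : ℂ) else 0) = if i = j then (Nat.card G : ℂ) * (c : ℂ) else 0 := by
    rw [Finset.sum_eq_single (1 : (P : Subgroup G))]
    · by_cases hij : i = j
      · subst hij
        rw [if_pos rfl]
        have : ∀ u : G, (if IsConj (x i) (((1 : (P : Subgroup G)) : G) * (u * x i * u⁻¹))
            then (c : ℂ) else 0) = (c : ℂ) := by
          intro u
          rw [if_pos]
          rw [Subgroup.coe_one, one_mul]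
          exact isConj_iff.mpr ⟨u, rfl⟩
        simp_rw [this]
        rw [Finset.sum_const, Finset.card_univ, nsmul_eq_mul, Nat.card_eq_fintype_card]
      · rw [if_neg hij]
        apply Finset.sum_eq_zero
        intro u _
        rw [if_neg]
        rw [Subgroup.coe_one, one_mul]
        intro hcj
        apply hij
        apply hx i j
        exact hcj.trans (isConj_iff.mpr ⟨u⁻¹, by group⟩)
    · intro y _ hy1
      apply Finset.sum_eq_zero
      intro u _
      rw [if_neg]
      intro hcj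
      obtain ⟨k, hk⟩ := (IsPGroup.iff_orderOf.mp P.isPGroup') y
      have hk' : orderOf (y : G) = p ^ k := by
        rw [← hk]
        exact (Subgroup.orderOf_coe y)
      have hk0 : 0 < k := by
        rcases Nat.eq_zero_or_pos k with h0 | h0
        · exfalso
          rw [h0, pow_zero, orderOf_eq_one_iff] at hk
          exact hy1 hk
        · exact h0
      have h1 : (y : G) * (u * x j * u⁻¹) * (u * x j * u⁻¹)⁻¹ = (y : G) := by group
      have := hsep i j ((y : G) * (u * x j * u⁻¹)) (u * x j * u⁻¹) hcj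
        (isConj_iff.mpr ⟨u, rfl⟩) k hk0
      rw [h1] at this
      exact this hk'
    · intro h
      exact absurd (Finset.mem_univ _) h
  rw [hLHS] at hcount
  have hG0 : (Nat.card G : ℂ) ≠ 0 := Nat.cast_ne_zero.mpr Nat.card_pos.ne'
  have hP0 : (Nat.card (P : Subgroup G) : ℂ) ≠ 0 := Nat.cast_ne_zero.mpr Nat.card_pos.ne'
  have hidx : ((Subgroup.centralizer ({x i} : Set G)).index : ℂ) * (c : ℂ) = (Nat.card G : ℂ) := by
    have := (Subgroup.centralizer ({x i} : Set G)).card_mul_index
    rw [mul_comm] at this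
    exact_mod_cast this
  have hPidx : (Nat.card (P : Subgroup G) : ℂ) * ((P : Subgroup G).index : ℂ) = (Nat.card G : ℂ) := by
    exact_mod_cast (P : Subgroup G).card_mul_index
  have hsum : ∑ χ : IrrCharacter G, centralChar (χ : G → ℂ) (x i) * (n χ : ℂ) *
      conj ((χ : G → ℂ) (x j)) =
      ((Subgroup.centralizer ({x i} : Set G)).index : ℂ) * ∑ χ : IrrCharacter G,
        (χ : G → ℂ) (x i) * conj ((χ : G → ℂ) (x j)) * (n χ : ℂ) / (χ : G → ℂ) 1 := by
    rw [Finset.mul_sum]
    apply Finset.sum_congr rfl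
    intro χ _
    unfold centralChar
    ring
  rw [hsum]
  by_cases hij : i = j
  · rw [if_pos hij] at hcount ⊢
    have hc0 : (c : ℂ) ≠ 0 := Nat.cast_ne_zero.mpr Nat.card_pos.ne'
    have h1 : (Nat.card G : ℂ) * ((c : ℂ)) = (Nat.card G : ℂ) * ((Nat.card (P : Subgroup G) : ℂ) *
        ∑ χ : IrrCharacter G,
          (χ : G → ℂ) (x i) * conj ((χ : G → ℂ) (x j)) * (n χ : ℂ) / (χ : G → ℂ) 1) := by
      rw [hcount]; ring
    have h2 := mul_left_cancel₀ hG0 h1
    apply mul_left_cancel₀ hP0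
    rw [hPidx, ← hidx]
    rw [h2]
    ring
  · rw [if_neg hij] at hcount ⊢
    have h1 : ∑ χ : IrrCharacter G,
          (χ : G → ℂ) (x i) * conj ((χ : G → ℂ) (x j)) * (n χ : ℂ) / (χ : G → ℂ) 1 = 0 := by
      have := hcount.symm
      rcases mul_eq_zero.mp this with h | h
      · exfalso
        rcases mul_eq_zero.mp h with h | h
        · exact hG0 h
        · exact hP0 h
      · exact h
    rw [h1, mul_zero]

end

end Cfsg.Agent.Lib.Helper74
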