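import Cfsg.Agent.Lib.Helper74.SP4

set_option autoImplicit false

namespace Cfsg.Agent.Lib.Helper74

open Cfsg Cfsg.Agent.Lib.Helper77 Cfsg.Agent.Lib.Helper81 Cfsg.Agent.Lib.Helper16
open Cfsg.Agent.Lib.Helper75
open scoped ComplexConjugate Pointwise

universe u

section
variable {G : Type u} [Group G] [Fintype G]

/-- Blocks with a given defect group from `p`-separated classes. -/
theorem sep_blocks [Fintype (IrrCharacter G)] (p : ℕ) [Fact p.Prime] (M : Ideal AlgInt)
    (hM : IsPModular p M) (D : Subgroup G) {r : ℕ} (x : Fin r → G)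
    (hx : ∀ i j : Fin r, IsConj (x i) (x j) → i = j)
    (hD : ∀ i : Fin r, ∃ S : Sylow p ↥(Subgroup.centralizer ({x i} : Set G)),
      (S : Subgroup ↥(Subgroup.centralizer ({x i} : Set G))).map
        (Subgroup.centralizer ({x i} : Set G)).subtype = D)
    (hsep : ∀ i j : Fin r, ∀ g h : G, IsConj (x i) g → IsConj (x j) h → ∀ k : ℕ, 0 < k →
      orderOf (g * h⁻¹) ≠ p ^ k) :
    ∃ B : Fin r → Set (IrrCharacter G), Function.Injective B ∧
      (∀ i : Fin r, IsPBlock M (B i) ∧ IsDefectGroup p M (B i) D) ∧
      ∀ χ : Fin r → IrrCharacter G,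
        (∀ i : Fin r, χ i ∈ B i ∧ blockHeight p (B i) (χ i : G → ℂ) = 0) →
        ¬ MemLocalIdeal M (Matrix.det (Matrix.of fun i j : Fin r => (χ i : G → ℂ) (x j))) := by
  classical
  have hp : p.Prime := Fact.out
  have hMp : M.IsPrime := isPrime_of_isPModular hM
  obtain ⟨f, hf, hdet⟩ := sep_exists p M hM D x hx hD hsep
  have hXS : ∀ (g : Fin r → IrrCharacter G) (a b : Fin r),
      MemLocalRing M ((Matrix.of fun a b : Fin r => centralChar (g a : G → ℂ) (x b)) a b) :=
    fun g a b => memLocalRing_centralChar hMp (g a).2 _
  refine ⟨fun i => blockOf M (f i : G → ℂ), ?_, fun i => ⟨⟨f i, rfl⟩, hf i⟩, ?_⟩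
  · intro i i' hii
    by_contra hne
    apply hdet
    have hii' : blockOf M (f i : G → ℂ) = blockOf M (f i' : G → ℂ) := hii
    have hsb : SameBlock M (f i : G → ℂ) (f i' : G → ℂ) := by
      have h := self_mem_blockOf hMp (f i')
      rw [← hii'] at h
      exact h
    set g : Fin r → IrrCharacter G := fun a => f (if a = i then i' else a) with hg
    have hY : Matrix.det (Matrix.of fun a b : Fin r => centralChar (g a : G → ℂ) (x b)) = 0 := by
      apply Matrix.det_zero_of_row_eq hne
      funext b
      simp only [Matrix.of_apply, hg, if_neg (Ne.symm hne), if_true]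
    have h1 := memLocalIdeal_det_sub_det hMp _ _ (hXS f) (hXS g) (fun a b => by
      simp only [Matrix.of_apply, hg]
      by_cases ha : a = i
      · rw [if_pos ha, ha]
        exact hsb (x b)
      · rw [if_neg ha, sub_self]
        exact memLocalIdeal_zero hMp)
    rw [hY, sub_zero] at h1
    exact h1
  · intro χ hχ hJ
    apply hdet
    have hvv : ∀ a b : Fin r, ((Subgroup.centralizer ({x b} : Set G)).index).factorization p =
        (charDegree (χ a : G → ℂ)).factorization p := by
      intro a b
      have h1 : (charDegree (χ a : G → ℂ)).factorization p =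
          minDegVal p (blockOf M (f a : G → ℂ)) := val_eq_of_height_zero p (hχ a).1 (hχ a).2
      have h2 := card_eq_pow_blockDefect_of_isDefectGroup hM (f a) (hf a)
      have h3 : Nat.card D =
          p ^ (Nat.card (Subgroup.centralizer ({x b} : Set G))).factorization p := by
        obtain ⟨S, hS⟩ := hD b
        rw [← hS, Subgroup.card_map_of_injective (Subgroup.subtype_injective _),
          Sylow.card_eq_multiplicity S]
      have h4 : blockDefect p (blockOf M (f a : G → ℂ)) =
          (Nat.card (Subgroup.centralizer ({x b} : Set G))).factorization p :=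
        Nat.pow_right_injective hp.two_le (h2.symm.trans h3)
      have h5 := minDegVal_le_card p (B := blockOf M (f a : G → ℂ)) ⟨f a, self_mem_blockOf hMp _⟩
      have h6 := factorization_index_centralizer p (x b)
      rw [blockDefect_eq] at h4
      omega
    have hΩ : MemLocalIdeal M (Matrix.det
        (Matrix.of fun a b : Fin r => centralChar (χ a : G → ℂ) (x b))) := by
      set w : Fin r → ℕ := fun b => (Subgroup.centralizer ({x b} : Set G)).index /
        p ^ ((Subgroup.centralizer ({x b} : Set G)).index).factorization p with hw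
      set u : Fin r → ℕ := fun a => charDegree (χ a : G → ℂ) /
        p ^ (charDegree (χ a : G → ℂ)).factorization p with hu
      have hwp : ∀ b, ¬ p ∣ w b := fun b =>
        Nat.not_dvd_ordCompl hp Subgroup.index_ne_zero_of_finite
      have hup : ∀ a, ¬ p ∣ u a := fun a => Nat.not_dvd_ordCompl hp (irr_charDegree_ne_zero _)
      have hent : ∀ a b : Fin r, centralChar (χ a : G → ℂ) (x b) =
          (w b : ℂ) * ((u a : ℂ)⁻¹ * (χ a : G → ℂ) (x b)) := by
        intro a b
        unfold centralChar
        rw [irr_apply_one_eq_charDegree]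
        have h1 : ((Subgroup.centralizer ({x b} : Set G)).index : ℂ) =
            (p : ℂ) ^ ((Subgroup.centralizer ({x b} : Set G)).index).factorization p * (w b : ℂ) := by
          exact_mod_cast (Nat.ordProj_mul_ordCompl_eq_self
            (Subgroup.centralizer ({x b} : Set G)).index p).symm
        have h2 : (charDegree (χ a : G → ℂ) : ℂ) =
            (p : ℂ) ^ (charDegree (χ a : G → ℂ)).factorization p * (u a : ℂ) := by
          exact_mod_cast (Nat.ordProj_mul_ordCompl_eq_self (charDegree (χ a : G → ℂ)) p).symm
        have hu0 : (u a : ℂ) ≠ 0 := by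
          intro h
          have : u a = 0 := by exact_mod_cast h
          exact hup a (this ▸ dvd_zero p)
        have hp0 : (p : ℂ) ≠ 0 := Nat.cast_ne_zero.mpr hp.ne_zero
        rw [h1, h2, hvv a b]
        field_simp
      have hΩeq : (Matrix.of fun a b : Fin r => centralChar (χ a : G → ℂ) (x b)) =
          Matrix.of fun a b : Fin r => (w b : ℂ) *
            (Matrix.of fun a b : Fin r => (u a : ℂ)⁻¹ *
              (Matrix.of fun i j : Fin r => (χ i : G → ℂ) (x j)) a b) a b := by
        ext a b
        simp only [Matrix.of_apply]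
        exact hent a b
      rw [hΩeq, Matrix.det_mul_row, Matrix.det_mul_column]
      refine memLocalIdeal_mul_left hMp (memLocalRing_prod hMp _ _
        (fun b _ => memLocalRing_natCast hMp _)) (memLocalIdeal_mul_left hMp
          (memLocalRing_prod hMp _ _ (fun a _ => memLocalRing_inv_natCast hM (hup a))) hJ)
    have h1 := memLocalIdeal_det_sub_det hMp _ _ (hXS f) (hXS χ) (fun a b => by
      simp only [Matrix.of_apply]
      exact (hχ a).1 (x b))
    have h2 : Matrix.det (Matrix.of fun i j : Fin r => centralChar (f i : G → ℂ) (x j)) =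
        (Matrix.det (Matrix.of fun i j : Fin r => centralChar (f i : G → ℂ) (x j)) -
          Matrix.det (Matrix.of fun a b : Fin r => centralChar (χ a : G → ℂ) (x b))) +
          Matrix.det (Matrix.of fun a b : Fin r => centralChar (χ a : G → ℂ) (x b)) := by ring
    rw [h2]
    exact memLocalIdeal_add hMp h1 hΩ

end

end Cfsg.Agent.Lib.Helper74
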