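import Mathlib

set_option autoImplicit false

namespace Cfsg.Agent.Lib.Helper74

open Subgroup

section
variable {G : Type*} [Group G]

theorem mem_zpowers_of_comm {x : G}
    (hC : Subgroup.centralizer ({x} : Set G) = Subgroup.zpowers x) {g : G}
    (hg : g * x = x * g) : g ∈ Subgroup.zpowers x := by
  rw [← hC, Subgroup.mem_centralizer_singleton_iff]
  exact hg

theorem comm_of_mem_zpowers {x g : G} (hg : g ∈ Subgroup.zpowers x) : g * x = x * g := by
  obtain ⟨k, rfl⟩ := Subgroup.mem_zpowers_iff.mp hg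
  exact ((Commute.refl x).zpow_left k).eq

variable [Finite G]

/-- the commutator map `s ↦ s x s⁻¹ x⁻¹` is onto a normal subgroup meeting `⟨x⟩` trivially. -/
theorem exists_comm_eq {x : G}
    (hC : Subgroup.centralizer ({x} : Set G) = Subgroup.zpowers x)
    (S : Subgroup G) [S.Normal] (hS : S ⊓ Subgroup.zpowers x = ⊥) {s' : G} (hs' : s' ∈ S) :
    ∃ s ∈ S, s' = s * x * s⁻¹ * x⁻¹ := by
  classical
  let φ : S → S := fun s => ⟨s * x * s⁻¹ * x⁻¹, by
    have h1 : x * (s : G)⁻¹ * x⁻¹ ∈ S := Subgroup.Normal.conj_mem inferInstance _ (S.inv_mem s.2) x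
    have := S.mul_mem s.2 h1
    simpa [mul_assoc] using this⟩
  have hinj : Function.Injective φ := by
    intro s t hst
    have h : (s : G) * x * (s : G)⁻¹ * x⁻¹ = (t : G) * x * (t : G)⁻¹ * x⁻¹ := congrArg Subtype.val hst
    have h2 : (s : G) * x * (s : G)⁻¹ = (t : G) * x * (t : G)⁻¹ := mul_right_cancel h
    have h3 : ((t : G)⁻¹ * s) * x = x * ((t : G)⁻¹ * s) := by
      have : (t : G)⁻¹ * ((s : G) * x * (s : G)⁻¹) * s = (t : G)⁻¹ * ((t : G) * x * (t : G)⁻¹) * s := by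
        rw [h2]
      simpa [mul_assoc] using this
    have h4 : (t : G)⁻¹ * s ∈ Subgroup.zpowers x := mem_zpowers_of_comm hC h3
    have h5 : (t : G)⁻¹ * s ∈ S := S.mul_mem (S.inv_mem t.2) s.2
    have h6 : (t : G)⁻¹ * s ∈ S ⊓ Subgroup.zpowers x := ⟨h5, h4⟩
    rw [hS, Subgroup.mem_bot] at h6
    have : (s : G) = t := by
      have := inv_mul_eq_one.mp h6
      exact this.symm
    exact Subtype.ext this
  have hsurj : Function.Surjective φ := Finite.surjective_of_injective hinj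
  obtain ⟨s, hs⟩ := hsurj ⟨s', hs'⟩
  exact ⟨s, s.2, (congrArg Subtype.val hs).symm⟩

end

section
variable {G : Type*} [Group G] [Finite G]

theorem zpowers_eq_of_mem_of_ne_one {p : ℕ} (hp : p.Prime) {x z : G} (hx : orderOf x = p)
    (hz : z ∈ Subgroup.zpowers x) (hz1 : z ≠ 1) : Subgroup.zpowers z = Subgroup.zpowers x := by
  have hle : Subgroup.zpowers z ≤ Subgroup.zpowers x := Subgroup.zpowers_le_of_mem hz
  apply Subgroup.eq_of_le_of_card_ge hle
  rw [Nat.card_zpowers, Nat.card_zpowers, hx]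
  have hdvd : orderOf z ∣ p := by
    have := Subgroup.card_dvd_of_le hle
    rwa [Nat.card_zpowers, Nat.card_zpowers, hx] at this
  rcases (Nat.dvd_prime hp).mp hdvd with h | h
  · exact absurd (orderOf_eq_one_iff.mp h) hz1
  · exact h.ge

theorem exists_sylow_eq_zpowers {p : ℕ} [hp : Fact p.Prime] {x : G} (hx : orderOf x = p)
    (hC : Subgroup.centralizer ({x} : Set G) = Subgroup.zpowers x) :
    ∃ P : Sylow p G, (P : Subgroup G) = Subgroup.zpowers x := by
  have hPG : IsPGroup p (Subgroup.zpowers x) := by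
    apply IsPGroup.of_card (n := 1)
    rw [Nat.card_zpowers, hx, pow_one]
  obtain ⟨Q, hQ⟩ := hPG.exists_le_sylow
  refine ⟨Q, le_antisymm ?_ hQ⟩
  have hxQ : x ∈ (Q : Subgroup G) := hQ (Subgroup.mem_zpowers x)
  have hx1 : x ≠ 1 := by
    intro h
    rw [h, orderOf_one] at hx
    exact hp.out.ne_one hx.symm
  haveI : Nontrivial (Q : Subgroup G) := ⟨⟨⟨x, hxQ⟩, 1, fun h => hx1 (congrArg Subtype.val h)⟩⟩
  haveI := Q.2.center_nontrivial
  obtain ⟨z, hz1⟩ := exists_ne (1 : Subgroup.center (Q : Subgroup G))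
  have hzc : ∀ q : (Q : Subgroup G), q * z.1 = z.1 * q := fun q =>
    (Subgroup.mem_center_iff.mp z.2 q)
  have hzx : ((z.1 : (Q : Subgroup G)) : G) * x = x * ((z.1 : (Q : Subgroup G)) : G) := by
    have := hzc ⟨x, hxQ⟩
    exact (congrArg Subtype.val this).symm
  have hzmem : ((z.1 : (Q : Subgroup G)) : G) ∈ Subgroup.zpowers x := mem_zpowers_of_comm hC hzx
  have hzne : ((z.1 : (Q : Subgroup G)) : G) ≠ 1 := by
    intro h
    apply hz1
    apply Subtype.ext
    apply Subtype.ext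
    exact h
  have heq := zpowers_eq_of_mem_of_ne_one hp.out hx hzmem hzne
  intro q hq
  apply mem_zpowers_of_comm hC
  have hxz : x ∈ Subgroup.zpowers ((z.1 : (Q : Subgroup G)) : G) := by
    rw [heq]; exact Subgroup.mem_zpowers x
  obtain ⟨k, hk⟩ := Subgroup.mem_zpowers_iff.mp hxz
  have hqz : q * ((z.1 : (Q : Subgroup G)) : G) = ((z.1 : (Q : Subgroup G)) : G) * q :=
    congrArg Subtype.val (hzc ⟨q, hq⟩)
  rw [← hk]
  exact ((Commute.zpow_right hqz k)).eq

end

section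
variable {G : Type*} [Group G] [Finite G]

theorem zpowers_le_of_normal_of_dvd {p : ℕ} [hp : Fact p.Prime] {x : G} (hx : orderOf x = p)
    (hC : Subgroup.centralizer ({x} : Set G) = Subgroup.zpowers x)
    (S : Subgroup G) [hS : S.Normal] (hdvd : p ∣ Nat.card S) : Subgroup.zpowers x ≤ S := by
  obtain ⟨P, hP⟩ := exists_sylow_eq_zpowers hx hC
  obtain ⟨y, hy⟩ := exists_prime_orderOf_dvd_card' p hdvd
  have hy' : orderOf (y : G) = p := by rw [Subgroup.orderOf_coe]; exact hy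
  have hPG : IsPGroup p (Subgroup.zpowers (y : G)) := by
    apply IsPGroup.of_card (n := 1)
    rw [Nat.card_zpowers, hy', pow_one]
  obtain ⟨Q, hQ⟩ := hPG.exists_le_sylow
  obtain ⟨g, hg⟩ := MulAction.exists_smul_eq G P Q
  have hcardQ : Nat.card (Q : Subgroup G) = p := by
    rw [Q.card_eq_multiplicity, ← P.card_eq_multiplicity, hP, Nat.card_zpowers, hx]
  have hQeq : Subgroup.zpowers (y : G) = (Q : Subgroup G) := by
    apply Subgroup.eq_of_le_of_card_ge hQ
    rw [hcardQ, Nat.card_zpowers, hy']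
  have hQS : (Q : Subgroup G) ≤ S := by
    rw [← hQeq]
    exact Subgroup.zpowers_le_of_mem y.2
  have hgx : g * x * g⁻¹ ∈ (Q : Subgroup G) := by
    rw [← hg, Sylow.coe_subgroup_smul]
    rw [Subgroup.mem_pointwise_smul_iff_inv_smul_mem]
    simp only [MulAut.smul_def, MulAut.inv_apply, MulAut.conj_symm_apply]
    rw [hP]
    have : g⁻¹ * (g * x * g⁻¹) * g = x := by group
    rw [this]
    exact Subgroup.mem_zpowers x
  have hxS : x ∈ S := by
    have h1 := hS.conj_mem _ (hQS hgx) g⁻¹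
    have : g⁻¹ * (g * x * g⁻¹) * g⁻¹⁻¹ = x := by group
    rwa [this] at h1
  exact Subgroup.zpowers_le_of_mem hxS

end

section
variable {G : Type*} [Group G]

theorem conj_mem_zpowers_of_mem_normalizer {x n : G}
    (hn : n ∈ Subgroup.normalizer ((Subgroup.zpowers x : Subgroup G) : Set G)) :
    ∃ k : ℤ, n * x * n⁻¹ = x ^ k := by
  have h := (Subgroup.mem_normalizer_iff.mp hn x).mp (Subgroup.mem_zpowers x)
  obtain ⟨k, hk⟩ := Subgroup.mem_zpowers_iff.mp h
  exact ⟨k, hk.symm⟩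

/-- two elements of the normalizer of `⟨x⟩` commute modulo the centralizer of `x` -/
theorem normalizer_comm_mod {x : G}
    (hC : Subgroup.centralizer ({x} : Set G) = Subgroup.zpowers x) {n₁ n₂ : G}
    (h₁ : n₁ ∈ Subgroup.normalizer ((Subgroup.zpowers x : Subgroup G) : Set G))
    (h₂ : n₂ ∈ Subgroup.normalizer ((Subgroup.zpowers x : Subgroup G) : Set G)) :
    (n₂ * n₁)⁻¹ * (n₁ * n₂) ∈ Subgroup.zpowers x := by
  obtain ⟨k₁, hk₁⟩ := conj_mem_zpowers_of_mem_normalizer h₁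
  obtain ⟨k₂, hk₂⟩ := conj_mem_zpowers_of_mem_normalizer h₂
  have e1 : (n₁ * n₂) * x * (n₁ * n₂)⁻¹ = x ^ (k₁ * k₂) := by
    have : (n₁ * n₂) * x * (n₁ * n₂)⁻¹ = n₁ * (n₂ * x * n₂⁻¹) * n₁⁻¹ := by group
    rw [this, hk₂]
    have : n₁ * x ^ k₂ * n₁⁻¹ = (n₁ * x * n₁⁻¹) ^ k₂ := by
      rw [conj_zpow]
    rw [this, hk₁, zpow_mul]
  have e2 : (n₂ * n₁) * x * (n₂ * n₁)⁻¹ = x ^ (k₁ * k₂) := by
    have : (n₂ * n₁) * x * (n₂ * n₁)⁻¹ = n₂ * (n₁ * x * n₁⁻¹) * n₂⁻¹ := by group
    rw [this, hk₁]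
    have : n₂ * x ^ k₁ * n₂⁻¹ = (n₂ * x * n₂⁻¹) ^ k₁ := by
      rw [conj_zpow]
    rw [this, hk₂, mul_comm k₁ k₂, zpow_mul]
  apply mem_zpowers_of_comm hC
  have e3 : (n₁ * n₂) * x * (n₁ * n₂)⁻¹ = (n₂ * n₁) * x * (n₂ * n₁)⁻¹ := by rw [e1, e2]
  have : (n₂ * n₁)⁻¹ * ((n₁ * n₂) * x * (n₁ * n₂)⁻¹) * (n₁ * n₂) =
      (n₂ * n₁)⁻¹ * ((n₂ * n₁) * x * (n₂ * n₁)⁻¹) * (n₁ * n₂) := by rw [e3]
  have l : (n₂ * n₁)⁻¹ * ((n₁ * n₂) * x * (n₁ * n₂)⁻¹) * (n₁ * n₂) = (n₂ * n₁)⁻¹ * (n₁ * n₂) * x := by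
    group
  have r : (n₂ * n₁)⁻¹ * ((n₂ * n₁) * x * (n₂ * n₁)⁻¹) * (n₁ * n₂) = x * ((n₂ * n₁)⁻¹ * (n₁ * n₂)) := by
    group
  rw [l, r] at this
  exact this

variable [Finite G]

theorem normalizer_sup_eq_top {p : ℕ} [hp : Fact p.Prime] {x : G} (hx : orderOf x = p)
    (hC : Subgroup.centralizer ({x} : Set G) = Subgroup.zpowers x)
    (S : Subgroup G) [hS : S.Normal] (hle : Subgroup.zpowers x ≤ S) :
    Subgroup.normalizer ((Subgroup.zpowers x : Subgroup G) : Set G) ⊔ S = ⊤ := by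
  obtain ⟨P, hP⟩ := exists_sylow_eq_zpowers hx hC
  have hPS : (P : Subgroup G) ≤ S := hP ▸ hle
  have h := Sylow.normalizer_sup_eq_top (P.subtype hPS)
  rw [Sylow.coe_subtype, Subgroup.map_subgroupOf_eq_of_le hPS, hP] at h
  exact h

theorem commutator_le_of_zpowers_le {p : ℕ} [hp : Fact p.Prime] {x : G} (hx : orderOf x = p)
    (hC : Subgroup.centralizer ({x} : Set G) = Subgroup.zpowers x)
    (S : Subgroup G) [hS : S.Normal] (hle : Subgroup.zpowers x ≤ S) :
    commutator G ≤ S := by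
  have htop := normalizer_sup_eq_top hx hC S hle
  have hdec : ∀ g : G, ∃ n ∈ Subgroup.normalizer ((Subgroup.zpowers x : Subgroup G) : Set G),
      ∃ s ∈ S, g = n * s := by
    intro g
    have hg : g ∈ Subgroup.normalizer ((Subgroup.zpowers x : Subgroup G) : Set G) ⊔ S := by
      rw [htop]; exact Subgroup.mem_top g
    rw [← SetLike.mem_coe, Subgroup.mul_normal] at hg
    obtain ⟨n, hn, s, hs, rfl⟩ := Set.mem_mul.mp hg
    exact ⟨n, hn, s, hs, rfl⟩
  rw [commutator_def, Subgroup.commutator_le]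
  intro g₁ _ g₂ _
  obtain ⟨n₁, hn₁, s₁, hs₁, rfl⟩ := hdec g₁
  obtain ⟨n₂, hn₂, s₂, hs₂, rfl⟩ := hdec g₂
  rw [← QuotientGroup.eq_one_iff]
  have hs₁' : (QuotientGroup.mk s₁ : G ⧸ S) = 1 := (QuotientGroup.eq_one_iff _).mpr hs₁
  have hs₂' : (QuotientGroup.mk s₂ : G ⧸ S) = 1 := (QuotientGroup.eq_one_iff _).mpr hs₂
  have hc : (QuotientGroup.mk ((n₂ * n₁)⁻¹ * (n₁ * n₂)) : G ⧸ S) = 1 :=
    (QuotientGroup.eq_one_iff _).mpr (hle (normalizer_comm_mod hC hn₁ hn₂))
  simp only [commutatorElement_def, QuotientGroup.mk_mul, QuotientGroup.mk_inv, hs₁', hs₂', mul_one] at hc ⊢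
  have hc' : (QuotientGroup.mk n₁ : G ⧸ S) * QuotientGroup.mk n₂ = QuotientGroup.mk n₂ * QuotientGroup.mk n₁ := by
    have := inv_mul_eq_one.mp hc
    exact this.symm
  rw [hc']
  group

end

section
variable {G : Type*} [Group G] [Finite G]

theorem inf_zpowers_eq_bot {p : ℕ} {x : G} (hx : orderOf x = p)
    (S : Subgroup G) (hS : ¬ p ∣ Nat.card S) (hp : p.Prime) : S ⊓ Subgroup.zpowers x = ⊥ := by
  apply (Subgroup.disjoint_of_coprime_natCard _).eq_bot
  rw [Nat.card_zpowers, hx]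
  exact ((Nat.Prime.coprime_iff_not_dvd hp).mpr hS).symm

theorem inf_normalizer_eq_bot {x : G}
    (hC : Subgroup.centralizer ({x} : Set G) = Subgroup.zpowers x)
    (S : Subgroup G) [hS : S.Normal] (hSx : S ⊓ Subgroup.zpowers x = ⊥) :
    S ⊓ Subgroup.normalizer ((Subgroup.zpowers x : Subgroup G) : Set G) = ⊥ := by
  rw [eq_bot_iff]
  intro s ⟨hs, hn⟩
  have h1 : s * x * s⁻¹ ∈ Subgroup.zpowers x :=
    (Subgroup.mem_normalizer_iff.mp hn x).mp (Subgroup.mem_zpowers x)
  have h2 : s * x * s⁻¹ * x⁻¹ ∈ Subgroup.zpowers x :=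
    Subgroup.mul_mem _ h1 (Subgroup.inv_mem _ (Subgroup.mem_zpowers x))
  have h3 : s * x * s⁻¹ * x⁻¹ ∈ S := by
    have := S.mul_mem hs (hS.conj_mem _ (S.inv_mem hs) x)
    simpa [mul_assoc] using this
  have h4 : s * x * s⁻¹ * x⁻¹ ∈ S ⊓ Subgroup.zpowers x := ⟨h3, h2⟩
  rw [hSx, Subgroup.mem_bot] at h4
  have h5 : s * x = x * s := by
    have : s * x * s⁻¹ * x⁻¹ * (x * s) = 1 * (x * s) := by rw [h4]
    simpa [mul_assoc] using this
  have h6 : s ∈ S ⊓ Subgroup.zpowers x := ⟨hs, mem_zpowers_of_comm hC h5⟩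
  rwa [hSx] at h6

theorem card_dvd_index_normalizer {x : G}
    (hC : Subgroup.centralizer ({x} : Set G) = Subgroup.zpowers x)
    (S : Subgroup G) [hS : S.Normal] (hSx : S ⊓ Subgroup.zpowers x = ⊥) :
    Nat.card S ∣ (Subgroup.normalizer ((Subgroup.zpowers x : Subgroup G) : Set G)).index := by
  set N := Subgroup.normalizer ((Subgroup.zpowers x : Subgroup G) : Set G) with hN
  have hbot := inf_normalizer_eq_bot hC S hSx
  have h1 : S.relIndex (N ⊔ S) = S.relIndex N := Subgroup.relIndex_sup_right N S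
  have h2 : S.relIndex N = Nat.card N := by
    rw [Subgroup.relIndex, (Subgroup.subgroupOf_eq_bot).mpr (disjoint_iff.mpr hbot), Subgroup.index_bot]
  have h3 : Nat.card S * S.relIndex (N ⊔ S) = Nat.card (N ⊔ S : Subgroup G) := by
    have := Subgroup.relIndex_mul_relIndex (⊥ : Subgroup G) S (N ⊔ S) bot_le le_sup_right
    rwa [Subgroup.relIndex_bot_left, Subgroup.relIndex_bot_left] at this
  have h4 : Nat.card (N ⊔ S : Subgroup G) ∣ Nat.card G := Subgroup.card_subgroup_dvd_card _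
  rw [← h3, h1, h2, ← Subgroup.card_mul_index N, mul_comm] at h4
  exact Nat.dvd_of_mul_dvd_mul_left Nat.card_pos h4

end

section
variable {G : Type*} [Group G] [Finite G]

theorem card_subgroups_eq_index_normalizer {p : ℕ} [hp : Fact p.Prime] {x : G} (hx : orderOf x = p)
    (hC : Subgroup.centralizer ({x} : Set G) = Subgroup.zpowers x) :
    Nat.card {H : Subgroup G // Nat.card H = p} =
      (Subgroup.normalizer ((Subgroup.zpowers x : Subgroup G) : Set G)).index := by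
  obtain ⟨P, hP⟩ := exists_sylow_eq_zpowers hx hC
  have hpow : p ^ (Nat.card G).factorization p = p := by
    rw [← P.card_eq_multiplicity, hP, Nat.card_zpowers, hx]
  have e : {H : Subgroup G // Nat.card H = p} ≃ Sylow p G :=
    { toFun := fun H => Sylow.ofCard H.1 (by rw [H.2, hpow])
      invFun := fun Q => ⟨(Q : Subgroup G), by rw [Q.card_eq_multiplicity, hpow]⟩
      left_inv := fun H => by
        apply Subtype.ext
        rfl
      right_inv := fun Q => by
        apply Sylow.ext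
        rfl }
  rw [Nat.card_congr e, Sylow.card_eq_index_normalizer P, ← P.coe_coe, hP]

theorem card_mod_eq_one {p : ℕ} [hp : Fact p.Prime] {x : G} (hx : orderOf x = p)
    (hC : Subgroup.centralizer ({x} : Set G) = Subgroup.zpowers x)
    (S : Subgroup G) [hS : S.Normal] (hSx : S ⊓ Subgroup.zpowers x = ⊥) :
    Nat.card S % p = 1 := by
  let Z : Subgroup (ConjAct G) := Subgroup.zpowers (ConjAct.toConjAct x)
  have hZ : IsPGroup p Z := by
    apply IsPGroup.of_card (n := 1)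
    rw [Nat.card_zpowers, pow_one, ← hx]
    exact MulEquiv.orderOf_eq ConjAct.toConjAct x
  have h := hZ.card_modEq_card_fixedPoints S
  have hfix : Nat.card (MulAction.fixedPoints Z S) = 1 := by
    rw [Nat.card_eq_one_iff_unique]
    constructor
    · constructor
      intro a b
      have key : ∀ c : MulAction.fixedPoints Z S, (c : S) = 1 := by
        intro c
        have hc := c.2 ⟨ConjAct.toConjAct x, Subgroup.mem_zpowers _⟩
        have hc' : (ConjAct.toConjAct x) • ((c : S) : G) = ((c : S) : G) := by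
          have := congrArg Subtype.val hc
          rw [Subgroup.smul_def] at this
          rw [ConjAct.Subgroup.val_conj_smul] at this
          exact this
        rw [ConjAct.toConjAct_smul] at hc'
        have hcomm : ((c : S) : G) * x = x * ((c : S) : G) := by
          have : x * ((c : S) : G) * x⁻¹ * x = ((c : S) : G) * x := by rw [hc']
          simpa [mul_assoc] using this.symm
        have hmem : ((c : S) : G) ∈ S ⊓ Subgroup.zpowers x :=
          ⟨(c : S).2, mem_zpowers_of_comm hC hcomm⟩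
        rw [hSx, Subgroup.mem_bot] at hmem
        exact Subtype.ext hmem
      apply Subtype.ext
      rw [key a, key b]
    · exact ⟨⟨1, fun g => smul_one g⟩⟩
  rw [hfix] at h
  have := h
  unfold Nat.ModEq at this
  rw [this, Nat.one_mod_eq_one.mpr hp.out.ne_one]

end

section
variable {G : Type*} [Group G] [Finite G]

theorem orderOf_mk_eq {p : ℕ} (hp : p.Prime) {x : G} (hx : orderOf x = p)
    (S : Subgroup G) [hS : S.Normal] (hSx : S ⊓ Subgroup.zpowers x = ⊥) :
    orderOf (QuotientGroup.mk x : G ⧸ S) = p := by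
  have hdvd : orderOf (QuotientGroup.mk x : G ⧸ S) ∣ p := by
    rw [← hx]
    exact orderOf_map_dvd (QuotientGroup.mk' S) x
  rcases (Nat.dvd_prime hp).mp hdvd with h | h
  · exfalso
    have h1 : (QuotientGroup.mk x : G ⧸ S) = 1 := orderOf_eq_one_iff.mp h
    have h2 : x ∈ S := (QuotientGroup.eq_one_iff x).mp h1
    have h3 : x ∈ S ⊓ Subgroup.zpowers x := ⟨h2, Subgroup.mem_zpowers x⟩
    rw [hSx, Subgroup.mem_bot] at h3
    rw [h3, orderOf_one] at hx
    exact hp.ne_one hx.symm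
  · exact h

theorem centralizer_mk_eq {x : G}
    (hC : Subgroup.centralizer ({x} : Set G) = Subgroup.zpowers x)
    (S : Subgroup G) [hS : S.Normal] (hSx : S ⊓ Subgroup.zpowers x = ⊥) :
    Subgroup.centralizer ({(QuotientGroup.mk x : G ⧸ S)} : Set (G ⧸ S)) =
      Subgroup.zpowers (QuotientGroup.mk x : G ⧸ S) := by
  apply le_antisymm
  · intro a ha
    obtain ⟨g, rfl⟩ := QuotientGroup.mk_surjective a
    rw [Subgroup.mem_centralizer_singleton_iff] at ha
    -- ha : mk g * mk x = mk x * mk g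
    have h1 : g * x * g⁻¹ * x⁻¹ ∈ S := by
      rw [← QuotientGroup.eq_one_iff]
      simp only [QuotientGroup.mk_mul, QuotientGroup.mk_inv]
      rw [ha]
      group
    obtain ⟨s, hs, hs'⟩ := exists_comm_eq hC S hSx h1
    have h2 : g * x * g⁻¹ = s * x * s⁻¹ := mul_right_cancel hs'
    have h3 : (s⁻¹ * g) * x = x * (s⁻¹ * g) := by
      have : s⁻¹ * (g * x * g⁻¹) * g = s⁻¹ * (s * x * s⁻¹) * g := by rw [h2]
      simpa [mul_assoc] using this
    have h4 : s⁻¹ * g ∈ Subgroup.zpowers x := mem_zpowers_of_comm hC h3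
    obtain ⟨k, hk⟩ := Subgroup.mem_zpowers_iff.mp h4
    rw [Subgroup.mem_zpowers_iff]
    refine ⟨k, ?_⟩
    have h5 : g = s * x ^ k := by rw [hk]; group
    rw [h5, QuotientGroup.mk_mul, (QuotientGroup.eq_one_iff s).mpr hs, one_mul, QuotientGroup.mk_zpow]
  · intro a ha
    obtain ⟨k, rfl⟩ := Subgroup.mem_zpowers_iff.mp ha
    rw [Subgroup.mem_centralizer_singleton_iff]
    exact ((Commute.refl _).zpow_left k).eq

end

end Cfsg.Agent.Lib.Helper74
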