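import Cfsg.Agent.Lib.Helper74.SelfCent2
import Cfsg.Prelude.Def_Solvable

set_option autoImplicit false

namespace Cfsg.Agent.Lib.Helper74

open Subgroup

section
variable {H : Type*} [Group H] [Finite H]

theorem card_sup_coprime (p : ℕ) (A B : Subgroup H) [A.Normal] [B.Normal]
    (hA : (Nat.card A).Coprime p) (hB : (Nat.card B).Coprime p) :
    (Nat.card (A ⊔ B : Subgroup H)).Coprime p := by
  have h1 : Nat.card B * B.relIndex (A ⊔ B) = Nat.card (A ⊔ B : Subgroup H) := by
    have := Subgroup.relIndex_mul_relIndex (⊥ : Subgroup H) B (A ⊔ B) bot_le le_sup_right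
    rwa [Subgroup.relIndex_bot_left, Subgroup.relIndex_bot_left] at this
  rw [← h1, Subgroup.relIndex_sup_right A B]
  apply Nat.Coprime.mul_left hB
  exact Nat.Coprime.coprime_dvd_left (Subgroup.relIndex_dvd_card B A) hA

theorem sSup_normal_coprime (p : ℕ) (s : Set (Subgroup H))
    (hs : ∀ N ∈ s, N.Normal ∧ (Nat.card N).Coprime p) :
    (sSup s).Normal ∧ (Nat.card (sSup s : Subgroup H)).Coprime p := by
  have hfin : s.Finite := Set.toFinite s
  induction s, hfin using Set.Finite.induction_on with
  | empty =>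
    rw [sSup_empty]
    refine ⟨inferInstance, ?_⟩
    rw [Subgroup.card_bot]
    exact Nat.coprime_one_left p
  | insert ha hfin ih =>
    rename_i a s
    have ih' := ih (fun N hN => hs N (Set.mem_insert_of_mem a hN))
    have ha' := hs a (Set.mem_insert a s)
    rw [sSup_insert]
    haveI := ih'.1
    haveI := ha'.1
    exact ⟨inferInstance, card_sup_coprime p a (sSup s) ha'.2 ih'.2⟩

theorem pPrimeCore_normal (p : ℕ) : (Cfsg.pPrimeCore p H).Normal :=
  (sSup_normal_coprime p _ (fun _ hN => hN)).1

theorem pPrimeCore_coprime (p : ℕ) : (Nat.card (Cfsg.pPrimeCore p H)).Coprime p :=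
  (sSup_normal_coprime p _ (fun _ hN => hN)).2

theorem le_pPrimeCore (p : ℕ) (N : Subgroup H) [hN : N.Normal] (hc : (Nat.card N).Coprime p) :
    N ≤ Cfsg.pPrimeCore p H :=
  le_sSup ⟨hN, hc⟩

theorem pPrimeCore_characteristic (p : ℕ) : (Cfsg.pPrimeCore p H).Characteristic := by
  rw [Subgroup.characteristic_iff_map_le]
  intro ϕ
  rw [Subgroup.map_le_iff_le_comap]
  apply sSup_le
  rintro N ⟨hN, hc⟩
  rw [← Subgroup.map_le_iff_le_comap]
  apply le_sSup
  refine ⟨hN.map ϕ.toMonoidHom ϕ.surjective, ?_⟩
  rw [Subgroup.card_map_of_injective ϕ.injective]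
  exact hc

end

section
open scoped commutatorElement
variable {G : Type*} [Group G] [Finite G]

theorem pPrimeCore_le_commutator {p : ℕ} (hp : p.Prime) {x : G} (hx : orderOf x = p)
    (hC : Subgroup.centralizer ({x} : Set G) = Subgroup.zpowers x) :
    Cfsg.pPrimeCore p G ≤ commutator G := by
  apply sSup_le
  rintro N ⟨hN, hc⟩
  have hNx : N ⊓ Subgroup.zpowers x = ⊥ :=
    inf_zpowers_eq_bot hx N ((Nat.Prime.coprime_iff_not_dvd hp).mp hc.symm) hp
  intro n hn
  obtain ⟨s, _, hs'⟩ := exists_comm_eq hC N hNx hn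
  rw [hs', commutator_def]
  have : s * x * s⁻¹ * x⁻¹ = ⁅s, x⁆ := by rw [commutatorElement_def]
  rw [this]
  exact Subgroup.commutator_mem_commutator (Subgroup.mem_top s) (Subgroup.mem_top x)

theorem commutator_eq_pPrimeCore {p : ℕ} [hp : Fact p.Prime] {x : G} (hx : orderOf x = p)
    (hC : Subgroup.centralizer ({x} : Set G) = Subgroup.zpowers x)
    (hN : Subgroup.normalizer ((Subgroup.zpowers x : Subgroup G) : Set G) ≤ Subgroup.zpowers x) :
    commutator G = Cfsg.pPrimeCore p G := by
  obtain ⟨K, hKn, hKx, hKi, hKc⟩ := exists_normal_complement hx hC hN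
  apply le_antisymm _ (pPrimeCore_le_commutator hp.out hx hC)
  apply hKc.trans
  apply le_pPrimeCore
  rw [Nat.coprime_comm, Nat.Prime.coprime_iff_not_dvd hp.out]
  intro hdvd
  have hle := zpowers_le_of_normal_of_dvd hx hC K hdvd
  have hxK : x ∈ K ⊓ Subgroup.zpowers x := ⟨hle (Subgroup.mem_zpowers x), Subgroup.mem_zpowers x⟩
  rw [hKx, Subgroup.mem_bot] at hxK
  rw [hxK, orderOf_one] at hx
  exact hp.out.ne_one hx.symm

/-- the hypotheses pass to a subgroup containing `x` -/
theorem centralizer_subgroup_eq {x : G}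
    (hC : Subgroup.centralizer ({x} : Set G) = Subgroup.zpowers x) (D : Subgroup G) (hxD : x ∈ D) :
    Subgroup.centralizer ({(⟨x, hxD⟩ : D)} : Set D) = Subgroup.zpowers (⟨x, hxD⟩ : D) := by
  ext d
  rw [Subgroup.mem_centralizer_singleton_iff, Subgroup.mem_zpowers_iff]
  constructor
  · intro h
    have h' : (d : G) * x = x * (d : G) := congrArg Subtype.val h
    obtain ⟨k, hk⟩ := Subgroup.mem_zpowers_iff.mp (mem_zpowers_of_comm hC h')
    refine ⟨k, ?_⟩
    apply Subtype.ext
    rw [Subgroup.coe_zpow]
    exact hk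
  · rintro ⟨k, rfl⟩
    exact ((Commute.refl _).zpow_left k).eq

end

section
open scoped commutatorElement
variable {G : Type*} [Group G] [Finite G]

theorem simple_quotient {p : ℕ} [hp : Fact p.Prime] {x : G} (hx : orderOf x = p)
    (hC : Subgroup.centralizer ({x} : Set G) = Subgroup.zpowers x)
    (hN : ¬ Subgroup.normalizer ((Subgroup.zpowers x : Subgroup G) : Set G) ≤ Subgroup.zpowers x)
    (h : ((Cfsg.pPrimeCore p G).subgroupOf (commutator G)).Normal) :
    IsSimpleGroup (↥(commutator G) ⧸ (Cfsg.pPrimeCore p G).subgroupOf (commutator G)) := by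
  have hxD : x ∈ commutator G := zpowers_le_commutator hx hC hN (Subgroup.mem_zpowers x)
  have hAc : (Nat.card (Cfsg.pPrimeCore p G)).Coprime p := pPrimeCore_coprime p
  have hAx : Cfsg.pPrimeCore p G ⊓ Subgroup.zpowers x = ⊥ :=
    inf_zpowers_eq_bot hx _ ((Nat.Prime.coprime_iff_not_dvd hp.out).mp hAc.symm) hp.out
  have hx1 : x ≠ 1 := by
    intro h1
    rw [h1, orderOf_one] at hx
    exact hp.out.ne_one hx.symm
  have hxA : x ∉ Cfsg.pPrimeCore p G := by
    intro hmem
    have : x ∈ Cfsg.pPrimeCore p G ⊓ Subgroup.zpowers x := ⟨hmem, Subgroup.mem_zpowers x⟩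
    rw [hAx, Subgroup.mem_bot] at this
    exact hx1 this
  have hx' : orderOf (⟨x, hxD⟩ : commutator G) = p := by
    rw [Subgroup.orderOf_mk]; exact hx
  have hC' := centralizer_subgroup_eq hC (commutator G) hxD
  refine
    { exists_pair_ne := ⟨QuotientGroup.mk (⟨x, hxD⟩ : commutator G), 1, ?_⟩
      eq_bot_or_eq_top_of_normal := ?_ }
  · intro h1
    rw [QuotientGroup.eq_one_iff, Subgroup.mem_subgroupOf] at h1
    exact hxA h1
  · intro M hM
    set A' := (Cfsg.pPrimeCore p G).subgroupOf (commutator G) with hA'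
    set L := M.comap (QuotientGroup.mk' A') with hL
    have hLn : L.Normal := Subgroup.normal_comap _
    have hML : L.map (QuotientGroup.mk' A') = M :=
      Subgroup.map_comap_eq_self_of_surjective (QuotientGroup.mk'_surjective A') M
    by_cases hdvd : p ∣ Nat.card L
    · right
      have h1 : Subgroup.zpowers (⟨x, hxD⟩ : commutator G) ≤ L :=
        zpowers_le_of_normal_of_dvd hx' hC' L hdvd
      have key : ∀ g : G, ∃ hg : g * x * g⁻¹ ∈ commutator G, (⟨g * x * g⁻¹, hg⟩ : commutator G) ∈ L := by
        intro g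
        have hg : g * x * g⁻¹ ∈ commutator G := Subgroup.Normal.conj_mem inferInstance x hxD g
        refine ⟨hg, ?_⟩
        have hz : orderOf (⟨g * x * g⁻¹, hg⟩ : commutator G) = p := by
          rw [Subgroup.orderOf_mk, ← MulAut.conj_apply, MulEquiv.orderOf_eq]; exact hx
        obtain ⟨c, hc⟩ := exists_conj_mem_zpowers hx' hC' hz
        have hcL := h1 hc
        have := hLn.conj_mem _ hcL c
        have e : c * (c⁻¹ * (⟨g * x * g⁻¹, hg⟩ : commutator G) * c) * c⁻¹ = ⟨g * x * g⁻¹, hg⟩ := by group
        rwa [e] at this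
      have hR : Subgroup.normalClosure ({x} : Set G) ≤ L.map (commutator G).subtype := by
        rw [Subgroup.normalClosure, Subgroup.closure_le]
        intro a ha
        rw [Group.mem_conjugatesOfSet_iff] at ha
        obtain ⟨b, hb, hab⟩ := ha
        rw [Set.mem_singleton_iff] at hb
        subst hb
        obtain ⟨c, hc⟩ := isConj_iff.mp hab
        obtain ⟨hg, hgL⟩ := key c
        rw [SetLike.mem_coe, Subgroup.mem_map]
        exact ⟨⟨c * b * c⁻¹, hg⟩, hgL, hc⟩
      have hxR : Subgroup.zpowers x ≤ Subgroup.normalClosure ({x} : Set G) :=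
        Subgroup.zpowers_le_of_mem (Subgroup.subset_normalClosure (Set.mem_singleton x))
      have hDR : commutator G ≤ Subgroup.normalClosure ({x} : Set G) :=
        commutator_le_of_zpowers_le hx hC _ hxR
      have hLtop : L = ⊤ := by
        rw [eq_top_iff]
        intro d _
        have := hR (hDR d.2)
        obtain ⟨l, hl, hld⟩ := Subgroup.mem_map.mp this
        have : l = d := Subtype.ext hld
        rwa [this] at hl
      rw [← hML, hLtop]
      exact Subgroup.map_top_of_surjective _ (QuotientGroup.mk'_surjective A')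
    · left
      have hLc : (Nat.card L).Coprime p :=
        ((Nat.Prime.coprime_iff_not_dvd hp.out).mpr hdvd).symm
      have hLB : L ≤ Cfsg.pPrimeCore p (commutator G) := le_pPrimeCore p L hLc
      haveI := pPrimeCore_characteristic (H := commutator G) p
      have hBn : ((Cfsg.pPrimeCore p (commutator G)).map (commutator G).subtype).Normal :=
        ConjAct.normal_of_characteristic_of_normal
      have hBc : (Nat.card ((Cfsg.pPrimeCore p (commutator G)).map (commutator G).subtype)).Coprime p := by
        rw [Subgroup.card_map_of_injective (Subgroup.subtype_injective _)]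
        exact pPrimeCore_coprime p
      have hBA := le_pPrimeCore p _ hBc
      rw [← hML, Subgroup.map_eq_bot_iff, QuotientGroup.ker_mk']
      intro l hl
      rw [hA', Subgroup.mem_subgroupOf]
      apply hBA
      exact Subgroup.mem_map.mpr ⟨l, hLB hl, rfl⟩

end

end Cfsg.Agent.Lib.Helper74
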