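import Cfsg.Agent.Lib.Helper76.SlDefs

set_option autoImplicit false

/-! Sl hive (S2332, helper76): leaf SL-EX1 `card_fixed_one`. -/

namespace Cfsg.Agent.Lib.Helper76.Sl

open Matrix Cfsg

variable {F : Type*} [Field F] [Fintype F] [DecidableEq F]

/-- EX1 -/
theorem card_fixed_one (n : ℕ) :
    Nat.card {v : Fin n → F // v ≠ 0 ∧ ((1 : Matrix.SpecialLinearGroup (Fin n) F) : Matrix (Fin n) (Fin n) F).mulVec v = v}
      = Fintype.card F ^ n - 1 := by
  classical
  have e : {v : Fin n → F // v ≠ 0 ∧ ((1 : Matrix.SpecialLinearGroup (Fin n) F) : Matrix (Fin n) (Fin n) F).mulVec v = v}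
      ≃ {v : Fin n → F // v ≠ 0} :=
    Equiv.subtypeEquivRight (fun v => by simp)
  rw [Nat.card_congr e, Nat.card_eq_fintype_card, Fintype.card_subtype_compl, Fintype.card_subtype_eq,
    Fintype.card_fun, Fintype.card_fin]

end Cfsg.Agent.Lib.Helper76.Sl
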