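import Cfsg.Agent.Lib.Helper76.SlDefs

set_option autoImplicit false

/-! Sl hive (S2332, helper76): leaf SL-EX3 `pigeon`. -/

namespace Cfsg.Agent.Lib.Helper76.Sl

open Matrix Cfsg

theorem ex3_geom (r k : ℕ) : r * Npt (r + 1) k + 1 = (r + 1) ^ k := by
  induction k with
  | zero => simp [Npt]
  | succ k ih =>
    have h : Npt (r + 1) (k + 1) = Npt (r + 1) k + (r + 1) ^ k := by
      unfold Npt; rw [Finset.sum_range_succ]
    rw [h, pow_succ, ← ih]; ring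

/-- EX3 pigeonhole -/
theorem pigeon (q n : ℕ) (hq : 2 ≤ q) (hn : 3 ≤ n) (d : Fin (q - 1) → ℕ) (hd : ∀ i, Tn q n ≤ d i)
    (hsum : q ^ n - 1 = 1 + ∑ i, d i) : ∃ i, d i = Tn q n := by
  by_contra hcon
  push Not at hcon
  obtain ⟨r, rfl⟩ : ∃ r, q = r + 1 := ⟨q - 1, by omega⟩
  obtain ⟨k, rfl⟩ : ∃ k, n = k + 1 := ⟨n - 1, by omega⟩
  have hd' : ∀ i, Tn (r + 1) (k + 1) + 1 ≤ d i := fun i =>
    Nat.succ_le_of_lt (lt_of_le_of_ne (hd i) (Ne.symm (hcon i)))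
  have hs : ∑ _i : Fin (r + 1 - 1), (Tn (r + 1) (k + 1) + 1) ≤ ∑ i, d i :=
    Finset.sum_le_sum (fun i _ => hd' i)
  rw [Finset.sum_const, Finset.card_univ, Fintype.card_fin, smul_eq_mul] at hs
  have hT : Tn (r + 1) (k + 1) = (r + 1) * Npt (r + 1) k := by
    unfold Tn; simp
  have hg := ex3_geom r k
  have hpow : (r + 1) ^ (k + 1) = (r + 1) * (r * Npt (r + 1) k + 1) := by
    rw [hg, pow_succ]; ring
  rw [hT] at hs
  generalize (∑ i, d i) = S at hs hsum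
  have h1 : r + 1 - 1 = r := by omega
  rw [h1] at hs
  have h2 : (r + 1) ^ (k + 1) - 1 = (r + 1) * (r * Npt (r + 1) k) + r := by
    rw [hpow]
    have : (r + 1) * (r * Npt (r + 1) k + 1) = ((r + 1) * (r * Npt (r + 1) k) + r) + 1 := by ring
    rw [this]; rfl
  rw [h2] at hsum
  have h3 : r * ((r + 1) * Npt (r + 1) k + 1) = (r + 1) * (r * Npt (r + 1) k) + r := by ring
  omega

end Cfsg.Agent.Lib.Helper76.Sl
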