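import Cfsg.Agent.Lib.Helper9.SlK3Defs

set_option autoImplicit false

/-! K3 sub-hive (helper9) of the Sl hive (S2332, helper76): generic core for the leaves K3-EVQ / K3-EVQP. -/

namespace Cfsg.Agent.Lib.Helper76.Sl

open Matrix Cfsg
open scoped ComplexConjugate

variable (F : Type*) [Field F] [Fintype F] [DecidableEq F]

/-- orthogonality: `∑_a conj e(α·a) = q^(m+1) [α = 0]`. -/
theorem k3evq_sum_char (m : ℕ) (e : AddChar F ℂ) (he : e ≠ 1) (α : Fin (m + 1) → F) :
    ∑ a : Fin (m + 1) → F, conj (e (∑ j, α j * a j)) =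
      if α = 0 then (Fintype.card F : ℂ) ^ (m + 1) else 0 := by
  classical
  split_ifs with h
  · subst h
    simp
  · let f : (Fin (m + 1) → F) →+ F :=
      { toFun := fun a => ∑ j, α j * a j
        map_zero' := by simp
        map_add' := fun a b => by simp [mul_add, Finset.sum_add_distrib] }
    have hψ : e.compAddMonoidHom f ≠ 1 := by
      obtain ⟨c, hc⟩ := AddChar.ne_one_iff.1 he
      obtain ⟨i, hi⟩ : ∃ i, α i ≠ 0 := by
        by_contra hh
        push Not at hh
        exact h (funext hh)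
      intro h1
      apply hc
      have h2 := DFunLike.congr_fun h1 (Pi.single i (c / α i))
      have h3 : f (Pi.single i (c / α i)) = c := by
        show ∑ j, α j * (Pi.single i (c / α i) : Fin (m + 1) → F) j = c
        rw [Finset.sum_eq_single i]
        · rw [Pi.single_eq_same]; field_simp
        · intro j _ hj; rw [Pi.single_eq_of_ne hj]; ring
        · intro hh; exact absurd (Finset.mem_univ i) hh
      rw [AddChar.compAddMonoidHom_apply, h3] at h2
      simpa using h2
    have h0 := AddChar.sum_eq_zero_of_ne_one hψ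
    have h1 : ∑ a : Fin (m + 1) → F, conj (e (∑ j, α j * a j)) =
        conj (∑ a : Fin (m + 1) → F, (e.compAddMonoidHom f) a) := by
      rw [map_sum]
      rfl
    rw [h1, h0, map_zero]

/-- generic evaluation: `S` parametrised by `h a z`, `χ` constant `= t` off the identity. -/
theorem k3evq_gen {G : Type*} [Group G] (m : ℕ) (e : AddChar F ℂ) (he : e ≠ 1) (S : Finset G)
    (χ : G → ℂ) (t : ℂ) (coord : G → Fin (m + 1) → F) (h : (Fin (m + 1) → F) → F → G)
    (hsum : ∀ φ : G → ℂ, ∑ g ∈ S, φ g = ∑ a : Fin (m + 1) → F, ∑ z : F, φ (h a z))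
    (hcoord : ∀ a z, coord (h a z) = a)
    (h1 : ∀ a z, h a z = 1 ↔ a = 0 ∧ z = 0)
    (hmem : ∀ a z, h a z ∈ S)
    (hχ : ∀ g ∈ S, g ≠ 1 → χ g = t) (α : Fin (m + 1) → F) :
    ((Fintype.card F : ℂ) ^ (m + 2))⁻¹ *
      ∑ g ∈ S, χ g * conj (e (∑ j, α j * coord g j)) =
    ((Fintype.card F : ℂ) ^ (m + 2))⁻¹ * (χ 1 - t) + if α = 0 then t else 0 := by
  classical
  have hq0 : (Fintype.card F : ℂ) ≠ 0 := by
    have : 0 < Fintype.card F := Fintype.card_pos
    exact_mod_cast this.ne'
  rw [hsum]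
  have hterm : ∀ (a : Fin (m + 1) → F) (z : F),
      χ (h a z) * conj (e (∑ j, α j * coord (h a z) j)) =
        t * conj (e (∑ j, α j * a j)) + if a = 0 ∧ z = 0 then χ 1 - t else 0 := by
    intro a z
    rw [hcoord]
    by_cases haz : a = 0 ∧ z = 0
    · rw [if_pos haz]
      obtain ⟨rfl, rfl⟩ := haz
      rw [(h1 0 0).2 ⟨rfl, rfl⟩]
      simp
    · rw [if_neg haz, add_zero, hχ (h a z) (hmem a z) (fun hh => haz ((h1 a z).1 hh))]
  simp_rw [hterm, Finset.sum_add_distrib, Finset.sum_const, Finset.card_univ, nsmul_eq_mul]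
  have hdelta : ∑ a : Fin (m + 1) → F, ∑ z : F, (if a = 0 ∧ z = 0 then χ 1 - t else 0) = χ 1 - t := by
    rw [Finset.sum_eq_single (0 : Fin (m + 1) → F)]
    · rw [Finset.sum_eq_single (0 : F)]
      · simp
      · intro z _ hz; simp [hz]
      · intro hh; exact absurd (Finset.mem_univ _) hh
    · intro a _ ha; simp [ha]
    · intro hh; exact absurd (Finset.mem_univ _) hh
  rw [hdelta, ← Finset.mul_sum]
  have hs : ∑ a : Fin (m + 1) → F, t * conj (e (∑ j, α j * a j)) =
      t * if α = 0 then (Fintype.card F : ℂ) ^ (m + 1) else 0 := by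
    rw [← Finset.mul_sum, k3evq_sum_char F m e he α]
  rw [hs]
  split_ifs with hα
  · field_simp
    ring
  · simp

end Cfsg.Agent.Lib.Helper76.Sl
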