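import Cfsg.Agent.Lib.Helper9.SlK3Defs
import Cfsg.Agent.Lib.Helper9.SlK3Hmat
import Cfsg.Agent.Lib.Helper34.SlK3PARB
import Cfsg.Agent.Lib.Helper3.CharOps
import Cfsg.Agent.Lib.Helper74.SlK3EVcore

set_option autoImplicit false

/-! K3 sub-hive (helper9) of the Sl hive (S2332, helper76): leaves K3-EVQ `k3_eval_Q` and K3-EVQP `k3_eval_Qp`
(wrappers of the generic core `k3evq_gen` with the parametrisation `k3hmat`). -/

namespace Cfsg.Agent.Lib.Helper76.Sl

open Matrix Cfsg
open scoped ComplexConjugate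

variable (F : Type*) [Field F] [Fintype F] [DecidableEq F]

/-- `h(a,b,z) = 1 ↔ a = 0 ∧ b = 0 ∧ z = 0`. -/
theorem k3evq_hmat_eq_one (m : ℕ) (a b : Fin (m + 1) → F) (z : F) :
    k3hmat F m a b z = 1 ↔ a = 0 ∧ b = 0 ∧ z = 0 := by
  constructor
  · intro h
    have hmid0 : ∀ j : Fin (m + 1), (0 : Fin (m + 3)) ≠ k3mid m j := fun j =>
      (Fin.succ_ne_zero _).symm
    have hmidl : ∀ j : Fin (m + 1), k3mid m j ≠ Fin.last (m + 2) := by
      intro j hh
      have := congrArg Fin.val hh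
      simp [k3mid] at this
      omega
    refine ⟨?_, ?_, ?_⟩
    · funext j
      have := k3hmat_a F m a b z j
      rw [h] at this
      rw [← this]
      simp [hmid0 j]
    · funext j
      have := k3hmat_b F m a b z j
      rw [h] at this
      rw [← this]
      simp [hmidl j]
    · have := k3hmat_z F m a b z
      rw [h] at this
      rw [← this]
      have h0l : (0 : Fin (m + 3)) ≠ Fin.last (m + 2) := by
        intro hh
        have := congrArg Fin.val hh
        simp at this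
      simp [h0l]
  · rintro ⟨rfl, rfl, rfl⟩
    exact k3hmat_one F m

open Classical in
/-- K3-EVQ -/
theorem k3_eval_Q (m : ℕ) (e : AddChar F ℂ) (he : e ≠ 1) (χ : Gm F (m + 1) → ℂ)
    (hQ : ∀ g ∈ Qset F (m + 1), g ≠ 1 → χ g = χ (tv F (m + 1))) (α : Fin (m + 1) → F) :
    ((Fintype.card F : ℂ) ^ (m + 2))⁻¹ *
      ∑ g ∈ Finset.univ.filter (fun g : Gm F (m + 1) => g ∈ Qset F (m + 1)),
        χ g * conj (e (∑ j, α j * g.1 0 (k3mid m j))) =
    ((Fintype.card F : ℂ) ^ (m + 2))⁻¹ * (χ 1 - χ (tv F (m + 1))) +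
      if α = 0 then χ (tv F (m + 1)) else 0 := by
  refine k3evq_gen F m e he (Finset.univ.filter (fun g : Gm F (m + 1) => g ∈ Qset F (m + 1))) χ
    (χ (tv F (m + 1))) (fun g j => g.1 0 (k3mid m j)) (fun a z => k3hmat F m a 0 z)
    (k3_sum_Q F m) ?_ ?_ ?_ ?_ α
  · intro a z
    funext j
    exact k3hmat_a F m a 0 z j
  · intro a z
    rw [k3evq_hmat_eq_one]
    simp
  · intro a z
    rw [Finset.mem_filter]
    exact ⟨Finset.mem_univ _, (k3hmat_mem_Q F m a 0 z).2 rfl⟩
  · intro g hg hne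
    rw [Finset.mem_filter] at hg
    exact hQ g hg.2 hne

end Cfsg.Agent.Lib.Helper76.Sl
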