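import Cfsg.Agent.Lib.Helper74.SlK3EVQ

set_option autoImplicit false

/-! K3 sub-hive (helper9) of the Sl hive (S2332, helper76): leaf K3-EVQP `k3_eval_Qp`. -/

namespace Cfsg.Agent.Lib.Helper76.Sl

open Matrix Cfsg
open scoped ComplexConjugate

variable (F : Type*) [Field F] [Fintype F] [DecidableEq F]

open Classical in
/-- K3-EVQP -/
theorem k3_eval_Qp (m : ℕ) (e : AddChar F ℂ) (he : e ≠ 1) (χ : Gm F (m + 1) → ℂ)
    (hQ : ∀ g ∈ K3Qp F m, g ≠ 1 → χ g = χ (tv F (m + 1))) (β : Fin (m + 1) → F) :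
    ((Fintype.card F : ℂ) ^ (m + 2))⁻¹ *
      ∑ g ∈ Finset.univ.filter (fun g : Gm F (m + 1) => g ∈ K3Qp F m),
        χ g * conj (e (∑ j, β j * g.1 (k3mid m j) (Fin.last (m + 2)))) =
    ((Fintype.card F : ℂ) ^ (m + 2))⁻¹ * (χ 1 - χ (tv F (m + 1))) +
      if β = 0 then χ (tv F (m + 1)) else 0 := by
  refine k3evq_gen F m e he (Finset.univ.filter (fun g : Gm F (m + 1) => g ∈ K3Qp F m)) χ
    (χ (tv F (m + 1))) (fun g j => g.1 (k3mid m j) (Fin.last (m + 2))) (fun b z => k3hmat F m 0 b z)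
    (k3_sum_Qp F m) ?_ ?_ ?_ ?_ β
  · intro b z
    funext j
    exact k3hmat_b F m 0 b z j
  · intro b z
    rw [k3evq_hmat_eq_one]
    simp
  · intro b z
    rw [Finset.mem_filter]
    exact ⟨Finset.mem_univ _, (k3hmat_mem_Qp F m 0 b z).2 rfl⟩
  · intro g hg hne
    rw [Finset.mem_filter] at hg
    exact hQ g hg.2 hne

end Cfsg.Agent.Lib.Helper76.Sl
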