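import Cfsg.Agent.Lib.Helper23.U3Defs
import Cfsg.Agent.Lib.Helper74.PsuBR

set_option autoImplicit false

/-! U3 hive (helper23, S2283): leaf U3-BRIDGE `bridge3` (adapted from `Helper90.Psu.bridge`). -/

namespace Cfsg.Agent.Lib.Helper23.U3

open Matrix Cfsg.Agent.Lib.Helper99 Cfsg.Agent.Lib.Helper13 Cfsg.Agent.Lib.Helper90.Psu

variable {F : Type*} [Field F] [Fintype F] {q : ℕ}

local notation "hh" => Cfsg.hermForm 3 F q

/-- U3-BRIDGE (adapt `Cfsg.Agent.Lib.Helper90.Psu.bridge`, helper74 PsuBR) -/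
theorem bridge3 (hF : Fintype.card F = q ^ 2) (hq : 3 ≤ q)
    (h : ∃ u g : GL (Fin 3) F, u ∈ suGL (F := F) 3 q ∧ g ∈ suGL (F := F) 3 q ∧
      (IsNilpotent ((u : Matrix (Fin 3) (Fin 3) F) - 1) ∧
        ((u : Matrix (Fin 3) (Fin 3) F) - 1) ^ 2 ≠ 0) ∧
      utvGroup 3 q F ≤ Subgroup.closure ({u, g * u * g⁻¹} : Set (GL (Fin 3) F))) :
    ∃ u g : ↥(Cfsg.SU 3 F q),
      (IsNilpotent (((u : Matrix.SpecialLinearGroup (Fin 3) F) : Matrix (Fin 3) (Fin 3) F) - 1) ∧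
        (((u : Matrix.SpecialLinearGroup (Fin 3) F) : Matrix (Fin 3) (Fin 3) F) - 1) ^ (3 - 1) ≠ 0) ∧
      Subgroup.closure ({u, g * u * g⁻¹} : Set ↥(Cfsg.SU 3 F q)) = ⊤ := by
  obtain ⟨x, y, hx, hy, hreg, hxy⟩ := h
  have h32 : ¬ (3 = 3 ∧ q = 2) := by
    rintro ⟨_, h2⟩
    omega
  have hclaim := suGL_le_utvGroup hF 3 (le_refl 3) h32
  let ψ : ↥(Cfsg.SU 3 F q) →* GL (Fin 3) F :=
    (Matrix.SpecialLinearGroup.toGL).comp (Cfsg.SU 3 F q).subtype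
  have hψval : ∀ A : ↥(Cfsg.SU 3 F q), ((ψ A : GL (Fin 3) F) : Matrix (Fin 3) (Fin 3) F)
      = ((A : Matrix.SpecialLinearGroup (Fin 3) F) : Matrix (Fin 3) (Fin 3) F) := fun A => rfl
  have hψinj : Function.Injective ψ := by
    intro A B hAB
    apply Subtype.ext
    apply Matrix.SpecialLinearGroup.toGL_injective
    exact hAB
  have hψmem : ∀ A : ↥(Cfsg.SU 3 F q), ψ A ∈ suGL (F := F) 3 q := by
    intro A
    have hGU : ψ A ∈ Cfsg.GU 3 F q := by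
      rw [Cfsg.Agent.Lib.Helper13.mem_GU_iff]
      intro u v
      rw [hψval]
      exact (br_mem_SU_iff (A : Matrix.SpecialLinearGroup (Fin 3) F)).1 A.2 u v
    have hSL : ψ A ∈ Cfsg.Geo.specialLinear (Fin 3) F := by
      rw [mem_specialLinear_iff, hψval]
      exact (A : Matrix.SpecialLinearGroup (Fin 3) F).2
    exact ⟨hGU, hSL⟩
  have hψsurj : ∀ g : GL (Fin 3) F, g ∈ suGL (F := F) 3 q → ∃ A : ↥(Cfsg.SU 3 F q), ψ A = g := by
    intro g hg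
    have hdet : (g : Matrix (Fin 3) (Fin 3) F).det = 1 := (mem_specialLinear_iff _).1 hg.2
    let As : Matrix.SpecialLinearGroup (Fin 3) F := ⟨(g : Matrix (Fin 3) (Fin 3) F), hdet⟩
    have hAs : As ∈ Cfsg.SU 3 F q := by
      rw [br_mem_SU_iff]
      exact (Cfsg.Agent.Lib.Helper13.mem_GU_iff 3 q _).1 hg.1
    refine ⟨⟨As, hAs⟩, ?_⟩
    apply Units.ext
    rfl
  obtain ⟨xs, hxs⟩ := hψsurj x hx
  obtain ⟨ys, hys⟩ := hψsurj y hy
  have hconj : ψ (ys * xs * ys⁻¹) = y * x * y⁻¹ := by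
    rw [map_mul, map_mul, map_inv, hxs, hys]
  have htop : Subgroup.closure ({xs, ys * xs * ys⁻¹} : Set ↥(Cfsg.SU 3 F q)) = ⊤ := by
    rw [eq_top_iff]
    intro A _
    have h1 : ψ A ∈ Subgroup.closure ({x, y * x * y⁻¹} : Set (GL (Fin 3) F)) :=
      hxy (hclaim (hψmem A))
    have h2 : Subgroup.closure ({x, y * x * y⁻¹} : Set (GL (Fin 3) F)) =
        (Subgroup.closure ({xs, ys * xs * ys⁻¹} : Set ↥(Cfsg.SU 3 F q))).map ψ := by
      rw [MonoidHom.map_closure, Set.image_pair, hxs, hconj]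
    rw [h2] at h1
    obtain ⟨B, hB, hBA⟩ := h1
    rw [← hψinj hBA]
    exact hB
  refine ⟨xs, ys, ⟨?_, ?_⟩, htop⟩
  · rw [← hψval, hxs]
    exact hreg.1
  · rw [← hψval, hxs]
    exact hreg.2

end Cfsg.Agent.Lib.Helper23.U3
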