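import Cfsg.Agent.Lib.Helper6.Uni.Defs
import Cfsg.Agent.Lib.Helper74.DZ4
import Cfsg.Agent.Lib.Helper79.Basic

/-! # S2314 hive, leaf UNI-A4 (helper74): the Steinberg character vanishes on the `p`-elements outside `V`
(core version `a4_core`, with the leaves A2 and A3 as hypotheses). -/

set_option autoImplicit false
set_option linter.unusedSectionVars false
set_option linter.style.haveILetI false

namespace Cfsg.Agent.Lib.Helper6.Uni

open Cfsg Cfsg.Agent.Lib.Helper6 Cfsg.Agent.Lib.Helper6.St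

universe u

section A
variable {L : Type u} [Group L] [Fintype L]

/-- the image of a `p`-element outside `V` in `L ⧸ V` has order divisible by `p` -/
theorem a4_dvd_orderOf_mk (p : ℕ) [hp : Fact p.Prime] (V : Subgroup L) [V.Normal] (g : L)
    (hg : IsPElt p g) (hgV : g ∉ V) : p ∣ orderOf (g : L ⧸ V) := by
  obtain ⟨k, hk⟩ := hg
  have h1 : orderOf (g : L ⧸ V) ∣ p ^ k := by
    apply orderOf_dvd_of_pow_eq_one
    rw [← QuotientGroup.mk_pow, ← hk, pow_orderOf_eq_one]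
    rfl
  obtain ⟨j, -, hj⟩ := (Nat.dvd_prime_pow hp.out).mp h1
  rw [hj]
  rcases Nat.eq_zero_or_pos j with h0 | hpos
  · exfalso
    rw [h0, pow_zero, orderOf_eq_one_iff, QuotientGroup.eq_one_iff] at hj
    exact hgV hj
  · exact dvd_pow_self p hpos.ne'

/-- UNI-A4 (core), with A2 (`card_C_ppow`) and A3 (`stChar_mul_mem`) as hypotheses. -/
theorem a4_core (Q : Cfsg.BNPair L) (T : Finset L) (hT : (↑T : Set L) = Q.S) (p : ℕ) [hp : Fact p.Prime]
    (U V : Subgroup L) [V.Normal]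
    (hUp : IsPGroup p U)
    (hUs : ¬ p ∣ U.index) (hVU : V ≤ U) (n1 : L) (hn1 : n1 ∈ Q.N)
    (hbig : Nat.card U * Nat.card Q.B ≤ Nat.card V * Nat.card (C Q n1))
    (hA2 : ∀ n ∈ Q.N, ∃ k : ℕ, Nat.card (C Q n) = p ^ k * Nat.card Q.B)
    (hA3 : ∀ g v : L, v ∈ V → stChar Q T (g * v) = stChar Q T g) :
    stChar Q T 1 * (Nat.card V : ℂ) = (Nat.card U : ℂ) ∧
      ∀ g : L, IsPElt p g → g ∉ V → stChar Q T g = 0 := by
  classical
  have hpp : p.Prime := hp.out
  -- a cell of maximal cardinality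
  haveI : Fintype Q.N := Fintype.ofFinite _
  obtain ⟨n0, -, hmax⟩ := Finset.exists_max_image (Finset.univ : Finset Q.N)
    (fun n => Nat.card (C Q (n : L))) ⟨1, Finset.mem_univ _⟩
  have hmax' : ∀ n ∈ Q.N, Nat.card (C Q n) ≤ Nat.card (C Q (n0 : L)) :=
    fun n hn => hmax ⟨n, hn⟩ (Finset.mem_univ _)
  have hdeg := stChar_one_mul Q T hT n0.2 hmax'
  obtain ⟨a, ha⟩ := hA2 n0 n0.2
  have hB0 : Nat.card Q.B ≠ 0 := Nat.card_pos.ne'
  have hBc : (Nat.card Q.B : ℂ) ≠ 0 := Nat.cast_ne_zero.mpr hB0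
  have hSt1 : stChar Q T 1 = ((p ^ a : ℕ) : ℂ) := by
    rw [ha, Nat.cast_mul] at hdeg
    exact mul_right_cancel₀ hBc hdeg
  -- orders
  obtain ⟨u, hu⟩ := IsPGroup.iff_card.mp hUp
  obtain ⟨v, hv⟩ := IsPGroup.iff_card.mp (hUp.to_le hVU)
  have hvu : v ≤ u := by
    have h1 : Nat.card V ∣ Nat.card U := Subgroup.card_dvd_of_le hVU
    rw [hu, hv] at h1
    exact (Nat.pow_dvd_pow_iff_le_right hpp.one_lt).mp h1
  -- |U| ≤ |V| p^a
  have hle1 : u ≤ v + a := by
    have h1 : Nat.card U * Nat.card Q.B ≤ Nat.card V * (p ^ a * Nat.card Q.B) := by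
      calc Nat.card U * Nat.card Q.B ≤ Nat.card V * Nat.card (C Q n1) := hbig
        _ ≤ Nat.card V * Nat.card (C Q (n0 : L)) := Nat.mul_le_mul_left _ (hmax' n1 hn1)
        _ = Nat.card V * (p ^ a * Nat.card Q.B) := by rw [ha]
    rw [hu, hv, ← mul_assoc, ← pow_add] at h1
    have h2 : p ^ u ≤ p ^ (v + a) := Nat.le_of_mul_le_mul_right h1 (Nat.pos_of_ne_zero hB0)
    exact (Nat.pow_le_pow_iff_right hpp.one_lt).mp h2
  -- deflate
  have hirr : IsIrrCharacter L (stChar Q T) := isIrrCharacter_stChar Q T hT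
  have hker : ∀ x ∈ V, stChar Q T x = stChar Q T 1 := by
    intro x hx
    have := hA3 1 x hx
    rwa [one_mul] at this
  obtain ⟨ψ, hψirr, hψ⟩ := Cfsg.Agent.Lib.Helper79.isIrrCharacter_deflate hirr V hker
  haveI : Fintype (L ⧸ V) := Fintype.ofFinite _
  let ψ' : IrrCharacter (L ⧸ V) := ⟨ψ, hψirr⟩
  have hψ1 : ψ 1 = ((p ^ a : ℕ) : ℂ) := by
    have := hψ 1
    rw [QuotientGroup.mk_one] at this
    rw [this, hSt1]
  have hcd : charDegree (ψ' : L ⧸ V → ℂ) = p ^ a :=
    Cfsg.Agent.Lib.Helper81.charDegree_eq_of_apply_one hψ1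
  have hdvd : p ^ a ∣ Nat.card (L ⧸ V) := by
    have := Cfsg.Agent.Lib.Helper74.irr_charDegree_dvd_card ψ'
    rwa [hcd] at this
  -- |L ⧸ V| = m p^(u-v)
  set m := U.index with hm
  have hcardL : Nat.card L = m * p ^ u := by rw [← hu, hm]; exact (Subgroup.index_mul_card U).symm
  have hquot : Nat.card (L ⧸ V) = m * p ^ (u - v) := by
    have h1 : Nat.card L = Nat.card (L ⧸ V) * Nat.card V :=
      Subgroup.card_eq_card_quotient_mul_card_subgroup V
    rw [hcardL, hv] at h1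
    have h2 : m * p ^ u = (m * p ^ (u - v)) * p ^ v := by
      rw [mul_assoc, ← pow_add, Nat.sub_add_cancel hvu]
    rw [h2] at h1
    exact (Nat.eq_of_mul_eq_mul_right (pow_pos hpp.pos v) h1).symm
  have hle2 : a ≤ u - v := by
    rw [hquot] at hdvd
    have hcop : Nat.Coprime (p ^ a) m := Nat.Coprime.pow_left _ ((Nat.Prime.coprime_iff_not_dvd hpp).mpr hUs)
    have h1 : p ^ a ∣ p ^ (u - v) := hcop.dvd_of_dvd_mul_left hdvd
    exact (Nat.pow_dvd_pow_iff_le_right hpp.one_lt).mp h1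
  have hau : u = v + a := by omega
  refine ⟨?_, ?_⟩
  · rw [hSt1, hu, hv, hau, pow_add]
    push_cast
    ring
  · intro g hg hgV
    rw [← hψ g]
    have hm0 : m ≠ 0 := by
      intro h0
      rw [h0, zero_mul] at hcardL
      exact Nat.card_pos.ne' hcardL
    have hfac : (Nat.card (L ⧸ V)).factorization p = a := by
      have hua : u - v = a := by omega
      rw [hquot, hua, Nat.factorization_mul hm0 (pow_pos hpp.pos a).ne',
        Nat.Prime.factorization_pow hpp]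
      simp [Nat.factorization_eq_zero_of_not_dvd hUs]
    apply Cfsg.Agent.Lib.Helper74.dz_vanish ψ' p hpp
    · rw [hfac, hcd]
    · exact a4_dvd_orderOf_mk p V g hg hgV

end A

end Cfsg.Agent.Lib.Helper6.Uni
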